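import Mathlib
import Cfsg.Agent.Lib.GW.CountTorus
import Cfsg.Agent.Lib.TimesPSLTwo.PSLFacts

/-!
# Involutions of `PSL₂(q)` with abelian Sylow 2-subgroups

What the local analysis of `S0343` uses of the component.
-/

set_option autoImplicit false
set_option linter.unusedSectionVars false
set_option linter.style.haveILetI false

namespace Cfsg.Agent.JT.Loc

open Subgroup MulAction
open Cfsg.Agent.Forms.DicksonBasic Cfsg.Agent.Forms.SolubilizerPSL2 Cfsg.Agent.GW.Count

/-- The facts about the component used below; `r` is the order of the odd torus at an involution. -/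
structure KFacts (K : Type*) [Group K] (r : ℕ) : Prop where
  r_odd : Odd r
  card : ∃ k, Nat.card K = 4 * (2 * k + 1)
  exists_invol : ∃ i : K, orderOf i = 2
  conj : ∀ i j : K, orderOf i = 2 → orderOf j = 2 → IsConj i j
  /-- The centralizer of an involution is dihedral of order `4 r`. -/
  torus : ∀ k : K, orderOf k = 2 → Nat.card (centralizer ({k} : Set K)) = 4 * r ∧
    ∃ A : Subgroup K, IsCyclic A ∧ Nat.card A = r ∧ (∀ a ∈ A, Commute a k) ∧
      (∀ u : K, orderOf u = 2 → Commute u k → u ≠ k → (∀ a ∈ A, u * a * u⁻¹ = a⁻¹) ∧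
        ∀ g, Commute g k → g ∈ A ∨ g * k ∈ A ∨ g * u ∈ A ∨ g * (u * k) ∈ A) ∧
      (∀ a ∈ A, a ≠ 1 → ∀ g, Commute g a → g ∈ A ∨ g * k ∈ A) ∧ ∃ u : K, orderOf u = 2 ∧ Commute u k ∧ u ≠ k
  rot : ∀ e f : K, orderOf e = 2 → orderOf f = 2 → Commute e f → e ≠ f →
    ∃ w : K, orderOf w = 3 ∧ w * e * w⁻¹ = f ∧ w * f * w⁻¹ = e * f

theorem invol_mul_self {K : Type*} [Group K] {x : K} (h : orderOf x = 2) : x * x = 1 := by
  rw [← pow_two, ← h, pow_orderOf_eq_one]

variable {F : Type*} [Field F] [Fintype F]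

local notation "PG" => Matrix.ProjectiveSpecialLinearGroup (Fin 2) F

theorem exists_torus_psl (hodd : Odd (Fintype.card F)) {t : PG} (ht : orderOf t = 2) :
    ∃ (p₀ : ℕ) (_ : Fact p₀.Prime),
      Torus p₀ PG (OnePoint (AlgebraicClosure F)) (Fintype.card F) t := by
  obtain ⟨p₀, hchar⟩ := CharP.exists F
  obtain ⟨n, hp, hn⟩ := FiniteField.card F p₀
  haveI : Fact p₀.Prime := ⟨hp⟩
  have hp2 : p₀ ≠ 2 := fun h => by
    rw [hn, h, Nat.odd_pow_iff n.ne_zero] at hodd
    exact absurd hodd (by decide)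
  have hd : Nat.gcd 2 (Fintype.card F - 1) = 2 :=
    Nat.gcd_eq_left (Nat.dvd_of_mod_eq_zero (by rcases hodd with ⟨k, hk⟩; omega))
  have hD := data (F := F) p₀ hn n.ne_zero hd
  rw [← hn] at hD
  refine ⟨p₀, inferInstance, hD, hp2, ht, fun x hx => ?_⟩
  exact Cfsg.Agent.PSLBinary.involutions_conj (F := F) (Cfsg.Agent.Classical.SylowSL2.two_ne_zero_of_odd hodd)
    ht hx

theorem two_group_comm {K : Type*} [Group K] [Finite K]
    (hab : ∀ P : Sylow 2 K, ∀ a ∈ (P : Subgroup K), ∀ b ∈ (P : Subgroup K), a * b = b * a) {Q : Subgroup K}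
    (hQ : IsPGroup 2 Q) {a b : K} (ha : a ∈ Q) (hb : b ∈ Q) : a * b = b * a := by
  obtain ⟨P, hP⟩ := hQ.exists_le_sylow
  exact hab P a (hP ha) b (hP hb)

/-- The facts for `PSL₂(q)`, with `q` congruent to `3` or `5` modulo `8`. -/
theorem exists_kfacts (hodd : Odd (Fintype.card F)) (h3 : 3 < Fintype.card F)
    (hab : ∀ P : Sylow 2 PG, ∀ a ∈ (P : Subgroup PG), ∀ b ∈ (P : Subgroup PG), a * b = b * a) :
    ∃ r, KFacts PG r ∧ ((Fintype.card F % 8 = 5 ∧ 4 * r = Fintype.card F - 1) ∨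
      (Fintype.card F % 8 = 3 ∧ 4 * r = Fintype.card F + 1)) := by
  classical
  haveI : Fact (Nat.Prime 2) := ⟨Nat.prime_two⟩
  set q := Fintype.card F with hq
  have h2 : (2 : F) ≠ 0 := Cfsg.Agent.Classical.SylowSL2.two_ne_zero_of_odd hodd
  have hG := Cfsg.Agent.Forms.DicksonCor.gcd_mul_natCard (F := F)
  rw [Nat.gcd_eq_left (Nat.dvd_of_mod_eq_zero (by rcases hodd with ⟨k, hk⟩; omega))] at hG
  have heven : 2 ∣ Nat.card PG := by
    obtain ⟨k, hk⟩ := hodd
    rw [← hq, hk, show 2 * k + 1 - 1 = 2 * k by omega, show 2 * k + 1 + 1 = 2 * (k + 1) by omega] at hG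
    refine ⟨(2 * k + 1) * (k * (k + 1)), ?_⟩
    nlinarith
  obtain ⟨t₀, ht₀⟩ := exists_prime_orderOf_dvd_card' (G := PG) 2 heven
  -- the description at one involution
  have hone : ∀ k : PG, orderOf k = 2 → ∃ r, Odd r ∧ Nat.card (centralizer ({k} : Set PG)) = 4 * r ∧
      (4 * r = q - 1 ∨ 4 * r = q + 1) ∧
      ∃ A : Subgroup PG, IsCyclic A ∧ Nat.card A = r ∧ (∀ a ∈ A, Commute a k) ∧
      (∀ u : PG, orderOf u = 2 → Commute u k → u ≠ k → (∀ a ∈ A, u * a * u⁻¹ = a⁻¹) ∧
        ∀ g, Commute g k → g ∈ A ∨ g * k ∈ A ∨ g * u ∈ A ∨ g * (u * k) ∈ A) ∧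
      (∀ a ∈ A, a ≠ 1 → ∀ g, Commute g a → g ∈ A ∨ g * k ∈ A) ∧
      ∃ u : PG, orderOf u = 2 ∧ Commute u k ∧ u ≠ k := by
    intro k hk
    obtain ⟨p₀, hp₀, hT⟩ := exists_torus_psl hodd hk
    obtain ⟨a, b, hab', ha, hb⟩ := hT.exists_pair hT.t_ne_one (by rw [hk]; exact hT.odd_char.symm)
    set W := ptw (G := PG) a b with hW
    have hcy : IsCyclic W := isCyclic_ptw hT.data.two hab'
    have hkW : k ∈ W := mem_ptw.2 ⟨ha, hb⟩
    obtain ⟨s, hsa, hsb⟩ := exists_swap hT.data hT.t_ne_one hab' ha hb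
    have hcen := hT.centralizer_eq hab' ha hb
    have hcard := hT.natCard_centralizer hab' ha hb
    have hk2 : k * k = 1 := invol_mul_self hk
    have hs2 : s * s = 1 := swap_sq hT.data.two hab' hsa hsb
    obtain ⟨r, hr⟩ : 2 ∣ Nat.card W := by
      have := Subgroup.orderOf_dvd_natCard W hkW
      simpa only [hk] using this
    have huniq : ∀ x ∈ W, x * x = 1 → x = 1 ∨ x = k := by
      intro x hx hx2
      by_contra hne
      push Not at hne
      letI := Fintype.ofFinite W
      have h1 := IsCyclic.card_pow_eq_one_le (α := W) (n := 2) two_pos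
      have h3 : ({1, ⟨k, hkW⟩, ⟨x, hx⟩} : Finset W) ⊆ Finset.univ.filter fun y : W => y ^ 2 = 1 := by
        intro y hy
        simp only [Finset.mem_insert, Finset.mem_singleton] at hy
        rw [Finset.mem_filter]
        refine ⟨Finset.mem_univ _, ?_⟩
        rcases hy with rfl | rfl | rfl
        · exact one_pow 2
        · exact Subtype.ext (by simp [pow_two, hk2])
        · exact Subtype.ext (by simp [pow_two, hx2])
      have h4 := (Finset.card_le_card h3).trans h1
      rw [Finset.card_insert_of_notMem (by simp [Subtype.ext_iff, hT.t_ne_one.symm, hne.1.symm]),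
        Finset.card_pair (by simp [Subtype.ext_iff, hne.2.symm])] at h4
      omega
    have hinvW : ∀ g ∈ centralizer ({k} : Set PG), g ∉ W → g * g = 1 ∧ ∀ w ∈ W, g * w * g⁻¹ = w⁻¹ := by
      intro g hg hgW
      rw [hcen] at hg
      rcases mem_pairStab.1 hg with h | ⟨h1, h2⟩
      · exact absurd (mem_ptw.2 h) hgW
      · exact ⟨swap_sq hT.data.two hab' h1 h2,
          fun w hw => swap_inverts hT.data.two hab' h1 h2 (mem_ptw.1 hw).1 (mem_ptw.1 hw).2⟩
    have hsW : s ∉ W := fun h => hab' ((mem_ptw.1 h).1.symm.trans hsa)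
    have hsC : s ∈ centralizer ({k} : Set PG) := by rw [hcen]; exact mem_pairStab.2 (Or.inr ⟨hsa, hsb⟩)
    have hodd_r : Odd r := by
      by_contra hev
      obtain ⟨r', rfl⟩ := even_iff_two_dvd.1 (Nat.not_odd_iff_even.1 hev)
      obtain ⟨g, hg⟩ := hcy.exists_monoid_generator
      have hgo : orderOf g = Nat.card W :=
        orderOf_eq_card_of_forall_mem_zpowers fun x => Submonoid.powers_le.2 (mem_zpowers g) (hg x)
      set x : PG := ((g ^ r' : W) : PG) with hx
      have hxW : x ∈ W := (g ^ r').2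
      have hr0 : r' ≠ 0 := by rintro rfl; exact Nat.card_pos.ne' hr
      have hxo : orderOf x = 4 := by
        rw [hx, Subgroup.orderOf_coe, orderOf_pow' _ hr0, hgo, hr, Nat.gcd_eq_right ⟨4, by ring⟩,
          show 2 * (2 * r') = 4 * r' by ring, Nat.mul_div_cancel _ (Nat.pos_of_ne_zero hr0)]
      have hz : IsPGroup 2 (zpowers x) := IsPGroup.of_card (n := 2) (by rw [Nat.card_zpowers, hxo]; rfl)
      have hzs : IsPGroup 2 (zpowers s) := by
        have : s ≠ 1 := fun e => hsW (e ▸ W.one_mem)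
        exact IsPGroup.of_card (n := 1) (by rw [Nat.card_zpowers, orderOf_eq_prime (by rw [pow_two, hs2]) this,
          pow_one])
      have hn : zpowers s ≤ normalizer (zpowers x : Set PG) := by
        refine zpowers_le.2 (mem_normalizer_iff.2 fun y => ?_)
        have hsi : s⁻¹ = s := inv_eq_of_mul_eq_one_right hs2
        have key : ∀ y ∈ zpowers x, s * y * s⁻¹ ∈ zpowers x := fun y hy => by
          rw [(hinvW s hsC hsW).2 y (zpowers_le.2 hxW hy)]; exact inv_mem hy
        refine ⟨key y, fun h => ?_⟩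
        have h' := key _ h
        rwa [hsi, show s * (s * y * s) * s = (s * s) * y * (s * s) by group, hs2, one_mul, mul_one] at h'
      have hcom := two_group_comm hab (hzs.to_sup_of_normal_right' hz hn)
        (mem_sup_left (mem_zpowers s)) (mem_sup_right (mem_zpowers x))
      have h1 := (hinvW s hsC hsW).2 x hxW
      rw [hcom, mul_inv_cancel_right] at h1
      have h4 : orderOf x ∣ 2 := orderOf_dvd_of_pow_eq_one (by
        rw [pow_two]; nth_rw 1 [h1]; exact inv_mul_cancel x)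
      rw [hxo] at h4
      norm_num at h4
    have hcr : Nat.card (centralizer ({k} : Set PG)) = 4 * r := by rw [hcard, ← hW, hr]; ring
    have hWc : ∀ x ∈ W, ∀ y ∈ W, Commute x y := fun x hx y hy => ptw_comm hT.data.two hab' hx hy
    let A : Subgroup PG :=
      { carrier := {x | x ∈ W ∧ x ^ r = 1}
        one_mem' := ⟨one_mem _, one_pow _⟩
        mul_mem' := fun {x y} hx hy => ⟨mul_mem hx.1 hy.1, by rw [(hWc x hx.1 y hy.1).mul_pow, hx.2, hy.2, one_mul]⟩
        inv_mem' := fun {x} hx => ⟨inv_mem hx.1, by rw [inv_pow, hx.2, inv_one]⟩ }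
    have hkr : k ^ r = k := by
      obtain ⟨i, hi⟩ := hodd_r
      rw [hi, pow_succ, pow_mul, pow_two, hk2, one_pow, one_mul]
    have hsplit : ∀ g ∈ W, g ∈ A ∨ g * k ∈ A := by
      intro g hg
      have hcardW : g ^ Nat.card W = 1 := congrArg Subtype.val (pow_card_eq_one' (x := (⟨g, hg⟩ : W)))
      rcases huniq (g ^ r) (pow_mem hg r) (by rw [← pow_add, ← two_mul, ← hr, hcardW]) with e | e
      · exact Or.inl ⟨hg, e⟩
      · exact Or.inr ⟨mul_mem hg hkW, by rw [(hWc g hg k hkW).mul_pow, e, hkr, hk2]⟩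
    have hAW : A ≤ W := fun x hx => hx.1
    have hkA : k ∉ A := fun h => hT.t_ne_one (hkr.symm.trans h.2)
    have hAcard : Nat.card A = r := by
      have h1 := (A.subgroupOf W).card_mul_index
      rw [Nat.card_congr (subgroupOfEquivOfLe hAW).toEquiv, hr] at h1
      have h2 : (A.subgroupOf W).index = 2 := by
        refine index_eq_two_iff.2 ⟨⟨k, hkW⟩, fun g => ?_⟩
        simp only [mem_subgroupOf, Subgroup.coe_mul]
        rcases hsplit g g.2 with h | h
        · exact Or.inr ⟨h, fun h' => hkA ((mul_mem_cancel_left h).1 h')⟩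
        · exact Or.inl ⟨h, fun h' => hkA ((mul_mem_cancel_left h').1 h)⟩
      rw [h2] at h1
      omega
    have hsplit4 : ∀ u : PG, orderOf u = 2 → Commute u k → u ≠ k → (∀ a ∈ A, u * a * u⁻¹ = a⁻¹) ∧
        ∀ g, Commute g k → g ∈ A ∨ g * k ∈ A ∨ g * u ∈ A ∨ g * (u * k) ∈ A := by
      intro u hu huk hne
      have huC : u ∈ centralizer ({k} : Set PG) := mem_centralizer_singleton_iff.2 huk.eq
      have huW : u ∉ W := fun h => by
        rcases huniq u h (invol_mul_self hu) with e | e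
        · rw [e, orderOf_one] at hu; omega
        · exact hne e
      refine ⟨fun x hx => (hinvW u huC huW).2 x hx.1, fun g hg => ?_⟩
      by_cases hgW : g ∈ W
      · rcases hsplit g hgW with h | h
        · exact Or.inl h
        · exact Or.inr (Or.inl h)
      · have hgu : g * u ∈ W := by
          have hgC : g ∈ centralizer ({k} : Set PG) := mem_centralizer_singleton_iff.2 hg.eq
          rw [hcen] at hgC huC
          rcases mem_pairStab.1 hgC with h | ⟨h1, h2⟩
          · exact absurd (mem_ptw.2 h) hgW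
          · rcases mem_pairStab.1 huC with h | ⟨h3, h4⟩
            · exact absurd (mem_ptw.2 h) huW
            · exact mem_ptw.2 ⟨by rw [mul_smul, h3, h2], by rw [mul_smul, h4, h1]⟩
        rcases hsplit _ hgu with h | h
        · exact Or.inr (Or.inr (Or.inl h))
        · exact Or.inr (Or.inr (Or.inr (by rwa [← mul_assoc])))
    refine ⟨r, hodd_r, hcr, hcr ▸ hT.natCard_cent_cases, A,
      isCyclic_of_surjective (subgroupOfEquivOfLe hAW).toMonoidHom (subgroupOfEquivOfLe hAW).surjective, hAcard,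
      fun x hx => hWc x hx.1 k hkW, hsplit4, fun x hx hx1 g hg => ?_, ?_⟩
    · have hxo : Odd (orderOf x) := hodd_r.of_dvd_nat (orderOf_dvd_of_pow_eq_one hx.2)
      have h := hT.centralizer_of_fix hab' hx1 (orderOf_ne_two_of_odd hT hxo) (mem_ptw.1 hx.1).1
        (mem_ptw.1 hx.1).2
      exact hsplit g (h.le (mem_centralizer_singleton_iff.2 hg.eq))
    · refine ⟨s, orderOf_eq_prime (by rw [pow_two, hs2]) (fun e => hsW (e ▸ W.one_mem)),
        mem_centralizer_singleton_iff.1 hsC, fun e => hsW (e ▸ hkW)⟩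
  obtain ⟨r, hrodd, hr4, hrq, -⟩ := hone t₀ ht₀
  have hconj : ∀ i j : PG, orderOf i = 2 → orderOf j = 2 → IsConj i j := fun i j hi hj =>
    Cfsg.Agent.PSLBinary.involutions_conj h2 hi hj
  have hsame : ∀ k : PG, orderOf k = 2 → Nat.card (centralizer ({k} : Set PG)) = 4 * r := by
    intro k hk
    obtain ⟨p₀, hp₀, hT⟩ := exists_torus_psl hodd hk
    obtain ⟨p₁, hp₁, hT₀⟩ := exists_torus_psl hodd ht₀
    obtain ⟨c, hc⟩ := isConj_iff.1 (hconj t₀ k ht₀ hk)
    rw [← hr4]
    have e : centralizer ({k} : Set PG) = (centralizer ({t₀} : Set PG)).map (MulAut.conj c).toMonoidHom := by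
      ext g
      rw [mem_map_equiv, mem_centralizer_singleton_iff, mem_centralizer_singleton_iff, MulAut.conj_symm_apply, ← hc]
      refine ⟨fun h => ?_, fun h => ?_⟩
      · calc c⁻¹ * g * c * t₀ = c⁻¹ * (g * (c * t₀ * c⁻¹)) * c := by group
          _ = t₀ * (c⁻¹ * g * c) := by rw [h]; group
      · calc g * (c * t₀ * c⁻¹) = c * (c⁻¹ * g * c * t₀) * c⁻¹ := by group
          _ = c * t₀ * c⁻¹ * g := by rw [h]; group
    rw [e, card_map_of_injective (MulAut.conj c).injective]
  refine ⟨r, ⟨hrodd, ?_, ⟨t₀, ht₀⟩, hconj, fun k hk => ?_, fun e f he hf hc hne => ?_⟩, ?_⟩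
  · obtain ⟨i, hi⟩ := hodd
    obtain ⟨m, hm⟩ := hrodd
    rw [← hq] at hG
    have key : Nat.card PG = 4 * (q * (r * (if 4 * r = q - 1 then 2 * r + 1 else 2 * r - 1))) := by
      rcases hrq with e | e
      · rw [if_pos e]
        rw [← e, show q + 1 = 2 * (2 * r + 1) by omega] at hG
        nlinarith
      · rw [if_neg (by omega)]
        rw [show q - 1 = 2 * (2 * r - 1) by omega, ← e] at hG
        nlinarith
    have ho : Odd (q * (r * (if 4 * r = q - 1 then 2 * r + 1 else 2 * r - 1))) := by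
      refine (Odd.mul ⟨i, hi⟩ (Odd.mul ⟨m, hm⟩ ?_))
      split_ifs
      · exact ⟨r, rfl⟩
      · exact ⟨r - 1, by omega⟩
    obtain ⟨l, hl⟩ := ho
    exact ⟨l, by rw [key, hl]⟩
  · obtain ⟨r', -, hr', -, hA⟩ := hone k hk
    obtain rfl : r' = r := by have := hsame k hk; omega
    exact ⟨hr', hA⟩
  · obtain ⟨w, hw1, hw2⟩ := Cfsg.Agent.TimesPSLTwo.four_rotation h2 he hf hne hc
    have hww : w * (e * f) * w⁻¹ = e := by
      have he2 : e * e = 1 := invol_mul_self he
      have hf2 : f * f = 1 := invol_mul_self hf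
      calc w * (e * f) * w⁻¹ = (w * e * w⁻¹) * (w * f * w⁻¹) := by group
        _ = e := by rw [hw1, hw2, ← mul_assoc, ← hc.eq, mul_assoc, hf2, mul_one]
    have hw3e : Commute (w ^ 3) e := mul_inv_eq_iff_eq_mul.1 (by
      calc w ^ 3 * e * (w ^ 3)⁻¹ = w * (w * (w * e * w⁻¹) * w⁻¹) * w⁻¹ := by
            rw [show w ^ 3 = w * w * w by rw [pow_succ, pow_two]]; group
        _ = e := by rw [hw1, hw2, hww])
    have hw3f : Commute (w ^ 3) f := mul_inv_eq_iff_eq_mul.1 (by
      calc w ^ 3 * f * (w ^ 3)⁻¹ = w * (w * (w * f * w⁻¹) * w⁻¹) * w⁻¹ := by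
            rw [show w ^ 3 = w * w * w by rw [pow_succ, pow_two]]; group
        _ = f := by rw [hw2, hww, hw1])
    obtain ⟨r', hr'o, -, -, A, -, hAc, hAe, hsp, -, -⟩ := hone e he
    obtain ⟨hinv, hsp4⟩ := hsp f hf hc.symm hne.symm
    have he2 : e * e = 1 := invol_mul_self he
    have hf2 : f * f = 1 := invol_mul_self hf
    have hfix : ∀ a ∈ A, Commute a f → a = 1 := by
      intro a ha haf
      have h1 := hinv a ha
      rw [← haf.eq, mul_inv_cancel_right] at h1
      have h2 : orderOf a ∣ 2 := orderOf_dvd_of_pow_eq_one (by rw [pow_two]; nth_rw 1 [h1]; exact inv_mul_cancel a)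
      have h3 : orderOf a ∣ r' := hAc ▸ Subgroup.orderOf_dvd_natCard _ ha
      rcases (Nat.dvd_prime Nat.prime_two).1 h2 with h | h
      · exact orderOf_eq_one_iff.1 h
      · rw [h] at h3
        exact absurd (even_iff_two_dvd.2 h3) (Nat.not_even_iff_odd.2 hr'o)
    have hcases : w ^ 3 = 1 ∨ w ^ 3 = e ∨ w ^ 3 = f ∨ w ^ 3 = f * e := by
      have hei : ∀ x : PG, x * x = 1 → x⁻¹ = x := fun x h => inv_eq_of_mul_eq_one_right h
      rcases hsp4 (w ^ 3) hw3e with h | h | h | h
      · exact Or.inl (hfix _ h hw3f)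
      · exact Or.inr (Or.inl (by rw [mul_eq_one_iff_eq_inv.1 (hfix _ h (hw3f.mul_left hc)), hei e he2]))
      · exact Or.inr (Or.inr (Or.inl (by
          rw [mul_eq_one_iff_eq_inv.1 (hfix _ h (hw3f.mul_left (Commute.refl f))), hei f hf2])))
      · exact Or.inr (Or.inr (Or.inr (by
          rw [mul_eq_one_iff_eq_inv.1 (hfix _ h (hw3f.mul_left ((Commute.refl f).mul_left hc))),
            mul_inv_rev, hei e he2, hei f hf2, hc.eq])))
    have hself : w * (w ^ 3) * w⁻¹ = w ^ 3 := by group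
    have he1 : e ≠ 1 := fun h => by rw [h, orderOf_one] at he; omega
    have hf1 : f ≠ 1 := fun h => by rw [h, orderOf_one] at hf; omega
    have h31 : w ^ 3 = 1 := by
      rcases hcases with h | h | h | h
      · exact h
      · rw [h, hw1] at hself; exact absurd hself.symm hne
      · rw [h, hw2] at hself; exact absurd (mul_eq_right.1 hself) he1
      · rw [h, ← hc.eq, hww] at hself; exact absurd (left_eq_mul.1 hself) hf1
    refine ⟨w, orderOf_eq_prime h31 fun e1 => hne ?_, hw1, hw2⟩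
    rw [← hw1, e1]; group
  · obtain ⟨m, hm⟩ := hrodd
    rcases hrq with e | e
    · exact Or.inl ⟨by omega, e⟩
    · exact Or.inr ⟨by omega, e⟩

end Cfsg.Agent.JT.Loc
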