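import Mathlib
import Cfsg.Prelude.Def_Characters

/-!
Interfaces for groups with an involution centralizer `C₂ × PSL₂(q)`, `q` odd, `q > 5`, and abelian
Sylow 2-subgroups (`notes/s0343-plan-h8.md`).

* `Setup`: the involution and the centralizer;
* `KData`: what is used of the characters of `PSL₂(q)`;
* `Local`: the 2-local facts; `Torus`: the odd torus in the centralizer of a four-group.
-/

set_option autoImplicit false

namespace Cfsg.Agent.JT

universe u v

/-- An involution with centralizer `C₂ × K`. -/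
structure Setup (G : Type u) [Group G] (K : Type v) [Group K] where
  t : G
  ht : orderOf t = 2
  e : Subgroup.centralizer ({t} : Set G) ≃* Multiplicative (ZMod 2) × K

namespace Setup

variable {G : Type u} [Group G] {K : Type v} [Group K] (H : Setup G K)

/-- The centralizer. -/
abbrev C : Subgroup G := Subgroup.centralizer ({H.t} : Set G)

/-- The element of `G` attached to an element of `C₂ × K`. -/
def emb : Multiplicative (ZMod 2) × K →* G := H.C.subtype.comp H.e.symm.toMonoidHom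

/-- The embedding of `K`. -/
def embK : K →* G := H.emb.comp (MonoidHom.inr _ _)

/-- The 2-local facts. -/
structure Local : Prop where
  sylow : ∃ k : ℕ, Nat.card G = 8 * (2 * k + 1)
  fused : ∀ y : G, orderOf y = 2 → IsConj H.t y
  emb_t : H.emb (Multiplicative.ofAdd 1, 1) = H.t

end Setup

/-- What is used of the characters of `PSL₂(q)`; `Q = ±q` is congruent to `5` modulo `8`. -/
structure KData (K : Type v) [Group K] [Fintype K] where
  Q : ℤ
  Q_mod : Q % 8 = 5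
  Q_pow : ∃ p n : ℕ, p.Prime ∧ Odd n ∧ Q.natAbs = p ^ n
  Q_gt : 5 < Q.natAbs
  card : 2 * (Nat.card K : ℤ) = |Q| * (Q ^ 2 - 1)
  /-- All involutions are conjugate; there are `Q (Q + 1) / 2` of them. -/
  invol_conj : ∀ i j : K, orderOf i = 2 → orderOf j = 2 → IsConj i j
  invol_card : 2 * (Nat.card {i : K // orderOf i = 2} : ℤ) = Q * (Q + 1)
  /-- `1 + δη₁`, `1 + δη₂`, `1 - δ St`. -/
  θ : Fin 3 → K → ℂ
  θ_gen : ∀ i, Cfsg.IsGeneralizedCharacter K (θ i)
  θ_even : ∀ i k, Even (orderOf k) → θ i k = 0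
  θ_one0 : 2 * θ 0 1 = (Q : ℂ) + 3
  θ_one1 : 2 * θ 1 1 = (Q : ℂ) + 3
  θ_one2 : θ 2 1 = 1 - (Q : ℂ)
  θ_inner : ∀ i j, Cfsg.classInner (θ i) (θ j) = if i = j then 2 else 1
  θ_triv : ∀ i, Cfsg.classInner (θ i) (fun _ => 1) = 1
  /-- The values on the odd torus in the centralizer of an involution. -/
  θ_torus : ∀ i k, Odd (orderOf k) → k ≠ 1 → (∃ w : K, orderOf w = 2 ∧ Commute w k) →
    θ i k = if i = 2 then 0 else 2
  /-- Sums over the pairs of involutions. -/
  θ_pairs : ∀ i, 4 * ∑ a : {a : K // orderOf a = 2}, ∑ b : {b : K // orderOf b = 2},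
      θ i ((a : K) * b) = if i = 2 then (Q : ℂ) * (Q + 1) ^ 2 * (Q - 1)
        else (Q : ℂ) ^ 2 * (Q + 1) * (Q + 3)
  /-- An automorphism of `ℂ` exchanging the first two functions. -/
  θ_galois : ∃ σ : ℂ ≃+* ℂ, ∀ i k, σ (θ i k) = θ (Equiv.swap 0 1 i) k
  /-- Complex conjugation permutes the functions. -/
  θ_conj : ∃ π : Equiv.Perm (Fin 3), π 2 = 2 ∧ ∀ i k, (starRingEnd ℂ) (θ i k) = θ (π i) k
  /-- The sum of the characters of degree `|Q + 1|`, signed. -/
  Φ : K → ℂ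
  Φ_gen : Cfsg.IsGeneralizedCharacter K Φ
  Φ_even : ∀ k, Even (orderOf k) → Φ k = 0
  /-- The characters of degree `|Q - 1|`. -/
  N : ℕ
  ψ : Fin N → K → ℂ
  ψ_gen : ∀ l, Cfsg.IsGeneralizedCharacter K (ψ l)
  ψ_even : ∀ l k, Even (orderOf k) → ψ l k = 0
  ψ_torus : ∀ l k, k ≠ 1 → (∃ w : K, orderOf w = 2 ∧ Commute w k) → ψ l k = 0
  ψ_one : ∀ l, ψ l 1 = ((Q - 1).natAbs : ℂ)
  ψ_inner : ∀ l l', Cfsg.classInner (ψ l) (ψ l') = if l = l' then 1 else 0
  Φ_triv : Cfsg.classInner Φ (fun _ => 1) = 0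
  Φ_θ : ∀ i, Cfsg.classInner (θ i) Φ = 0
  Φ_norm : ∃ M : ℕ, Cfsg.classInner Φ Φ = (M : ℂ) ∧
    (M : ℤ) * (Q + 1) ^ 2 ≤ (Nat.card K : ℤ)
  ψ_triv : ∀ l, Cfsg.classInner (ψ l) (fun _ => 1) = 0
  ψ_θ : ∀ i l, Cfsg.classInner (θ i) (ψ l) = 0
  ψ_pairs : ∀ l, ∑ a : {a : K // orderOf a = 2}, ∑ b : {b : K // orderOf b = 2},
      ψ l ((a : K) * b) = 0
  /-- Every automorphism of `ℂ` permutes the first two functions and fixes the third. -/
  θ_aut : ∀ σ : ℂ ≃+* ℂ, ∃ π : Equiv.Perm (Fin 3), π 2 = 2 ∧ ∀ i k, σ (θ i k) = θ (π i) k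
  /-- The first two differ at an element whose order divides a power of `|Q|`. -/
  θ_split : ∃ k : K, (∃ n : ℕ, orderOf k ∣ Q.natAbs ^ n) ∧ θ 0 k ≠ θ 1 k
  /-- The regular character. -/
  regular : ∀ k : K, (Q : ℂ) * ((θ 0 k + θ 1 k) - 2 * θ 2 k) + (θ 0 k + θ 1 k) +
      2 * (((Q : ℂ) + 1) * Φ k + ((Q - 1).natAbs : ℂ) * ∑ l, ψ l k) =
    if orderOf k = 1 then 2 * (Nat.card K : ℂ) else 0

namespace Setup

variable {G : Type u} [Group G] {K : Type v} [Group K] [Fintype K] (H : Setup G K)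

/-- The torus configuration: `V = {1, t, v, tv}`, `s` inverts `A`, `z` cycles `V` and fixes `s`. -/
structure Torus (D : KData K) where
  v : G
  s : G
  z : G
  A : Subgroup G
  v_two : orderOf v = 2
  v_K : ∃ k : K, H.embK k = v
  s_two : orderOf s = 2
  tv : Commute H.t v
  ts : Commute H.t s
  vs : Commute v s
  s_notMem : s ∉ ({1, H.t, v, H.t * v} : Set G)
  z_three : orderOf z = 3
  z_t : z * H.t * z⁻¹ = v
  z_v : z * v * z⁻¹ = H.t * v
  z_s : Commute z s
  z_A : z ∈ Subgroup.normalizer (A : Set G)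
  A_cyclic : IsCyclic A
  A_odd : Odd (Nat.card A)
  A_card : 4 * Nat.card A = (D.Q - 1).natAbs
  A_t : ∀ a ∈ A, Commute a H.t
  A_v : ∀ a ∈ A, Commute a v
  A_s : ∀ a ∈ A, s * a * s⁻¹ = a⁻¹
  /-- The centralizer of the four-group. -/
  cent_V : ∀ g : G, Commute g H.t → Commute g v →
    ∃ a ∈ A, ∃ w ∈ ({1, H.t, v, H.t * v} : Set G), g = a * w ∨ g = a * w * s
  /-- Common centralizers with the involutions of the four-group. -/
  cent_AV : ∀ a ∈ A, a ≠ 1 → ∀ w ∈ ({H.t, v, H.t * v} : Set G), ∀ g : G,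
    Commute g a → Commute g w → ∃ b ∈ A, ∃ w' ∈ ({1, H.t, v, H.t * v} : Set G), g = b * w'
  cent_free : ∀ a ∈ A, z * a * z⁻¹ ≠ a → ∀ g : G, Commute g a →
    ∃ b ∈ A, ∃ w ∈ ({1, H.t, v, H.t * v} : Set G), g = b * w
  cent_fixed : ∀ a ∈ A, a ≠ 1 → z * a * z⁻¹ = a →
    Subgroup.centralizer ({a} : Set G) = A ⊔ Subgroup.closure {H.t, v, z} ∨
      ∃ f : Subgroup.centralizer ({a} : Set G) →* alternatingGroup (Fin 5),
        Function.Surjective f ∧ f.ker = A.subgroupOf _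
  /-- An element of order three of `A` forces `z` to be trivial on `A`. -/
  three : 3 ∣ Nat.card A → ∀ a ∈ A, z * a * z⁻¹ = a
  /-- Next to `A₅` the primes three and five only occur as the whole of `A`. -/
  five_small : ∀ a ∈ A, a ≠ 1 →
    (∃ f : Subgroup.centralizer ({a} : Set G) →* alternatingGroup (Fin 5),
      Function.Surjective f ∧ f.ker = A.subgroupOf _) →
    Nat.Coprime (Nat.card A) 15 ∨ Nat.card A = 3 ∨ Nat.card A = 5

end Setup

end Cfsg.Agent.JT
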