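import Mathlib
import Cfsg.Agent.Lib.JT.Defs
import Cfsg.Agent.Lib.JT.LocalPSL
import Cfsg.Agent.Lib.ZStar.Main

/-!
# The Sylow 2-subgroup and the fusion of involutions

A group with an involution centralizer `C₂ × K`, `K` as in `KFacts`, with abelian Sylow 2-subgroups:
`|G| = 8 · odd` and, if it is simple, all involutions are conjugate.
-/

set_option autoImplicit false
set_option linter.unusedSectionVars false
set_option linter.style.haveILetI false

namespace Cfsg.Agent.JT.Loc

open Subgroup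

universe u v

variable {K : Type v} [Group K] {r : ℕ}

theorem z2_cases (b : Multiplicative (ZMod 2)) : b = 1 ∨ b = Multiplicative.ofAdd 1 := by
  revert b; decide

theorem z2_sq : ∀ c : Multiplicative (ZMod 2), c * c = 1 := by decide

theorem invol_ne_one {x : K} (h : orderOf x = 2) : x ≠ 1 := fun e => by
  rw [e, orderOf_one] at h; omega

/-- An element of odd order squaring to one is trivial. -/
theorem eq_one_of_odd_sq {x : K} (ho : Odd (orderOf x)) (h2 : x * x = 1) : x = 1 := by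
  have h : orderOf x ∣ 2 := orderOf_dvd_of_pow_eq_one (by rw [pow_two, h2])
  rcases (Nat.dvd_prime Nat.prime_two).1 h with h | h
  · exact orderOf_eq_one_iff.1 h
  · rw [h] at ho; exact absurd ho (by decide)

namespace KFacts

variable (hK : KFacts K r)
include hK

theorem cent_four {e f g : K} (he : orderOf e = 2) (hf : orderOf f = 2) (hc : Commute e f) (hne : e ≠ f)
    (hge : Commute g e) (hgf : Commute g f) : g = 1 ∨ g = e ∨ g = f ∨ g = e * f := by
  obtain ⟨-, A, -, hAc, hAe, hsp, -, -⟩ := hK.torus e he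
  obtain ⟨hinv, hcase⟩ := hsp f hf hc.symm hne.symm
  have hfix : ∀ a ∈ A, Commute a f → a = 1 := by
    intro a ha haf
    have h1 := hinv a ha
    rw [← haf.eq, mul_inv_cancel_right] at h1
    refine eq_one_of_odd_sq (hK.r_odd.of_dvd_nat (hAc ▸ Subgroup.orderOf_dvd_natCard _ ha)) ?_
    nth_rw 1 [h1]
    exact inv_mul_cancel a
  have he2 := invol_mul_self he
  have hf2 := invol_mul_self hf
  rcases hcase g hge with h | h | h | h
  · exact Or.inl (hfix _ h hgf)
  · right; left
    have := hfix _ h (hgf.mul_left hc)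
    rw [mul_eq_one_iff_eq_inv.1 this, inv_eq_of_mul_eq_one_right he2]
  · right; right; left
    have := hfix _ h (hgf.mul_left (Commute.refl f))
    rw [mul_eq_one_iff_eq_inv.1 this, inv_eq_of_mul_eq_one_right hf2]
  · right; right; right
    have := hfix _ h (hgf.mul_left ((Commute.refl f).mul_left hc))
    rw [mul_eq_one_iff_eq_inv.1 this, mul_inv_rev, inv_eq_of_mul_eq_one_right he2,
      inv_eq_of_mul_eq_one_right hf2]

theorem exists_pair : ∃ e f : K, orderOf e = 2 ∧ orderOf f = 2 ∧ Commute e f ∧ e ≠ f := by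
  obtain ⟨e, he⟩ := hK.exists_invol
  obtain ⟨-, A, -, -, -, -, -, f, hf, hc, hne⟩ := hK.torus e he
  exact ⟨e, f, he, hf, hc.symm, hne.symm⟩

theorem center {k : K} (hk : ∀ j, k * j = j * k) : k = 1 := by
  obtain ⟨e, f, he, hf, hc, hne⟩ := hK.exists_pair
  obtain ⟨w, -, hw1, hw2⟩ := hK.rot e f he hf hc hne
  have hfix : w * k * w⁻¹ = k := by rw [← hk w, mul_inv_cancel_right]
  rcases hK.cent_four he hf hc hne (hk e) (hk f) with h | h | h | h
  · exact h
  · rw [h, hw1] at hfix; exact absurd hfix.symm hne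
  · rw [h, hw2] at hfix; exact absurd (mul_eq_right.1 hfix) (invol_ne_one he)
  · exfalso
    rw [h, show w * (e * f) * w⁻¹ = w * e * w⁻¹ * (w * f * w⁻¹) by group, hw1, hw2] at hfix
    rw [← mul_assoc, ← hc.eq, mul_assoc, invol_mul_self hf, mul_one] at hfix
    exact invol_ne_one hf (left_eq_mul.1 hfix)

theorem not_comm : ∃ a b : K, a * b ≠ b * a := by
  obtain ⟨e, f, he, hf, hc, hne⟩ := hK.exists_pair
  obtain ⟨w, -, hw1, -⟩ := hK.rot e f he hf hc hne
  exact ⟨w, e, fun h => hne (by rw [← hw1, h, mul_inv_cancel_right])⟩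

end KFacts

variable {G : Type u} [Group G]

theorem t_mem (H : Setup G K) : H.t ∈ H.C := mem_centralizer_singleton_iff.2 rfl

theorem emb_injective (H : Setup G K) : Function.Injective H.emb :=
  fun a b h => H.e.symm.injective (Subtype.ext h)

theorem emb_commute (H : Setup G K) (x : Multiplicative (ZMod 2) × K) : Commute (H.emb x) H.t :=
  mem_centralizer_singleton_iff.1 (H.e.symm x).2

theorem emb_surj (H : Setup G K) {g : G} (hg : Commute g H.t) : ∃ x, H.emb x = g :=
  ⟨H.e ⟨g, mem_centralizer_singleton_iff.2 hg.eq⟩, by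
    show ((H.e.symm (H.e _) : H.C) : G) = g
    rw [MulEquiv.symm_apply_apply]⟩

/-- `t` is the central involution. -/
theorem emb_t (H : Setup G K) (hK : KFacts K r) : H.emb (Multiplicative.ofAdd 1, 1) = H.t := by
  obtain ⟨⟨b, k⟩, hbk⟩ := emb_surj H (Commute.refl H.t)
  have hk : k = 1 := hK.center fun j => by
    have h1 : H.emb ((b, k) * (1, j)) = H.emb ((1, j) * (b, k)) := by
      rw [map_mul, map_mul, hbk, (emb_commute H (1, j)).eq]
    exact congrArg Prod.snd (emb_injective H h1)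
  subst hk
  rcases z2_cases b with rfl | rfl
  · exact absurd ((map_one H.emb).symm.trans hbk).symm (invol_ne_one H.ht)
  · exact hbk

theorem orderOf_emb (H : Setup G K) (x : Multiplicative (ZMod 2) × K) : orderOf (H.emb x) = orderOf x :=
  orderOf_injective _ (emb_injective H) x

theorem card_C (H : Setup G K) (hK : KFacts K r) : ∃ k, Nat.card H.C = 8 * (2 * k + 1) := by
  obtain ⟨k, hk⟩ := hK.card
  refine ⟨k, ?_⟩
  rw [Nat.card_congr H.e.toEquiv, Nat.card_prod, hk,
    show Nat.card (Multiplicative (ZMod 2)) = Nat.card (ZMod 2) from rfl, Nat.card_zmod]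
  ring

variable [Finite G] (H : Setup G K) (hK : KFacts K r)
  (hab : ∀ P : Sylow 2 G, ∀ a b : P, a * b = b * a)
include H hK hab

theorem card_G : ∃ k, Nat.card G = 8 * (2 * k + 1) := by
  haveI : Fact (Nat.Prime 2) := ⟨Nat.prime_two⟩
  have hz : IsPGroup 2 (zpowers H.t) := IsPGroup.of_card (n := 1) (by rw [Nat.card_zpowers, H.ht, pow_one])
  obtain ⟨P, hP⟩ := hz.exists_le_sylow
  have hPC : (P : Subgroup G) ≤ H.C := fun x hx => mem_centralizer_singleton_iff.2
    (congrArg Subtype.val (hab P ⟨x, hx⟩ ⟨H.t, hP (mem_zpowers _)⟩))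
  obtain ⟨k, hk⟩ := card_C H hK
  have h1 : 8 ∣ Nat.card G := (Dvd.intro _ hk.symm).trans H.C.card_subgroup_dvd_card
  have h4 : ¬ 2 ^ 4 ∣ Nat.card G := by
    intro h
    have h3 := P.card_eq_multiplicity
    have h5 := (Nat.prime_two.pow_dvd_iff_le_factorization Nat.card_pos.ne').1 h
    have h6 : 2 ^ 4 ∣ Nat.card (P : Subgroup G) := h3 ▸ pow_dvd_pow 2 h5
    have h7 := h6.trans (card_dvd_of_le hPC)
    rw [hk] at h7
    omega
  obtain ⟨m, hm⟩ := h1
  rw [hm] at h4
  refine ⟨m / 2, ?_⟩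
  rw [hm]
  have : m % 2 = 1 := by
    by_contra hc
    exact h4 ⟨m / 2, by omega⟩
  omega

/-- The Sylow 2-subgroup attached to a four-group of `K`. -/
theorem exists_sylow {e f : K} (he : orderOf e = 2) (hf : orderOf f = 2) (hc : Commute e f) (hne : e ≠ f) :
    ∃ S : Sylow 2 G, (∀ x ∈ (S : Subgroup G), ∃ b, ∃ k ∈ ({1, e, f, e * f} : Set K), H.emb (b, k) = x) ∧
      ∀ b, ∀ k ∈ ({1, e, f, e * f} : Set K), H.emb (b, k) ∈ (S : Subgroup G) := by
  haveI : Fact (Nat.Prime 2) := ⟨Nat.prime_two⟩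
  haveI : Finite K := Finite.of_injective (fun k : K => H.emb (1, k))
    fun a b h => congrArg Prod.snd (emb_injective H h)
  let Q : Subgroup K := centralizer ({e, f} : Set K)
  have hQ : ∀ k ∈ Q, k = 1 ∨ k = e ∨ k = f ∨ k = e * f := fun k hk =>
    hK.cent_four he hf hc hne (mem_centralizer_iff.1 hk e (Or.inl rfl)).symm
      (mem_centralizer_iff.1 hk f (Or.inr rfl)).symm
  have hQ' : ∀ k ∈ ({1, e, f, e * f} : Set K), k ∈ Q := by
    have he' : e ∈ Q := mem_centralizer_iff.2 (by rintro m (rfl | rfl); exacts [rfl, hc.eq.symm])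
    have hf' : f ∈ Q := mem_centralizer_iff.2 (by rintro m (rfl | rfl); exacts [hc.eq, rfl])
    rintro k (rfl | rfl | rfl | rfl)
    exacts [one_mem _, he', hf', mul_mem he' hf']
  let P : Subgroup G := ((⊤ : Subgroup (Multiplicative (ZMod 2))).prod Q).map H.emb
  have hP2 : IsPGroup 2 ((⊤ : Subgroup (Multiplicative (ZMod 2))).prod Q) := by
    rintro ⟨⟨b, k⟩, hbk⟩
    refine ⟨1, Subtype.ext (Prod.ext ?_ ?_)⟩
    · show b ^ 2 ^ 1 = 1
      rw [pow_one, pow_two]; exact z2_sq b
    · show k ^ 2 ^ 1 = 1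
      rw [pow_one, pow_two]
      rcases hQ k (mem_prod.1 hbk).2 with rfl | rfl | rfl | rfl
      · exact one_mul 1
      · exact invol_mul_self he
      · exact invol_mul_self hf
      · rw [hc.symm.mul_mul_mul_comm, invol_mul_self he, invol_mul_self hf, one_mul]
  obtain ⟨S, hS⟩ := (hP2.map H.emb).exists_le_sylow
  have hQ4 : 4 ≤ Nat.card Q := by
    have h4 := Set.ncard_le_ncard (show ({1, e, f, e * f} : Set K) ⊆ Q from hQ') (Set.toFinite _)
    rw [Set.ncard_insert_of_notMem, Set.ncard_insert_of_notMem, Set.ncard_pair,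
      ← Nat.card_coe_set_eq] at h4
    · exact h4
    · intro h; exact invol_ne_one he (mul_eq_right.1 h.symm)
    · simp only [Set.mem_insert_iff, Set.mem_singleton_iff, not_or]
      exact ⟨hne, fun h => invol_ne_one hf (left_eq_mul.1 h)⟩
    · simp only [Set.mem_insert_iff, Set.mem_singleton_iff, not_or]
      refine ⟨(invol_ne_one he).symm, (invol_ne_one hf).symm, fun h => hne ?_⟩
      rw [eq_inv_of_mul_eq_one_left h.symm, inv_eq_of_mul_eq_one_right (invol_mul_self hf)]
  have hS8 : Nat.card (S : Subgroup G) ≤ 8 := by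
    obtain ⟨k, hk⟩ := card_G H hK hab
    obtain ⟨j, hj⟩ := IsPGroup.iff_card.1 S.2
    rw [hj]
    have h1 : 2 ^ j ∣ 8 * (2 * k + 1) := hk ▸ hj ▸ card_subgroup_dvd_card _
    have h2 : 2 ^ j ∣ 2 ^ 3 := (Nat.Coprime.pow_left j ((Nat.coprime_two_left).2 ⟨k, rfl⟩)).dvd_of_dvd_mul_right h1
    exact Nat.le_of_dvd (by norm_num) h2
  have hPc : 8 ≤ Nat.card P := by
    rw [card_map_of_injective (emb_injective H)]
    rw [Nat.card_congr (prodEquiv _ _).toEquiv, Nat.card_prod, card_top,
      show Nat.card (Multiplicative (ZMod 2)) = Nat.card (ZMod 2) from rfl, Nat.card_zmod]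
    omega
  have hPS : P = (S : Subgroup G) := eq_of_le_of_card_ge hS (hS8.trans hPc)
  refine ⟨S, fun x hx => ?_, fun b k hk => ?_⟩
  · rw [← hPS] at hx
    obtain ⟨⟨b, k⟩, hbk, rfl⟩ := hx
    exact ⟨b, k, hQ k (mem_prod.1 hbk).2, rfl⟩
  · rw [← hPS]
    exact ⟨(b, k), mem_prod.2 ⟨mem_top _, hQ' k hk⟩, rfl⟩

variable [IsSimpleGroup G]

theorem isolated_false (h : ∀ g : G, g * H.t * g⁻¹ * H.t = H.t * (g * H.t * g⁻¹) → g * H.t * g⁻¹ = H.t) :
    False := by
  obtain ⟨k, hk⟩ := card_G H hK hab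
  have hz : Cfsg.IsIsolatedInvolution H.t := ⟨H.ht, fun g hg => h g hg.symm.eq⟩
  have hO : Cfsg.oddCore G = ⊥ := by
    rcases (ZStar.Main.oddCore_normal (G := G)).eq_bot_or_eq_top with h0 | h0
    · exact h0
    · exfalso
      have h1 := InvChar.Core.odd_card_oddCore (G := G)
      rw [h0, Subgroup.card_top, Nat.odd_iff] at h1
      omega
  have hc := ZStar.Main.mem_center_of_isolated hO hz
  rcases (inferInstance : (Subgroup.center G).Normal).eq_bot_or_eq_top with h0 | h0
  · rw [h0, Subgroup.mem_bot] at hc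
    exact invol_ne_one H.ht hc
  · obtain ⟨a, b, hab'⟩ := hK.not_comm
    refine hab' (congrArg Prod.snd (emb_injective H
      (show H.emb ((1, a) * (1, b)) = H.emb ((1, b) * (1, a)) from ?_)))
    rw [map_mul, map_mul]
    exact Subgroup.mem_center_iff.1 (h0 ▸ Subgroup.mem_top (H.emb (1, b))) _

/-- All involutions are conjugate. -/
theorem fused (y : G) (hy : orderOf y = 2) : IsConj H.t y := by
  classical
  haveI : Fact (Nat.Prime 2) := ⟨Nat.prime_two⟩
  obtain ⟨e, f, he, hf, hc, hne⟩ := hK.exists_pair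
  obtain ⟨w, -, hw1, hw2⟩ := hK.rot e f he hf hc hne
  obtain ⟨S, hS1, hS2⟩ := exists_sylow H hK hab he hf hc hne
  have ht := emb_t H hK
  have hyS : ∃ s ∈ (S : Subgroup G), orderOf s = 2 ∧ IsConj s y := by
    obtain ⟨P, hP⟩ := (IsPGroup.of_card (n := 1) (G := zpowers y) (by
      rw [Nat.card_zpowers, hy, pow_one])).exists_le_sylow
    obtain ⟨g, hg⟩ := MulAction.exists_smul_eq G P S
    refine ⟨g * y * g⁻¹, hg ▸ ⟨y, hP (mem_zpowers y), rfl⟩, ?_, isConj_iff.2 ⟨g⁻¹, by group⟩⟩
    rw [← MulAut.conj_apply, MulEquiv.orderOf_eq]; exact hy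
  -- the classes inside the Sylow subgroup
  have hrot : ∀ b : Multiplicative (ZMod 2), ∀ k ∈ ({e, f, e * f} : Set K),
      IsConj (H.emb (b, e)) (H.emb (b, k)) := by
    have hstep : ∀ b x x', w * x * w⁻¹ = x' → IsConj (H.emb (b, x)) (H.emb (b, x')) := fun b x x' h =>
      isConj_iff.2 ⟨H.emb (1, w), by
        rw [← map_inv, ← map_mul, ← map_mul, ← h]; congr 1; ext <;> simp⟩
    intro b k hk
    rcases hk with hk | hk | hk <;> rw [hk]
    · exact hstep b e f hw1
    · exact (hstep b e f hw1).trans (hstep b f (e * f) hw2)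
  suffices hboth : ∀ b, IsConj H.t (H.emb (b, e)) by
    obtain ⟨s, hs, hso, hsy⟩ := hyS
    refine IsConj.trans ?_ hsy
    obtain ⟨b, k, hk, rfl⟩ := hS1 s hs
    rcases hk with rfl | hk
    · rcases z2_cases b with rfl | rfl
      · rw [show ((1, 1) : Multiplicative (ZMod 2) × K) = 1 from rfl, map_one, orderOf_one] at hso; omega
      · rw [ht]
    · exact (hboth b).trans (hrot b k hk)
  obtain ⟨b, hb⟩ : ∃ b, IsConj H.t (H.emb (b, e)) := by
    by_contra hno
    push Not at hno
    refine isolated_false H hK hab fun g hg => ?_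
    by_contra hgt
    obtain ⟨⟨b, k⟩, hbk⟩ := emb_surj H (show Commute (g * H.t * g⁻¹) H.t from hg)
    have ho : orderOf (b, k) = 2 := by
      rw [← orderOf_emb H, hbk, ← MulAut.conj_apply, MulEquiv.orderOf_eq]; exact H.ht
    by_cases hk1 : k = 1
    · subst hk1
      rcases z2_cases b with rfl | rfl
      · rw [show ((1, 1) : Multiplicative (ZMod 2) × K) = 1 from rfl, orderOf_one] at ho; omega
      · exact hgt (hbk.symm.trans ht)
    have hko : orderOf k = 2 := orderOf_eq_prime (by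
      have h2 := pow_orderOf_eq_one ((b, k) : Multiplicative (ZMod 2) × K)
      rw [ho] at h2
      exact congrArg Prod.snd h2) hk1
    obtain ⟨c, hc'⟩ := isConj_iff.1 (hK.conj k e hko he)
    refine hno b ((isConj_iff.2 ⟨g, hbk.symm⟩).trans (isConj_iff.2 ⟨H.emb (1, c), ?_⟩))
    rw [← map_inv, ← map_mul, ← map_mul, ← hc']; congr 1; ext <;> simp
  intro b'
  by_contra hb'
  have hbb : b' ≠ b := fun h => hb' (h ▸ hb)
  have honly : ∀ c, IsConj H.t (H.emb (c, e)) → c = b := fun c hcc => by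
    by_contra hcb
    rcases z2_cases b with rfl | rfl <;> rcases z2_cases c with rfl | rfl <;>
      rcases z2_cases b' with rfl | rfl <;> first
        | exact hbb rfl
        | exact hcb rfl
        | exact hb' hcc
  let T : Set G := {H.t, H.emb (b, e), H.emb (b, f), H.emb (b, e * f)}
  have hTmem : ∀ z ∈ T, z ∈ (S : Subgroup G) ∧ IsConj H.t z := by
    rintro z (rfl | rfl | rfl | rfl)
    · exact ⟨ht ▸ hS2 _ 1 (Or.inl rfl), IsConj.refl _⟩
    · exact ⟨hS2 b e (Or.inr (Or.inl rfl)), hb⟩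
    · exact ⟨hS2 b f (Or.inr (Or.inr (Or.inl rfl))), hb.trans (hrot b f (Or.inr (Or.inl rfl)))⟩
    · exact ⟨hS2 b _ (Or.inr (Or.inr (Or.inr rfl))), hb.trans (hrot b _ (Or.inr (Or.inr rfl)))⟩
  let N := normalizer ((S : Subgroup G) : Set G)
  letI : MulAction N G := MulAction.compHom G (MulAut.conj.comp N.subtype)
  haveI : IsMulCommutative (S : Subgroup G) := ⟨⟨hab S⟩⟩
  have htS : H.t ∈ (S : Subgroup G) := (hTmem _ (Or.inl rfl)).1
  have horb : MulAction.orbit N H.t = T := by
    ext z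
    constructor
    · rintro ⟨⟨m, hm⟩, rfl⟩
      have hzS : m * H.t * m⁻¹ ∈ (S : Subgroup G) := (mem_normalizer_iff.1 hm H.t).1 htS
      have hzc : IsConj H.t (m * H.t * m⁻¹) := isConj_iff.2 ⟨m, rfl⟩
      show m * H.t * m⁻¹ ∈ T
      obtain ⟨c, k, hk, hck⟩ := hS1 _ hzS
      rw [← hck] at hzc ⊢
      rcases hk with rfl | hk
      · rcases z2_cases c with rfl | rfl
        · rw [show ((1, 1) : Multiplicative (ZMod 2) × K) = 1 from rfl, map_one] at hzc
          obtain ⟨d, hd⟩ := isConj_iff.1 hzc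
          exact absurd (conj_eq_one_iff.1 hd) (invol_ne_one H.ht)
        · exact Or.inl ht
      · obtain rfl := honly c (hzc.trans (hrot c k hk).symm)
        rcases hk with rfl | rfl | rfl
        exacts [Or.inr (Or.inl rfl), Or.inr (Or.inr (Or.inl rfl)), Or.inr (Or.inr (Or.inr rfl))]
    · intro hz
      obtain ⟨hzS, hzc⟩ := hTmem z hz
      obtain ⟨g, hg⟩ := isConj_iff.1 hzc
      obtain ⟨m, hm, hme⟩ := S.conj_eq_normalizer_conj_of_mem H.t g⁻¹ htS (by rwa [inv_inv, hg])
      refine ⟨⟨m⁻¹, inv_mem hm⟩, ?_⟩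
      show m⁻¹ * H.t * m⁻¹⁻¹ = z
      rw [inv_inv, ← hme, inv_inv, hg]
  have h4 : Nat.card (MulAction.orbit N H.t) = 4 := by
    have hinj := emb_injective H
    have hne' : ∀ c k, k ≠ 1 → H.emb (c, k) ≠ H.t := fun c k hk h => hk (by
      rw [← ht] at h; exact congrArg Prod.snd (hinj h))
    have hdist : ∀ k k', k ≠ k' → H.emb (b, k) ≠ H.emb (b, k') := fun k k' h h' =>
      h (congrArg Prod.snd (hinj h'))
    rw [horb, Nat.card_coe_set_eq]
    have hef : e * f ≠ 1 := fun h => hne (by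
      rw [eq_inv_of_mul_eq_one_left h, inv_eq_of_mul_eq_one_right (invol_mul_self hf)])
    rw [Set.ncard_insert_of_notMem, Set.ncard_insert_of_notMem, Set.ncard_pair]
    · exact hdist _ _ fun h => invol_ne_one he (mul_eq_right.1 h.symm)
    · simp only [Set.mem_insert_iff, Set.mem_singleton_iff, not_or]
      exact ⟨hdist _ _ hne, hdist _ _ fun h => invol_ne_one hf (left_eq_mul.1 h)⟩
    · simp only [Set.mem_insert_iff, Set.mem_singleton_iff, not_or]
      exact ⟨(hne' _ _ (invol_ne_one he)).symm, (hne' _ _ (invol_ne_one hf)).symm, (hne' _ _ hef).symm⟩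
  have hstab : 8 ∣ Nat.card (MulAction.stabilizer N H.t) := by
    have hle : (S : Subgroup G).subgroupOf N ≤ MulAction.stabilizer N H.t := by
      intro m hm
      show (m : G) * H.t * (m : G)⁻¹ = H.t
      rw [show (m : G) * H.t = H.t * m from congrArg Subtype.val (hab S ⟨(m : G), mem_subgroupOf.1 hm⟩ ⟨H.t, htS⟩),
        mul_inv_cancel_right]
    refine Dvd.dvd.trans ?_ (card_dvd_of_le hle)
    rw [Nat.card_congr (subgroupOfEquivOfLe le_normalizer).toEquiv]
    obtain ⟨k, hk⟩ := card_G H hK hab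
    rw [S.card_eq_multiplicity, show 8 = 2 ^ 3 from rfl]
    exact pow_dvd_pow 2 ((Nat.prime_two.pow_dvd_iff_le_factorization Nat.card_pos.ne').1 (Dvd.intro _ hk.symm))
  obtain ⟨k, hk⟩ := card_G H hK hab
  have h32 : 32 ∣ Nat.card N := by
    rw [← Nat.card_congr (MulAction.orbitProdStabilizerEquivGroup N H.t), Nat.card_prod, h4]
    exact mul_dvd_mul_left 4 hstab
  have := h32.trans N.card_subgroup_dvd_card
  omega

end Cfsg.Agent.JT.Loc
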