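import Mathlib
import Cfsg.Agent.Lib.JT.LocalBasic

/-!
# The centralizer of a pair of commuting involutions
-/

set_option autoImplicit false
set_option linter.unusedSectionVars false
set_option linter.style.haveILetI false

namespace Cfsg.Agent.JT.Loc

open Subgroup

universe u v

variable {G : Type u} [Group G]

/-- The four-group of a pair. -/
def vset (x y : G) : Set G := {1, x, y, x * y}

/-- The centralizer of `{x, y}` is `(A × ⟨x, y⟩)⟨s⟩`, with `A` cyclic of odd order `r` inverted by `s`. -/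
structure Pair (x y : G) (r : ℕ) (A : Subgroup G) (s : G) : Prop where
  x2 : orderOf x = 2
  y2 : orderOf y = 2
  xy : Commute x y
  ne : x ≠ y
  cyc : IsCyclic A
  card : Nat.card A = r
  odd : Odd r
  mem : ∀ g, g ∈ A ↔ Commute g x ∧ Commute g y ∧ Odd (orderOf g)
  s2 : orderOf s = 2
  sx : Commute s x
  sy : Commute s y
  s_notMem : s ∉ vset x y
  inv : ∀ a ∈ A, s * a * s⁻¹ = a⁻¹
  cent : ∀ g, Commute g x → Commute g y → ∃ a ∈ A, ∃ w ∈ vset x y, g = a * w ∨ g = a * w * s
  centA : ∀ a ∈ A, a ≠ 1 → ∀ g, Commute g a → Commute g x → ∃ b ∈ A, ∃ w ∈ vset x y, g = b * w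

theorem Pair.conj {x y s : G} {r : ℕ} {A : Subgroup G} (h : Pair x y r A s) (c : G) :
    Pair (c * x * c⁻¹) (c * y * c⁻¹) r (A.map (MulAut.conj c).toMonoidHom) (c * s * c⁻¹) := by
  have hord : ∀ z : G, orderOf (c * z * c⁻¹) = orderOf z := fun z => (MulAut.conj c).orderOf_eq z
  have hcm : ∀ z w : G, Commute (c * z * c⁻¹) (c * w * c⁻¹) ↔ Commute z w := fun z w =>
    ⟨fun hh => by simpa [mul_assoc] using hh.map (MulAut.conj c⁻¹),
      fun hh => hh.map (MulAut.conj c).toMonoidHom⟩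
  have hv : ∀ z, z ∈ vset x y → c * z * c⁻¹ ∈ vset (c * x * c⁻¹) (c * y * c⁻¹) := by
    rintro z (rfl | rfl | rfl | rfl)
    · exact Or.inl (by group)
    · exact Or.inr (Or.inl rfl)
    · exact Or.inr (Or.inr (Or.inl rfl))
    · refine Or.inr (Or.inr (Or.inr ?_))
      show c * (x * y) * c⁻¹ = c * x * c⁻¹ * (c * y * c⁻¹)
      group
  have hback : ∀ g : G, c * (c⁻¹ * g * c) * c⁻¹ = g := fun g => by group
  have hA : ∀ g : G, g ∈ A.map (MulAut.conj c).toMonoidHom ↔ c⁻¹ * g * c ∈ A := fun g => by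
    rw [mem_map_equiv, MulAut.conj_symm_apply]
  refine ⟨by rw [hord, h.x2], by rw [hord, h.y2], (hcm _ _).2 h.xy, fun e => h.ne ((MulAut.conj c).injective e),
    by
      haveI := h.cyc
      exact isCyclic_of_surjective (A.equivMapOfInjective (MulAut.conj c).toMonoidHom (MulAut.conj c).injective).toMonoidHom
        (A.equivMapOfInjective (MulAut.conj c).toMonoidHom (MulAut.conj c).injective).surjective,
    by rw [card_map_of_injective (f := (MulAut.conj c).toMonoidHom) (MulAut.conj c).injective, h.card], h.odd, fun g => ?_, by rw [hord, h.s2],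
    (hcm _ _).2 h.sx, (hcm _ _).2 h.sy, fun e => h.s_notMem ?_, fun a ha => ?_, fun g hgx hgy => ?_,
    fun a ha ha1 g hga hgx => ?_⟩
  · rw [hA, h.mem, ← hord (c⁻¹ * g * c), ← hcm (c⁻¹ * g * c) x, ← hcm (c⁻¹ * g * c) y, hback]
  · rcases e with e | e | e | e
    · exact Or.inl (conj_eq_one_iff.1 e)
    · exact Or.inr (Or.inl ((MulAut.conj c).injective e))
    · exact Or.inr (Or.inr (Or.inl ((MulAut.conj c).injective e)))
    · refine Or.inr (Or.inr (Or.inr ((MulAut.conj c).injective ?_)))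
      show c * s * c⁻¹ = c * (x * y) * c⁻¹
      rw [e]; group
  · obtain ⟨a, ha', rfl⟩ := ha
    show c * s * c⁻¹ * (c * a * c⁻¹) * (c * s * c⁻¹)⁻¹ = (c * a * c⁻¹)⁻¹
    rw [show c * s * c⁻¹ * (c * a * c⁻¹) * (c * s * c⁻¹)⁻¹ = c * (s * a * s⁻¹) * c⁻¹ by group, h.inv a ha']
    group
  · obtain ⟨a, ha, w, hw, he⟩ := h.cent (c⁻¹ * g * c) ((hcm _ _).1 (by rwa [hback]))
      ((hcm _ _).1 (by rwa [hback]))
    refine ⟨c * a * c⁻¹, ⟨a, ha, rfl⟩, c * w * c⁻¹, hv w hw, ?_⟩
    rcases he with he | he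
    · exact Or.inl (by rw [← hback g, he]; group)
    · exact Or.inr (by rw [← hback g, he]; group)
  · obtain ⟨a, ha', rfl⟩ := ha
    obtain ⟨b, hb, w, hw, he⟩ := h.centA a ha' (fun e => ha1 (by simp [e])) (c⁻¹ * g * c)
      ((hcm _ _).1 (by rwa [hback])) ((hcm _ _).1 (by rwa [hback]))
    exact ⟨c * b * c⁻¹, ⟨b, hb, rfl⟩, c * w * c⁻¹, hv w hw, by rw [← hback g, he]; group⟩

variable {K : Type v} [Group K] {r : ℕ} (H : Setup G K) (hK : KFacts K r)
include H hK

/-- The pairs containing `t`. -/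
theorem exists_pair_t {y : G} (hy : orderOf y = 2) (hyt : Commute H.t y) (hne : H.t ≠ y) :
    ∃ A s, Pair H.t y r A s := by
  have ht := emb_t H hK
  obtain ⟨⟨b₀, k⟩, rfl⟩ := emb_surj H hyt.symm
  have hk1 : k ≠ 1 := by
    rintro rfl
    rcases z2_cases b₀ with rfl | rfl
    · rw [show ((1, 1) : Multiplicative (ZMod 2) × K) = 1 from rfl, map_one, orderOf_one] at hy; omega
    · exact hne ht.symm
  have hk : orderOf k = 2 := orderOf_eq_prime (by
    have h2 := pow_orderOf_eq_one ((b₀, k) : Multiplicative (ZMod 2) × K)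
    rw [← orderOf_emb H, hy] at h2
    exact congrArg Prod.snd h2) hk1
  obtain ⟨-, A₀, hcyc, hcard, hAk, hsp, hcA, u, hu, huk, hune⟩ := hK.torus k hk
  obtain ⟨hinv, hcase⟩ := hsp u hu huk hune
  have hk2 := invol_mul_self hk
  have hu2 := invol_mul_self hu
  have hki : k⁻¹ = k := inv_eq_of_mul_eq_one_right hk2
  have hui : u⁻¹ = u := inv_eq_of_mul_eq_one_right hu2
  have hV : ∀ b, ∀ j ∈ ({1, k} : Set K), H.emb (b, j) ∈ vset H.t (H.emb (b₀, k)) := by
    rintro b j (rfl | hj)
    · rcases z2_cases b with rfl | rfl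
      · exact Or.inl (map_one _)
      · exact Or.inr (Or.inl ht)
    · rw [Set.mem_singleton_iff] at hj
      rw [hj]
      by_cases hb : b = b₀
      · exact Or.inr (Or.inr (Or.inl (by rw [hb])))
      · refine Or.inr (Or.inr (Or.inr ?_))
        rw [← ht, ← map_mul]
        congr 1
        refine Prod.ext ?_ (one_mul k).symm
        exact (show ∀ x y : Multiplicative (ZMod 2), x ≠ y → x = Multiplicative.ofAdd 1 * y by decide +revert) b b₀ hb
  have hsplit : ∀ b j, H.emb (b, j) = H.emb (1, j) * H.emb (b, 1) := fun b j => by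
    rw [← map_mul]; congr 1; ext <;> simp
  let A : Subgroup G := A₀.map H.embK
  have hinjK : Function.Injective H.embK := fun a b h => congrArg Prod.snd (emb_injective H h)
  have hA : ∀ g, g ∈ A ↔ ∃ a ∈ A₀, H.emb (1, a) = g := fun g => Iff.rfl
  have hmul : ∀ b j a i, a ∈ A₀ → i ∈ ({1, k} : Set K) → j = a * i →
      ∃ a ∈ A, ∃ w ∈ vset H.t (H.emb (b₀, k)), H.emb (b, j) = a * w := fun b j a i ha hi hj =>
    ⟨H.emb (1, a), ⟨a, ha, rfl⟩, H.emb (b, i), hV b i hi, by rw [← map_mul, hj]; congr 1; ext <;> simp⟩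
  have hr : ∀ a ∈ A₀, orderOf a ∣ r := fun a ha => hcard ▸ Subgroup.orderOf_dvd_natCard _ ha
  refine ⟨A, H.emb (1, u), H.ht, hy, hyt, hne, by
      haveI := hcyc
      exact isCyclic_of_surjective (A₀.equivMapOfInjective H.embK hinjK).toMonoidHom (A₀.equivMapOfInjective H.embK hinjK).surjective,
    by rw [card_map_of_injective hinjK, hcard], hK.r_odd, fun g => ?_, ?_, emb_commute H _, ?_, ?_, ?_, ?_, ?_⟩
  · rw [hA]
    constructor
    · rintro ⟨a, ha, rfl⟩
      refine ⟨emb_commute H _, ?_, ?_⟩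
      · exact (show Commute ((1, a) : Multiplicative (ZMod 2) × K) (b₀, k) from
          Prod.ext ((one_mul b₀).trans (mul_one b₀).symm) (hAk a ha).eq).map H.emb
      · rw [orderOf_emb H, Prod.orderOf_mk, orderOf_one, Nat.lcm_one_left]
        exact hK.r_odd.of_dvd_nat (hr a ha)
    · rintro ⟨hgt, hgy, hgo⟩
      obtain ⟨⟨b, j⟩, rfl⟩ := emb_surj H hgt
      rw [orderOf_emb H, Prod.orderOf_mk] at hgo
      have hb : b = 1 := eq_one_of_odd_sq (hgo.of_dvd_nat (Nat.dvd_lcm_left _ _)) (z2_sq b)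
      have hjo : Odd (orderOf j) := hgo.of_dvd_nat (Nat.dvd_lcm_right _ _)
      subst hb
      have hjk : Commute j k := congrArg Prod.snd (emb_injective H
        (show H.emb ((1, j) * (b₀, k)) = H.emb ((b₀, k) * (1, j)) by rw [map_mul, map_mul]; exact hgy.eq))
      refine ⟨j, ?_, rfl⟩
      have hju : ∀ v : K, v * v = 1 → (∀ a ∈ A₀, v * a * v⁻¹ = a⁻¹) → j * v ∈ A₀ → j ∈ A₀ := by
        intro v hv2 hvinv hjv
        have hvi : v⁻¹ = v := inv_eq_of_mul_eq_one_right hv2
        have h2 : j * j = 1 := by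
          calc j * j = (j * v) * (v * (j * v) * v⁻¹) := by
                rw [hvi]; simp only [mul_assoc, hv2, mul_one]; rw [← mul_assoc v v, hv2, one_mul]
            _ = 1 := by rw [hvinv _ hjv, mul_inv_cancel]
        rw [eq_one_of_odd_sq hjo h2]
        exact one_mem _
      rcases hcase j hjk with h | h | h | h
      · exact h
      · exfalso
        have hjr : j ^ (2 * r) = 1 := by
          have h1 : (j * k) ^ (2 * r) = 1 := by
            rw [mul_comm 2 r, pow_mul, orderOf_dvd_iff_pow_eq_one.1 (hr _ h), one_pow]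
          rwa [hjk.mul_pow, pow_mul k, pow_two, hk2, one_pow, mul_one] at h1
        have hjr' : j ^ r = 1 := orderOf_dvd_iff_pow_eq_one.1
          ((Nat.Coprime.dvd_of_dvd_mul_left (Nat.coprime_two_right.2 hjo)) (orderOf_dvd_of_pow_eq_one hjr))
        have h1 := orderOf_dvd_iff_pow_eq_one.1 (hr _ h)
        rw [hjk.mul_pow, hjr', one_mul] at h1
        obtain ⟨i, hi⟩ := hK.r_odd
        rw [hi, pow_succ, pow_mul, pow_two, hk2, one_pow, one_mul] at h1
        exact hk1 h1
      · exact hju u hu2 hinv h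
      · refine hju (u * k) (by rw [huk.symm.mul_mul_mul_comm u k, hu2, hk2, one_mul]) (fun a ha => ?_) h
        rw [show u * k * a * (u * k)⁻¹ = u * (k * a * k⁻¹) * u⁻¹ by group, (hAk a ha).symm.eq,
          mul_inv_cancel_right, hinv a ha]
  · rw [orderOf_emb H, Prod.orderOf_mk, orderOf_one, Nat.lcm_one_left, hu]
  · exact (show Commute ((1, u) : Multiplicative (ZMod 2) × K) (b₀, k) from
      Prod.ext ((one_mul b₀).trans (mul_one b₀).symm) huk.eq).map H.emb
  · rintro (e | e | e | e)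
    · exact invol_ne_one hu (congrArg Prod.snd (emb_injective H (e.trans (map_one _).symm)))
    · rw [← ht] at e
      exact invol_ne_one hu (congrArg Prod.snd (emb_injective H e))
    · exact hune (congrArg Prod.snd (emb_injective H e))
    · rw [← ht, ← map_mul] at e
      have := congrArg Prod.snd (emb_injective H e)
      exact hune (this.trans (one_mul k))
  · rintro _ ⟨a, ha, rfl⟩
    show H.emb (1, u) * H.emb (1, a) * (H.emb (1, u))⁻¹ = (H.emb (1, a))⁻¹
    rw [← map_inv, ← map_inv, ← map_mul, ← map_mul]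
    congr 1
    exact Prod.ext (by simp) (hinv a ha)
  · intro g hgt hgy
    obtain ⟨⟨b, j⟩, rfl⟩ := emb_surj H hgt
    have hjk : Commute j k := congrArg Prod.snd (emb_injective H
      (show H.emb ((b, j) * (b₀, k)) = H.emb ((b₀, k) * (b, j)) by rw [map_mul, map_mul]; exact hgy.eq))
    have hs : ∀ a i, a ∈ A₀ → i ∈ ({1, k} : Set K) → j = a * i * u →
        ∃ a ∈ A, ∃ w ∈ vset H.t (H.emb (b₀, k)), H.emb (b, j) = a * w * H.emb (1, u) := fun a i ha hi hj => by
      obtain ⟨a', ha', w, hw, he⟩ := hmul b (a * i) a i ha hi rfl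
      exact ⟨a', ha', w, hw, by rw [← he, ← map_mul, hj]; congr 1; ext <;> simp⟩
    rcases hcase j hjk with h | h | h | h
    · obtain ⟨a, ha, w, hw, he⟩ := hmul b j j 1 h (Or.inl rfl) (mul_one j).symm
      exact ⟨a, ha, w, hw, Or.inl he⟩
    · obtain ⟨a, ha, w, hw, he⟩ := hmul b j (j * k) k h (Or.inr rfl) (by rw [mul_assoc, hk2, mul_one])
      exact ⟨a, ha, w, hw, Or.inl he⟩
    · obtain ⟨a, ha, w, hw, he⟩ := hs (j * u) 1 h (Or.inl rfl) (by rw [mul_one, mul_assoc, hu2, mul_one])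
      exact ⟨a, ha, w, hw, Or.inr he⟩
    · obtain ⟨a, ha, w, hw, he⟩ := hs (j * (u * k)) k h (Or.inr rfl) (by
        simp only [mul_assoc]; rw [← mul_assoc k k, hk2, one_mul, hu2, mul_one])
      exact ⟨a, ha, w, hw, Or.inr he⟩
  · rintro _ ⟨a, ha, rfl⟩ ha1 g hga hgt
    obtain ⟨⟨b, j⟩, rfl⟩ := emb_surj H hgt
    have ha1' : a ≠ 1 := fun e => ha1 (by rw [e]; exact map_one H.embK)
    have hja : Commute j a := congrArg Prod.snd (emb_injective H
      (show H.emb ((b, j) * (1, a)) = H.emb ((1, a) * (b, j)) by rw [map_mul, map_mul]; exact hga.eq))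
    rcases hcA a ha ha1' j hja with h | h
    · exact hmul b j j 1 h (Or.inl rfl) (mul_one j).symm
    · exact hmul b j (j * k) k h (Or.inr rfl) (by rw [mul_assoc, hk2, mul_one])

variable [Finite G] [IsSimpleGroup G] (hab : ∀ P : Sylow 2 G, ∀ a b : P, a * b = b * a)
include hab

theorem exists_pair' {x y : G} (hx : orderOf x = 2) (hy : orderOf y = 2) (hc : Commute x y) (hne : x ≠ y) :
    ∃ A s, Pair x y r A s := by
  obtain ⟨c, hc'⟩ := isConj_iff.1 (fused H hK hab x hx)
  subst hc'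
  obtain ⟨A, s, hP⟩ := exists_pair_t H hK (y := c⁻¹ * y * c)
    (by rw [show c⁻¹ * y * c = MulAut.conj c⁻¹ y by simp, MulEquiv.orderOf_eq]; exact hy)
    (by
      have := hc.map (MulAut.conj c⁻¹)
      simpa [mul_assoc] using this)
    (fun e => hne (by rw [e]; group))
  have h := hP.conj c
  rw [show c * (c⁻¹ * y * c) * c⁻¹ = y by group] at h
  exact ⟨_, _, h⟩

end Cfsg.Agent.JT.Loc
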