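import Mathlib
import Cfsg.Agent.Lib.JT.LocalPair
import Cfsg.Agent.Lib.EqSubConj.Small
import Cfsg.Agent.Lib.Coprime.Generation

/-!
# The centralizer of an element of the odd torus

Its Sylow 2-subgroup is the four-group, all of whose involutions have the same abelian centralizer, so
by Gorenstein and Walter it is either `2`-closed modulo the torus or an extension of the torus by `A₅`.
-/

set_option autoImplicit false
set_option linter.unusedSectionVars false
set_option linter.style.haveILetI false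

namespace Cfsg.Agent.JT.Loc

open Subgroup

universe u

variable {G : Type u} [Group G] [Finite G]

/-- What is used of `a ∈ A` and the four-group `{1, x, y, xy}`. -/
structure CentHyp (x y a : G) (A : Subgroup G) : Prop where
  x2 : orderOf x = 2
  y2 : orderOf y = 2
  xy : Commute x y
  ne : x ≠ y
  aA : a ∈ A
  Aab : ∀ b ∈ A, ∀ c ∈ A, Commute b c
  Aodd : Odd (Nat.card A)
  Ax : ∀ b ∈ A, Commute b x
  Ay : ∀ b ∈ A, Commute b y
  cent : ∀ w ∈ vset x y, w ≠ 1 → ∀ g, Commute g a → Commute g w → ∃ b ∈ A, ∃ w' ∈ vset x y, g = b * w'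
  ab : ∀ P : Sylow 2 G, ∀ c d : P, c * d = d * c

theorem eq_one_of_sq_mem {B : Subgroup G} (hB : Odd (Nat.card B)) {o : G} (ho : o ∈ B) (h2 : o * o = 1) :
    o = 1 :=
  eq_one_of_odd_sq (hB.of_dvd_nat (Subgroup.orderOf_dvd_natCard _ ho)) h2

theorem alt4_invol : ∀ a b : alternatingGroup (Fin 4), a * a = 1 → b * b = 1 → a * b * (a * b) = 1 := by
  decide +kernel

namespace CentHyp

variable {x y a : G} {A : Subgroup G} (h : CentHyp x y a A)
include h

theorem vset_sq {w : G} (hw : w ∈ vset x y) : w * w = 1 := by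
  have hx := invol_mul_self h.x2
  have hy := invol_mul_self h.y2
  rcases hw with rfl | rfl | rfl | rfl
  exacts [one_mul 1, hx, hy, by rw [h.xy.symm.mul_mul_mul_comm x y, hx, hy, one_mul]]

theorem commute_A {b w : G} (hb : b ∈ A) (hw : w ∈ vset x y) : Commute b w := by
  rcases hw with rfl | rfl | rfl | rfl
  exacts [Commute.one_right b, h.Ax b hb, h.Ay b hb, (h.Ax b hb).mul_right (h.Ay b hb)]

theorem xy_ne_one : x * y ≠ 1 := fun e => h.ne (by
  rw [eq_inv_of_mul_eq_one_left e, inv_eq_of_mul_eq_one_right (invol_mul_self h.y2)])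

theorem cases_structure :
    (∀ g, Commute g a → ∀ w ∈ vset x y, g * w * g⁻¹ ∈ vset x y) ∨
      ((∃ g, Commute g a ∧ g * x * g⁻¹ = y ∧ g * y * g⁻¹ = x * y) ∧
        ∃ f : Subgroup.centralizer ({a} : Set G) →* alternatingGroup (Fin 5),
          Function.Surjective f ∧ f.ker = A.subgroupOf (Subgroup.centralizer ({a} : Set G))) := by
  classical
  haveI : Fact (Nat.Prime 2) := ⟨Nat.prime_two⟩
  set M := Subgroup.centralizer ({a} : Set G) with hM
  have hx := invol_mul_self h.x2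
  have hy := invol_mul_self h.y2
  let Vg : Subgroup G :=
    { carrier := vset x y
      one_mem' := Or.inl rfl
      mul_mem' := by
        intro u v hu hv
        have h3 : y * x = x * y := h.xy.eq.symm
        have h4 : x * (x * y) = y := by rw [← mul_assoc, hx, one_mul]
        have h5 : y * (x * y) = x := by rw [← mul_assoc, h3, mul_assoc, hy, mul_one]
        have h6 : x * y * x = y := by rw [mul_assoc, h3, h4]
        have h7 : x * y * y = x := by rw [mul_assoc, hy, mul_one]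
        have h8 : x * y * (x * y) = 1 := by rw [mul_assoc, h5, hx]
        show u * v = 1 ∨ u * v = x ∨ u * v = y ∨ u * v = x * y
        rcases hu with e | e | e | e <;> rcases hv with e' | e' | e' | e' <;> rw [e, e'] <;>
          simp only [one_mul, mul_one, hx, hy, h3, h4, h5, h6, h7, h8, true_or, or_true]
      inv_mem' := fun {u} hu => by
        have hu2 : u * u = 1 := h.vset_sq hu
        show u⁻¹ ∈ vset x y
        rw [inv_eq_of_mul_eq_one_right hu2]
        exact hu }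
  have hVA : ∀ w ∈ Vg, ∀ b ∈ A, Commute b w := fun w hw b hb => h.commute_A hb hw
  have hVM : Vg ≤ M := fun w hw => mem_centralizer_singleton_iff.2 (hVA w hw a h.aA).eq.symm
  have hAM : A ≤ M := fun b hb => mem_centralizer_singleton_iff.2 (h.Aab b hb a h.aA).eq
  have hxV : x ∈ Vg := Or.inr (Or.inl rfl)
  have hyV : y ∈ Vg := Or.inr (Or.inr (Or.inl rfl))
  have hx1 : x ≠ 1 := invol_ne_one h.x2
  have hy1 : y ≠ 1 := invol_ne_one h.y2
  have hV4 : Nat.card Vg = 4 := by
    rw [← SetLike.coe_sort_coe, Nat.card_coe_set_eq]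
    show ({1, x, y, x * y} : Set G).ncard = 4
    rw [Set.ncard_insert_of_notMem, Set.ncard_insert_of_notMem, Set.ncard_pair]
    · exact fun e => hx1 (mul_eq_right.1 e.symm)
    · simp only [Set.mem_insert_iff, Set.mem_singleton_iff, not_or]
      exact ⟨h.ne, fun e => hy1 (left_eq_mul.1 e)⟩
    · simp only [Set.mem_insert_iff, Set.mem_singleton_iff, not_or]
      exact ⟨hx1.symm, hy1.symm, h.xy_ne_one.symm⟩
  -- an odd element centralizing an involution of `V` lies in `A`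
  have hodd : ∀ g, Commute g a → Odd (orderOf g) → ∀ w ∈ Vg, w ≠ 1 → Commute g w → g ∈ A := by
    intro g hga hgo w hw hw1 hgw
    obtain ⟨b, hb, w', hw', rfl⟩ := h.cent w hw hw1 g hga hgw
    suffices hw'1 : w' = 1 by rw [hw'1, mul_one]; exact hb
    have hw'2 := h.vset_sq hw'
    have hp : (b * w') ^ Nat.card A = w' := by
      obtain ⟨i, hi⟩ := h.Aodd
      rw [(hVA w' hw' b hb).mul_pow, orderOf_dvd_iff_pow_eq_one.1 (Subgroup.orderOf_dvd_natCard _ hb), one_mul,
        hi, pow_succ, pow_mul, pow_two, hw'2, one_pow, one_mul]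
    refine eq_one_of_odd_sq (hgo.of_dvd_nat ?_) hw'2
    have h9 : orderOf ((b * w') ^ Nat.card A) ∣ orderOf (b * w') := orderOf_pow_dvd _
    rwa [hp] at h9
  -- the Sylow 2-subgroup
  have htwo : ∀ Q : Subgroup G, IsPGroup 2 Q → Q ≤ M → Vg ≤ Q → Q ≤ Vg := by
    intro Q hQ hQM hVQ g hg
    obtain ⟨P, hP⟩ := hQ.exists_le_sylow
    have hgx : Commute g x := congrArg Subtype.val (h.ab P ⟨g, hP hg⟩ ⟨x, hP (hVQ hxV)⟩)
    obtain ⟨b, hb, w, hw, rfl⟩ := h.cent x hxV hx1 g (mem_centralizer_singleton_iff.1 (hQM hg)) hgx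
    have hbQ : b ∈ Q := by
      have := mul_mem hg (inv_mem (hVQ hw))
      rwa [mul_inv_cancel_right] at this
    obtain ⟨k, hk⟩ := hQ ⟨b, hbQ⟩
    have hb1 : b = 1 := by
      have h1 : orderOf b ∣ Nat.gcd (2 ^ k) (Nat.card A) :=
        Nat.dvd_gcd (orderOf_dvd_of_pow_eq_one (congrArg Subtype.val hk)) (Subgroup.orderOf_dvd_natCard _ hb)
      rw [Nat.Coprime.pow_left k (Nat.coprime_two_left.2 h.Aodd)] at h1
      exact orderOf_eq_one_iff.1 (Nat.dvd_one.1 h1)
    rw [hb1, one_mul]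
    exact hw
  have hV2 : IsPGroup 2 Vg := IsPGroup.of_card (n := 2) hV4
  obtain ⟨P, hP⟩ := (hV2.comap_subtype (K := M)).exists_le_sylow
  have hPV : (P : Subgroup M) = Vg.subgroupOf M := by
    refine le_antisymm (fun g hg => mem_subgroupOf.2 ?_) hP
    exact htwo _ (P.2.map M.subtype) (fun u hu => by obtain ⟨u', -, rfl⟩ := hu; exact u'.2)
      (fun u hu => ⟨⟨u, hVM hu⟩, hP (mem_subgroupOf.2 hu), rfl⟩) ⟨g, hg, rfl⟩
  have hP4 : Nat.card (P : Subgroup M) = 4 := by
    rw [hPV, Nat.card_congr (subgroupOfEquivOfLe hVM).toEquiv, hV4]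
  -- the odd core
  set O := Cfsg.oddCore M with hO
  haveI : O.Normal := ZStar.Main.oddCore_normal
  have hOodd : Odd (Nat.card O) := InvChar.Core.odd_card_oddCore
  have hOA : ∀ o ∈ O, (o : G) ∈ A := by
    set O' := O.map M.subtype with hO'
    haveI : IsMulCommutative Vg := ⟨⟨fun u v => Subtype.ext (by
      rw [Subgroup.coe_mul, Subgroup.coe_mul]
      have h1 : (u : G) * v * ((u : G) * v) = 1 := h.vset_sq (mul_mem u.2 v.2)
      have h2 := h.vset_sq u.2
      have h3 := h.vset_sq v.2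
      calc (u : G) * v = ((u : G) * v)⁻¹ := (inv_eq_of_mul_eq_one_right h1).symm
        _ = (v : G) * u := by
          rw [mul_inv_rev, inv_eq_of_mul_eq_one_right h2, inv_eq_of_mul_eq_one_right h3])⟩⟩
    have hncyc : ¬ IsCyclic Vg := by
      intro hc
      obtain ⟨g, hg⟩ := hc.exists_generator
      have ho : orderOf g = 4 := by rw [orderOf_eq_card_of_forall_mem_zpowers hg, hV4]
      have h2 : orderOf g ∣ 2 := orderOf_dvd_of_pow_eq_one (Subtype.ext (by
        rw [pow_two]; exact h.vset_sq g.2))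
      rw [ho] at h2
      norm_num at h2
    have hnorm : Vg ≤ normalizer (O' : Set G) := by
      intro w hw
      rw [mem_normalizer_iff]
      have key : ∀ w ∈ Vg, ∀ u ∈ O', w * u * w⁻¹ ∈ O' := by
        rintro w hw _ ⟨u, hu, rfl⟩
        exact ⟨⟨w, hVM hw⟩ * u * ⟨w, hVM hw⟩⁻¹, Subgroup.Normal.conj_mem inferInstance u hu _, rfl⟩
      refine fun u => ⟨key w hw u, fun hu => ?_⟩
      have := key _ (inv_mem hw) _ hu
      rwa [show w⁻¹ * (w * u * w⁻¹) * w⁻¹⁻¹ = u by group] at this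
    have hcop : (Nat.card Vg).Coprime (Nat.card O') := by
      rw [hV4, card_map_of_injective M.subtype_injective]
      exact Nat.Coprime.pow_left 2 (Nat.coprime_two_left.2 hOodd)
    have hgen := Coprime.fixedGen_eq hncyc hnorm hcop
    have hle : O' ≤ A := by
      rw [← hgen]
      refine iSup₂_le fun w hw g hg => ?_
      obtain ⟨⟨u, hu, rfl⟩, hgw⟩ := mem_inf.1 hg
      exact hodd _ (mem_centralizer_singleton_iff.1 u.2)
        (by
          show Odd (orderOf ((u : M) : G))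
          rw [Subgroup.orderOf_coe]
          exact hOodd.of_dvd_nat (Subgroup.orderOf_dvd_natCard _ hu))
        w hw.1 hw.2 (mem_centralizer_singleton_iff.1 hgw)
    exact fun o ho => hle ⟨o, ho, rfl⟩
  set π := QuotientGroup.mk' O with hπ
  have hπ1 : ∀ u : M, π u = 1 ↔ u ∈ O := fun u => QuotientGroup.eq_one_iff u
  -- involutions congruent modulo the core
  have hinvol : ∀ (u : G) (w : G), u * u = 1 → w ∈ Vg → (∃ o ∈ A, u = o * w) → u = w := by
    rintro u w hu hw ⟨o, ho, rfl⟩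
    rw [(hVA w hw o ho).symm.mul_mul_mul_comm o w, h.vset_sq hw, mul_one] at hu
    rw [eq_one_of_sq_mem h.Aodd ho hu, one_mul]
  have hmodO : ∀ g w : M, (w : G) ∈ Vg → π g = π w → ∃ o ∈ A, (g : G) = o * w := by
    intro g w hw e
    have h1 : g * w⁻¹ ∈ O := (hπ1 _).1 (by rw [map_mul, map_inv, e, mul_inv_cancel])
    exact ⟨_, hOA _ h1, by simp⟩
  set Pq := Sylow.mapSurjective (QuotientGroup.mk'_surjective O) P with hPq
  have hPqV : (Pq : Subgroup (M ⧸ O)) = (Vg.subgroupOf M).map π := by rw [← hPV]; rfl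
  have hinjV : ∀ w : M, (w : G) ∈ Vg → π w = 1 → w = 1 := fun w hw e =>
    Subtype.ext (eq_one_of_sq_mem h.Aodd (hOA w ((hπ1 w).1 e)) (h.vset_sq hw))
  have hPq4 : Nat.card (Pq : Subgroup (M ⧸ O)) = 4 := by
    rw [hPqV]
    have hinj : Function.Injective (π.comp (Vg.subgroupOf M).subtype) := by
      rw [injective_iff_map_eq_one]
      exact fun w e => Subtype.ext (hinjV w (mem_subgroupOf.1 w.2) e)
    have := Nat.card_congr (Equiv.ofInjective _ hinj)
    rw [Nat.card_congr (subgroupOfEquivOfLe hVM).toEquiv, hV4] at this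
    rw [this]
    show Nat.card ((Vg.subgroupOf M).map π) = Nat.card (π.comp (Vg.subgroupOf M).subtype).range
    rw [MonoidHom.range_comp, Subgroup.range_subtype]
  have hOq : Cfsg.oddCore (M ⧸ O) = ⊥ := by
    set N := Cfsg.oddCore (M ⧸ O) with hN
    haveI : N.Normal := ZStar.Main.oddCore_normal
    have hNodd : Odd (Nat.card N) := InvChar.Core.odd_card_oddCore
    have hle : N.comap π ≤ O := InvChar.Core.le_oddCore inferInstance (by
      rw [hπ, Cores.card_comap_mk']; exact hOodd.mul hNodd)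
    rw [eq_bot_iff]
    intro q hq
    obtain ⟨g, rfl⟩ := QuotientGroup.mk'_surjective O q
    exact Subgroup.mem_bot.2 ((hπ1 g).2 (hle hq))
  have hsq4 : ∀ q : M ⧸ O, q ∈ (Pq : Subgroup (M ⧸ O)) → q * q = 1 := by
    intro q hq
    rw [hPqV] at hq
    obtain ⟨w, hw, rfl⟩ := hq
    rw [← map_mul, show w * w = 1 from Subtype.ext (h.vset_sq (mem_subgroupOf.1 hw)), map_one]
  haveI : Nontrivial (Pq : Subgroup (M ⧸ O)) := Finite.one_lt_card_iff_nontrivial.1 (by omega)
  haveI : IsKleinFour (Pq : Subgroup (M ⧸ O)) := ⟨hPq4, by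
    refine ((Nat.dvd_prime Nat.prime_two).1 (Monoid.exponent_dvd_of_forall_pow_eq_one fun g =>
      Subtype.ext (by rw [pow_two]; exact hsq4 _ g.2))).resolve_left fun e1 => ?_
    exact not_subsingleton (Pq : Subgroup (M ⧸ O)) (Monoid.exp_eq_one_iff.1 e1)⟩
  obtain ⟨eS⟩ : Nonempty ((Pq : Subgroup (M ⧸ O)) ≃* DihedralGroup 2) := IsKleinFour.nonempty_mulEquiv
  by_cases hsol : Group.IsSolvable (M ⧸ O)
  · -- all involutions of the quotient lie in the image of `V`
    left
    have hPn : ∀ q : M ⧸ O, q * q = 1 → q ∈ (Pq : Subgroup (M ⧸ O)) := by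
      by_cases htop : (Pq : Subgroup (M ⧸ O)) = ⊤
      · intro q _; rw [htop]; exact mem_top q
      haveI := hsol
      rcases GW.Cons.TwoClasses.solvable_case hOq Pq le_rfl eS htop with ⟨⟨e⟩⟩ | ⟨⟨e⟩⟩
      · have hmul : ∀ q₁ q₂ : M ⧸ O, q₁ * q₁ = 1 → q₂ * q₂ = 1 → q₁ * q₂ * (q₁ * q₂) = 1 := by
          intro q₁ q₂ h1 h2
          apply e.injective
          rw [map_mul, map_mul, map_one]
          exact alt4_invol _ _ (by rw [← map_mul, h1, map_one]) (by rw [← map_mul, h2, map_one])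
        let I : Subgroup (M ⧸ O) :=
          { carrier := {q | q * q = 1}
            one_mem' := one_mul 1
            mul_mem' := fun {q₁ q₂} h1 h2 => hmul q₁ q₂ h1 h2
            inv_mem' := fun {q} h1 => by
              show q⁻¹ * q⁻¹ = 1
              rw [← mul_inv_rev, show q * q = 1 from h1, inv_one] }
        have hI : IsPGroup 2 I := fun q => ⟨1, Subtype.ext (by
          show (q : M ⧸ O) ^ 2 ^ 1 = 1
          rw [pow_one, pow_two]; exact q.2)⟩
        have := Pq.is_maximal' hI (fun q hq => hsq4 q hq)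
        intro q hq
        rw [← this]
        exact hq
      · exfalso
        have h8 : 8 ∣ Nat.card (M ⧸ O) := by
          rw [Nat.card_congr e.toEquiv, Nat.card_perm, Nat.card_fin]
          exact ⟨3, rfl⟩
        exact EqSubConj.not_eight Pq hPq4 h8
    intro g hga w hw
    set g' : M := ⟨g, mem_centralizer_singleton_iff.2 hga.eq⟩ with hg'
    set w' : M := ⟨w, hVM hw⟩ with hw'
    have hq := hPn (π (g' * w' * g'⁻¹)) (by
      rw [← map_mul, show g' * w' * g'⁻¹ * (g' * w' * g'⁻¹) = g' * (w' * w') * g'⁻¹ by group,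
        show w' * w' = 1 from Subtype.ext (h.vset_sq hw)]
      simp)
    rw [hPqV] at hq
    obtain ⟨v, hv, hve⟩ := hq
    obtain ⟨o, ho, e⟩ := hmodO _ v (mem_subgroupOf.1 hv) hve.symm
    have := hinvol (g * w * g⁻¹) v (by
      rw [show g * w * g⁻¹ * (g * w * g⁻¹) = g * (w * w) * g⁻¹ by group, h.vset_sq hw]; group)
      (mem_subgroupOf.1 hv) ⟨o, ho, e⟩
    rw [this]
    exact mem_subgroupOf.1 hv
  right
  obtain ⟨L, hLn, hCL, -, hLP, ⟨F, hF, hfin, hodd', h3, ⟨e⟩⟩ | ⟨⟨e⟩⟩⟩ :=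
    GW.Cons.full_gw GW.perfectGW hOq Pq le_rfl eS hsol
  swap
  · exfalso
    refine EqSubConj.not_eight Pq hPq4 ((Dvd.intro 315 ?_).trans L.card_subgroup_dvd_card)
    rw [Nat.card_congr e.toEquiv, nat_card_alternatingGroup, Nat.card_fin]
    norm_num [Nat.factorial]
  haveI := hLn
  -- the image of `V` is in `L`
  have hPL : (Pq : Subgroup (M ⧸ O)) ≤ L := by
    have h4L : 4 ∣ Nat.card L := by
      obtain ⟨Q⟩ : Nonempty (Sylow 2 L) := inferInstance
      obtain ⟨k, hk, ⟨eQ⟩⟩ := hLP Q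
      have h1 : Nat.card (Q : Subgroup L) = 2 * k := by rw [Nat.card_congr eQ.toEquiv, DihedralGroup.nat_card]
      obtain ⟨j, hj⟩ := Q.isPGroup'.exists_card_eq
      have hj2 : 2 ≤ j := by
        by_contra hlt
        have : 2 ^ j ≤ 2 ^ 1 := Nat.pow_le_pow_right (by norm_num) (by omega)
        omega
      exact ((pow_dvd_pow 2 hj2).trans hj.symm.dvd).trans (card_subgroup_dvd_card _)
    have hindex : Odd L.index := by
      refine Nat.odd_iff.2 (Nat.two_dvd_ne_zero.1 fun h' => EqSubConj.not_eight Pq hPq4 ?_)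
      rw [← L.card_mul_index]
      exact Nat.mul_dvd_mul h4L h'
    intro q hq
    rw [← QuotientGroup.eq_one_iff]
    have hd : orderOf (q : (M ⧸ O) ⧸ L) ∣ Nat.gcd 2 L.index := by
      refine Nat.dvd_gcd (orderOf_dvd_of_pow_eq_one ?_) ?_
      · rw [← QuotientGroup.mk_pow, pow_two, hsq4 q hq, QuotientGroup.mk_one]
      · rw [Subgroup.index_eq_card]; exact orderOf_dvd_natCard _
    rw [Nat.coprime_two_left.2 hindex, Nat.dvd_one, orderOf_eq_one_iff] at hd
    exact hd
  have hπV : ∀ (w : G) (hw : w ∈ Vg), π ⟨w, hVM hw⟩ ∈ L := fun w hw => hPL (by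
    rw [hPqV]; exact ⟨_, mem_subgroupOf.2 hw, rfl⟩)
  -- centralizers of the involutions of `V` in the quotient
  have hcq : ∀ (w : G) (hw : w ∈ Vg), w ≠ 1 → ∀ q : M ⧸ O, Commute q (π ⟨w, hVM hw⟩) →
      ∃ b, ∃ hb : b ∈ A, ∃ v, ∃ hv : v ∈ Vg, q = π (⟨b, hAM hb⟩ * ⟨v, hVM hv⟩) := by
    intro w hw hw1 q hq
    obtain ⟨g, rfl⟩ := QuotientGroup.mk'_surjective O q
    have he : π (g * ⟨w, hVM hw⟩ * g⁻¹) = π ⟨w, hVM hw⟩ := by
      rw [map_mul, map_mul, map_inv, hq.eq, mul_inv_cancel_right]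
    obtain ⟨o, ho, e⟩ := hmodO _ ⟨w, hVM hw⟩ hw he
    have hgw := hinvol ((g : G) * w * (g : G)⁻¹) w (by
      rw [show (g : G) * w * (g : G)⁻¹ * ((g : G) * w * (g : G)⁻¹) = (g : G) * (w * w) * (g : G)⁻¹ by group,
        h.vset_sq hw]; group) hw ⟨o, ho, e⟩
    obtain ⟨b, hb, v, hv, e⟩ := h.cent w hw hw1 g (mem_centralizer_singleton_iff.1 g.2)
      (mul_inv_eq_iff_eq_mul.1 hgw)
    exact ⟨b, hb, v, hv, congrArg π (Subtype.ext e)⟩
  -- transport to `PSL₂`
  have hodd2 := hodd'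
  have hcardPG : ∀ R : Sylow 2 (Matrix.ProjectiveSpecialLinearGroup (Fin 2) F),
      ∀ c ∈ (R : Subgroup (Matrix.ProjectiveSpecialLinearGroup (Fin 2) F)),
      ∀ d ∈ (R : Subgroup (Matrix.ProjectiveSpecialLinearGroup (Fin 2) F)), c * d = d * c := by
    intro R c hc d hd
    obtain ⟨R', hR'⟩ := ((R.2.map e.symm.toMonoidHom).map L.subtype).exists_le_sylow
    obtain ⟨c', hc'⟩ := MulAction.exists_smul_eq (M ⧸ O) R' Pq
    have hcm : ∀ u, u ∈ (R : Subgroup (Matrix.ProjectiveSpecialLinearGroup (Fin 2) F)) → c' * ((e.symm u : L) : M ⧸ O) * c'⁻¹ ∈ (Pq : Subgroup (M ⧸ O)) :=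
      fun u hu => hc' ▸ ⟨_, hR' ⟨e.symm u, ⟨u, hu, rfl⟩, rfl⟩, rfl⟩
    have hcomm : ∀ p ∈ (Pq : Subgroup (M ⧸ O)), ∀ p' ∈ (Pq : Subgroup (M ⧸ O)), p * p' = p' * p :=
      fun p hp p' hp' => congrArg Subtype.val
        ((IsKleinFour.isMulCommutative (G := (Pq : Subgroup (M ⧸ O)))).is_comm.comm ⟨p, hp⟩ ⟨p', hp'⟩)
    have h1 := hcomm _ (hcm c hc) _ (hcm d hd)
    apply e.symm.injective
    apply Subtype.ext
    rw [map_mul, map_mul, Subgroup.coe_mul, Subgroup.coe_mul]
    refine (MulAut.conj c').injective ?_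
    rw [map_mul, map_mul]
    exact h1
  obtain ⟨r', hK, hq⟩ := exists_kfacts hodd2 h3 hcardPG
  set k := e ⟨_, hπV x hxV⟩ with hk
  set j := e ⟨_, hπV y hyV⟩ with hj
  have hinj : ∀ (u : G) (hu : u ∈ Vg) (v : G) (hv : v ∈ Vg),
      e ⟨_, hπV u hu⟩ = e ⟨_, hπV v hv⟩ → u = v := by
    intro u hu v hv e1
    obtain ⟨o, ho, e2⟩ := hmodO _ ⟨v, hVM hv⟩ hv (congrArg Subtype.val (e.injective e1))
    exact hinvol u v (h.vset_sq hu) hv ⟨o, ho, e2⟩
  have hord : ∀ (u : G) (hu : u ∈ Vg), u ≠ 1 → orderOf (e ⟨_, hπV u hu⟩) = 2 := by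
    intro u hu hu1
    refine orderOf_eq_prime ?_ fun e1 => hu1 (hinj u hu 1 (one_mem Vg) (e1.trans ?_))
    · rw [pow_two, ← map_mul, show (⟨_, hπV u hu⟩ : L) * ⟨_, hπV u hu⟩ = 1 from Subtype.ext (by
        show π _ * π _ = 1
        rw [← map_mul, show (⟨u, hVM hu⟩ : M) * ⟨u, hVM hu⟩ = 1 from Subtype.ext (h.vset_sq hu), map_one]),
        map_one]
    · rw [show (⟨_, hπV 1 (one_mem Vg)⟩ : L) = 1 from Subtype.ext (map_one π), map_one]
  have hxyL : Commute (⟨_, hπV x hxV⟩ : L) ⟨_, hπV y hyV⟩ := Subtype.ext (by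
    show π _ * π _ = π _ * π _
    rw [← map_mul, ← map_mul]
    exact congrArg π (Subtype.ext h.xy.eq))
  have hkj : Commute k j := hxyL.map e.toMonoidHom
  have hkne : k ≠ j := fun e1 => h.ne (hinj x hxV y hyV e1)
  have hk2 := hord x hxV hx1
  have hj2 := hord y hyV hy1
  obtain ⟨-, A', -, hA'card, hA'k, hsp, -, -⟩ := hK.torus k hk2
  obtain ⟨hinv, -⟩ := hsp j hj2 hkj.symm hkne.symm
  have hcomm : ∀ g ∈ A', Commute g j := by
    intro g hg
    have hq' : Commute ((e.symm g : L) : M ⧸ O) (π ⟨x, hVM hxV⟩) := by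
      have h1 : Commute (e.symm g) (⟨_, hπV x hxV⟩ : L) := by
        have := (hA'k g hg).map e.symm.toMonoidHom
        simpa [hk] using this
      exact congrArg Subtype.val h1.eq
    obtain ⟨b, hb, v, hv, e1⟩ := hcq x hxV hx1 _ hq'
    have h2 : Commute ((e.symm g : L) : M ⧸ O) (π ⟨y, hVM hyV⟩) := by
      rw [e1]
      refine Commute.map (f := π) ?_
      refine Subtype.ext ?_
      show b * v * y = y * (b * v)
      have hvy : Commute v y := by
        rcases hv with e2 | e2 | e2 | e2 <;> rw [e2]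
        exacts [Commute.one_left y, h.xy, h.xy.mul_left (Commute.refl y)]
      exact ((hVA y hyV b hb).mul_left hvy).eq
    have h3 : Commute (e.symm g) (⟨_, hπV y hyV⟩ : L) := Subtype.ext h2.eq
    have := h3.map e.toMonoidHom
    simpa [hj] using this
  have hr1 : r' = 1 := by
    rw [← hA'card]
    have : A' = ⊥ := (eq_bot_iff_forall _).2 fun g hg => by
      refine eq_one_of_odd_sq (hK.r_odd.of_dvd_nat (hA'card ▸ Subgroup.orderOf_dvd_natCard _ hg)) ?_
      have h1 := hinv g hg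
      rw [← (hcomm g hg).eq, mul_inv_cancel_right] at h1
      nth_rw 1 [h1]
      exact inv_mul_cancel g
    rw [this, card_bot]
  have hq5 : Fintype.card F = 5 := by omega
  obtain ⟨e5⟩ := Cfsg.Agent.S0253.result hq5
  have hLcard : Nat.card L = 60 := by
    rw [Nat.card_congr (e.trans e5).toEquiv, nat_card_alternatingGroup, Nat.card_fin]
    rfl
  haveI : Fact (Nat.Prime 5) := ⟨Nat.prime_five⟩
  have hAut := S0813.result (F := F) 5 1 le_rfl (by rw [hq5, pow_one]) 2 le_rfl (by norm_num)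
  rw [Classical.Linear.natCard_PGL, Classical.GL2.natCard_SL_two, hq5] at hAut
  have hd : Nat.card (M ⧸ O) ∣ 120 := by
    have h1 := card_dvd_of_injective _ (GW.Cons.conjNormal_injective hCL)
    rwa [Nat.card_congr (MulAut.congr e).toEquiv, hAut] at h1
  have hG : Nat.card (M ⧸ O) = 60 := by
    obtain ⟨i, hi⟩ := hLcard ▸ L.card_subgroup_dvd_card
    rw [hi] at hd
    have hi2 : i ∣ 2 := Nat.dvd_of_mul_dvd_mul_left (by norm_num : 0 < 60) hd
    rcases (Nat.dvd_prime Nat.prime_two).1 hi2 with rfl | rfl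
    · omega
    · exact absurd ⟨15, by omega⟩ (EqSubConj.not_eight Pq hPq4)
  have htop : L = ⊤ := L.eq_top_of_card_eq (hLcard.trans hG.symm)
  have hmem : ∀ q : M ⧸ O, q ∈ L := fun q => htop ▸ mem_top q
  -- `A` is the core
  have hAO : ∀ b (hb : b ∈ A), (⟨b, hAM hb⟩ : M) ∈ O := by
    intro b hb
    rw [← hπ1]
    set g := e ⟨_, hmem (π ⟨b, hAM hb⟩)⟩ with hg
    have hgc : ∀ (u : G) (hu : u ∈ Vg), Commute g (e ⟨_, hπV u hu⟩) := fun u hu => by
      have h1 : Commute (⟨_, hmem (π ⟨b, hAM hb⟩)⟩ : L) ⟨_, hπV u hu⟩ := Subtype.ext (by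
        show π _ * π _ = π _ * π _
        rw [← map_mul, ← map_mul]
        exact congrArg π (Subtype.ext (hVA u hu b hb).eq))
      exact h1.map e.toMonoidHom
    have hgo : Odd (orderOf g) := by
      rw [hg, MulEquiv.orderOf_eq, ← Subgroup.orderOf_coe]
      refine h.Aodd.of_dvd_nat ((orderOf_map_dvd π _).trans ?_)
      rw [← Subgroup.orderOf_coe]
      exact Subgroup.orderOf_dvd_natCard _ hb
    have hg2 : g * g = 1 := by
      rcases hK.cent_four hk2 hj2 hkj hkne (hgc x hxV) (hgc y hyV) with e1 | e1 | e1 | e1 <;> rw [e1]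
      · exact one_mul 1
      · exact invol_mul_self hk2
      · exact invol_mul_self hj2
      · rw [hkj.symm.mul_mul_mul_comm, invol_mul_self hk2, invol_mul_self hj2, one_mul]
    have h1 : (⟨_, hmem (π ⟨b, hAM hb⟩)⟩ : L) = 1 :=
      e.injective ((eq_one_of_odd_sq hgo hg2).trans (map_one e).symm)
    exact congrArg Subtype.val h1
  refine ⟨?_, ?_⟩
  · obtain ⟨w, -, hw1, hw2⟩ := hK.rot k j hk2 hj2 hkj hkne
    obtain ⟨g, hg⟩ := QuotientGroup.mk'_surjective O ((e.symm w : L) : M ⧸ O)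
    have key : ∀ (u : G) (hu : u ∈ Vg) (v : G) (hv : v ∈ Vg),
        w * e ⟨_, hπV u hu⟩ * w⁻¹ = e ⟨_, hπV v hv⟩ → (g : G) * u * (g : G)⁻¹ = v := by
      intro u hu v hv e1
      have e2 := congrArg e.symm e1
      rw [map_mul, map_mul, map_inv, e.symm_apply_apply, e.symm_apply_apply] at e2
      have e3 : π (g * ⟨u, hVM hu⟩ * g⁻¹) = π ⟨v, hVM hv⟩ := by
        rw [map_mul, map_mul, map_inv, hπ, hg]
        exact congrArg Subtype.val e2
      obtain ⟨o, ho, e4⟩ := hmodO _ ⟨v, hVM hv⟩ hv e3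
      exact hinvol _ v (by
        rw [show (g : G) * u * (g : G)⁻¹ * ((g : G) * u * (g : G)⁻¹) = (g : G) * (u * u) * (g : G)⁻¹ by group,
          h.vset_sq hu]; group) hv ⟨o, ho, e4⟩
    refine ⟨g, mem_centralizer_singleton_iff.1 g.2, key x hxV y hyV hw1,
      key y hyV (x * y) (mul_mem hxV hyV) ?_⟩
    rw [hw2, show (⟨_, hπV (x * y) (mul_mem hxV hyV)⟩ : L) = ⟨_, hπV x hxV⟩ * ⟨_, hπV y hyV⟩ from
      Subtype.ext (by show π _ = π _ * π _; rw [← map_mul]; rfl), map_mul]
  · let ι : M ⧸ O ≃* L := (Subgroup.topEquiv.symm).trans (MulEquiv.subgroupCongr htop.symm)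
    let ψ : M ⧸ O ≃* alternatingGroup (Fin 5) := ι.trans (e.trans e5)
    refine ⟨ψ.toMonoidHom.comp π, ψ.surjective.comp (QuotientGroup.mk'_surjective O), ?_⟩
    ext u
    rw [MonoidHom.mem_ker, mem_subgroupOf]
    refine ⟨fun hu => hOA u ((hπ1 u).1 (ψ.injective (hu.trans (map_one ψ).symm))), fun hu => ?_⟩
    show ψ (π u) = 1
    rw [(hπ1 u).2 (hAO u hu), map_one]

end CentHyp

end Cfsg.Agent.JT.Loc
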