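import Mathlib
import Cfsg.Agent.Lib.JT.LocalCent
import Cfsg.Agent.S2119

/-!
# Elements of order three and five next to the odd torus

An element of prime order dividing the torus order and commuting with an involution lies in a torus;
this bounds the torus next to an `A₅`.
-/

set_option autoImplicit false
set_option linter.unusedSectionVars false
set_option linter.style.haveILetI false

namespace Cfsg.Agent.JT.Loc

open Subgroup

universe u v

set_option synthInstance.maxSize 4000 in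
theorem alt5_four_cent : ∀ e : alternatingGroup (Fin 5), e * e = 1 → e ≠ 1 → ∀ f : alternatingGroup (Fin 5),
    f * f = 1 → f ≠ 1 → e ≠ f → e * f = f * e → ∀ π : Equiv.Perm (Fin 5),
    π * (e : Equiv.Perm (Fin 5)) = e * π → π * (f : Equiv.Perm (Fin 5)) = f * π →
      π = 1 ∨ π = e ∨ π = f ∨ π = e * f := by decide +kernel

theorem alt5_exp : ∀ x : alternatingGroup (Fin 5), x * x = 1 ∨ x ^ 3 = 1 ∨ x ^ 5 = 1 := by decide +kernel

theorem alt5_three : ∃ x : alternatingGroup (Fin 5), x ^ 3 = 1 ∧ x ≠ 1 := by decide +kernel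

theorem alt5_five : ∃ x : alternatingGroup (Fin 5), x ^ 5 = 1 ∧ x ≠ 1 := by decide +kernel

theorem alt5_perfect : commutator (alternatingGroup (Fin 5)) = ⊤ := by
  haveI := alternatingGroup.isSimpleGroup_five
  rcases (inferInstance : (commutator (alternatingGroup (Fin 5))).Normal).eq_bot_or_eq_top with h | h
  · exfalso
    rw [_root_.commutator_def, Subgroup.commutator_eq_bot_iff_le_centralizer] at h
    have h1 : ∀ a b : alternatingGroup (Fin 5), a * b = b * a := fun a b =>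
      mem_centralizer_iff.1 (h (mem_top b)) a (mem_top a)
    exact absurd h1 (by decide +kernel)
  · exact h

/-- An automorphism of `A₅` fixing an `A₄` pointwise is trivial. -/
theorem alt5_aut_trivial (φ : MulAut (alternatingGroup (Fin 5))) {e f w : alternatingGroup (Fin 5)}
    (he : e * e = 1) (he1 : e ≠ 1) (hf : f * f = 1) (hf1 : f ≠ 1) (hne : e ≠ f) (hc : e * f = f * e)
    (hw : w * e * w⁻¹ = f) (hφe : φ e = e) (hφf : φ f = f) (hφw : φ w = w)
    (hwf : w * f * w⁻¹ = e * f) : φ = 1 := by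
  obtain ⟨π, rfl⟩ := (Cfsg.Agent.S2119.result 5 (by norm_num) (by norm_num)).surjective φ
  have key : ∀ x : alternatingGroup (Fin 5), MulAut.conjNormal π x = x →
      π * (x : Equiv.Perm (Fin 5)) = x * π := fun x hx => by
    have := congrArg Subtype.val hx
    rw [MulAut.conjNormal_apply] at this
    exact mul_inv_eq_iff_eq_mul.1 this
  have hpw := key w hφw
  have hfix : ∀ x : alternatingGroup (Fin 5), π = (x : Equiv.Perm (Fin 5)) → w * x * w⁻¹ = x := fun x hx =>
    mul_inv_eq_iff_eq_mul.2 (Subtype.ext (by rw [hx] at hpw; exact hpw.symm))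
  rcases alt5_four_cent e he he1 f hf hf1 hne hc π (key e hφe) (key f hφf) with rfl | h | h | h
  · exact map_one _
  · exact absurd ((hfix e h).symm.trans hw) hne
  · exact absurd ((hfix f h).symm.trans hwf) (fun h' => he1 (mul_eq_right.1 h'.symm))
  · exfalso
    have h' := hfix (e * f) h
    rw [show w * (e * f) * w⁻¹ = w * e * w⁻¹ * (w * f * w⁻¹) by group, hw, hwf, ← mul_assoc, ← hc,
      mul_assoc, hf, mul_one] at h'
    exact hf1 (left_eq_mul.1 h')

variable {G : Type u} [Group G]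

/-- A cyclic kernel of a map onto `A₅` is central. -/
theorem torus_central {a : G} {A : Subgroup G} (hA : IsCyclic A) (hAM : A ≤ centralizer ({a} : Set G))
    [Finite G] {f : centralizer ({a} : Set G) →* alternatingGroup (Fin 5)} (hf : Function.Surjective f)
    (hker : f.ker = A.subgroupOf _) : ∀ g : G, Commute g a → ∀ b ∈ A, Commute g b := by
  classical
  let M : Subgroup G := centralizer ({a} : Set G)
  let N : Subgroup M := A.subgroupOf M
  haveI : N.Normal := by rw [show N = f.ker from hker.symm]; exact f.normal_ker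
  haveI : IsCyclic N := isCyclic_of_surjective (subgroupOfEquivOfLe hAM).symm.toMonoidHom
    (subgroupOfEquivOfLe hAM).symm.surjective
  let φ : M →* MulAut N := MulAut.conjNormal
  have hcomm : commutator M ≤ φ.ker := by
    rw [_root_.commutator_def, commutator_le]
    intro g _ h _
    rw [MonoidHom.mem_ker, map_commutatorElement]
    apply (IsCyclic.mulAutMulEquiv N).injective
    rw [map_one, map_commutatorElement]
    exact commutatorElement_eq_one_iff_mul_comm.2 (mul_comm _ _)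
  have hNk : f.ker ≤ φ.ker := fun g hg => by
    rw [hker] at hg
    refine MonoidHom.mem_ker.2 (MulEquiv.ext fun n => Subtype.ext ?_)
    letI := IsCyclic.commGroup (α := N)
    have h1 := congrArg Subtype.val (mul_comm (⟨g, hg⟩ : N) n)
    show g * (n : M) * g⁻¹ = n
    rw [show g * (n : M) = n * g from h1, mul_inv_cancel_right]
  have htop : φ.ker = ⊤ := by
    rw [eq_top_iff]
    intro g _
    obtain ⟨c, hc, hcg⟩ : f g ∈ (commutator M).map f := by
      rw [_root_.commutator_def, map_commutator, map_top_of_surjective f hf, ← _root_.commutator_def, alt5_perfect]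
      exact mem_top _
    have h1 : c⁻¹ * g ∈ f.ker := by rw [MonoidHom.mem_ker, map_mul, map_inv, hcg, inv_mul_cancel]
    have := mul_mem (hcomm hc) (hNk h1)
    rwa [mul_inv_cancel_left] at this
  intro g hg b hb
  have h1 : φ ⟨g, mem_centralizer_singleton_iff.2 hg.eq⟩ = 1 := MonoidHom.mem_ker.1 (htop ▸ mem_top _)
  have h2 := congrArg (fun n : N => ((n : M) : G))
    (DFunLike.congr_fun h1 (⟨⟨b, hAM hb⟩, mem_subgroupOf.2 hb⟩ : N))
  exact mul_inv_eq_iff_eq_mul.1 h2

/-- The derived group of an `A₅` centralizer commutes with the inverting involution. -/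
theorem commutator_alt5_le [Finite G] {t v s z a : G} {A : Subgroup G} (hA : IsCyclic A) (hodd : Odd (Nat.card A))
    (haA : a ∈ A) (htM : Commute t a) (hvM : Commute v a) (hzM : Commute z a) (ht : orderOf t = 2)
    (hv : orderOf v = 2) (hne : t ≠ v) (htv : Commute t v) (hs : orderOf s = 2) (hst : Commute s t)
    (hsv : Commute s v) (hsz : Commute s z) (hzt : z * t * z⁻¹ = v) (hzv : z * v * z⁻¹ = t * v)
    (hsA : ∀ b ∈ A, s * b * s⁻¹ = b⁻¹) {f : centralizer ({a} : Set G) →* alternatingGroup (Fin 5)}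
    (hf : Function.Surjective f) (hker : f.ker = A.subgroupOf _) :
    commutator (centralizer ({a} : Set G)) ≤ (centralizer ({s} : Set G)).subgroupOf (centralizer ({a} : Set G)) := by
  let M : Subgroup G := centralizer ({a} : Set G)
  haveI := hA
  letI := IsCyclic.commGroup (α := A)
  have hAab : ∀ b ∈ A, ∀ c ∈ A, Commute b c := fun b hb c hc =>
    congrArg Subtype.val (mul_comm (⟨b, hb⟩ : A) ⟨c, hc⟩)
  have hAM : A ≤ M := fun b hb => mem_centralizer_singleton_iff.2 (hAab b hb a haA).eq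
  have hcen := torus_central hA hAM hf hker
  have hs2 := invol_mul_self hs
  have hMs : ∀ g ∈ M, s * g * s⁻¹ ∈ M := by
    intro g hg
    have h1 : Commute g a⁻¹ := (show Commute g a from mem_centralizer_singleton_iff.1 hg).inv_right
    have h2 := h1.map (MulAut.conj s).toMonoidHom
    refine mem_centralizer_singleton_iff.2 ?_
    have e : s * a⁻¹ * s⁻¹ = a := by rw [show s * a⁻¹ * s⁻¹ = (s * a * s⁻¹)⁻¹ by group, hsA a haA, inv_inv]
    have h3 : Commute (s * g * s⁻¹) (s * a⁻¹ * s⁻¹) := h2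
    rw [e] at h3
    exact h3.eq
  let σ : M →* M := ((MulAut.conj s).toMonoidHom.comp M.subtype).codRestrict M fun g => hMs g g.2
  have hσ : ∀ g : M, ((σ g : M) : G) = s * g * s⁻¹ := fun g => rfl
  have hσ2 : ∀ g : M, σ (σ g) = g := fun g => Subtype.ext (by
    rw [hσ, hσ, inv_eq_of_mul_eq_one_right hs2, show s * (s * (g : G) * s) * s = s * s * g * (s * s) by group,
      hs2, one_mul, mul_one])
  have hk : f.ker ≤ (f.comp σ).ker := fun g hg => by
    rw [hker, mem_subgroupOf] at hg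
    rw [MonoidHom.mem_ker, MonoidHom.comp_apply, ← MonoidHom.mem_ker, hker, mem_subgroupOf, hσ, hsA _ hg]
    exact inv_mem hg
  let φ := MonoidHom.liftOfSurjective f hf ⟨f.comp σ, hk⟩
  have hφ : ∀ g, φ (f g) = f (σ g) := fun g => MonoidHom.liftOfRightInverse_comp_apply f _ _ ⟨f.comp σ, hk⟩ g
  have hφ2 : φ.comp φ = MonoidHom.id _ := MonoidHom.ext fun x => by
    obtain ⟨g, rfl⟩ := hf x
    rw [MonoidHom.comp_apply, hφ, hφ, hσ2]; rfl
  let Φ : MulAut (alternatingGroup (Fin 5)) := φ.toMulEquiv φ hφ2 hφ2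
  have hfix : ∀ (g : G) (hg : g ∈ M), Commute s g → Φ (f ⟨g, hg⟩) = f ⟨g, hg⟩ := fun g hg hc => by
    show φ (f ⟨g, hg⟩) = _
    rw [hφ]
    exact congrArg f (Subtype.ext (by rw [hσ]; show s * g * s⁻¹ = g; rw [hc.eq, mul_inv_cancel_right]))
  have htm : t ∈ M := mem_centralizer_singleton_iff.2 htM.eq
  have hvm : v ∈ M := mem_centralizer_singleton_iff.2 hvM.eq
  have hzm : z ∈ M := mem_centralizer_singleton_iff.2 hzM.eq
  have hout : ∀ g : M, (g : G) * g = 1 → (g : G) ≠ 1 → f g ≠ 1 := fun g h1 h2 h3 => by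
    rw [← MonoidHom.mem_ker, hker, mem_subgroupOf] at h3
    exact h2 (eq_one_of_sq_mem hodd h3 h1)
  have ht2 := invol_mul_self ht
  have hv2 := invol_mul_self hv
  set e₁ := f ⟨t, htm⟩
  set e₂ := f ⟨v, hvm⟩
  have hΦ : Φ = 1 := by
    refine alt5_aut_trivial Φ (e := e₁) (f := e₂) (w := f ⟨z, hzm⟩) ?_ (hout _ ht2 (invol_ne_one ht)) ?_
      (hout _ hv2 (invol_ne_one hv)) ?_ ?_ ?_ (hfix t htm hst) (hfix v hvm hsv) (hfix z hzm hsz) ?_
    · rw [← map_mul, show (⟨t, htm⟩ : M) * ⟨t, htm⟩ = 1 from Subtype.ext ht2, map_one]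
    · rw [← map_mul, show (⟨v, hvm⟩ : M) * ⟨v, hvm⟩ = 1 from Subtype.ext hv2, map_one]
    · intro e
      refine hout (⟨t, htm⟩ * ⟨v, hvm⟩) (show t * v * (t * v) = 1 by
        rw [htv.symm.mul_mul_mul_comm, ht2, hv2, one_mul]) (show t * v ≠ 1 from fun h => hne (by
          rw [eq_inv_of_mul_eq_one_left h, inv_eq_of_mul_eq_one_right hv2])) ?_
      rw [map_mul, show f ⟨t, htm⟩ = f ⟨v, hvm⟩ from e, ← map_mul,
        show (⟨v, hvm⟩ : M) * ⟨v, hvm⟩ = 1 from Subtype.ext hv2, map_one]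
    · rw [← map_mul, ← map_mul]; exact congrArg f (Subtype.ext htv.eq)
    · rw [← map_inv, ← map_mul, ← map_mul]; exact congrArg f (Subtype.ext hzt)
    · rw [← map_inv, ← map_mul, ← map_mul, ← map_mul]; exact congrArg f (Subtype.ext hzv)
  have hδ : ∀ g : M, (g : G)⁻¹ * (s * g * s⁻¹) ∈ A := fun g => by
    have h1 : φ (f g) = f g := DFunLike.congr_fun hΦ (f g)
    rw [hφ] at h1
    have h2 : g⁻¹ * σ g ∈ f.ker := by rw [MonoidHom.mem_ker, map_mul, map_inv, h1, inv_mul_cancel]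
    rw [hker, mem_subgroupOf] at h2
    exact h2
  show commutator M ≤ (centralizer ({s} : Set G)).subgroupOf M
  rw [_root_.commutator_def, commutator_le]
  intro g _ h _
  refine mem_subgroupOf.2 (mem_centralizer_singleton_iff.2 (mul_inv_eq_iff_eq_mul.1 ?_).symm)
  have hcc : ∀ (i : M) (b : G), b ∈ A → Commute b i := fun i b hb =>
    (hcen i (mem_centralizer_singleton_iff.1 i.2) b hb).symm
  set α := (g : G)⁻¹ * (s * g * s⁻¹) with hα
  set β := (h : G)⁻¹ * (s * h * s⁻¹) with hβ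
  have eg : s * (g : G) * s⁻¹ = g * α := by rw [hα, mul_inv_cancel_left]
  have eh : s * (h : G) * s⁻¹ = h * β := by rw [hβ, mul_inv_cancel_left]
  show s * ((g : G) * h * (g : G)⁻¹ * (h : G)⁻¹) * s⁻¹ = g * h * (g : G)⁻¹ * (h : G)⁻¹
  rw [show s * ((g : G) * h * (g : G)⁻¹ * (h : G)⁻¹) * s⁻¹ =
    s * g * s⁻¹ * (s * h * s⁻¹) * (s * g * s⁻¹)⁻¹ * (s * h * s⁻¹)⁻¹ by group, eg, eh]
  have c1 : Commute α (h * β) := (hcc h α (hδ g)).mul_right (hAab α (hδ g) β (hδ h))
  have c2 : Commute β (g : G)⁻¹ := (hcc g β (hδ h)).inv_right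
  calc (g : G) * α * (h * β) * (g * α)⁻¹ * (h * β)⁻¹
      = g * (α * (h * β) * α⁻¹) * (g : G)⁻¹ * β⁻¹ * (h : G)⁻¹ := by group
    _ = g * h * (β * (g : G)⁻¹) * β⁻¹ * (h : G)⁻¹ := by rw [c1.eq, mul_inv_cancel_right]; group
    _ = g * h * (g : G)⁻¹ * (h : G)⁻¹ := by rw [c2.eq]; group

variable [Finite G] [IsSimpleGroup G] {K : Type v} [Group K] {r : ℕ}
  (H : Setup G K) (hK : KFacts K r) (hab : ∀ P : Sylow 2 G, ∀ a b : P, a * b = b * a)
include H hK hab

/-- An element of order `p`, a prime with full power in the torus order, lies in a torus. -/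
theorem exists_torus_of_commute [Finite K] {p m : ℕ} (hp : p.Prime) (hp2 : p ≠ 2) (hKm : Nat.card K = r * m)
    (hm : ¬ p ∣ m) {s y : G} (hs : orderOf s = 2) (hy : orderOf y = p) (hys : Commute y s) :
    ∃ (u : G) (A' : Subgroup G) (s' : G), Pair s u r A' s' ∧ y ∈ A' := by
  haveI : Fact p.Prime := ⟨hp⟩
  obtain ⟨c, hc⟩ := isConj_iff.1 (fused H hK hab s hs)
  have hy1 : Commute (c⁻¹ * y * c) H.t := by
    have := hys.map (MulAut.conj c⁻¹)
    rw [MulAut.conj_apply, MulAut.conj_apply, inv_inv, show c⁻¹ * s * c = H.t by rw [← hc]; group] at this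
    exact this
  obtain ⟨⟨b, y₁⟩, hyK⟩ := emb_surj H hy1
  have hord : orderOf ((b, y₁) : Multiplicative (ZMod 2) × K) = p := by
    rw [← orderOf_emb H, hyK, show c⁻¹ * y * c = MulAut.conj c⁻¹ y by simp, MulEquiv.orderOf_eq, hy]
  have hpodd : Odd p := hp.odd_of_ne_two hp2
  have hb : b = 1 := eq_one_of_odd_sq
    (hpodd.of_dvd_nat (by rw [← hord, Prod.orderOf_mk]; exact Nat.dvd_lcm_left _ _)) (z2_sq b)
  subst hb
  rw [Prod.orderOf_mk, orderOf_one, Nat.lcm_one_left] at hord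
  obtain ⟨k, hk⟩ := hK.exists_invol
  obtain ⟨-, A₀, -, hA₀, hAk, -⟩ := hK.torus k hk
  obtain ⟨P₀⟩ : Nonempty (Sylow p A₀) := inferInstance
  have hr0 : r ≠ 0 := hA₀ ▸ Nat.card_pos.ne'
  have hm0 : m ≠ 0 := fun h => hm (h ▸ dvd_zero p)
  let P : Sylow p K := Sylow.ofCard ((P₀ : Subgroup A₀).map A₀.subtype) (by
    rw [card_map_of_injective A₀.subtype_injective, P₀.card_eq_multiplicity, hA₀, hKm,
      Nat.factorization_mul hr0 hm0, Finsupp.add_apply, Nat.factorization_eq_zero_of_not_dvd hm, add_zero])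
  obtain ⟨Q, hQ⟩ := (IsPGroup.of_card (n := 1) (G := zpowers y₁) (p := p) (by
    rw [Nat.card_zpowers, hord, pow_one])).exists_le_sylow
  obtain ⟨d, hd⟩ := MulAction.exists_smul_eq K Q P
  have hdy : d * y₁ * d⁻¹ ∈ A₀ := by
    have h1 : d * y₁ * d⁻¹ ∈ (P : Subgroup K) := hd ▸ ⟨y₁, hQ (mem_zpowers y₁), rfl⟩
    obtain ⟨x, -, hx⟩ := h1
    exact hx ▸ x.2
  have hyk : Commute y₁ (d⁻¹ * k * d) := by
    have := (hAk _ hdy).map (MulAut.conj d⁻¹)
    simpa [mul_assoc] using this
  set u := c * H.emb (1, d⁻¹ * k * d) * c⁻¹ with hu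
  have hu2 : orderOf u = 2 := by
    rw [hu, ← MulAut.conj_apply, MulEquiv.orderOf_eq, orderOf_emb H, Prod.orderOf_mk, orderOf_one,
      Nat.lcm_one_left, show d⁻¹ * k * d = MulAut.conj d⁻¹ k by simp, MulEquiv.orderOf_eq, hk]
  have hye : y = c * H.emb (1, y₁) * c⁻¹ := by rw [hyK]; group
  have hsu : Commute s u := hc ▸ ((emb_commute H _).symm.map (MulAut.conj c).toMonoidHom)
  have hne : s ≠ u := by
    intro e
    have h1 := (MulAut.conj c).injective (show c * H.t * c⁻¹ = c * H.emb (1, d⁻¹ * k * d) * c⁻¹ by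
      rw [hc]; exact e)
    rw [← emb_t H hK] at h1
    exact absurd (show Multiplicative.ofAdd (1 : ZMod 2) = 1 from congrArg Prod.fst (emb_injective H h1)) (by decide)
  have hyu : Commute y u := hye ▸
    (((show Commute ((1, y₁) : Multiplicative (ZMod 2) × K) (1, d⁻¹ * k * d) from
      Prod.ext rfl hyk.eq).map H.emb).map (MulAut.conj c).toMonoidHom)
  obtain ⟨A', s', hP⟩ := exists_pair' H hK hab hs hu2 hsu hne
  exact ⟨u, A', s', hP, (hP.mem y).2 ⟨hys, hyu, hy ▸ hpodd⟩⟩

omit H hK in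
theorem pair_centHyp {x y s a : G} {A : Subgroup G} (hP : Pair x y r A s) (ha : a ∈ A)
    (hw : ∀ w ∈ vset x y, w ≠ 1 → ∀ g, Commute g a → Commute g w → ∃ b ∈ A, ∃ w' ∈ vset x y, g = b * w') :
    CentHyp x y a A := by
  haveI := hP.cyc
  refine ⟨hP.x2, hP.y2, hP.xy, hP.ne, ha, fun b hb c hc => ?_, hP.card ▸ hP.odd, fun b hb => ((hP.mem b).1 hb).1,
    fun b hb => ((hP.mem b).1 hb).2.1, hw, hab⟩
  letI := IsCyclic.commGroup (α := A)
  exact congrArg Subtype.val (mul_comm (⟨b, hb⟩ : A) ⟨c, hc⟩)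

/-- The common centralizers with the involutions of a pair. -/
theorem pair_cent {x y s : G} {A : Subgroup G} (hP : Pair x y r A s) :
    ∀ a ∈ A, a ≠ 1 → ∀ w ∈ vset x y, w ≠ 1 → ∀ g : G, Commute g a → Commute g w →
      ∃ b ∈ A, ∃ w' ∈ vset x y, g = b * w' := by
  intro a ha ha1 w hw hw1 g hga hgw
  have hx2 := invol_mul_self hP.x2
  have hy2 := invol_mul_self hP.y2
  rcases hw with rfl | rfl | rfl | rfl
  · exact absurd rfl hw1
  · exact hP.centA a ha ha1 g hga hgw
  · obtain ⟨A', s', hP'⟩ := exists_pair' H hK hab hP.y2 hP.x2 hP.xy.symm hP.ne.symm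
    have hAA : ∀ c, c ∈ A' ↔ c ∈ A := fun c => by
      rw [hP'.mem, hP.mem]; exact ⟨fun ⟨a, b, c⟩ => ⟨b, a, c⟩, fun ⟨a, b, c⟩ => ⟨b, a, c⟩⟩
    obtain ⟨b, hb, w', hw', e⟩ := hP'.centA a ((hAA a).2 ha) ha1 g hga hgw
    refine ⟨b, (hAA b).1 hb, w', ?_, e⟩
    rcases hw' with h | h | h | h
    exacts [Or.inl h, Or.inr (Or.inr (Or.inl h)), Or.inr (Or.inl h),
      Or.inr (Or.inr (Or.inr (h.trans hP.xy.eq.symm)))]
  · have hx : orderOf (x * y) = 2 := orderOf_eq_prime
      (by rw [pow_two, hP.xy.symm.mul_mul_mul_comm x y, hx2, hy2, one_mul]) hw1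
    have hc : Commute (x * y) x := (Commute.refl x).mul_left hP.xy.symm
    obtain ⟨A', s', hP'⟩ := exists_pair' H hK hab hx hP.x2 hc fun e => invol_ne_one hP.y2 (mul_eq_left.1 e)
    have h6 : x * y * x = y := by rw [hc.eq, ← mul_assoc, hx2, one_mul]
    have hAA : ∀ c, c ∈ A' ↔ c ∈ A := fun c => by
      rw [hP'.mem, hP.mem]
      refine ⟨fun ⟨a, b, c⟩ => ⟨b, ?_, c⟩, fun ⟨a, b, c⟩ => ⟨a.mul_right b, a, c⟩⟩
      have := a.mul_right b
      rwa [h6] at this
    obtain ⟨b, hb, w', hw', e⟩ := hP'.centA a ((hAA a).2 ha) ha1 g hga hgw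
    refine ⟨b, (hAA b).1 hb, w', ?_, e⟩
    rcases hw' with h | h | h | h
    exacts [Or.inl h, Or.inr (Or.inr (Or.inr h)), Or.inr (Or.inl h),
      Or.inr (Or.inr (Or.inl (h.trans h6)))]

/-- An element inverted by `s` and commuting with a torus element of `C(s)` sees an `A₅`. -/
theorem inverted_alt5 {s u s' y : G} {A' : Subgroup G} (hP : Pair s u r A' s') (hy : y ∈ A') (hy1 : y ≠ 1)
    {a : G} (ha1 : a ≠ 1) (hao : Odd (orderOf a)) (hay : Commute a y) (has : s * a * s⁻¹ = a⁻¹) :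
    (∀ g : G, Commute g y → ∀ b ∈ A', Commute g b) ∧
      (orderOf a = 3 ∨ orderOf a = 5) := by
  have hC := pair_centHyp hab hP hy (pair_cent H hK hab hP y hy hy1)
  have hs2 := invol_mul_self hP.x2
  have hcancel : ∀ c : G, Commute c s → s * c * s⁻¹ = c := fun c h => by rw [h.symm.eq, mul_inv_cancel_right]
  rcases hC.cases_structure with hS | ⟨-, f, hf, hker⟩
  · exfalso
    have h1 := hS a hay s (Or.inr (Or.inl rfl))
    have h2 : a * s * a⁻¹ = a * a * s := by
      calc a * s * a⁻¹ = a * (s * a⁻¹ * s⁻¹) * s := by group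
        _ = a * a * s := by
          rw [show s * a⁻¹ * s⁻¹ = (s * a * s⁻¹)⁻¹ by group, has, inv_inv]
    rw [h2] at h1
    have h3 : Commute (a * a * s) s := by
      have hus : Commute u s := hP.xy.symm
      generalize a * a * s = q at h1 ⊢
      rcases h1 with e | e | e | e
      exacts [e ▸ Commute.one_left s, e ▸ Commute.refl s, e ▸ hus, e ▸ (Commute.refl s).mul_left hus]
    have h4 : Commute (a * a) s := by
      have := h3.mul_left (Commute.refl s)
      rwa [mul_assoc (a * a), hs2, mul_one] at this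
    have h5 : a * a * (a * a) = 1 := by
      have := hcancel _ h4
      rw [show s * (a * a) * s⁻¹ = s * a * s⁻¹ * (s * a * s⁻¹) by group, has] at this
      nth_rw 1 [← this]
      group
    have h6 : a * a = 1 := eq_one_of_odd_sq (hao.of_dvd_nat (by rw [← pow_two]; exact orderOf_pow_dvd _)) h5
    exact ha1 (eq_one_of_odd_sq hao h6)
  have hAM : A' ≤ centralizer ({y} : Set G) := fun b hb => mem_centralizer_singleton_iff.2 (hC.Aab b hb y hy).eq
  refine ⟨torus_central hP.cyc hAM hf hker, ?_⟩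
  set a' : centralizer ({y} : Set G) := ⟨a, mem_centralizer_singleton_iff.2 hay.eq⟩ with ha'
  have hinj : ∀ n : ℕ, (f a') ^ n = 1 → a ^ n = 1 := fun n hn => by
    rw [← map_pow, ← MonoidHom.mem_ker, hker, mem_subgroupOf, SubmonoidClass.coe_pow] at hn
    have h7 := hcancel _ ((hP.mem _).1 hn).1
    rw [show s * a ^ n * s⁻¹ = (s * a * s⁻¹) ^ n by rw [conj_pow], has, inv_pow] at h7
    refine eq_one_of_odd_sq (hao.of_dvd_nat (orderOf_pow_dvd n)) ?_
    nth_rw 1 [← h7]
    exact inv_mul_cancel _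
  have ho1 : orderOf a ≠ 1 := fun h => ha1 (orderOf_eq_one_iff.1 h)
  rcases alt5_exp (f a') with h | h | h
  · exact absurd (eq_one_of_odd_sq hao (by rw [← pow_two]; exact hinj 2 (by rw [pow_two]; exact h))) ha1
  · exact Or.inl (((Nat.dvd_prime Nat.prime_three).1 (orderOf_dvd_of_pow_eq_one (hinj 3 h))).resolve_left ho1)
  · exact Or.inr (((Nat.dvd_prime Nat.prime_five).1 (orderOf_dvd_of_pow_eq_one (hinj 5 h))).resolve_left ho1)

/-- Next to `A₅` there are elements of order three and five commuting with `s` and with the torus. -/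
theorem small_of_alt5 {t v s z a : G} {A : Subgroup G} (hA : IsCyclic A) (hodd : Odd (Nat.card A))
    (haA : a ∈ A) (htM : Commute t a) (hvM : Commute v a) (hzM : Commute z a) (ht : orderOf t = 2)
    (hv : orderOf v = 2) (hne : t ≠ v) (htv : Commute t v) (hs : orderOf s = 2) (hst : Commute s t)
    (hsv : Commute s v) (hsz : Commute s z) (hzt : z * t * z⁻¹ = v) (hzv : z * v * z⁻¹ = t * v)
    (hsA : ∀ b ∈ A, s * b * s⁻¹ = b⁻¹) {f : centralizer ({a} : Set G) →* alternatingGroup (Fin 5)}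
    (hf : Function.Surjective f) (hker : f.ker = A.subgroupOf _) (p : ℕ) (hp : p = 3 ∨ p = 5) :
    ∃ y : G, orderOf y = p ∧ Commute y s ∧ ∀ b ∈ A, Commute b y := by
  let M : Subgroup G := centralizer ({a} : Set G)
  haveI := hA
  letI := IsCyclic.commGroup (α := A)
  have hAab : ∀ b ∈ A, ∀ c ∈ A, Commute b c := fun b hb c hc =>
    congrArg Subtype.val (mul_comm (⟨b, hb⟩ : A) ⟨c, hc⟩)
  have hAM : A ≤ M := fun b hb => mem_centralizer_singleton_iff.2 (hAab b hb a haA).eq
  have hcen := torus_central hA hAM hf hker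
  have hcom : commutator M ≤ (centralizer ({s} : Set G)).subgroupOf M :=
    commutator_alt5_le hA hodd haA htM hvM hzM ht hv hne htv hs hst hsv hsz hzt hzv hsA hf hker
  have hpp : p.Prime := by rcases hp with rfl | rfl <;> norm_num
  haveI : Fact p.Prime := ⟨hpp⟩
  obtain ⟨x₀, hx₀, hx₁⟩ : ∃ x : alternatingGroup (Fin 5), x ^ p = 1 ∧ x ≠ 1 := by
    rcases hp with rfl | rfl
    exacts [alt5_three, alt5_five]
  obtain ⟨x, hx, hfx⟩ : x₀ ∈ (commutator M).map f := by
    rw [_root_.commutator_def, map_commutator, map_top_of_surjective f hf, ← _root_.commutator_def, alt5_perfect]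
    exact mem_top _
  obtain ⟨i, hi⟩ : p ∣ orderOf x := by
    rw [← orderOf_eq_prime hx₀ hx₁, ← hfx]
    exact orderOf_map_dvd f x
  have hi0 : i ≠ 0 := by rintro rfl; exact (orderOf_pos x).ne' (by rw [hi, mul_zero])
  refine ⟨(x : G) ^ i, ?_, ?_, fun b hb => ?_⟩
  · rw [orderOf_pow_of_dvd hi0 (by rw [Subgroup.orderOf_coe, hi]; exact dvd_mul_left _ _), Subgroup.orderOf_coe,
      hi, Nat.mul_div_cancel _ (Nat.pos_of_ne_zero hi0)]
  · exact (show Commute (x : G) s from mem_centralizer_singleton_iff.1 (mem_subgroupOf.1 (hcom hx))).pow_left i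
  · exact ((hcen x (mem_centralizer_singleton_iff.1 x.2) b hb).pow_left i).symm

/-- The torus is small next to `A₅`. -/
theorem card_small [Finite K] (hsy : ∀ p : ℕ, p.Prime → p ≠ 2 → p ∣ r → ∃ m, Nat.card K = r * m ∧ ¬ p ∣ m)
    {t v s z a : G} {A : Subgroup G} (hA : IsCyclic A) (hAr : Nat.card A = r) (haA : a ∈ A)
    (htM : Commute t a) (hvM : Commute v a) (hzM : Commute z a) (ht : orderOf t = 2) (hv : orderOf v = 2)
    (hne : t ≠ v) (htv : Commute t v) (hs : orderOf s = 2) (hst : Commute s t) (hsv : Commute s v)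
    (hsz : Commute s z) (hzt : z * t * z⁻¹ = v) (hzv : z * v * z⁻¹ = t * v)
    (hsA : ∀ b ∈ A, s * b * s⁻¹ = b⁻¹) {f : centralizer ({a} : Set G) →* alternatingGroup (Fin 5)}
    (hf : Function.Surjective f) (hker : f.ker = A.subgroupOf _) :
    Nat.Coprime r 15 ∨ r = 3 ∨ r = 5 := by
  have hodd : Odd (Nat.card A) := hAr ▸ hK.r_odd
  have key : ∀ p, p = 3 ∨ p = 5 → p ∣ r → r = 3 ∨ r = 5 := by
    intro p hp hpr
    have hpp : p.Prime := by rcases hp with rfl | rfl <;> norm_num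
    have hp2 : p ≠ 2 := by omega
    obtain ⟨y, hy, hys, hyA⟩ := small_of_alt5 H hK hab hA hodd haA htM hvM hzM ht hv hne htv hs hst hsv hsz
      hzt hzv hsA hf hker p hp
    obtain ⟨m, hm, hpm⟩ := hsy p hpp hp2 hpr
    obtain ⟨u, A', s', hP, hyA'⟩ := exists_torus_of_commute H hK hab hpp hp2 hm hpm hs hy hys
    obtain ⟨g, hg⟩ := hA.exists_generator
    have hgo : orderOf (g : G) = r := by
      rw [Subgroup.orderOf_coe, orderOf_eq_card_of_forall_mem_zpowers hg, hAr]
    have hy1 : y ≠ 1 := fun e => hpp.one_lt.ne' (by rw [← hy, e, orderOf_one])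
    have hg1 : (g : G) ≠ 1 := fun e => by
      rw [e, orderOf_one] at hgo
      rw [← hgo] at hpr
      exact hpp.ne_one (Nat.dvd_one.1 hpr)
    obtain ⟨-, h⟩ := inverted_alt5 H hK hab hP hyA' hy1 hg1 (hgo ▸ hK.r_odd) (hyA g g.2) (hsA g g.2)
    rwa [hgo] at h
  by_cases h3 : 3 ∣ r
  · exact Or.inr (key 3 (Or.inl rfl) h3)
  by_cases h5 : 5 ∣ r
  · exact Or.inr (key 5 (Or.inr rfl) h5)
  left
  have c3 : Nat.Coprime r 3 := ((Nat.prime_three.coprime_iff_not_dvd).2 h3).symm
  have c5 : Nat.Coprime r 5 := ((Nat.prime_five.coprime_iff_not_dvd).2 h5).symm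
  simpa using c3.mul_right c5

end Cfsg.Agent.JT.Loc
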