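import Mathlib
import Cfsg.Agent.Lib.JT.LocalSmall
import Cfsg.Agent.GenA.CycPrime.Basic

/-!
# The local facts of `S0343` for `q` odd

The torus configuration and the facts listed in `Setup.Local` and `Setup.Torus`.
-/

set_option autoImplicit false
set_option linter.unusedSectionVars false
set_option linter.style.haveILetI false

namespace Cfsg.Agent.JT.Loc

open Subgroup

universe u v

theorem z2_ne_one : ¬ (Multiplicative.ofAdd (1 : ZMod 2)) = 1 := by decide

variable {G : Type u} [Group G] [Finite G] [IsSimpleGroup G] {K : Type v} [Group K] {r : ℕ}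
  (H : Setup G K) (hK : KFacts K r) (hab : ∀ P : Sylow 2 G, ∀ a b : P, a * b = b * a)
include H hK hab

/-- No element of `C(t)` exchanges two involutions whose product is `t`. -/
theorem no_swap {v c : G} (hv : orderOf v = 2) (htv : Commute H.t v) (hne : H.t ≠ v) (hct : Commute c H.t) :
    c * v * c⁻¹ ≠ H.t * v := by
  intro hswap
  haveI : Fact (Nat.Prime 2) := ⟨Nat.prime_two⟩
  have hback : c * (H.t * v) * c⁻¹ = v := by
    rw [show c * (H.t * v) * c⁻¹ = c * H.t * c⁻¹ * (c * v * c⁻¹) by group, hswap, hct.eq, mul_inv_cancel_right,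
      ← mul_assoc, invol_mul_self H.ht, one_mul]
  obtain ⟨k, m, hm2, hcm⟩ := Nat.exists_eq_pow_mul_and_not_dvd (orderOf_pos c).ne' 2 (by norm_num)
  obtain ⟨i, hi⟩ : Odd m := Nat.odd_iff.2 (by omega)
  have hsq : Commute (c * c) v := mul_inv_eq_iff_eq_mul.1 (by
    rw [show c * c * v * (c * c)⁻¹ = c * (c * v * c⁻¹) * c⁻¹ by group, hswap, hback])
  set d := c ^ m with hd
  have hdv : d * v * d⁻¹ = H.t * v := by
    have h1 : Commute ((c * c) ^ i) v := hsq.pow_left i
    rw [hd, hi, pow_succ', pow_mul, pow_two,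
      show c * (c * c) ^ i * v * (c * (c * c) ^ i)⁻¹ = c * ((c * c) ^ i * v * ((c * c) ^ i)⁻¹) * c⁻¹ by group,
      h1.eq, mul_inv_cancel_right, hswap]
  have hdt : Commute d H.t := hct.pow_left m
  have hd2 : IsPGroup 2 (zpowers d) := by
    have : orderOf d ∣ 2 ^ k := orderOf_dvd_of_pow_eq_one (by
      rw [hd, ← pow_mul, mul_comm, ← hcm, pow_orderOf_eq_one])
    obtain ⟨j, -, hj⟩ := (Nat.dvd_prime_pow Nat.prime_two).1 this
    exact IsPGroup.of_card (n := j) (by rw [Nat.card_zpowers, hj])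
  have hv2 := invol_mul_self hv
  have ht2 := invol_mul_self H.ht
  let W : Subgroup G := Subgroup.closure {H.t, v}
  have hW : IsPGroup 2 W := by
    have hcomm : ∀ x ∈ ({H.t, v} : Set G), ∀ y ∈ ({H.t, v} : Set G), x * y = y * x := by
      rintro x (rfl | rfl) y (rfl | rfl)
      exacts [rfl, htv.eq, htv.eq.symm, rfl]
    letI := Subgroup.isMulCommutative_closure hcomm
    rintro ⟨x, hx⟩
    refine ⟨1, Subtype.ext ?_⟩
    show x ^ 2 ^ 1 = 1
    rw [pow_one, pow_two]
    induction hx using Subgroup.closure_induction with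
    | mem y hy => rcases hy with rfl | rfl; exacts [ht2, hv2]
    | one => exact one_mul 1
    | mul y z hy hz h1 h2 =>
      have hc : y * z = z * y :=
        congrArg Subtype.val ((Subgroup.isMulCommutative_closure hcomm).is_comm.comm (⟨y, hy⟩ : W) ⟨z, hz⟩)
      rw [(show Commute z y from hc.symm).mul_mul_mul_comm y z, h1, h2, one_mul]
    | inv y _ h1 => rw [← mul_inv_rev, h1, inv_one]
  have hn : zpowers d ≤ normalizer (W : Set G) := by
    refine zpowers_le.2 ?_
    have hle : W.map (MulAut.conj d).toMonoidHom ≤ W := by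
      rw [MonoidHom.map_closure, closure_le]
      rintro _ ⟨x, hx, rfl⟩
      show d * x * d⁻¹ ∈ W
      rcases hx with rfl | rfl
      · rw [hdt.eq, mul_inv_cancel_right]; exact Subgroup.subset_closure (Or.inl rfl)
      · rw [hdv]; exact mul_mem (Subgroup.subset_closure (Or.inl rfl)) (Subgroup.subset_closure (Or.inr rfl))
    have heq := eq_of_le_of_card_ge hle (by rw [card_map_of_injective (MulAut.conj d).injective])
    refine mem_normalizer_iff.2 fun y => ⟨fun hy => hle ⟨y, hy, rfl⟩, fun hy => ?_⟩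
    rw [← heq] at hy
    obtain ⟨z, hz, hz'⟩ := hy
    rwa [← (MulAut.conj d).injective hz']
  obtain ⟨P, hP⟩ := (hd2.to_sup_of_normal_right' hW hn).exists_le_sylow
  have hdvc : d * v = v * d := congrArg Subtype.val
    (hab P ⟨d, hP (mem_sup_left (mem_zpowers d))⟩ ⟨v, hP (mem_sup_right (Subgroup.subset_closure (Or.inr rfl)))⟩)
  rw [hdvc, mul_inv_cancel_right] at hdv
  exact invol_ne_one H.ht (right_eq_mul.1 hdv)

/-- The torus configuration. -/
theorem exists_config : ∃ (v s z : G) (A : Subgroup G), orderOf v = 2 ∧ (∃ k : K, H.embK k = v) ∧ orderOf s = 2 ∧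
    Commute H.t v ∧ Commute H.t s ∧ Commute v s ∧ s ∉ ({1, H.t, v, H.t * v} : Set G) ∧ orderOf z = 3 ∧
    z * H.t * z⁻¹ = v ∧ z * v * z⁻¹ = H.t * v ∧ Commute z s ∧ z ∈ normalizer (A : Set G) ∧
    ∃ s₀, Pair H.t v r A s₀ := by
  classical
  haveI : Fact (Nat.Prime 2) := ⟨Nat.prime_two⟩
  obtain ⟨e, f, he, hf, hc, hne⟩ := hK.exists_pair
  obtain ⟨w, hw3, hw1, hw2⟩ := hK.rot e f he hf hc hne
  obtain ⟨S, hS1, hS2⟩ := exists_sylow H hK hab he hf hc hne
  have ht := emb_t H hK
  haveI : IsMulCommutative (S : Subgroup G) := ⟨⟨hab S⟩⟩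
  have htS : H.t ∈ (S : Subgroup G) := ht ▸ hS2 _ 1 (Or.inl rfl)
  have hinj := emb_injective H
  have hemb : ∀ (b : Multiplicative (ZMod 2)) (c x : K), H.emb (1, c) * H.emb (b, x) * (H.emb (1, c))⁻¹ =
      H.emb (b, c * x * c⁻¹) := fun b c x => by
    rw [← map_inv, ← map_mul, ← map_mul]; congr 1; ext <;> simp
  have hord : ∀ x : K, orderOf (H.emb (1, x)) = orderOf x := fun x => by
    rw [orderOf_emb H, Prod.orderOf_mk, orderOf_one, Nat.lcm_one_left]
  have heo : orderOf (H.emb (1, e)) = 2 := by rw [hord, he]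
  -- an element of the normalizer carrying `e` to `t`
  obtain ⟨g, hg⟩ := isConj_iff.1 (fused H hK hab _ heo)
  obtain ⟨m, hm, hme⟩ := S.conj_eq_normalizer_conj_of_mem H.t g⁻¹ htS
    (by rw [inv_inv, hg]; exact hS2 1 e (Or.inr (Or.inl rfl)))
  rw [inv_inv, hg] at hme
  have hmt : m * H.emb (1, e) * m⁻¹ = H.t := by rw [hme]; group
  set q' := m * H.emb (1, f) * m⁻¹ with hq'
  have hq'S : q' ∈ (S : Subgroup G) :=
    (mem_normalizer_iff.1 hm _).1 (hS2 1 f (Or.inr (Or.inr (Or.inl rfl))))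
  obtain ⟨b, x, hx, hbx⟩ := hS1 q' hq'S
  have hxe : x ∈ ({e, f, e * f} : Set K) := by
    rcases hx with rfl | hx
    · exfalso
      rcases z2_cases b with rfl | rfl
      · rw [show ((1, 1) : Multiplicative (ZMod 2) × K) = 1 from rfl, map_one, hq'] at hbx
        have := conj_eq_one_iff.1 hbx.symm
        rw [← map_one H.emb] at this
        exact invol_ne_one hf (congrArg Prod.snd (hinj this))
      · rw [ht, ← hmt, hq'] at hbx
        exact hne (congrArg Prod.snd (hinj ((MulAut.conj m).injective hbx)))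
    · exact hx
  -- rotate `x` onto `e`
  obtain ⟨c, hcx⟩ : ∃ c : K, c * x * c⁻¹ = e := by
    rcases hxe with rfl | rfl | rfl
    · exact ⟨1, by group⟩
    · exact ⟨w⁻¹, by rw [← hw1]; group⟩
    · exact ⟨(w * w)⁻¹, by rw [← hw2, ← hw1]; group⟩
  set n := H.emb (1, c) * m with hn
  have hnt : n * H.emb (1, e) * n⁻¹ = H.t := by
    rw [hn, show H.emb (1, c) * m * H.emb (1, e) * (H.emb (1, c) * m)⁻¹ =
      H.emb (1, c) * (m * H.emb (1, e) * m⁻¹) * (H.emb (1, c))⁻¹ by group, hmt, (emb_commute H _).eq,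
      mul_inv_cancel_right]
  have hnf : n * H.emb (1, f) * n⁻¹ = H.emb (b, e) := by
    rw [hn, show H.emb (1, c) * m * H.emb (1, f) * (H.emb (1, c) * m)⁻¹ = H.emb (1, c) * q' * (H.emb (1, c))⁻¹ by
      rw [hq']; group, ← hbx, hemb, hcx]
  set v := H.emb (1, e) with hv
  have htv : Commute H.t v := (emb_commute H _).symm
  have htne : H.t ≠ v := fun h => by
    rw [← ht] at h
    exact invol_ne_one he (congrArg Prod.snd (hinj h)).symm
  obtain ⟨A, s₀, hP⟩ := exists_pair' H hK hab H.ht heo htv htne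
  -- the rotation
  obtain ⟨z₀, hz₀, hz1, hz2⟩ : ∃ z₀ : K, orderOf z₀ = 3 ∧ n * H.emb (1, z₀ * e * z₀⁻¹) * n⁻¹ = v ∧
      ∀ y, n * H.emb (1, y) * n⁻¹ = v → n * H.emb (1, z₀ * y * z₀⁻¹) * n⁻¹ = H.t * v := by
    have hinjn : ∀ y y', n * H.emb (1, y) * n⁻¹ = n * H.emb (1, y') * n⁻¹ → y = y' := fun y y' h =>
      congrArg Prod.snd (hinj ((MulAut.conj n).injective h))
    have hnef : n * H.emb (1, e * f) * n⁻¹ = H.t * H.emb (b, e) := by
      rw [show ((1, e * f) : Multiplicative (ZMod 2) × K) = (1, e) * (1, f) by ext <;> simp, map_mul,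
        show n * (H.emb (1, e) * H.emb (1, f)) * n⁻¹ = n * H.emb (1, e) * n⁻¹ * (n * H.emb (1, f) * n⁻¹) by group,
        hnt, hnf]
    rcases z2_cases b with rfl | rfl
    · refine ⟨w, hw3, by rw [hw1]; exact hnf, fun y hy => ?_⟩
      rw [hinjn y f (hy.trans hnf.symm), hw2, hnef]
    · have hbe : H.emb (Multiplicative.ofAdd 1, e) = H.t * v := by
        rw [hv, ← ht, ← map_mul]; congr 1; ext <;> simp
      have hef : n * H.emb (1, e * f) * n⁻¹ = v := by
        rw [hnef, hbe, ← mul_assoc, invol_mul_self H.ht, one_mul]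
      have hwi : w⁻¹ * e * w = e * f := by
        have h3 : w ^ 3 = 1 := hw3 ▸ pow_orderOf_eq_one w
        rw [← hw2, ← hw1, show w * (w * e * w⁻¹) * w⁻¹ = w ^ 3 * (w⁻¹ * e * w) * (w ^ 3)⁻¹ by
          rw [show w ^ 3 = w * w * w by rw [pow_succ, pow_two]]; group, h3]
        group
      refine ⟨w⁻¹, by rw [orderOf_inv, hw3], by rw [inv_inv, hwi]; exact hef, fun y hy => ?_⟩
      rw [hinjn y (e * f) (hy.trans hef.symm), inv_inv, ← hw2,
        show w⁻¹ * (w * f * w⁻¹) * w = f by group, hnf, hbe]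
  set z := n * H.emb (1, z₀) * n⁻¹ with hz
  set s := n * H.t * n⁻¹ with hs
  have hzc : ∀ y, z * (n * H.emb (1, y) * n⁻¹) * z⁻¹ = n * H.emb (1, z₀ * y * z₀⁻¹) * n⁻¹ := fun y => by
    rw [hz, ← hemb 1 z₀ y]; group
  have hzt : z * H.t * z⁻¹ = v := by rw [← hnt, hzc]; exact hz1
  have hzv : z * v * z⁻¹ = H.t * v := by
    calc z * v * z⁻¹ = z * (n * H.emb (1, z₀ * e * z₀⁻¹) * n⁻¹) * z⁻¹ := by rw [hz1]
      _ = H.t * v := by rw [hzc]; exact hz2 _ hz1
  have hcs : ∀ y, Commute (n * H.emb (1, y) * n⁻¹) s := fun y => (emb_commute H (1, y)).map (MulAut.conj n).toMonoidHom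
  have hts : Commute H.t s := hnt ▸ hcs e
  have hvs : Commute v s := hz1 ▸ hcs _
  have hsV : s ∉ ({1, H.t, v, H.t * v} : Set G) := by
    have key : ∀ y, s ≠ n * H.emb (1, y) * n⁻¹ := fun y h => by
      have h1 := (MulAut.conj n).injective h
      rw [← ht] at h1
      exact absurd (congrArg Prod.fst (hinj h1)) z2_ne_one
    rintro (h | h | h | h)
    · exact key 1 (by rw [h, show ((1, 1) : Multiplicative (ZMod 2) × K) = 1 from rfl, map_one]; group)
    · exact key e (h.trans hnt.symm)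
    · exact key _ (h.trans hz1.symm)
    · exact key _ (h.trans (hz2 _ hz1).symm)
  have hzA : z ∈ normalizer (A : Set G) := by
    refine mem_normalizer_iff.2 fun a => ?_
    have hcm : ∀ p q : G, Commute (z * p * z⁻¹) (z * q * z⁻¹) ↔ Commute p q := fun p q =>
      ⟨fun hh => by simpa [mul_assoc] using hh.map (MulAut.conj z⁻¹),
        fun hh => hh.map (MulAut.conj z).toMonoidHom⟩
    have ho : orderOf (z * a * z⁻¹) = orderOf a := (MulAut.conj z).orderOf_eq a
    rw [hP.mem, hP.mem, ho]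
    constructor
    · rintro ⟨h1, h2, h3⟩
      have h1' := (hcm a H.t).2 h1
      rw [hzt] at h1'
      have h2' := (hcm a v).2 h2
      rw [hzv] at h2'
      have h4 := h2'.mul_right h1'
      rw [mul_assoc H.t, invol_mul_self heo, mul_one] at h4
      exact ⟨h4, h1', h3⟩
    · rintro ⟨h1, h2, h3⟩
      exact ⟨(hcm a H.t).1 (by rw [hzt]; exact h2), (hcm a v).1 (by rw [hzv]; exact h1.mul_right h2), h3⟩
  exact ⟨v, s, z, A, heo, ⟨e, rfl⟩, by rw [hs, ← MulAut.conj_apply, MulEquiv.orderOf_eq]; exact H.ht, htv, hts, hvs,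
    hsV, by rw [hz, ← MulAut.conj_apply, MulEquiv.orderOf_eq, hord]; exact hz₀, hzt, hzv,
    (hcs z₀), hzA, s₀, hP⟩

section torus

variable [Fintype K] {D : KData K} (hD : 4 * r = (D.Q - 1).natAbs)
include hD

theorem exists_torus : Nonempty (H.Torus D) := by
  classical
  obtain ⟨v, s, z, A, hv, hvK, hs, htv, hts, hvs, hsV, hz, hzt, hzv, hzs, hzA, s₀, hP⟩ := exists_config H hK hab
  have ht2 := invol_mul_self H.ht
  have hv2 := invol_mul_self hv
  have hs2 := invol_mul_self hs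
  have hA : ∀ a ∈ A, Commute a H.t ∧ Commute a v ∧ Odd (orderOf a) := fun a ha => (hP.mem a).1 ha
  haveI := hP.cyc
  have hAab : ∀ a ∈ A, ∀ c ∈ A, Commute a c := fun a ha c hc => by
    letI := IsCyclic.commGroup (α := A)
    exact congrArg Subtype.val (mul_comm (⟨a, ha⟩ : A) ⟨c, hc⟩)
  have hVA : ∀ a ∈ A, ∀ w ∈ vset H.t v, Commute a w := by
    rintro a ha w (rfl | rfl | rfl | rfl)
    exacts [Commute.one_right a, (hA a ha).1, (hA a ha).2.1, (hA a ha).1.mul_right (hA a ha).2.1]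
  have hvmul : ∀ p ∈ vset H.t v, ∀ q ∈ vset H.t v, p * q ∈ vset H.t v := by
    have h3 : v * H.t = H.t * v := htv.eq.symm
    have h4 : H.t * (H.t * v) = v := by rw [← mul_assoc, ht2, one_mul]
    have h5 : v * (H.t * v) = H.t := by rw [← mul_assoc, h3, mul_assoc, hv2, mul_one]
    have h6 : H.t * v * H.t = v := by rw [mul_assoc, h3, h4]
    have h7 : H.t * v * v = H.t := by rw [mul_assoc, hv2, mul_one]
    have h8 : H.t * v * (H.t * v) = 1 := by rw [mul_assoc, h5, ht2]
    intro p hp q hq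
    show p * q = 1 ∨ p * q = H.t ∨ p * q = v ∨ p * q = H.t * v
    rcases hp with e | e | e | e <;> rcases hq with e' | e' | e' | e' <;> rw [e, e'] <;>
      simp only [one_mul, mul_one, ht2, hv2, h3, h4, h5, h6, h7, h8, true_or, or_true]
  -- `s` inverts `A`
  obtain ⟨a₁, ha₁, w₁, hw₁, hsd⟩ := hP.cent s hts.symm hvs.symm
  have hw₁2 : w₁ * w₁ = 1 := by
    rcases hw₁ with rfl | rfl | rfl | rfl
    exacts [one_mul 1, ht2, hv2, by rw [htv.symm.mul_mul_mul_comm H.t v, ht2, hv2, one_mul]]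
  have hse : s = a₁ * w₁ * s₀ := by
    rcases hsd with e | e
    · exfalso
      have ha2 : a₁ * a₁ = 1 := by
        have h1 := hs2
        rw [e, (hVA a₁ ha₁ w₁ hw₁).symm.mul_mul_mul_comm, hw₁2, mul_one] at h1
        exact h1
      rw [eq_one_of_odd_sq (hA a₁ ha₁).2.2 ha2, one_mul] at e
      exact hsV (e ▸ hw₁)
    · exact e
  have hsA : ∀ a ∈ A, s * a * s⁻¹ = a⁻¹ := by
    intro a ha
    rw [hse, show a₁ * w₁ * s₀ * a * (a₁ * w₁ * s₀)⁻¹ = a₁ * (w₁ * (s₀ * a * s₀⁻¹) * w₁⁻¹) * a₁⁻¹ by group,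
      hP.inv a ha, ((hVA _ (inv_mem ha) w₁ hw₁).symm).eq, mul_inv_cancel_right,
      (hAab a₁ ha₁ _ (inv_mem ha)).eq, mul_inv_cancel_right]
  have hcentV : ∀ g : G, Commute g H.t → Commute g v →
      ∃ a ∈ A, ∃ w ∈ vset H.t v, g = a * w ∨ g = a * w * s := by
    intro g hg1 hg2
    obtain ⟨a, ha, w, hw, e | e⟩ := hP.cent g hg1 hg2
    · exact ⟨a, ha, w, hw, Or.inl e⟩
    · refine ⟨a * a₁⁻¹, mul_mem ha (inv_mem ha₁), w * w₁, hvmul w hw w₁ hw₁, Or.inr ?_⟩
      have hcA : Commute w a₁⁻¹ := (hVA _ (inv_mem ha₁) w hw).symm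
      rw [e, hse]
      calc a * w * s₀ = a * a₁⁻¹ * (a₁ * w) * (w₁ * w₁) * s₀ := by rw [hw₁2]; group
        _ = a * a₁⁻¹ * (w * a₁) * (w₁ * w₁) * s₀ := by rw [(hVA a₁ ha₁ w hw).eq]
        _ = a * a₁⁻¹ * w * (a₁ * w₁) * w₁ * s₀ := by group
        _ = a * a₁⁻¹ * w * (w₁ * a₁) * w₁ * s₀ := by rw [(hVA a₁ ha₁ w₁ hw₁).eq]
        _ = a * a₁⁻¹ * (w * w₁) * (a₁ * w₁ * s₀) := by group
  -- the common centralizers
  have htne : H.t ≠ v := hP.ne
  have hAw : ∀ a ∈ A, a ≠ 1 → ∀ w ∈ ({H.t, v, H.t * v} : Set G), ∀ g : G, Commute g a → Commute g w →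
      ∃ b ∈ A, ∃ w' ∈ vset H.t v, g = b * w' := by
    intro a ha ha1 w hw g hga hgw
    rcases hw with rfl | rfl | rfl
    · exact hP.centA a ha ha1 g hga hgw
    · obtain ⟨A', s', hP'⟩ := exists_pair' H hK hab hv H.ht htv.symm htne.symm
      have hAA : ∀ c, c ∈ A' ↔ c ∈ A := fun c => by
        rw [hP'.mem, hP.mem]; exact ⟨fun ⟨a, b, c⟩ => ⟨b, a, c⟩, fun ⟨a, b, c⟩ => ⟨b, a, c⟩⟩
      obtain ⟨b, hb, w', hw', e⟩ := hP'.centA a ((hAA a).2 ha) ha1 g hga hgw
      refine ⟨b, (hAA b).1 hb, w', ?_, e⟩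
      rcases hw' with h | h | h | h
      exacts [Or.inl h, Or.inr (Or.inr (Or.inl h)), Or.inr (Or.inl h),
        Or.inr (Or.inr (Or.inr (h.trans htv.eq.symm)))]
    · have hx : orderOf (H.t * v) = 2 := orderOf_eq_prime
        (by rw [pow_two, htv.symm.mul_mul_mul_comm H.t v, ht2, hv2, one_mul]) fun e => htne (by
          rw [eq_inv_of_mul_eq_one_left e, inv_eq_of_mul_eq_one_right hv2])
      have hc : Commute (H.t * v) H.t := (Commute.refl H.t).mul_left htv.symm
      obtain ⟨A', s', hP'⟩ := exists_pair' H hK hab hx H.ht hc fun e => invol_ne_one hv (mul_eq_left.1 e)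
      have h6 : H.t * v * H.t = v := by rw [hc.eq, ← mul_assoc, ht2, one_mul]
      have hAA : ∀ c, c ∈ A' ↔ c ∈ A := fun c => by
        rw [hP'.mem, hP.mem]
        refine ⟨fun ⟨a, b, c⟩ => ⟨b, ?_, c⟩, fun ⟨a, b, c⟩ => ⟨a.mul_right b, a, c⟩⟩
        have := a.mul_right b
        rwa [h6] at this
      obtain ⟨b, hb, w', hw', e⟩ := hP'.centA a ((hAA a).2 ha) ha1 g hga hgw
      refine ⟨b, (hAA b).1 hb, w', ?_, e⟩
      rcases hw' with h | h | h | h
      exacts [Or.inl h, Or.inr (Or.inr (Or.inr h)), Or.inr (Or.inl h),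
        Or.inr (Or.inr (Or.inl (h.trans h6)))]
  -- elements normalizing the four-group and centralizing `a`
  have hz3 : z ^ 3 = 1 := hz ▸ pow_orderOf_eq_one z
  have hAz : ∀ a ∈ A, z * a * z⁻¹ ∈ A := fun a ha => (mem_normalizer_iff.1 hzA a).1 ha
  have hfixz : ∀ a ∈ A, a ≠ 1 → ∀ i : ℕ, i = 1 ∨ i = 2 →
      (z ^ i * a * (z ^ i)⁻¹ = a → z * a * z⁻¹ = a) ∧ z ^ i * a⁻¹ * (z ^ i)⁻¹ ≠ a := by
    intro a ha ha1 i hi
    have hcube : z * (z * (z * a * z⁻¹) * z⁻¹) * z⁻¹ = a := by
      calc z * (z * (z * a * z⁻¹) * z⁻¹) * z⁻¹ = z ^ 3 * a * (z ^ 3)⁻¹ := by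
            rw [show z ^ 3 = z * z * z by rw [pow_succ, pow_two]]; group
        _ = a := by rw [hz3]; group
    have hconj : ∀ p : G, z * p⁻¹ * z⁻¹ = (z * p * z⁻¹)⁻¹ := fun p => by group
    have hne : a⁻¹ ≠ a := fun e => ha1 (eq_one_of_odd_sq (hA a ha).2.2 (by
      nth_rw 1 [← e]; exact inv_mul_cancel a))
    rcases hi with rfl | rfl
    · rw [pow_one]
      refine ⟨id, fun e => hne ?_⟩
      have e' : z * a * z⁻¹ = a⁻¹ := inv_eq_iff_eq_inv.1 ((hconj a).symm.trans e)
      rw [e', hconj, e', inv_inv, e'] at hcube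
      exact hcube
    · rw [show z ^ 2 = z * z from pow_two z]
      refine ⟨fun e => ?_, fun e => hne ?_⟩
      · rw [show z * z * a * (z * z)⁻¹ = z * (z * a * z⁻¹) * z⁻¹ by group] at e
        rwa [e] at hcube
      · rw [show z * z * a⁻¹ * (z * z)⁻¹ = z * (z * a⁻¹ * z⁻¹) * z⁻¹ by group, hconj, hconj] at e
        have e' : z * (z * a * z⁻¹) * z⁻¹ = a⁻¹ := inv_eq_iff_eq_inv.1 e
        rw [e', hconj, inv_eq_iff_eq_inv] at hcube
        rw [hcube, hconj, hcube, inv_inv] at e'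
        exact e'.symm
  have hnorm : ∀ a ∈ A, a ≠ 1 → ∀ g : G, Commute g a → (∀ w ∈ vset H.t v, g * w * g⁻¹ ∈ vset H.t v) →
      (∃ b ∈ A, ∃ w ∈ vset H.t v, g = b * w) ∨
        (z * a * z⁻¹ = a ∧ ∃ i : ℕ, ∃ b ∈ A, ∃ w ∈ vset H.t v, g = z ^ i * (b * w)) := by
    intro a ha ha1 g hga hgV
    obtain ⟨i, hi, hgt⟩ : ∃ i : ℕ, (i = 0 ∨ i = 1 ∨ i = 2) ∧ g * H.t * g⁻¹ = z ^ i * H.t * (z ^ i)⁻¹ := by
      rcases hgV H.t (Or.inr (Or.inl rfl)) with e | e | e | e
      · exact absurd (conj_eq_one_iff.1 e) (invol_ne_one H.ht)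
      · exact ⟨0, Or.inl rfl, by rw [e]; simp⟩
      · exact ⟨1, Or.inr (Or.inl rfl), by rw [e, pow_one, hzt]⟩
      · refine ⟨2, Or.inr (Or.inr rfl), ?_⟩
        rw [e, pow_two, show z * z * H.t * (z * z)⁻¹ = z * (z * H.t * z⁻¹) * z⁻¹ by group, hzt, hzv]
    set c := (z ^ i)⁻¹ * g with hc
    have hct : Commute c H.t := mul_inv_eq_iff_eq_mul.1 (by
      rw [hc, show (z ^ i)⁻¹ * g * H.t * ((z ^ i)⁻¹ * g)⁻¹ = (z ^ i)⁻¹ * (g * H.t * g⁻¹) * z ^ i by group, hgt]
      group)
    have hzV : ∀ w ∈ vset H.t v, z * w * z⁻¹ ∈ vset H.t v := by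
      rintro w (rfl | rfl | rfl | rfl)
      · exact Or.inl (by group)
      · exact Or.inr (Or.inr (Or.inl hzt))
      · exact Or.inr (Or.inr (Or.inr hzv))
      · refine Or.inr (Or.inl ?_)
        rw [show z * (H.t * v) * z⁻¹ = z * H.t * z⁻¹ * (z * v * z⁻¹) by group, hzt, hzv, ← mul_assoc, ← htv.eq,
          mul_assoc, hv2, mul_one]
    have hcv : Commute c v := by
      have hzinv : ∀ (j : ℕ) (w : G), w ∈ vset H.t v → z ^ j * w * (z ^ j)⁻¹ ∈ vset H.t v := by
        intro j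
        induction j with
        | zero => intro w hw; simpa using hw
        | succ j ih =>
          intro w hw
          have := hzV _ (ih w hw)
          rwa [show z * (z ^ j * w * (z ^ j)⁻¹) * z⁻¹ = z ^ (j + 1) * w * (z ^ (j + 1))⁻¹ by rw [pow_succ']; group]
            at this
      have hmem : c * v * c⁻¹ ∈ vset H.t v := by
        have h1 := hgV v (Or.inr (Or.inr (Or.inl rfl)))
        have h2 := hzinv (2 * i) _ h1
        rw [show c * v * c⁻¹ = (z ^ i)⁻¹ * (g * v * g⁻¹) * z ^ i by rw [hc]; group]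
        rwa [show z ^ (2 * i) = (z ^ i)⁻¹ by
          refine eq_inv_of_mul_eq_one_left ?_
          rw [← pow_add, show 2 * i + i = 3 * i by ring, pow_mul, hz3, one_pow], inv_inv] at h2
      rcases hmem with e | e | e | e
      · exact absurd (conj_eq_one_iff.1 e) (invol_ne_one hv)
      · exfalso
        refine htne ?_
        have h1 : c * H.t * c⁻¹ = H.t := by rw [hct.eq, mul_inv_cancel_right]
        exact ((MulAut.conj c).injective (show c * v * c⁻¹ = c * H.t * c⁻¹ by rw [e, h1])).symm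
      · exact mul_inv_eq_iff_eq_mul.1 e
      · exact absurd e (no_swap H hK hab hv htv htne hct)
    obtain ⟨b, hb, w, hw, hcd⟩ := hcentV c hct hcv
    have hge : g = z ^ i * c := by rw [hc, mul_inv_cancel_left]
    have hgfix : g * a * g⁻¹ = a := by rw [hga.eq, mul_inv_cancel_right]
    rcases hcd with e | e
    · rcases hi with hi0 | hi12
      · left
        exact ⟨b, hb, w, hw, by rw [hge, hi0, e, pow_zero, one_mul]⟩
      · right
        refine ⟨(hfixz a ha ha1 i hi12).1 ?_, i, b, hb, w, hw, by rw [hge, e]⟩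
        rw [hge, e, show z ^ i * (b * w) * a * (z ^ i * (b * w))⁻¹ = z ^ i * (b * (w * a * w⁻¹) * b⁻¹) * (z ^ i)⁻¹
          by group, (hVA a ha w hw).symm.eq, mul_inv_cancel_right, (hAab b hb a ha).eq,
          mul_inv_cancel_right] at hgfix
        exact hgfix
    · exfalso
      rw [hge, e, show z ^ i * (b * w * s) * a * (z ^ i * (b * w * s))⁻¹ =
        z ^ i * (b * (w * (s * a * s⁻¹) * w⁻¹) * b⁻¹) * (z ^ i)⁻¹ by group, hsA a ha,
        (hVA a⁻¹ (inv_mem ha) w hw).symm.eq, mul_inv_cancel_right, (hAab b hb _ (inv_mem ha)).eq,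
        mul_inv_cancel_right] at hgfix
      rcases hi with hi0 | hi12
      · rw [hi0] at hgfix
        simp only [pow_zero, one_mul, inv_one, mul_one] at hgfix
        exact ha1 (eq_one_of_odd_sq (hA a ha).2.2 (by nth_rw 1 [← hgfix]; exact inv_mul_cancel a))
      · exact (hfixz a ha ha1 i hi12).2 hgfix
  have hAodd : Odd (Nat.card A) := hP.card ▸ hP.odd
  have hH : ∀ a ∈ A, a ≠ 1 → CentHyp H.t v a A := fun a ha ha1 =>
    ⟨H.ht, hv, htv, htne, ha, hAab, hAodd, fun b hb => (hA b hb).1, fun b hb => (hA b hb).2.1,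
      fun w hw hw1 g hga hgw => hAw a ha ha1 w (by
        rcases hw with h | h | h | h
        exacts [absurd h hw1, Or.inl h, Or.inr (Or.inl h), Or.inr (Or.inr h)]) g hga hgw, hab⟩
  have hrot : ∀ a ∈ A, a ≠ 1 → ∀ g : G, Commute g a → g * H.t * g⁻¹ = v → g * v * g⁻¹ = H.t * v →
      z * a * z⁻¹ = a := by
    intro a ha ha1 g hga hgt hgv
    rcases hnorm a ha ha1 g hga (by
      rintro w (rfl | rfl | rfl | rfl)
      · exact Or.inl (by group)
      · exact Or.inr (Or.inr (Or.inl hgt))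
      · exact Or.inr (Or.inr (Or.inr hgv))
      · refine Or.inr (Or.inl ?_)
        rw [show g * (H.t * v) * g⁻¹ = g * H.t * g⁻¹ * (g * v * g⁻¹) by group, hgt, hgv, ← mul_assoc, ← htv.eq,
          mul_assoc, hv2, mul_one]) with ⟨b, hb, w, hw, rfl⟩ | ⟨h1, -⟩
    · exfalso
      refine htne ?_
      have hcw : Commute w H.t := by
        rcases hw with rfl | rfl | rfl | rfl
        exacts [Commute.one_left _, Commute.refl _, htv.symm, (Commute.refl H.t).mul_left htv.symm]
      rw [← hgt, show b * w * H.t * (b * w)⁻¹ = b * (w * H.t * w⁻¹) * b⁻¹ by group, hcw.eq, mul_inv_cancel_right,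
        (hA b hb).1.eq, mul_inv_cancel_right]
    · exact h1
  haveI : Finite K := Finite.of_fintype K
  have hsy : ∀ p : ℕ, p.Prime → p ≠ 2 → p ∣ r → ∃ m, Nat.card K = r * m ∧ ¬ p ∣ m := by
    intro p hp hp2 hpr
    refine ⟨2 * D.Q.natAbs * (D.Q + 1).natAbs, ?_, fun h => ?_⟩
    · have h1 := congrArg Int.natAbs D.card
      rw [Int.natAbs_mul, Int.natAbs_mul, Int.natAbs_natCast, Int.natAbs_abs,
        show D.Q ^ 2 - 1 = (D.Q - 1) * (D.Q + 1) by ring, Int.natAbs_mul, ← hD] at h1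
      simp only [show (2 : ℤ).natAbs = 2 from rfl] at h1
      linarith [h1]
    · have h1 : (p : ℤ) ∣ D.Q - 1 := Int.natCast_dvd.2 (hD ▸ hpr.mul_left 4)
      have h2' : p ∣ 2 * (D.Q.natAbs * (D.Q + 1).natAbs) := by rwa [← mul_assoc]
      have hn2 : ¬ p ∣ 2 := fun h => hp2 ((Nat.prime_dvd_prime_iff_eq hp Nat.prime_two).1 h)
      rcases hp.dvd_mul.1 ((hp.dvd_mul.1 h2').resolve_left hn2) with h3 | h3
      · have h4 := (Int.natCast_dvd.2 h3).sub h1
        rw [show D.Q - (D.Q - 1) = 1 by ring] at h4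
        exact hp.ne_one (Nat.dvd_one.1 (Int.natCast_dvd_natCast.1 h4))
      · have h4 := (Int.natCast_dvd.2 h3).sub h1
        rw [show D.Q + 1 - (D.Q - 1) = ((2 : ℕ) : ℤ) by ring] at h4
        exact hn2 (Int.natCast_dvd_natCast.1 h4)
  have hfive : ∀ a ∈ A, a ≠ 1 → (∃ f : Subgroup.centralizer ({a} : Set G) →* alternatingGroup (Fin 5),
      Function.Surjective f ∧ f.ker = A.subgroupOf _) →
      Nat.Coprime (Nat.card A) 15 ∨ Nat.card A = 3 ∨ Nat.card A = 5 := by
    rintro a ha ha1 ⟨f, hf, hker⟩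
    have hzfix : z * a * z⁻¹ = a := by
      by_contra hfree
      rcases (hH a ha ha1).cases_structure with hS | ⟨⟨g', hg', hgt, hgv⟩, -⟩
      · let w₁ : centralizer ({a} : Set G) := ⟨H.t, mem_centralizer_singleton_iff.2 (hA a ha).1.eq.symm⟩
        let w₂ : centralizer ({a} : Set G) := ⟨v, mem_centralizer_singleton_iff.2 (hA a ha).2.1.eq.symm⟩
        have hall : ∀ x : alternatingGroup (Fin 5), x ∈ ({1, f w₁, f w₂, f (w₁ * w₂)} : Set (alternatingGroup (Fin 5))) := by
          intro x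
          obtain ⟨⟨g, hg⟩, rfl⟩ := hf x
          have hga : Commute g a := mem_centralizer_singleton_iff.1 hg
          obtain ⟨b, hb, w, hw, rfl⟩ := (hnorm a ha ha1 g hga (hS g hga)).resolve_right fun h => hfree h.1
          have hbM : b ∈ centralizer ({a} : Set G) := mem_centralizer_singleton_iff.2 (hAab b hb a ha).eq
          have hfb : f ⟨b, hbM⟩ = 1 := by rw [← MonoidHom.mem_ker, hker]; exact mem_subgroupOf.2 hb
          have hval : ∀ m : centralizer ({a} : Set G), w = m → f ⟨b * w, hg⟩ = f m := fun m hm => by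
            rw [show (⟨b * w, hg⟩ : centralizer ({a} : Set G)) = ⟨b, hbM⟩ * m from Subtype.ext (by
              rw [Subgroup.coe_mul, ← hm]), map_mul, hfb, one_mul]
          rcases hw with e | e | e | e
          · exact Or.inl ((hval 1 e).trans (map_one f))
          · exact Or.inr (Or.inl (hval w₁ e))
          · exact Or.inr (Or.inr (Or.inl (hval w₂ e)))
          · exact Or.inr (Or.inr (Or.inr (hval (w₁ * w₂) e)))
        have h1 := Set.ncard_le_ncard (s := (Set.univ : Set (alternatingGroup (Fin 5)))) (fun x _ => hall x)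
          (Set.toFinite _)
        rw [Set.ncard_univ, nat_card_alternatingGroup, Nat.card_fin] at h1
        have h2 : ({1, f w₁, f w₂, f (w₁ * w₂)} : Set (alternatingGroup (Fin 5))).ncard ≤ 4 :=
          (Set.ncard_insert_le _ _).trans (Nat.succ_le_succ ((Set.ncard_insert_le _ _).trans
            (Nat.succ_le_succ ((Set.ncard_insert_le _ _).trans (Nat.succ_le_succ (Set.ncard_singleton _).le)))))
        rw [show Nat.factorial 5 = 120 from rfl] at h1
        omega
      · exact absurd (hrot a ha ha1 g' hg' hgt hgv) hfree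
    rw [hP.card]
    exact card_small H hK hab hsy hP.cyc hP.card ha (hA a ha).1.symm (hA a ha).2.1.symm
      (mul_inv_eq_iff_eq_mul.1 hzfix) H.ht hv htne htv hs hts.symm hvs.symm hzs.symm hzt hzv hsA hf hker
  have hthree : 3 ∣ Nat.card A → ∀ a ∈ A, z * a * z⁻¹ = a := by
    intro h3 a ha
    haveI : Fact (Nat.Prime 3) := ⟨Nat.prime_three⟩
    obtain ⟨⟨b, hb⟩, hb3⟩ := exists_prime_orderOf_dvd_card' (G := A) 3 h3
    rw [Subgroup.orderOf_mk] at hb3
    have hb1 : b ≠ 1 := fun e => by rw [e, orderOf_one] at hb3; omega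
    have hzb : z * b * z⁻¹ = b := by
      obtain ⟨g, hg⟩ := hP.cyc.exists_generator
      have hpow : ∀ c ∈ A, orderOf c = 3 → c ∈ zpowers b := by
        intro c hc hc3
        rw [← GenA.CycPrime.eq_of_card_eq hP.cyc (zpowers_le.2 hc) (zpowers_le.2 hb)
          (by rw [Nat.card_zpowers, Nat.card_zpowers, hc3, hb3])]
        exact mem_zpowers c
      obtain ⟨i, hi⟩ := mem_zpowers_iff.1 (hpow _ (hAz b hb)
        ((MulAut.conj z).orderOf_eq b |>.trans hb3))
      have hb33 : b ^ 3 = 1 := hb3 ▸ pow_orderOf_eq_one b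
      rw [← Int.emod_add_mul_ediv i 3, zpow_add, zpow_mul, zpow_ofNat, hb33, one_zpow, mul_one] at hi
      rcases (show i % 3 = 0 ∨ i % 3 = 1 ∨ i % 3 = 2 by omega) with e | e | e <;> rw [e] at hi
      · rw [zpow_zero] at hi
        exact absurd (conj_eq_one_iff.1 hi.symm) hb1
      · rw [zpow_one] at hi; exact hi.symm
      · exfalso
        refine (hfixz b hb hb1 1 (Or.inl rfl)).2 ?_
        rw [pow_one]
        have e2 : b ^ (2 : ℤ) = b⁻¹ := eq_inv_of_mul_eq_one_left (by rw [zpow_two, ← hb33, pow_succ, pow_two])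
        rw [show z * b⁻¹ * z⁻¹ = (z * b * z⁻¹)⁻¹ by group, ← hi, e2, inv_inv]
    rcases (hH b hb hb1).cases_structure with hS | ⟨-, f, hf, hker⟩
    swap
    · have hAM : A ≤ centralizer ({b} : Set G) := fun c hc => mem_centralizer_singleton_iff.2 (hAab c hc b hb).eq
      rw [(torus_central hP.cyc hAM hf hker z (mul_inv_eq_iff_eq_mul.1 hzb) a ha).eq, mul_inv_cancel_right]
    obtain ⟨m, hm, h3m⟩ := hsy 3 Nat.prime_three (by norm_num) (hP.card ▸ h3)
    obtain ⟨u, A', s', hP', hzA'⟩ := exists_torus_of_commute H hK hab Nat.prime_three (by norm_num) hm h3m hs hz hzs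
    have hz1 : z ≠ 1 := fun e => by rw [e, orderOf_one] at hz; omega
    obtain ⟨hcen, -⟩ := inverted_alt5 H hK hab hP' hzA' hz1 hb1 (hA b hb).2.2
      ((mul_inv_eq_iff_eq_mul.1 hzb).symm) (hsA b hb)
    have hle : A' ≤ zpowers z := by
      intro c hc
      obtain ⟨hcs, -, hco⟩ := (hP'.mem c).1 hc
      have hcb : Commute c b := (hcen b (mul_inv_eq_iff_eq_mul.1 hzb).symm c hc).symm
      haveI := hP'.cyc
      have hcz : Commute c z := by
        letI := IsCyclic.commGroup (α := A')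
        exact congrArg Subtype.val (mul_comm (⟨c, hc⟩ : A') ⟨z, hzA'⟩)
      have hfixed : ∀ x ∈ A, ∀ w ∈ vset H.t v, Commute (x * w) s → x = 1 := by
        intro x hx w hw hxw
        have hws : Commute w s := by
          rcases hw with rfl | rfl | rfl | rfl
          exacts [Commute.one_left s, hts, hvs, hts.mul_left hvs]
        have h1 : s * x * s⁻¹ = x := by
          have h2 : s * (x * w) * s⁻¹ = x * w := by rw [← hxw.eq, mul_inv_cancel_right]
          rw [show s * (x * w) * s⁻¹ = s * x * s⁻¹ * (s * w * s⁻¹) by group, ← hws.eq, mul_inv_cancel_right] at h2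
          exact mul_right_cancel h2
        rw [hsA x hx] at h1
        exact eq_one_of_odd_sq (hA x hx).2.2 (by nth_rw 1 [← h1]; exact inv_mul_cancel x)
      rcases hnorm b hb hb1 c hcb (hS c hcb) with ⟨x, hx, w, hw, rfl⟩ | ⟨-, i, x, hx, w, hw, rfl⟩
      · rw [hfixed x hx w hw hcs, one_mul] at hco ⊢
        have hw2 := (hH b hb hb1).vset_sq hw
        rw [eq_one_of_odd_sq hco hw2]
        exact one_mem _
      · have hzi : Commute (z ^ i) s := hzs.pow_left i
        have hxs : Commute (x * w) s := by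
          have := (hzi.inv_left).mul_left hcs
          rwa [inv_mul_cancel_left] at this
        rw [hfixed x hx w hw hxs, one_mul] at hcz ⊢
        have hwz : Commute w z := by
          have := (Commute.pow_self z i).inv_left.mul_left hcz
          rwa [inv_mul_cancel_left] at this
        have hwz' : z * w * z⁻¹ = w := by rw [← hwz.eq, mul_inv_cancel_right]
        rcases hw with rfl | rfl | rfl | rfl
        · rw [mul_one]; exact pow_mem (mem_zpowers z) i
        · rw [hzt] at hwz'; exact absurd hwz'.symm htne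
        · rw [hzv] at hwz'; exact absurd (mul_eq_right.1 hwz') (invol_ne_one H.ht)
        · rw [show z * (H.t * v) * z⁻¹ = z * H.t * z⁻¹ * (z * v * z⁻¹) by group, hzt, hzv,
            ← mul_assoc, ← htv.eq] at hwz'
          exact absurd (mul_eq_left.1 hwz') (invol_ne_one hv)
    have hr3 : Nat.card A ≤ 3 := by
      have h1 := Subgroup.card_le_of_le hle
      rw [hP'.card, Nat.card_zpowers, hz, ← hP.card] at h1
      exact h1
    have hbA : zpowers b = A := eq_of_le_of_card_ge (zpowers_le.2 hb) (by rw [Nat.card_zpowers, hb3]; exact hr3)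
    rw [← hbA] at ha
    obtain ⟨i, rfl⟩ := mem_zpowers_iff.1 ha
    rw [← conj_zpow, hzb]
  refine ⟨⟨v, s, z, A, hv, hvK, hs, htv, hts, hvs, hsV, hz, hzt, hzv, hzs, hzA, hP.cyc, hAodd,
    by rw [hP.card]; exact hD, fun a ha => (hA a ha).1, fun a ha => (hA a ha).2.1, hsA, hcentV, hAw,
    fun a ha hfree g hga => ?_, fun a ha ha1 hfix => ?_, hthree, hfive⟩⟩
  · have ha1 : a ≠ 1 := fun e => hfree (by rw [e]; group)
    rcases (hH a ha ha1).cases_structure with hS | ⟨⟨g', hg', hgt, hgv⟩, -⟩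
    · exact (hnorm a ha ha1 g hga (hS g hga)).resolve_right fun h => hfree h.1
    · exact absurd (hrot a ha ha1 g' hg' hgt hgv) hfree
  · rcases (hH a ha ha1).cases_structure with hS | ⟨-, hf⟩
    · left
      apply le_antisymm
      · intro g hg
        have hga : Commute g a := mem_centralizer_singleton_iff.1 hg
        have hcl : ∀ w ∈ vset H.t v, w ∈ closure ({H.t, v, z} : Set G) := by
          rintro w (rfl | rfl | rfl | rfl)
          exacts [one_mem _, Subgroup.subset_closure (Or.inl rfl), Subgroup.subset_closure (Or.inr (Or.inl rfl)),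
            mul_mem (Subgroup.subset_closure (Or.inl rfl)) (Subgroup.subset_closure (Or.inr (Or.inl rfl)))]
        rcases hnorm a ha ha1 g hga (hS g hga) with ⟨b, hb, w, hw, rfl⟩ | ⟨-, i, b, hb, w, hw, rfl⟩
        · exact mul_mem (mem_sup_left hb) (mem_sup_right (hcl w hw))
        · exact mul_mem (mem_sup_right (pow_mem (Subgroup.subset_closure
              (show z ∈ ({H.t, v, z} : Set G) from Or.inr (Or.inr rfl))) i))
            (mul_mem (mem_sup_left hb) (mem_sup_right (hcl w hw)))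
      · refine sup_le (fun b hb => mem_centralizer_singleton_iff.2 (hAab b hb a ha).eq) ((closure_le _).2 ?_)
        rintro g (rfl | rfl | rfl)
        · exact mem_centralizer_singleton_iff.2 (hA a ha).1.eq.symm
        · exact mem_centralizer_singleton_iff.2 (hA a ha).2.1.eq.symm
        · exact mem_centralizer_singleton_iff.2 (mul_inv_eq_iff_eq_mul.1 hfix)
    · exact Or.inr hf

end torus

end Cfsg.Agent.JT.Loc
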