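import Mathlib
import Cfsg.Agent.Lib.JT.LocalTorus

/-!
# `Setup.Local` and `Setup.Torus` for `PSL₂(q)`, `q` odd

The piece L of `notes/s0343-plan-h8.md`.
-/

set_option autoImplicit false
set_option linter.unusedSectionVars false
set_option linter.style.haveILetI false

namespace Cfsg.Agent.JT

open Subgroup

universe u v

variable {G : Type u} [Group G] [Finite G] [IsSimpleGroup G] {F : Type v} [Field F] [Fintype F]

local notation "PG" => Matrix.ProjectiveSpecialLinearGroup (Fin 2) F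

/-- The abelian Sylow 2-subgroups pass to the component. -/
theorem Setup.sylow_comm (H : Setup G PG) (hab : ∀ P : Sylow 2 G, ∀ a b : P, a * b = b * a) (P : Sylow 2 PG) :
    ∀ a ∈ (P : Subgroup PG), ∀ b ∈ (P : Subgroup PG), a * b = b * a := by
  intro a ha b hb
  obtain ⟨R, hR⟩ := (P.2.map H.embK).exists_le_sylow
  have h1 : H.embK a * H.embK b = H.embK b * H.embK a := congrArg Subtype.val
    (hab R ⟨_, hR (Subgroup.mem_map_of_mem _ ha)⟩ ⟨_, hR (Subgroup.mem_map_of_mem _ hb)⟩)
  have h2 : H.embK (a * b) = H.embK (b * a) := by rw [map_mul, map_mul]; exact h1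
  exact congrArg Prod.snd (Loc.emb_injective H h2)

/-- The local facts. -/
theorem Setup.local_facts [Fintype PG] (hab : ∀ P : Sylow 2 G, ∀ a b : P, a * b = b * a)
    (hodd : Odd (Fintype.card F)) (h3 : 3 < Fintype.card F) (H : Setup G PG) :
    (Fintype.card F % 8 = 3 ∨ Fintype.card F % 8 = 5) ∧ H.Local ∧
      ∀ D : KData PG, D.Q.natAbs = Fintype.card F → Nonempty (H.Torus D) := by
  obtain ⟨r, hK, hr⟩ := Loc.exists_kfacts hodd h3 (H.sylow_comm hab)
  refine ⟨?_, ⟨Loc.card_G H hK hab, Loc.fused H hK hab, Loc.emb_t H hK⟩, fun D hD => ?_⟩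
  · rcases hr with ⟨h, -⟩ | ⟨h, -⟩
    · exact Or.inr h
    · exact Or.inl h
  · refine Loc.exists_torus H hK hab ?_
    have h1 := D.Q_mod
    rcases hr with ⟨h, h4⟩ | ⟨h, h4⟩ <;> omega

end Cfsg.Agent.JT
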