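import Mathlib

/-!
The hypotheses of the numerical cases (`notes/s0343-plan-h8.md`, section 9): `Q = 2x - 1 = ±q`,
signed degrees, and `g = |G| / (|Q| ^ 2 |Q - 1|)`.
-/

set_option autoImplicit false

namespace Cfsg.Agent.JT.Arith

/-- The parameter. -/
structure Par (Q x : ℤ) : Prop where
  Q_eq : Q = 2 * x - 1
  x_mod : x % 4 = 3
  Q_pow : ∃ p n : ℕ, p.Prime ∧ Odd n ∧ Q.natAbs = p ^ n
  Q_gt : 5 < Q.natAbs

/-- Common data: `g * Q / (2x)` is `|G| / |C|`. -/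
structure Ord (Q x : ℤ) (g : ℚ) : Prop where
  pos : 0 < g
  index : ∃ N : ℤ, g * Q = 2 * x * N

/-- Shape A, first option: `R` common, `P, P'` and `D, D'` private, `D' = -Q R`. -/
structure OptOne (Q x : ℤ) (g : ℚ) (R P P' D D' : ℤ) : Prop where
  par : Par Q x
  R_ne : R ≠ 0
  P_ne : P ≠ 0
  P'_ne : P' ≠ 0
  D_ne : D ≠ 0
  sumP : R + P + P' = -1
  sumD : R + D + D' = -1
  D'_eq : D' = -Q * R
  R_mod : R % 8 = 1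
  g_eq : g = -Q * (2 * x) * R
  e1 : g * ((R + 1 : ℚ) / R - x ^ 2 * (R + 1) / (P * P')) = 8 * x ^ 2 * Q * (x + 1)
  e3 : g * ((R + 1 : ℚ) / R - Q ^ 2 * (R + 1) / (D * D')) = 16 * x ^ 3 * (x - 1)

/-- Shape A, second option. -/
structure OptTwo (Q x : ℤ) (g : ℚ) (R P P' : ℤ) : Prop where
  par : Par Q x
  ord : Ord Q x g
  R_ne : R ≠ 0
  R_ne' : R ≠ -1
  P_ne : P ≠ 0
  P'_ne : P' ≠ 0
  sumP : R + P + P' = -1
  R_mod : R % 8 = 1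
  P_mod : P % 8 = x % 8
  P'_mod : P' % 8 = x % 8
  R_one : ((|x - 1| / 2 : ℤ)) ∣ R - 1
  P_one : ((|x - 1| / 2 : ℤ)) ∣ P - 1
  g_eq : g = -2 * Q * P'
  e1 : g * ((R + 1 : ℚ) / R - x ^ 2 * (R + 1) / (P * P')) = 8 * x ^ 2 * Q * (x + 1)
  integral : ∃ k : ℕ, R * P ∣ (2 * (x - 1)) ^ k * Q ^ 3 * (R + 1) * (P * P' - R)

/-- Shape B: `Y` for two vectors with the third, `X` for the first two, `p` private. -/
structure ShapeB (Q x : ℤ) (g : ℚ) (Y X p : ℤ) : Prop where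
  par : Par Q x
  ord : Ord Q x g
  Y_ne : Y ≠ 0
  X_ne : X ≠ 0
  p_ne : p ≠ 0
  sum : Y + X + p = -1
  Y_mod : Y % 8 = (1 - x) % 8
  X_mod : X % 8 = (2 * x) % 8
  p_mod : p % 8 = x % 8
  Y_gt : |x - 1| < |Y|
  p3_gt : |Q| < |1 + 2 * Y|
  e1 : g * (1 + (x - 1 : ℚ) ^ 2 / Y + (2 * x : ℚ) ^ 2 / X + (x : ℚ) ^ 2 / p) =
    8 * x ^ 2 * Q * (x + 1)
  e3 : g * (1 + 2 * (x - 1 : ℚ) ^ 2 / Y + (Q : ℚ) ^ 2 / (-1 - 2 * Y)) = 16 * x ^ 3 * (x - 1)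

/-- The case of centralizers `A₅` in characteristic five: the equations of the characters of
degree `1`, `3`, `5` of `A₅`. -/
structure CaseFive (Q x : ℤ) (g : ℚ) (R P P' D D' : ℤ) : Prop where
  par : Par Q x
  x_ge : 14 ≤ x
  pos : 0 < g
  R_ne : R ≠ 0
  R_ne' : R ≠ -1
  P_ne : P ≠ 0
  P'_ne : P' ≠ 0
  D_ne : D ≠ 0
  D'_ne : D' ≠ 0
  D'_ne' : D' ≠ 1
  D_ne_R : D ≠ R
  sumP : R + P + P' = -1
  sumD : R + D + D' = -1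
  e1 : g * ((R + 1 : ℚ) / R - x ^ 2 * (R + 1) / (P * P')) = 8 * x ^ 2 * Q * (x + 1)
  e3 : g * ((R + 1 : ℚ) / R - Q ^ 2 * (R + 1) / (D * D')) = 16 * x ^ 3 * (x - 1)
  f0 : g * (((D' : ℚ) + Q) ^ 2 / (D' * (D' - 1))) = 256 * x ^ 2 * (x - 1) ^ 2 / 15
  f3 : g * ((x : ℚ) ^ 2 * (P - P') ^ 2 / (P * P' * (R + 1))) = 16 * x ^ 2 * (x - 1) ^ 2 / 5
  f5 : g * (((D : ℚ) + Q * R) ^ 2 / (R * D * (D - R))) = 16 * x ^ 2 * (x - 1) ^ 2 / 3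

end Cfsg.Agent.JT.Arith
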