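import Mathlib
import Cfsg.Agent.Lib.JT.ArithDefs

/-!
Shape A, first option: the parameters of the Ree groups.
-/

set_option autoImplicit false

namespace Cfsg.Agent.JT.Arith

/-- `x` is neither `0` nor `±1`, and `Q` is none of the small values. -/
theorem Par.facts {Q x : ℤ} (h : Par Q x) :
    x ≠ 0 ∧ x ≠ 1 ∧ x ≠ -1 ∧ Q ≠ 0 ∧ Q ≠ 1 ∧ Q ≠ -1 ∧ (x ≤ -5 ∨ 7 ≤ x) := by
  have h1 := h.Q_eq
  have h2 := h.x_mod
  have h3 := h.Q_gt
  omega

/-- Three times a power of `p` times a square is a square only for `p = 3`. -/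
theorem eq_three_of_sq {p n : ℕ} (hp : p.Prime) {a b : ℤ} (hb : b ≠ 0)
    (h : a ^ 2 = 3 * (p : ℤ) ^ n * b ^ 2) : p = 3 := by
  by_contra hp3
  have : Fact (Nat.Prime 3) := ⟨by norm_num⟩
  have h' : a.natAbs ^ 2 = 3 * p ^ n * b.natAbs ^ 2 := by
    have := congrArg Int.natAbs h
    simpa [Int.natAbs_pow, Int.natAbs_mul] using this
  have hb' : b.natAbs ≠ 0 := Int.natAbs_ne_zero.mpr hb
  have hp0 : p ^ n ≠ 0 := pow_ne_zero _ hp.ne_zero
  have ha' : a.natAbs ≠ 0 := by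
    intro h0
    rw [h0] at h'
    exact (mul_ne_zero (mul_ne_zero three_ne_zero hp0) (pow_ne_zero 2 hb')) (by simpa using h'.symm)
  have hv := congrArg (padicValNat 3) h'
  rw [padicValNat.pow _ 2, padicValNat.mul (by positivity) (pow_ne_zero _ hb'),
    padicValNat.mul (by norm_num) hp0, padicValNat.pow _ 2, padicValNat.pow p n,
    padicValNat.self (by norm_num),
    padicValNat.eq_zero_of_not_dvd (fun hd => hp3 ((Nat.prime_dvd_prime_iff_eq
      (by norm_num) hp).mp hd).symm)] at hv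
  omega

/-- The first option gives the parameters of a Ree group. -/
theorem optOne {Q x : ℤ} {g : ℚ} {R P P' D D' : ℤ} (h : OptOne Q x g R P P' D D') :
    ∃ m : ℕ, 1 ≤ m ∧ Q = -(3 ^ (2 * m + 1) : ℤ) ∧ R = -(Q ^ 2 + Q + 1) ∧
      g = 2 * x * Q * (Q ^ 2 + Q + 1) := by
  obtain ⟨hx0, hx1, hxm1, hQ0, hQ1, hQm1, hxs⟩ := h.par.facts
  have hR := h.R_ne
  have hP := h.P_ne
  have hP' := h.P'_ne
  have hD := h.D_ne
  have hQx : (Q : ℚ) = 2 * x - 1 := by exact_mod_cast h.par.Q_eq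
  have hDeq : D = (Q - 1) * R - 1 := by
    have := h.sumD; have := h.D'_eq; linarith
  -- the quadratic for `R`
  have key3 : -Q * (R + 1) ^ 2 = 4 * x ^ 2 * D := by
    have e3 := h.e3
    rw [h.g_eq, h.D'_eq] at e3
    have hR' : (R : ℚ) ≠ 0 := by exact_mod_cast hR
    have hD'' : (D : ℚ) ≠ 0 := by exact_mod_cast hD
    have hQ' : (Q : ℚ) ≠ 0 := by exact_mod_cast hQ0
    have hDq : (D : ℚ) = (Q - 1) * R - 1 := by rw [hDeq]; push_cast; ring
    push_cast at e3
    have hc : (4 * x * (x - 1) : ℚ) * (-Q * (R + 1) ^ 2 - 4 * x ^ 2 * D) =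
        D * ((-(Q : ℚ) * (2 * x) * R) * ((R + 1) / R - Q ^ 2 * (R + 1) / (D * (-Q * R))) -
          16 * x ^ 3 * (x - 1)) := by
      field_simp; rw [hDq, hQx]; ring
    rw [e3, sub_self, mul_zero] at hc
    have h4 : (4 * x * (x - 1) : ℚ) ≠ 0 := by
      exact_mod_cast mul_ne_zero (mul_ne_zero (show (4:ℤ) ≠ 0 by norm_num) hx0)
        (sub_ne_zero.mpr hx1)
    have := (mul_eq_zero.mp hc).resolve_left h4
    have : (-Q * (R + 1) ^ 2 : ℚ) = 4 * x ^ 2 * D := by linarith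
    exact_mod_cast this
  have hReq : R = -(Q ^ 2 + Q + 1) := by
    have : (R + Q ^ 2 + Q + 1) * (Q * R - 1) = 0 := by
      rw [hDeq, h.par.Q_eq] at key3; rw [h.par.Q_eq]
      linear_combination -key3
    rcases mul_eq_zero.mp this with h1 | h1
    · linarith
    · have := Int.eq_one_or_neg_one_of_mul_eq_one (show Q * R = 1 by linarith)
      omega
  have hge : g = 2 * x * Q * (Q ^ 2 + Q + 1) := by
    rw [h.g_eq, hReq]; push_cast; ring
  -- the product `P P'`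
  have key1 : 3 * (P * P') = x ^ 2 * Q * (Q ^ 2 + Q + 1) := by
    have e1 := h.e1
    rw [h.g_eq] at e1
    have hR' : (R : ℚ) ≠ 0 := by exact_mod_cast hR
    have hPq : (P : ℚ) ≠ 0 := by exact_mod_cast hP
    have hP'q : (P' : ℚ) ≠ 0 := by exact_mod_cast hP'
    have hRq : (R : ℚ) = -(Q ^ 2 + Q + 1) := by exact_mod_cast hReq
    have hc : (4 * x ^ 2 * Q : ℚ) * (3 * (P * P') - x ^ 2 * Q * (Q ^ 2 + Q + 1)) = -(P * P') *
        ((-(Q : ℚ) * (2 * x) * R) * ((R + 1) / R - x ^ 2 * (R + 1) / (P * P')) -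
          8 * x ^ 2 * Q * (x + 1)) := by
      field_simp; rw [hRq, hQx]; ring
    rw [e1, sub_self, mul_zero] at hc
    have h4 : (4 * x ^ 2 * Q : ℚ) ≠ 0 := by
      exact_mod_cast mul_ne_zero (mul_ne_zero (show (4:ℤ) ≠ 0 by norm_num) (pow_ne_zero 2 hx0)) hQ0
    have := (mul_eq_zero.mp hc).resolve_left h4
    have : (3 * (P * P') : ℚ) = x ^ 2 * Q * (Q ^ 2 + Q + 1) := by linarith
    exact_mod_cast this
  have hdisc : (3 * (P - P')) ^ 2 = -3 * Q * (2 * x * (Q - 1)) ^ 2 := by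
    have hs : P + P' = Q * (Q + 1) := by have := h.sumP; linarith
    rw [h.par.Q_eq] at hs key1 ⊢
    have : P' = (2 * x - 1) * (2 * x - 1 + 1) - P := by linarith
    subst this
    linear_combination (-12) * key1
  obtain ⟨p, n, hp, hn, hpn⟩ := h.par.Q_pow
  have hB : (2 * x * (Q - 1)) ≠ 0 := mul_ne_zero (by omega) (by omega)
  have hneg : Q = -(p : ℤ) ^ n := by
    rcases Int.natAbs_eq Q with h1 | h1 <;> rw [hpn] at h1 <;> push_cast at h1
    · exfalso
      have : 0 < Q := by rw [h1]; exact_mod_cast pow_pos hp.pos n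
      nlinarith [sq_pos_of_ne_zero hB, sq_nonneg (3 * (P - P'))]
    · exact h1
  have hp3 := eq_three_of_sq hp hB (a := 3 * (P - P')) (by rw [hdisc, hneg]; ring)
  obtain ⟨m, rfl⟩ := hn
  subst hp3
  refine ⟨m, ?_, by simpa using hneg, hReq, hge⟩
  by_contra hm
  interval_cases m
  have := h.par.Q_gt
  rw [hneg] at this
  norm_num at this

end Cfsg.Agent.JT.Arith
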