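import Mathlib
import Cfsg.Agent.Lib.JT.ArithDefs
import Cfsg.Agent.Lib.JT.ArithOptOne

/-!
The case of centralizers `A₅`: impossible.
-/

set_option autoImplicit false

namespace Cfsg.Agent.JT.Arith

/-- The final comparison of sizes. -/
theorem caseFive_size {x : ℚ} (hx : 15 ≤ x) :
    8 * (2 * x - 1) * (4 * x ^ 2 - 1) ^ 2 * (36 * x - 9) <
      96 / 5 * x ^ 4 * (4 * x ^ 2 - 36 * x + 8) ^ 2 := by
  obtain ⟨y, hy, rfl⟩ : ∃ y, 0 ≤ y ∧ x = 15 + y := ⟨x - 15, by linarith, by ring⟩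
  rw [← sub_pos]; ring_nf; positivity

set_option maxHeartbeats 800000 in
/-- The case of centralizers `A₅` is impossible. -/
theorem caseFive {Q x : ℤ} {g : ℚ} {R P P' D D' : ℤ} (h : CaseFive Q x g R P P' D D') : False := by
  have hx : (15 : ℚ) ≤ x := by
    have := h.x_ge; have := h.par.x_mod
    exact_mod_cast (show (15 : ℤ) ≤ x by omega)
  have hg := h.pos
  have hQx : (Q : ℚ) = 2 * x - 1 := by exact_mod_cast h.par.Q_eq
  have hQpos : (0 : ℚ) < Q := by linarith
  have hR : (R : ℚ) ≠ 0 := by exact_mod_cast h.R_ne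
  have hR1 : (R : ℚ) + 1 ≠ 0 := by
    have : R + 1 ≠ 0 := by have := h.R_ne'; omega
    exact_mod_cast this
  have hP : (P : ℚ) ≠ 0 := by exact_mod_cast h.P_ne
  have hP' : (P' : ℚ) ≠ 0 := by exact_mod_cast h.P'_ne
  have hD : (D : ℚ) ≠ 0 := by exact_mod_cast h.D_ne
  have hD' : (D' : ℚ) ≠ 0 := by exact_mod_cast h.D'_ne
  have hb : (D' : ℚ) - 1 ≠ 0 := sub_ne_zero.mpr (by exact_mod_cast h.D'_ne')
  have ha : (D : ℚ) - R ≠ 0 := sub_ne_zero.mpr (by exact_mod_cast h.D_ne_R)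
  have hsP : (P' : ℚ) = -(R + 1) - P := by
    have := h.sumP; have : P' = -(R + 1) - P := by linarith
    exact_mod_cast this
  have hsD : (D' : ℚ) = -(R + 1) - D := by
    have := h.sumD; have : D' = -(R + 1) - D := by linarith
    exact_mod_cast this
  set X2 : ℚ := (x : ℚ) ^ 2 * (x - 1) ^ 2 with hX2
  set K1 : ℚ := 8 * x ^ 2 * Q * (x + 1) + 16 * X2 / 5 with hK1
  -- (i)
  have hi : g * ((R + 1) ^ 2 - 4 * x ^ 2 * R) = K1 * (R * (R + 1)) := by
    have hid : ((R + 1 : ℚ) / R - x ^ 2 * (R + 1) / (P * P')) +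
        (x : ℚ) ^ 2 * (P - P') ^ 2 / (P * P' * (R + 1)) =
        ((R + 1) ^ 2 - 4 * x ^ 2 * R) / (R * (R + 1)) := by
      field_simp; rw [hsP]; ring
    have hsum : g * (((R + 1) ^ 2 - 4 * x ^ 2 * R) / (R * (R + 1))) = K1 := by
      rw [← hid, mul_add, h.e1, h.f3, hK1, hX2]; ring
    rw [← hsum]; field_simp
  -- (ii)
  have hii : g * ((D : ℚ) + 1) ^ 2 = 4 * Q * (R + 1) * ((D - R) * (D' - 1)) := by
    have hid : ((R + 1 : ℚ) / R - Q ^ 2 * (R + 1) / (D * D')) +
        ((D : ℚ) + Q * R) ^ 2 / (R * D * (D - R)) + ((D' : ℚ) + Q) ^ 2 / (D' * (D' - 1)) -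
          2 * (((R + 1) ^ 2 - 4 * x ^ 2 * R) / (R * (R + 1))) =
        -8 * x ^ 2 * ((D + 1) ^ 2) / ((D - R) * (D' - 1) * (R + 1)) := by
      field_simp; rw [hsD, hQx]; ring
    have hsum : g * (-8 * x ^ 2 * ((D + 1) ^ 2) / ((D - R) * (D' - 1) * (R + 1))) =
        -32 * x ^ 2 * Q := by
      have h4 : g * (((R + 1) ^ 2 - 4 * x ^ 2 * R) / (R * (R + 1))) = K1 := by
        rw [mul_div, hi]; field_simp
      rw [← hid, mul_sub, mul_add, mul_add, h.e3, h.f5, h.f0, mul_left_comm, h4, hK1, hX2, hQx]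
      ring
    have hx2 : (-8 * x ^ 2 : ℚ) ≠ 0 := by
      have : (x : ℚ) ≠ 0 := by linarith
      simp [this]
    rw [mul_div, div_eq_iff (mul_ne_zero (mul_ne_zero ha hb) hR1)] at hsum
    apply mul_left_cancel₀ hx2
    linear_combination hsum
  have hab : ((D : ℚ) - R) * (D' - 1) = (R + 1) ^ 2 - ((D : ℚ) + 1) ^ 2 := by rw [hsD]; ring
  rw [hab] at hii
  have hf5 : (0 : ℚ) < R * D * (D - R) := by
    by_contra h0
    have h1 := div_nonpos_of_nonneg_of_nonpos (sq_nonneg ((D : ℚ) + Q * R)) (not_lt.mp h0)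
    have h2 := h.f5
    have h3 := mul_nonpos_of_nonneg_of_nonpos hg.le h1
    nlinarith [mul_pos (pow_pos (show (0 : ℚ) < x by linarith) 2)
      (pow_pos (show (0 : ℚ) < x - 1 by linarith) 2)]
  have hf5' : 0 < R * D * (D - R) := by exact_mod_cast hf5
  have hδ : D + 1 ≠ 0 := by
    intro h0
    have : (D : ℚ) + 1 = 0 := by exact_mod_cast h0
    rw [this] at hii
    simp [hR1, hQpos.ne'] at hii
  have hpos : 0 < g * ((D : ℚ) + 1) ^ 2 := by
    have : ((D : ℚ) + 1) ≠ 0 := by exact_mod_cast hδ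
    positivity
  rcases lt_or_gt_of_ne (show R ≠ 0 from h.R_ne) with hneg | hRpos
  · -- `R ≤ -2`
    have hR1n : R + 1 < 0 := by have := h.R_ne'; omega
    have hle : (R + 1) ^ 2 < (D + 1) ^ 2 := by
      have h1 : (4 * Q : ℚ) * (R + 1) < 0 :=
        mul_neg_of_pos_of_neg (by positivity) (by exact_mod_cast hR1n)
      have h2 : ((R + 1) ^ 2 : ℚ) - (D + 1) ^ 2 < 0 := by
        by_contra h2
        nlinarith [mul_nonpos_of_nonpos_of_nonneg h1.le (not_lt.mp h2)]
      have h3 : ((R + 1) ^ 2 : ℚ) < (D + 1) ^ 2 := by linarith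
      exact_mod_cast h3
    rcases lt_or_gt_of_ne hδ with h1 | h1
    · have : D + 1 < R + 1 := by nlinarith
      nlinarith [mul_pos_of_neg_of_neg (show D < 0 by omega) (show D - R < 0 by omega)]
    · have : -(R + 1) < D + 1 := by nlinarith
      nlinarith [mul_pos (show 0 < D by omega) (show 0 < D - R by omega)]
  · have hR1p : 0 < R + 1 := by omega
    have hlt : (D + 1) ^ 2 < (R + 1) ^ 2 := by
      have h1 : (0 : ℚ) < 4 * Q * (R + 1) :=
        mul_pos (by positivity) (by exact_mod_cast hR1p)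
      have h2 : (0 : ℚ) < (R + 1) ^ 2 - (D + 1) ^ 2 := by
        by_contra h2
        nlinarith [mul_nonpos_of_nonneg_of_nonpos h1.le (not_lt.mp h2)]
      have h3 : ((D + 1) ^ 2 : ℚ) < (R + 1) ^ 2 := by linarith
      exact_mod_cast h3
    have hhi : D + 1 < R + 1 := by nlinarith
    have hlo : -(R + 1) < D + 1 := by nlinarith
    have hDneg : D < 0 := by
      by_contra h0
      nlinarith [mul_nonpos_of_nonneg_of_nonpos (mul_nonneg hRpos.le (not_lt.mp h0))
        (show D - R ≤ 0 by omega)]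
    set E : ℤ := -D' with hE
    have hE1 : 1 ≤ E := by
      have := h.sumD; have := h.D'_ne; omega
    have hDE : D + 1 = -(R - E) := by have := h.sumD; omega
    -- lower bounds
    have hRq : (1 : ℚ) ≤ R := by exact_mod_cast (show 1 ≤ R by omega)
    have hK1lo : 96 / 5 * (x : ℚ) ^ 4 ≤ K1 := by
      have h0 : (0 : ℚ) ≤ (x : ℚ) ^ 2 * (8 * x - 24) := mul_nonneg (sq_nonneg _) (by linarith)
      have : K1 - 96 / 5 * (x : ℚ) ^ 4 = (x : ℚ) ^ 2 * (8 * x - 24) / 5 := by
        rw [hK1, hX2, hQx]; ring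
      linarith
    have hK1pos : 0 < K1 := by
      have : (0 : ℚ) < 96 / 5 * (x : ℚ) ^ 4 := by
        have : (0 : ℚ) < x := by linarith
        positivity
      linarith
    have hnum : (0 : ℚ) < (R + 1) ^ 2 - 4 * x ^ 2 * R := by
      by_contra h0
      have h1 := mul_nonpos_of_nonneg_of_nonpos hg.le (not_lt.mp h0)
      nlinarith [mul_pos hK1pos (mul_pos (show (0 : ℚ) < R by linarith)
        (show (0 : ℚ) < R + 1 by linarith))]
    have hRlo : 4 * x ^ 2 - 2 ≤ R := by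
      have h0 : 0 < (R + 1) ^ 2 - 4 * x ^ 2 * R := by exact_mod_cast hnum
      by_contra h1
      nlinarith [mul_nonneg (show (0 : ℤ) ≤ R by omega)
        (show 0 ≤ 4 * x ^ 2 - 3 - R by omega)]
    have hgK : K1 ≤ g := by
      have hle : ((R : ℚ) + 1) ^ 2 - 4 * x ^ 2 * R ≤ R * (R + 1) := by
        nlinarith [mul_le_mul_of_nonneg_right
          (show (225 : ℚ) ≤ (x : ℚ) ^ 2 by nlinarith) (show (0 : ℚ) ≤ R by linarith)]
      have hprod : (0 : ℚ) < R * (R + 1) := by nlinarith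
      refine le_of_mul_le_mul_right ?_ hprod
      rw [← hi]; exact mul_le_mul_of_nonneg_left hle hg.le
    -- upper bound for `E`
    have hEub : (E : ℚ) ≤ 18 * Q + 8 := by
      have hEq : (D' : ℚ) = -(E : ℚ) := by rw [hE]; push_cast; ring
      have hf0 := h.f0
      rw [hEq] at hf0
      have hEpos : (0 : ℚ) < E * (E + 1) := by
        have : (1 : ℚ) ≤ E := by exact_mod_cast hE1
        nlinarith
      have hf0' : g * ((E : ℚ) - Q) ^ 2 = 256 * X2 / 15 * (E * (E + 1)) := by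
        rw [hX2, show 256 * ((x : ℚ) ^ 2 * (x - 1) ^ 2) / 15 = 256 * (x : ℚ) ^ 2 * (x - 1) ^ 2 / 15
          by ring, ← hf0]
        have : (E : ℚ) ≠ 0 := by exact_mod_cast (show E ≠ 0 by omega)
        field_simp
        rw [show ((-(E : ℚ)) - 1) = -((E : ℚ) + 1) by ring]
        have : ((E : ℚ) + 1) ≠ 0 := by exact_mod_cast (show E + 1 ≠ 0 by omega)
        field_simp
        ring
      have hX2le : X2 ≤ (x : ℚ) ^ 4 := by
        rw [hX2, show (x : ℚ) ^ 4 = x ^ 2 * x ^ 2 by ring]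
        exact mul_le_mul_of_nonneg_left (by nlinarith) (sq_nonneg _)
      have h9 : 9 * ((E : ℚ) - Q) ^ 2 ≤ 8 * (E * (E + 1)) := by
        have hx4 : (0 : ℚ) < 96 / 5 * (x : ℚ) ^ 4 := by
          have : (0 : ℚ) < x := by linarith
          positivity
        refine le_of_mul_le_mul_left ?_ hx4
        have h1 := mul_le_mul_of_nonneg_right (hK1lo.trans hgK) (sq_nonneg ((E : ℚ) - Q))
        have h2 := mul_le_mul_of_nonneg_right hX2le hEpos.le
        nlinarith
      by_contra h0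
      nlinarith [mul_pos (show (0 : ℚ) < E - (18 * Q + 8) by linarith)
        (show (0 : ℚ) < (E : ℚ) by linarith)]
    -- comparison
    have hEint : E ≤ 36 * x - 10 := by
      have : (E : ℚ) ≤ ((36 * x - 10 : ℤ) : ℚ) := by push_cast; linarith
      exact_mod_cast this
    have hxi : (15 : ℤ) ≤ x := by exact_mod_cast hx
    set c : ℚ := 4 * (x : ℚ) ^ 2 - 36 * x + 8 with hc
    set d : ℚ := (R : ℚ) - E with hd
    have hRloq : 4 * (x : ℚ) ^ 2 - 2 ≤ R := by exact_mod_cast hRlo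
    have hEq' : (E : ℚ) ≤ 36 * x - 10 := by linarith
    have hcd : c ≤ d := by rw [hc, hd]; linarith
    have hcpos : 0 < c := by rw [hc]; nlinarith
    have hRd : ((R : ℚ) + 1) * c ≤ (4 * (x : ℚ) ^ 2 - 1) * d := by
      rw [hd]
      nlinarith [mul_nonneg (show (0 : ℚ) ≤ 36 * x - 9 by linarith)
        (show (0 : ℚ) ≤ R - (4 * (x : ℚ) ^ 2 - 2) by linarith),
        mul_nonneg (show (0 : ℚ) ≤ 4 * (x : ℚ) ^ 2 - 1 by nlinarith)
        (show (0 : ℚ) ≤ 36 * x - 10 - E by linarith)]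
    have hDq : (D : ℚ) + 1 = -d := by
      rw [hd]; exact_mod_cast hDE
    have hup : g * d ^ 2 ≤ 8 * Q * ((R : ℚ) + 1) ^ 2 * (36 * x - 9) := by
      have h1 : ((R : ℚ) + 1) ^ 2 - ((D : ℚ) + 1) ^ 2 = ((R : ℚ) + 1 + d) * (1 + E) := by
        rw [hDq, hd]; ring
      rw [h1, hDq, neg_sq] at hii
      rw [hii]
      have hdR : d ≤ (R : ℚ) + 1 := by
        rw [hd]; have : (1 : ℚ) ≤ E := by exact_mod_cast hE1
        linarith
      have hR1q : (0 : ℚ) ≤ (R : ℚ) + 1 := by linarith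
      have h2 : ((R : ℚ) + 1 + d) * (1 + E) ≤ (2 * ((R : ℚ) + 1)) * (36 * x - 9) :=
        mul_le_mul (by linarith) (by linarith)
          (by have : (1 : ℚ) ≤ E := by exact_mod_cast hE1
              linarith) (by linarith)
      have h3 := mul_le_mul_of_nonneg_left h2
        (show (0 : ℚ) ≤ 4 * Q * ((R : ℚ) + 1) by positivity)
      nlinarith
    have hfin : g * c ^ 2 ≤ 8 * Q * (4 * (x : ℚ) ^ 2 - 1) ^ 2 * (36 * x - 9) := by
      have hdpos : 0 < d ^ 2 := by have : 0 < d := by linarith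
                                   positivity
      refine le_of_mul_le_mul_right ?_ hdpos
      have h1 := mul_le_mul_of_nonneg_right hup (sq_nonneg c)
      have h2 := mul_le_mul_of_nonneg_left
        (pow_le_pow_left₀ (mul_nonneg (by linarith) hcpos.le) hRd 2)
        (show (0 : ℚ) ≤ 8 * Q * (36 * x - 9) from mul_nonneg (by positivity) (by linarith))
      ring_nf at h1 h2 ⊢
      linarith
    have h1 := caseFive_size hx
    have h2 := mul_le_mul_of_nonneg_right (hK1lo.trans hgK) (sq_nonneg c)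
    rw [hQx] at hfin
    rw [← hc] at h1
    linarith

end Cfsg.Agent.JT.Arith
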