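import Mathlib
import Cfsg.Agent.Lib.JT.ArithDefs

/-!
The small numerical contradictions of the case distinction.
-/

set_option autoImplicit false

namespace Cfsg.Agent.JT.Arith

/-- A square at one degree and a counting identity zero: the values are proportional. -/
theorem proportional {a b u v : ℚ} (ha : a ≠ 0) (hb : b ≠ 0) (hab : a + b ≠ 0)
    (h : u ^ 2 / a + v ^ 2 / b = (u + v) ^ 2 / (a + b)) : u * b = v * a := by
  field_simp at h
  have : (u * b - v * a) ^ 2 = 0 := by linear_combination h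
  exact sub_eq_zero.1 (pow_eq_zero_iff two_ne_zero |>.1 this)

/-- The first variant of the first option. -/
theorem altOne {x R D uR v : ℤ} (hx : x ≠ 0) (hR : R = -1 - 2 * D) (hu : uR = 4 * x + 3 - 2 * v)
    (h : uR * D = v * R) (hv : |v| < |D|) : False := by
  subst hR hu
  have e : v = -((4 * x + 3) * D) := by linarith
  rw [e, abs_neg, abs_mul] at hv
  have h1 : 1 ≤ |4 * x + 3| := Int.one_le_abs (by omega)
  nlinarith [abs_nonneg D]

/-- The variant of shape B without an outside constituent. -/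
theorem optC {Q Y v : ℤ} (hQ : 5 < Q.natAbs) (hY : Y ≠ 0)
    (h : (1 - 2 * Q - 3 * v : ℚ) ^ 2 / (1 + 3 * Y) - (v : ℚ) ^ 2 / Y -
      ((1 - 2 * Q - 2 * v : ℚ)) ^ 2 / (1 + 2 * Y) = 0)
    (hv : |v| < |Y|) : False := by
  have h1 : (Y : ℚ) ≠ 0 := Int.cast_ne_zero.2 hY
  have h2 : (1 + 2 * (Y : ℚ)) ≠ 0 := by
    have : (1 + 2 * Y : ℤ) ≠ 0 := by omega
    exact_mod_cast this
  have h3 : (1 + 3 * (Y : ℚ)) ≠ 0 := by
    have : (1 + 3 * Y : ℤ) ≠ 0 := by omega
    exact_mod_cast this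
  field_simp at h
  have hsq : (((1 - 2 * Q) * Y + v : ℤ) : ℚ) ^ 2 = 0 := by
    push_cast
    linear_combination -h
  have e : v = -((1 - 2 * Q) * Y) := by
    have := Int.cast_eq_zero.1 ((pow_eq_zero_iff two_ne_zero).1 hsq)
    linarith
  rw [e, abs_neg, abs_mul] at hv
  have : 1 ≤ |1 - 2 * Q| := Int.one_le_abs (by omega)
  nlinarith [abs_nonneg Y]

/-- The linear coefficient for the second variant. -/
def sumB (x m : ℤ) : ℤ := 2 * x - 30 * x ^ 2 + (4 * x ^ 2 - 2) * (x * m)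

/-- The constant coefficient for the second variant. -/
def prodB (x m : ℤ) : ℤ := (x * m) ^ 2 - (2 * x ^ 2 + 2 * x) * (x * m) + 16 * x ^ 2

theorem small_no_square : ∀ i : Fin 121, ∀ j : Fin 25,
    ((i.val : ℤ) - 60) % 4 = 3 → ((i.val : ℤ) - 60) ≠ -1 → ((i.val : ℤ) - 60) ≠ 3 →
    ((j.val : ℤ) - 12) % 2 = 1 → |((i.val : ℤ) - 60) * ((j.val : ℤ) - 12)| < 60 →
    Int.sqrt (sumB ((i.val : ℤ) - 60) ((j.val : ℤ) - 12) ^ 2 -
        4 * prodB ((i.val : ℤ) - 60) ((j.val : ℤ) - 12)) *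
      Int.sqrt (sumB ((i.val : ℤ) - 60) ((j.val : ℤ) - 12) ^ 2 -
        4 * prodB ((i.val : ℤ) - 60) ((j.val : ℤ) - 12)) ≠
      sumB ((i.val : ℤ) - 60) ((j.val : ℤ) - 12) ^ 2 -
        4 * prodB ((i.val : ℤ) - 60) ((j.val : ℤ) - 12) := by
  decide +kernel

theorem prodB_lt {x m : ℤ} (hx : 5 ≤ |x|) (hm : m ≠ 0) (hm' : |m| ≤ 2 * |x| + 5)
    (hbig : 60 ≤ |x * m|) : |prodB x m| + 4 < 2 * |sumB x m| := by
  have hm1 : 1 ≤ |m| := Int.one_le_abs hm
  have hx25 : 25 ≤ x ^ 2 := by nlinarith [sq_abs x]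
  have ht : |x * m| = |x| * |m| := abs_mul x m
  have hA : (4 * x ^ 2 - 2) * |x * m| - 30 * x ^ 2 - 2 * |x| ≤ |sumB x m| := by
    have h1 : (4 * x ^ 2 - 2) * |x * m| = |(4 * x ^ 2 - 2) * (x * m)| := by
      rw [abs_mul (4 * x ^ 2 - 2), abs_of_nonneg (by nlinarith : (0 : ℤ) ≤ 4 * x ^ 2 - 2)]
    have h2 : |(4 * x ^ 2 - 2) * (x * m)| ≤ |sumB x m| + (30 * x ^ 2 + 2 * |x|) := by
      have e : (4 * x ^ 2 - 2) * (x * m) = sumB x m + (30 * x ^ 2 + (-(2 * x))) := by
        simp only [sumB]; ring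
      rw [e]
      refine (abs_add_le _ _).trans (add_le_add le_rfl ((abs_add_le _ _).trans ?_))
      rw [abs_of_nonneg (by positivity : (0 : ℤ) ≤ 30 * x ^ 2), abs_neg, abs_mul]
      simp
    linarith
  have hB : |prodB x m| ≤ |x * m| * |x * m| + (2 * x ^ 2 + 2 * |x|) * |x * m| + 16 * x ^ 2 := by
    simp only [prodB]
    refine (abs_add_le _ _).trans (add_le_add ((abs_sub _ _).trans (add_le_add ?_ ?_)) ?_)
    · rw [abs_pow, sq]
    · rw [abs_mul (2 * x ^ 2 + 2 * x)]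
      refine mul_le_mul_of_nonneg_right ((abs_add_le _ _).trans ?_) (abs_nonneg _)
      rw [abs_of_nonneg (by positivity : (0 : ℤ) ≤ 2 * x ^ 2), abs_mul]
      simp
    · rw [abs_of_nonneg (by positivity : (0 : ℤ) ≤ 16 * x ^ 2)]
  have hsq : x ^ 2 = |x| * |x| := by rw [← sq, sq_abs]
  have hle : |x * m| ≤ 2 * x ^ 2 + 5 * |x| := by
    rw [ht, hsq]; nlinarith [mul_le_mul_of_nonneg_left hm' (abs_nonneg x)]
  rw [hsq] at hA hB hle
  generalize |x * m| = t at hA hB hle hbig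
  generalize |x| = a at hA hB hle hx
  nlinarith [mul_le_mul_of_nonneg_right hle (show (0 : ℤ) ≤ t by omega),
    mul_le_mul hbig (show 25 ≤ a * a by nlinarith) (by norm_num) (by omega),
    mul_le_mul_of_nonneg_left hbig (show (0 : ℤ) ≤ a * a by positivity),
    mul_le_mul_of_nonneg_right hx (show (0 : ℤ) ≤ a * t by nlinarith)]

/-- The second variant of the second option. -/
theorem twoB {x P v R uR w a : ℤ} {g : ℚ} (hx : x % 4 = 3) (hx5 : 5 ≤ |x|) (hg : g ≠ 0)
    (hR : R = -1 - 2 * P) (hu : uR = -(6 * x - 1) - 2 * v) (hw : w = 8 * x + v)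
    (hv : v = x * (2 * a + 1)) (ha : |a| ≤ |x|) (hlt : |v| < |P|)
    (hF : g * (1 + (uR : ℚ) ^ 2 / R + 2 * (v : ℚ) ^ 2 / P) = 8 * x ^ 2 * (2 * x - 1) * (x - 3))
    (hE : g * (1 + (uR : ℚ) ^ 2 / R + ((v : ℚ) ^ 2 + (w : ℚ) ^ 2) / P) =
      8 * x ^ 2 * (2 * x - 1) * (x + 1)) : False := by
  have hx0 : x ≠ 0 := by omega
  have hP0 : P ≠ 0 := fun e => by rw [e, abs_zero] at hlt; exact absurd hlt (not_lt.2 (abs_nonneg _))
  have hR0 : R ≠ 0 := by omega
  set m : ℤ := 2 * a + 5 with hm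
  have hm0 : m ≠ 0 := by omega
  have hv' : v = x * m - 4 * x := by rw [hv, hm]; ring
  have hPq : (P : ℚ) ≠ 0 := Int.cast_ne_zero.2 hP0
  have hRq : (R : ℚ) ≠ 0 := Int.cast_ne_zero.2 hR0
  have hxq : (x : ℚ) ≠ 0 := Int.cast_ne_zero.2 hx0
  have hmq : (m : ℚ) ≠ 0 := Int.cast_ne_zero.2 hm0
  have hvq : (v : ℚ) = x * m - 4 * x := by exact_mod_cast hv'
  have hdiff : g * (((w : ℚ) ^ 2 - (v : ℚ) ^ 2) / P) = 32 * x ^ 2 * (2 * x - 1) := by
    linear_combination hE - hF
  rw [hw] at hdiff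
  push_cast at hdiff
  rw [hvq] at hdiff
  have hgm : g * m = 2 * (2 * x - 1) * P := by
    field_simp at hdiff
    have h2 : g * (m : ℚ) * (16 * x ^ 2) = 2 * (2 * x - 1) * P * (16 * x ^ 2) := by
      linear_combination (x : ℚ) ^ 2 * hdiff
    exact mul_right_cancel₀ (mul_ne_zero (by norm_num) (pow_ne_zero 2 hxq)) h2
  have hkey : (P : ℚ) * R + P * (uR : ℚ) ^ 2 + 2 * R * (v : ℚ) ^ 2 =
      4 * x * (x - 3) * (x * m) * R := by
    field_simp at hF
    have hQ0 : (2 * (x : ℚ) - 1) ≠ 0 := by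
      have : (2 * x - 1 : ℤ) ≠ 0 := by omega
      exact_mod_cast this
    have h2 : g * m * (P * R + P * (uR : ℚ) ^ 2 + 2 * R * (v : ℚ) ^ 2) =
        2 * (2 * x - 1) * P * (4 * x * (x - 3) * (x * m) * R) := by
      linear_combination (m : ℚ) * hF
    rw [hgm] at h2
    exact mul_left_cancel₀ (mul_ne_zero (mul_ne_zero two_ne_zero hQ0) hPq) h2
  have hkey' : P * R + P * uR ^ 2 + 2 * R * v ^ 2 = 4 * x * (x - 3) * (x * m) * R := by
    exact_mod_cast hkey
  have hquad : P * P - sumB x m * P + prodB x m = 0 := by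
    rw [hR, hu, hv'] at hkey'
    simp only [sumB, prodB]
    linarith
  have hmbd : |m| ≤ 2 * |x| + 5 := by
    rw [hm]
    have := abs_add_le (2 * a) 5
    rw [abs_mul] at this
    simp at this
    linarith
  by_cases hbig : 60 ≤ |x * m|
  · have hlt' := prodB_lt hx5 hm0 hmbd hbig
    set P' := sumB x m - P with hP'
    have hprod : P * P' = prodB x m := by rw [hP']; linarith
    have hsum : |sumB x m| ≤ |P| + |P'| := by
      have := abs_add_le P P'
      rwa [show P + P' = sumB x m by rw [hP']; ring] at this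
    have hP5 : |x| + 1 ≤ |P| := by
      have h1 : |x| ≤ |v| := by
        rw [hv, abs_mul]
        exact le_mul_of_one_le_right (abs_nonneg _) (Int.one_le_abs (by omega))
      linarith
    rw [← hprod, abs_mul] at hlt'
    have hP'1 : |P'| ≤ 1 := by
      by_contra hc
      push Not at hc
      nlinarith [mul_nonneg (show (0 : ℤ) ≤ |P| - 2 by linarith) (show (0 : ℤ) ≤ |P'| - 2 by linarith)]
    have hq' : P' * P' - sumB x m * P' + prodB x m = 0 := by
      rw [← hprod, hP']; ring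
    have hnd : ¬ x ∣ 1 := fun h => by
      have := Int.natAbs_le_of_dvd_ne_zero h one_ne_zero
      rw [← Int.natCast_natAbs] at hx5
      simp at this
      omega
    rcases (show P' = 0 ∨ P' = 1 ∨ P' = -1 by obtain ⟨h1, h2⟩ := abs_le.1 hP'1; omega) with h | h | h
    · rw [h, mul_zero] at hprod
      simp only [prodB] at hprod
      have hfac : m ^ 2 - (2 * x + 2) * m + 16 = 0 := by
        have : x ^ 2 * (m ^ 2 - (2 * x + 2) * m + 16) = 0 := by linarith
        exact (mul_eq_zero.1 this).resolve_left (pow_ne_zero 2 hx0)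
      have hd : m ∣ 16 := ⟨2 * x + 2 - m, by linarith⟩
      have hb := Int.natAbs_le_of_dvd_ne_zero hd (by norm_num)
      simp at hb
      have h16 : -16 ≤ m ∧ m ≤ 16 := by omega
      obtain ⟨h16, h17⟩ := h16
      interval_cases hmm : m <;> omega
    all_goals
      refine hnd ⟨P' * (2 - 30 * x + (4 * x ^ 2 - 2) * m) - (x * m ^ 2 - (2 * x ^ 2 + 2 * x) * m + 16 * x), ?_⟩
      simp only [sumB, prodB] at hq'
      rw [h] at hq' ⊢
      linarith
  · push Not at hbig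
    rw [abs_mul] at hbig
    have hm1 : 1 ≤ |m| := Int.one_le_abs hm0
    have hx60 : |x| < 60 := by nlinarith [mul_le_mul_of_nonneg_left hm1 (abs_nonneg x)]
    have hm12 : |m| ≤ 12 := by nlinarith [mul_le_mul_of_nonneg_right hx5 (abs_nonneg m)]
    rw [abs_lt] at hx60
    rw [abs_le] at hm12
    have key := small_no_square ⟨(x + 60).toNat, by omega⟩ ⟨(m + 12).toNat, by omega⟩
    have ex : ((x + 60).toNat : ℤ) - 60 = x := by omega
    have em : ((m + 12).toNat : ℤ) - 12 = m := by omega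
    simp only [ex, em] at key
    have h3 : x ≠ 3 ∧ x ≠ -1 := by
      constructor <;> intro e <;> rw [e] at hx5 <;> norm_num at hx5
    refine key hx h3.2 h3.1 (by omega) (by rwa [abs_mul]) ?_
    exact (Int.exists_mul_self _).1 ⟨2 * P - sumB x m, by linarith⟩

end Cfsg.Agent.JT.Arith
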