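import Mathlib
import Cfsg.Agent.Lib.ZStar.Induce
import Cfsg.Agent.Lib.Characters.Integrality

/-!
Multiplicities, values at an involution, and the counting identity for induced functions.
-/

set_option autoImplicit false
set_option linter.unusedSectionVars false
set_option linter.style.haveILetI false

namespace Cfsg.Agent.JT

open Cfsg.Agent.Characters Cfsg.Agent.CharTheory.IndBasic
open scoped ComplexConjugate

universe u

variable {G : Type u} [Group G] [Fintype G]

/-- The multiplicity of `χ` in a generalized character. -/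
noncomputable def coef (F : G → ℂ) (χ : Cfsg.IrrCharacter G) : ℤ := by
  classical
  exact if h : ∃ k : ℤ, Cfsg.classInner F (χ : G → ℂ) = (k : ℂ) then h.choose else 0

theorem coef_spec {F : G → ℂ} (hF : Cfsg.IsGeneralizedCharacter G F) (χ : Cfsg.IrrCharacter G) :
    Cfsg.classInner F (χ : G → ℂ) = (coef F χ : ℂ) := by
  classical
  have h : ∃ k : ℤ, Cfsg.classInner F (χ : G → ℂ) = (k : ℂ) :=
    classInner_gen_int hF (isGen_of_isCharacter (irr_isCharacter χ))
  rw [coef, dif_pos h]
  exact h.choose_spec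

/-- The degree. -/
noncomputable def deg (χ : Cfsg.IrrCharacter G) : ℕ := (irr_degree_dvd_card χ.2).choose

theorem deg_spec (χ : Cfsg.IrrCharacter G) :
    (χ : G → ℂ) 1 = (deg χ : ℂ) ∧ 0 < deg χ ∧ deg χ ∣ Nat.card G :=
  (irr_degree_dvd_card χ.2).choose_spec

theorem exists_val_two {t : G} (ht : orderOf t = 2) (χ : Cfsg.IrrCharacter G) :
    ∃ T : ℤ, (χ : G → ℂ) t = (T : ℂ) := by
  classical
  obtain ⟨k, hk⟩ := classInner_char_nat
    (isCharacter_restrict (Subgroup.zpowers t) (irr_isCharacter χ))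
    (isCharacter_one (G := Subgroup.zpowers t))
  refine ⟨2 * (k : ℤ) - deg χ, ?_⟩
  have h1 : (1 : Subgroup.zpowers t) ≠ ⟨t, Subgroup.mem_zpowers t⟩ := fun h => by
    have := congrArg Subtype.val h
    simp only [Subgroup.coe_one] at this
    rw [← this, orderOf_one] at ht
    norm_num at ht
  have hc : Nat.card (Subgroup.zpowers t) = 2 := by rw [Nat.card_zpowers, ht]
  have huniv : (Finset.univ : Finset (Subgroup.zpowers t)) = {1, ⟨t, Subgroup.mem_zpowers t⟩} := by
    refine (Finset.eq_of_subset_of_card_le (Finset.subset_univ _) ?_).symm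
    rw [Finset.card_univ, ← Nat.card_eq_fintype_card, hc, Finset.card_pair h1]
  rw [classInner_def, hc, huniv, Finset.sum_pair h1] at hk
  simp only [map_one, mul_one, Subgroup.coe_one, (deg_spec χ).1] at hk
  push_cast at hk ⊢
  linear_combination 2 * hk

variable [Fintype (Cfsg.IrrCharacter G)]

theorem value_sum {F : G → ℂ} (hF : Cfsg.IsGeneralizedCharacter G F) (g : G) :
    F g = ∑ χ, (coef F χ : ℂ) * (χ : G → ℂ) g :=
  ZStar.Induce.value_eq_sum (isGen_isClassFunction hF) (coef_spec hF) g

theorem gram_sum {F F' : G → ℂ} (hF : Cfsg.IsGeneralizedCharacter G F)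
    (hF' : Cfsg.IsGeneralizedCharacter G F') {z : ℤ} (hz : Cfsg.classInner F F' = (z : ℂ)) :
    ∑ χ, coef F χ * coef F' χ = z :=
  ZStar.Induce.sum_mul_coeffs (isGen_isClassFunction hF) (coef_spec hF) (coef_spec hF') hz

theorem sum_at_one {F : G → ℂ} (hF : Cfsg.IsGeneralizedCharacter G F) {z : ℤ} (hz : F 1 = (z : ℂ)) :
    ∑ χ, coef F χ * (deg χ : ℤ) = z := by
  have h := value_sum hF 1
  simp only [hz, (deg_spec _).1] at h
  exact_mod_cast h.symm

theorem sum_at {F : G → ℂ} (hF : Cfsg.IsGeneralizedCharacter G F) {t : G}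
    {T : Cfsg.IrrCharacter G → ℤ} (hT : ∀ χ : Cfsg.IrrCharacter G, (χ : G → ℂ) t = (T χ : ℂ)) {z : ℤ}
    (hz : F t = (z : ℂ)) : ∑ χ, coef F χ * T χ = z := by
  have h := value_sum hF t
  simp only [hz, hT] at h
  exact_mod_cast h.symm

omit [Fintype (Cfsg.IrrCharacter G)] in
/-- Sums over conjugates, each counted by the centralizer. -/
theorem sum_conjugates (t : G) [Fintype {y : G // IsConj t y}] (ψ : G → ℂ) :
    ∑ u : G, ψ (u * t * u⁻¹) =
      (Nat.card (Subgroup.centralizer ({t} : Set G)) : ℂ) * ∑ y : {y : G // IsConj t y}, ψ y := by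
  classical
  let f : G → {y : G // IsConj t y} := fun u => ⟨u * t * u⁻¹, isConj_iff.2 ⟨u, rfl⟩⟩
  rw [← Finset.sum_fiberwise_of_maps_to (g := f) (t := Finset.univ) fun x _ => Finset.mem_univ _,
    Finset.mul_sum]
  refine Finset.sum_congr rfl fun y _ => ?_
  obtain ⟨c, hc⟩ := isConj_iff.1 y.2
  have key : ∀ u : G, f u = y ↔ c⁻¹ * u ∈ Subgroup.centralizer ({t} : Set G) := fun u => by
    rw [Subgroup.mem_centralizer_singleton_iff, Subtype.ext_iff, ← hc]
    constructor
    · intro h
      calc c⁻¹ * u * t = c⁻¹ * (u * t * u⁻¹) * u := by group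
        _ = c⁻¹ * (c * t * c⁻¹) * u := by rw [show u * t * u⁻¹ = c * t * c⁻¹ from h]
        _ = _ := by group
    · intro h
      show u * t * u⁻¹ = _
      calc u * t * u⁻¹ = c * (c⁻¹ * u * t) * u⁻¹ := by group
        _ = _ := by rw [h]; group
  have hcard : (Finset.univ.filter fun u => f u = y).card =
      Nat.card (Subgroup.centralizer ({t} : Set G)) := by
    rw [← Fintype.card_subtype, ← Nat.card_eq_fintype_card]
    exact Nat.card_congr
      { toFun := fun u => ⟨c⁻¹ * u, (key u).1 u.2⟩
        invFun := fun x => ⟨c * x, (key _).2 (by simp)⟩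
        left_inv := fun u => by simp
        right_inv := fun x => by simp }
  rw [Finset.sum_congr rfl (g := fun _ => ψ y) fun u hu => ?_, Finset.sum_const, nsmul_eq_mul, hcard]
  exact congrArg ψ (congrArg Subtype.val (Finset.mem_filter.1 hu).2)

/-- The number of conjugates `y` of `t` with `y * w` conjugate to `t`. -/
noncomputable def pairCount (t w : G) : ℕ := Nat.card {y : G // IsConj t y ∧ IsConj t (y * w)}

/-- The counting identity for an induced function. -/
theorem recip_indFun {K : Subgroup G} [Fintype K] {φ : K → ℂ}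
    (hφ : Cfsg.IsGeneralizedCharacter K φ) {t : G} (ht : t * t = 1) :
    (Nat.card G : ℂ) * ∑ χ, (coef (Cfsg.indFun K φ) χ : ℂ) * ((χ : G → ℂ) t) ^ 2 / (χ : G → ℂ) 1 =
      (Nat.card (Subgroup.centralizer ({t} : Set G)) : ℂ) ^ 2 / (Nat.card K : ℂ) *
        ∑ w : K, φ w * (pairCount t (w : G) : ℂ) := by
  classical
  haveI := Fintype.ofFinite {y : G // IsConj t y}
  set F := Cfsg.indFun K φ with hF
  have hgen : Cfsg.IsGeneralizedCharacter G F := isGen_indFun K hφ
  set E := Cfsg.extendByZero K φ with hE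
  set c : G → G := fun u => u * t * u⁻¹ with hc
  set k : ℂ := (Nat.card (Subgroup.centralizer ({t} : Set G)) : ℂ)
  have hL : ∑ x : G, F (t * (x * t * x⁻¹)) =
      (Nat.card G : ℂ) * ∑ χ, (coef F χ : ℂ) * ((χ : G → ℂ) t) ^ 2 / (χ : G → ℂ) 1 := by
    simp only [value_sum hgen]
    rw [Finset.sum_comm, Finset.mul_sum]
    refine Finset.sum_congr rfl fun χ _ => ?_
    rw [← Finset.mul_sum, sum_mul_conjugates χ.2]
    ring
  have hR : ∑ x : G, F (t * (x * t * x⁻¹)) =
      (Nat.card K : ℂ)⁻¹ * (k ^ 2 * ∑ y : {y : G // IsConj t y}, ∑ y' : {y : G // IsConj t y},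
        E ((y : G) * y')) := by
    have h1 : ∀ x, F (t * (x * t * x⁻¹)) = (Nat.card K : ℂ)⁻¹ * ∑ u : G, E (c u * c (u * x)) :=
      fun x => by
        rw [hF, Cfsg.indFun]
        congr 1
        refine Fintype.sum_equiv (Equiv.inv G) _ _ fun u => ?_
        simp only [hE, hc, Equiv.inv_apply]
        congr 1
        group
    simp only [h1, ← Finset.mul_sum]
    congr 1
    rw [Finset.sum_comm]
    have h2 : ∀ u : G, ∑ x : G, E (c u * c (u * x)) = ∑ v : G, E (c u * c v) := fun u =>
      Fintype.sum_equiv (Equiv.mulLeft u) _ _ fun x => rfl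
    simp only [h2]
    have h3 := fun u => sum_conjugates t (fun z => E (c u * z))
    have h4 := sum_conjugates t (fun z => ∑ y : {y : G // IsConj t y}, E (z * y))
    rw [Finset.sum_congr rfl fun u _ => h3 u, ← Finset.mul_sum, sq, mul_assoc]
    exact congrArg (k * ·) h4
  have hinv : ∀ y : {y : G // IsConj t y}, (y : G) * y = 1 := fun y => by
    obtain ⟨d, hd⟩ := isConj_iff.1 y.2
    rw [← hd, show d * t * d⁻¹ * (d * t * d⁻¹) = d * (t * t) * d⁻¹ by group, ht]
    simp
  have hcount : ∑ y : {y : G // IsConj t y}, ∑ y' : {y : G // IsConj t y}, E ((y : G) * y') =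
      ∑ w : K, φ w * (pairCount t (w : G) : ℂ) := by
    rw [← Finset.sum_product', Finset.univ_product_univ]
    rw [← Finset.sum_filter_of_ne (p := fun p : {y : G // IsConj t y} × {y : G // IsConj t y} =>
      (p.1 : G) * p.2 ∈ K) fun p _ hp => by
        by_contra h
        exact hp (extendByZero_of_notMem K φ h)]
    let g : {y : G // IsConj t y} × {y : G // IsConj t y} → K := fun p =>
      if h : (p.1 : G) * p.2 ∈ K then ⟨_, h⟩ else 1
    rw [← Finset.sum_fiberwise_of_maps_to (g := g) (t := Finset.univ) fun x _ => Finset.mem_univ _]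
    refine Finset.sum_congr rfl fun w _ => ?_
    rw [Finset.sum_congr rfl (g := fun _ => φ w) fun p hp => ?_, Finset.sum_const, nsmul_eq_mul,
      mul_comm]
    · congr 2
      rw [Finset.filter_filter, ← Fintype.card_subtype, ← Nat.card_eq_fintype_card, pairCount]
      refine Nat.card_congr
        { toFun := fun p => ⟨p.1.1, p.1.1.2, ?_⟩
          invFun := fun y => ⟨(⟨y.1, y.2.1⟩, ⟨y.1 * w, y.2.2⟩), ?_⟩
          left_inv := ?_
          right_inv := fun y => rfl }
      · obtain ⟨⟨a, b⟩, hab, hg⟩ := p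
        have : (w : G) = a * b := by rw [← hg]; simp only [g, dif_pos hab]
        show IsConj t ((a : G) * w)
        rw [this, ← mul_assoc, hinv a, one_mul]
        exact b.2
      · have h : y.1 * (y.1 * (w : G)) = w := by rw [← mul_assoc, hinv ⟨y.1, y.2.1⟩, one_mul]
        refine ⟨by simp only [h]; exact w.2, ?_⟩
        exact Subtype.ext (by simp only [g, h, w.2, dite_true])
      · rintro ⟨⟨a, b⟩, hab, hg⟩
        have hw : (w : G) = a * b := by rw [← hg]; simp only [g, dif_pos hab]
        refine Subtype.ext (Prod.ext rfl (Subtype.ext ?_))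
        show (a : G) * w = b
        rw [hw, ← mul_assoc, hinv a, one_mul]
    · obtain ⟨hp1, hp2⟩ := Finset.mem_filter.1 hp
      have hmem := (Finset.mem_filter.1 hp1).2
      rw [← hp2, hE, extendByZero_of_mem K φ hmem]
      simp only [g, dif_pos hmem]
  rw [← hL, hR, hcount]
  ring

end Cfsg.Agent.JT
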