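import Mathlib
import Cfsg.Agent.Lib.JT.Defs
import Cfsg.Agent.Lib.JT.Coeff

/-!
The functions on the special classes of the centralizer: multiplicities, values at `t`, and the
counting identities.
-/

set_option autoImplicit false
set_option linter.unusedSectionVars false

namespace Cfsg.Agent.JT.Setup

open Cfsg.Agent.Characters
open scoped ComplexConjugate

universe u v

local notation "Z₂" => Multiplicative (ZMod 2)

theorem z2_cases (a : Z₂) : a = 1 ∨ a = Multiplicative.ofAdd 1 := by revert a; decide +kernel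

theorem z2_ne : (Multiplicative.ofAdd 1 : Z₂) ≠ 1 := by decide +kernel

theorem z2_sq (a : Z₂) : a * a = 1 := by revert a; decide +kernel

/-- The sign character. -/
noncomputable def sgn : Z₂ →* ℂˣ where
  toFun a := if a = 1 then 1 else -1
  map_one' := if_pos rfl
  map_mul' a b := by
    rcases z2_cases a with rfl | rfl <;> rcases z2_cases b with rfl | rfl <;>
      simp [z2_ne, z2_sq]

variable {G : Type u} [Group G] [Fintype G] {K : Type v} [Group K] [Fintype K] (H : Setup G K)

noncomputable instance fintypeC : Fintype H.C := Fintype.ofFinite _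

theorem card_C : Nat.card H.C = 2 * Nat.card K := by
  rw [Nat.card_congr H.e.toEquiv, Nat.card_prod]; simp

theorem emb_injective : Function.Injective H.emb :=
  fun a b h => H.e.symm.injective (Subtype.ext h)

theorem emb_mem (p : Z₂ × K) : H.emb p ∈ H.C := (H.e.symm p).2

theorem emb_e (x : H.C) : H.emb (H.e x) = x := by simp [emb]

/-- The element `t k`. -/
def tk (k : K) : G := H.emb (Multiplicative.ofAdd 1, k)

/-- Twice a function of `K`, put on the coset `t K`. -/
noncomputable def lift (θ : K → ℂ) : H.C → ℂ := fun x => if (H.e x).1 = 1 then 0 else 2 * θ (H.e x).2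

/-- The induced function. -/
noncomputable def ind (θ : K → ℂ) : G → ℂ := Cfsg.indFun H.C (H.lift θ)

theorem isGen_lift {θ : K → ℂ} (hθ : Cfsg.IsGeneralizedCharacter K θ) :
    Cfsg.IsGeneralizedCharacter H.C (H.lift θ) := by
  let f : H.C →* K := (MonoidHom.snd _ _).comp H.e.toMonoidHom
  let g : H.C →* ℂˣ := sgn.comp ((MonoidHom.fst _ _).comp H.e.toMonoidHom)
  have h1 := isGen_comp f hθ
  have h2 := isGen_mul (isGen_of_isCharacter (isCharacter_linear g)) h1
  have := isGen_sub h1 h2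
  convert this using 1
  funext x
  rcases z2_cases (H.e x).1 with h | h
  · simp [lift, f, g, sgn, h]
  · simp [lift, f, g, sgn, h, z2_ne]; ring

theorem isGen_ind {θ : K → ℂ} (hθ : Cfsg.IsGeneralizedCharacter K θ) :
    Cfsg.IsGeneralizedCharacter G (H.ind θ) := isGen_indFun _ (H.isGen_lift hθ)

theorem sum_lift (θ : K → ℂ) (φ : G → ℂ) :
    ∑ x : H.C, H.lift θ x * φ (x : G) = 2 * ∑ k : K, θ k * φ (H.tk k) := by
  rw [Fintype.sum_equiv H.e.toEquiv (fun x => H.lift θ x * φ (x : G))
    (fun p => (if p.1 = 1 then 0 else 2 * θ p.2) * φ (H.emb p)) fun x => by simp [lift, emb],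
    Fintype.sum_prod_type, Finset.mul_sum]
  have : (Finset.univ : Finset Z₂) = {1, Multiplicative.ofAdd 1} := by decide +kernel
  rw [this, Finset.sum_pair (Ne.symm z2_ne)]
  simp [z2_ne, tk, mul_assoc]

theorem inner_ind_char (θ : K → ℂ) {φ : G → ℂ} (hφ : Cfsg.IsClassFunction G φ) :
    Cfsg.classInner (H.ind θ) φ = (Nat.card K : ℂ)⁻¹ * ∑ k : K, θ k * conj (φ (H.tk k)) := by
  rw [ind, frobenius_reciprocity _ _ hφ, classInner_def, H.sum_lift θ (fun x => conj (φ x)), H.card_C]
  push_cast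
  field_simp

theorem ind_triv (θ : K → ℂ) :
    Cfsg.classInner (H.ind θ) (fun _ => 1) = Cfsg.classInner θ (fun _ => 1) := by
  rw [H.inner_ind_char θ (fun _ _ => rfl), classInner_def]

theorem ind_one (θ : K → ℂ) : H.ind θ 1 = 0 := by
  rw [ind, indFun_one]
  simp [lift]

variable (hL : H.Local)
include hL

/-- The special classes. -/
theorem pow_card (k : K) (hk : Odd (orderOf k)) {m : ℕ} (hm : Odd m) (hdvd : orderOf k ∣ m) :
    H.tk k ^ m = H.t := by
  rw [tk, ← map_pow, ← hL.emb_t]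
  congr 1
  refine Prod.ext ?_ ?_
  · obtain ⟨c, rfl⟩ := hm
    rw [Prod.pow_fst, pow_succ, pow_mul, sq, z2_sq]; simp
  · rw [Prod.pow_snd]; exact orderOf_dvd_iff_pow_eq_one.1 hdvd

omit hL in
/-- The special set. -/
def special : Set G := {x | ∃ k : K, Odd (orderOf k) ∧ x = H.tk k}

theorem isTI : ZStar.Induce.IsTI H.C H.special := by
  rintro x ⟨k, hk, rfl⟩ g ⟨k', hk', h'⟩
  have hm : Odd (orderOf k * orderOf k') := hk.mul hk'
  have h1 := H.pow_card hL k hk hm (dvd_mul_right _ _)
  have h2 := H.pow_card hL k' hk' hm (dvd_mul_left _ _)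
  rw [← h', conj_pow, h1, mul_inv_eq_iff_eq_mul] at h2
  exact Subgroup.mem_centralizer_singleton_iff.2 h2

omit hL in
theorem vanishOff {θ : K → ℂ} (hθ : ∀ k, Even (orderOf k) → θ k = 0) :
    ZStar.Induce.VanishOff H.special (H.lift θ) := by
  intro x hx
  by_contra hne
  simp only [lift] at hne
  rcases z2_cases (H.e x).1 with h | h
  · simp [h] at hne
  · refine hx ⟨(H.e x).2, Nat.not_even_iff_odd.1 fun he => hne ?_, ?_⟩
    · simp [h, z2_ne, hθ _ he]
    · rw [tk, ← h, Prod.mk.eta, H.emb_e]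

theorem inner_ind {θ θ' : K → ℂ} (hg : Cfsg.IsGeneralizedCharacter K θ)
    (h : ∀ k, Even (orderOf k) → θ k = 0) (h' : ∀ k, Even (orderOf k) → θ' k = 0) :
    Cfsg.classInner (H.ind θ) (H.ind θ') = 2 * Cfsg.classInner θ θ' := by
  rw [ind, ind, ZStar.Induce.classInner_indFun (H.isTI hL) (isGen_isClassFunction (H.isGen_lift hg))
    (H.vanishOff h) (H.vanishOff h'), classInner_def, classInner_def, H.card_C]
  rw [Fintype.sum_equiv H.e.toEquiv (fun x => H.lift θ x * conj (H.lift θ' x))
    (fun p => (if p.1 = 1 then 0 else 2 * θ p.2) * conj (if p.1 = 1 then 0 else 2 * θ' p.2))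
    fun x => by simp [lift], Fintype.sum_prod_type]
  have : (Finset.univ : Finset Z₂) = {1, Multiplicative.ofAdd 1} := by decide +kernel
  rw [this, Finset.sum_pair (Ne.symm z2_ne)]
  simp only [if_true, if_neg z2_ne, zero_mul, Finset.sum_const_zero, zero_add, map_mul, map_ofNat]
  rw [show ∑ k : K, 2 * θ k * (2 * conj (θ' k)) = 4 * ∑ k : K, θ k * conj (θ' k) by
    rw [Finset.mul_sum]; exact Finset.sum_congr rfl fun k _ => by ring]
  push_cast
  ring

theorem isConj_iff_two (y : G) : IsConj H.t y ↔ orderOf y = 2 := by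
  refine ⟨fun h => ?_, hL.fused y⟩
  obtain ⟨c, rfl⟩ := isConj_iff.1 h
  exact (orderOf_injective (MulAut.conj c).toMonoidHom (MulAut.conj c).injective H.t).trans H.ht

variable [DecidableEq K]

/-- Pairs of involutions with product `t k`. -/
theorem pairCount_tk (k : K) (hk : Odd (orderOf k)) :
    pairCount H.t (H.tk k) =
      Nat.card {i : K // orderOf i = 2 ∧ (i * k) * (i * k) = 1} +
      Nat.card {i : K // i * i = 1 ∧ orderOf (i * k) = 2} := by
  classical
  have ho : ∀ p : Z₂ × K, orderOf (H.emb p) = 2 ↔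
      (p.1 ≠ 1 ∧ p.2 * p.2 = 1) ∨ (p.1 = 1 ∧ orderOf p.2 = 2) := by
    intro p
    rw [orderOf_injective _ H.emb_injective, orderOf_eq_iff (by norm_num)]
    rw [orderOf_eq_iff (x := p.2) (by norm_num)]
    have hsq : p ^ 2 = 1 ↔ p.2 * p.2 = 1 := by
      rw [Prod.ext_iff, Prod.pow_fst, Prod.pow_snd, sq, sq, z2_sq]; simp
    have hone : ∀ q : Z₂ × K, (∀ m, m < 2 → 0 < m → q ^ m ≠ 1) ↔ q ≠ 1 := fun q =>
      ⟨fun h => by simpa using h 1 (by norm_num) one_pos,
        fun h m h1 h2 => by obtain rfl : m = 1 := by omega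
                            simpa using h⟩
    have hone' : ∀ q : K, (∀ m, m < 2 → 0 < m → q ^ m ≠ 1) ↔ q ≠ 1 := fun q =>
      ⟨fun h => by simpa using h 1 (by norm_num) one_pos,
        fun h m h1 h2 => by obtain rfl : m = 1 := by omega
                            simpa using h⟩
    rw [hsq, hone, hone', sq]
    rcases z2_cases p.1 with h | h
    · simp [Prod.ext_iff, h]
    · simp [Prod.ext_iff, h, z2_ne]
  have hmem : ∀ y, IsConj H.t y → IsConj H.t (y * H.tk k) → y ∈ H.C := by
    intro y h1 h2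
    rw [H.isConj_iff_two hL] at h1 h2
    have hy := pow_orderOf_eq_one y
    have hyk := pow_orderOf_eq_one (y * H.tk k)
    rw [h1, sq] at hy
    rw [h2, sq] at hyk
    have hyi : y⁻¹ = y := inv_eq_of_mul_eq_one_left hy
    have hinv : y * H.tk k * y⁻¹ = (H.tk k)⁻¹ := by
      rw [hyi]; exact eq_inv_of_mul_eq_one_left (by simpa [mul_assoc] using hyk)
    have := congrArg (· ^ orderOf k) hinv
    simp only [conj_pow, inv_pow, H.pow_card hL k hk hk dvd_rfl] at this
    have htt : H.t * H.t = 1 := by rw [← sq, ← H.ht]; exact pow_orderOf_eq_one _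
    rw [inv_eq_of_mul_eq_one_left htt, mul_inv_eq_iff_eq_mul] at this
    exact Subgroup.mem_centralizer_singleton_iff.2 this
  have e : {y : G // IsConj H.t y ∧ IsConj H.t (y * H.tk k)} ≃
      {p : Z₂ × K // orderOf (H.emb p) = 2 ∧ orderOf (H.emb (p * (Multiplicative.ofAdd 1, k))) = 2} :=
    { toFun := fun y => ⟨H.e ⟨y, hmem y y.2.1 y.2.2⟩, by
        rw [H.emb_e, map_mul, H.emb_e]
        exact ⟨(H.isConj_iff_two hL _).1 y.2.1, (H.isConj_iff_two hL _).1 y.2.2⟩⟩
      invFun := fun p => ⟨H.emb p, hL.fused _ p.2.1, hL.fused _ (by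
        have := p.2.2; rwa [map_mul] at this)⟩
      left_inv := fun y => Subtype.ext (H.emb_e _)
      right_inv := fun p => Subtype.ext (by simp [emb]) }
  rw [pairCount, Nat.card_congr e, ← Nat.card_sum]
  refine Nat.card_congr
    { toFun := fun p => if h : p.1.1 = 1 then Sum.inl ⟨p.1.2, ?_⟩ else Sum.inr ⟨p.1.2, ?_⟩
      invFun := Sum.elim (fun i => ⟨(1, i.1), ?_⟩) (fun i => ⟨(Multiplicative.ofAdd 1, i.1), ?_⟩)
      left_inv := ?_
      right_inv := ?_ }
  · have h1 := (ho _).1 p.2.1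
    have h2 := (ho _).1 p.2.2
    simp only [Prod.fst_mul, Prod.snd_mul, h, one_mul] at h1 h2
    simp only [ne_eq, not_true, false_and, true_and, false_or] at h1
    exact ⟨h1, by simpa [z2_ne] using h2⟩
  · have h1 := (ho _).1 p.2.1
    have h2 := (ho _).1 p.2.2
    have hp : p.1.1 = Multiplicative.ofAdd 1 := (z2_cases _).resolve_left h
    simp only [Prod.fst_mul, Prod.snd_mul, hp, z2_sq] at h1 h2
    simp [z2_ne] at h1 h2
    exact ⟨h1, h2⟩
  · simp only [ho, Prod.fst_mul, Prod.snd_mul, one_mul]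
    exact ⟨Or.inr ⟨trivial, i.2.1⟩, Or.inl ⟨z2_ne, i.2.2⟩⟩
  · simp only [ho, Prod.fst_mul, Prod.snd_mul, z2_sq]
    exact ⟨Or.inl ⟨z2_ne, i.2.1⟩, Or.inr ⟨trivial, i.2.2⟩⟩
  · rintro ⟨⟨a, i⟩, hp⟩
    rcases z2_cases a with rfl | rfl <;> simp [z2_ne]
  · rintro (i | i) <;> simp [z2_ne]

/-- The counting identity on the special classes. -/
theorem recip_ind [Fintype (Cfsg.IrrCharacter G)] {θ : K → ℂ}
    (hg : Cfsg.IsGeneralizedCharacter K θ) (h : ∀ k, Even (orderOf k) → θ k = 0) :
    (Nat.card G : ℂ) * ∑ χ, (coef (H.ind θ) χ : ℂ) * ((χ : G → ℂ) H.t) ^ 2 / (χ : G → ℂ) 1 =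
      (Nat.card H.C : ℂ) * (4 * ∑ a : {a : K // orderOf a = 2}, ∑ b : {b : K // orderOf b = 2},
        θ ((a : K) * b)) := by
  classical
  rw [ind, recip_indFun (H.isGen_lift hg) (by rw [← sq, ← H.ht]; exact pow_orderOf_eq_one _),
    H.sum_lift θ (fun w => (pairCount H.t w : ℂ))]
  have hterm : ∀ k, θ k * (pairCount H.t (H.tk k) : ℂ) = θ k *
      ((Nat.card {i : K // orderOf i = 2 ∧ (i * k) * (i * k) = 1} : ℂ) +
        (Nat.card {i : K // i * i = 1 ∧ orderOf (i * k) = 2} : ℂ)) := fun k => by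
    by_cases hk : Even (orderOf k)
    · simp [h k hk]
    · rw [H.pairCount_tk hL k (Nat.not_even_iff_odd.1 hk)]; push_cast; rfl
  rw [Finset.sum_congr rfl fun k _ => hterm k]
  have hA : ∀ P : K → K → Prop, [∀ a b, Decidable (P a b)] →
      ∑ k : K, θ k * (Nat.card {i : K // P i (i * k)} : ℂ) =
      ∑ i : K, ∑ j : K, if P i j then θ (i⁻¹ * j) else 0 := by
    intro P _
    simp only [Nat.card_eq_fintype_card, Fintype.card_subtype, Finset.card_filter, Nat.cast_sum,
      Nat.cast_ite, Nat.cast_one, Nat.cast_zero, Finset.mul_sum, mul_ite, mul_one, mul_zero]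
    rw [Finset.sum_comm]
    refine Finset.sum_congr rfl fun i _ => ?_
    exact Fintype.sum_equiv (Equiv.mulLeft i) _ _ fun k => by simp
  have h2 : ∀ i : K, i * i = 1 ↔ (i = 1 ∨ orderOf i = 2) := by
    intro i
    refine ⟨fun hi => ?_, ?_⟩
    · by_cases h1 : i = 1
      · exact Or.inl h1
      · exact Or.inr (orderOf_eq_prime (by rw [sq]; exact hi) h1)
    · rintro (rfl | h')
      · simp
      · rw [← sq, ← h']; exact pow_orderOf_eq_one _
  simp only [mul_add, Finset.sum_add_distrib]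
  rw [hA (fun i j => orderOf i = 2 ∧ j * j = 1), hA (fun i j => i * i = 1 ∧ orderOf j = 2)]
  set S := ∑ a : {a : K // orderOf a = 2}, ∑ b : {b : K // orderOf b = 2}, θ ((a : K) * b)
  have hS : ∑ i : K, ∑ j : K, (if orderOf i = 2 ∧ orderOf j = 2 then θ (i * j) else 0) = S := by
    have hmem : ∀ i : K, i ∈ Finset.univ.filter (fun i : K => orderOf i = 2) ↔ orderOf i = 2 := by
      simp
    simp only [S]
    rw [← Finset.sum_subtype (Finset.univ.filter fun i : K => orderOf i = 2) hmem
      (fun i => ∑ b : {b : K // orderOf b = 2}, θ (i * b)), Finset.sum_filter]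
    refine Finset.sum_congr rfl fun i _ => ?_
    by_cases hi : orderOf i = 2
    · rw [if_pos hi, ← Finset.sum_subtype (Finset.univ.filter fun i : K => orderOf i = 2) hmem
        (fun j => θ (i * j)), Finset.sum_filter]
      simp [hi]
    · simp [hi]
  have hinv : ∀ i : K, orderOf i = 2 → i⁻¹ = i := fun i hi =>
    inv_eq_of_mul_eq_one_left (by rw [← sq, ← hi]; exact pow_orderOf_eq_one _)
  have h1z : ∀ i : K, orderOf i = 2 → θ i = 0 := fun i hi => h i (by rw [hi]; exact even_two)
  have e1 : ∑ i : K, ∑ j : K, (if orderOf i = 2 ∧ j * j = 1 then θ (i⁻¹ * j) else 0) = S := by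
    rw [← hS]
    refine Finset.sum_congr rfl fun i _ => Finset.sum_congr rfl fun j _ => ?_
    by_cases hi : orderOf i = 2
    · rw [hinv i hi]
      by_cases hj : j = 1
      · subst hj; simp [hi, h1z i hi]
      · simp only [hi, h2, hj, false_or, true_and]
    · simp [hi]
  have e2 : ∑ i : K, ∑ j : K, (if i * i = 1 ∧ orderOf j = 2 then θ (i⁻¹ * j) else 0) = S := by
    rw [← hS]
    refine Finset.sum_congr rfl fun i _ => Finset.sum_congr rfl fun j _ => ?_
    by_cases hi : i = 1
    · subst hi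
      by_cases hj : orderOf j = 2
      · simp [hj, h1z j hj]
      · simp [hj]
    · by_cases hi' : orderOf i = 2
      · simp [hinv i hi', hi', h2]
      · simp [hi', h2, hi]
  rw [e1, e2]
  have hc0 : (Nat.card H.C : ℂ) ≠ 0 := Nat.cast_ne_zero.2 Nat.card_pos.ne'
  field_simp
  ring

end Cfsg.Agent.JT.Setup
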