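import Mathlib
import Cfsg.Agent.Lib.JT.Coeff

/-!
Induction along an embedding, for functions supported on a set whose fusion is given by finitely many
coset representatives.
-/

set_option autoImplicit false
set_option linter.unusedSectionVars false

namespace Cfsg.Agent.JT.Embed

open Cfsg.Agent.Characters Cfsg.Agent.CharTheory.IndBasic
open scoped ComplexConjugate

universe u v

variable {G : Type u} [Group G] [Fintype G] {M : Type v} [Group M] [Fintype M]
  {ι : M →* G} (hι : Function.Injective ι)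

noncomputable instance fintypeRange : Fintype ι.range := Fintype.ofFinite _

include hι

/-- The function induced along an embedding. -/
noncomputable def indHom (φ : M → ℂ) : G → ℂ :=
  Cfsg.indFun ι.range fun x => φ ((MonoidHom.ofInjective hι).symm x)

theorem isGen_indHom {φ : M → ℂ} (hφ : Cfsg.IsGeneralizedCharacter M φ) :
    Cfsg.IsGeneralizedCharacter G (indHom hι φ) :=
  isGen_indFun _ (isGen_comp (MonoidHom.ofInjective hι).symm.toMonoidHom hφ)

theorem sum_range {α : Type*} [AddCommMonoid α] (F : ι.range → α) :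
    ∑ x : ι.range, F x = ∑ m : M, F (MonoidHom.ofInjective hι m) :=
  (Fintype.sum_equiv (MonoidHom.ofInjective hι).toEquiv _ _ fun _ => rfl).symm

theorem card_range : Nat.card ι.range = Nat.card M :=
  (Nat.card_congr (MonoidHom.ofInjective hι).toEquiv).symm

theorem inner_indHom (φ : M → ℂ) {ψ : G → ℂ} (hψ : Cfsg.IsClassFunction G ψ) :
    Cfsg.classInner (indHom hι φ) ψ = (Nat.card M : ℂ)⁻¹ * ∑ m, φ m * conj (ψ (ι m)) := by
  rw [indHom, frobenius_reciprocity _ _ hψ, classInner_def, sum_range hι, card_range hι]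
  simp [MonoidHom.ofInjective_apply]

theorem indHom_one (φ : M → ℂ) : indHom hι φ 1 = (ι.range.index : ℂ) * φ 1 := by
  rw [indHom, indFun_one]
  simp

theorem indHom_zero (φ : M → ℂ) (g : G) (h : ∀ m, φ m ≠ 0 → ∀ x : G, x⁻¹ * g * x ≠ ι m) :
    indHom hι φ g = 0 := by
  refine ZStar.Induce.indFun_eq_zero (D := ι '' {m | φ m ≠ 0}) (fun x hx => ?_) g ?_
  · by_contra hne
    refine hx ⟨(MonoidHom.ofInjective hι).symm x, hne, ?_⟩
    exact congrArg Subtype.val ((MonoidHom.ofInjective hι).apply_symm_apply x)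
  · rintro x ⟨m, hm, hmx⟩
    exact h m hm x hmx.symm

theorem recip (φ : M → ℂ) (hφ : Cfsg.IsGeneralizedCharacter M φ) {t : G} (ht : t * t = 1)
    [Fintype (Cfsg.IrrCharacter G)] :
    (Nat.card G : ℂ) * ∑ χ, (coef (indHom hι φ) χ : ℂ) * ((χ : G → ℂ) t) ^ 2 / (χ : G → ℂ) 1 =
      (Nat.card (Subgroup.centralizer ({t} : Set G)) : ℂ) ^ 2 / (Nat.card M : ℂ) *
        ∑ m, φ m * (pairCount t (ι m) : ℂ) := by
  have h := recip_indFun (isGen_comp (MonoidHom.ofInjective hι).symm.toMonoidHom hφ) ht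
  rw [card_range hι, sum_range hι] at h
  simpa [indHom, Function.comp_def, MonoidHom.ofInjective_apply] using h

/-- Fusion of a set of `M` is realised by representatives `R i` inducing automorphisms `c i`. -/
structure Fusion (ι : M →* G) {k : ℕ} (R : Fin k → G) (c : Fin k → (M ≃* M)) (S : Set M) : Prop where
  act : ∀ i m, ι (c i m) = R i * ι m * (R i)⁻¹
  stable : ∀ i m, m ∈ S → c i m ∈ S
  inner : ∀ m m' : M, m ∈ S → m' * m * m'⁻¹ ∈ S
  coset : ∀ m ∈ S, ∀ g : G, (∃ m' ∈ S, g * ι m * g⁻¹ = ι m') → ∃ i x, g = R i * ι x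
  disjoint : ∀ i j x, (R i)⁻¹ * R j = ι x → i = j

theorem indHom_apply {k : ℕ} {R : Fin k → G} {c : Fin k → (M ≃* M)} {S : Set M}
    (hF : Fusion ι R c S) {φ : M → ℂ}
    (hφc : Cfsg.IsClassFunction M φ) (hφ : ∀ m, m ∉ S → φ m = 0) {m : M} (hm : m ∈ S) :
    indHom hι φ (ι m) = ∑ i, φ (c i m) := by
  classical
  set e := MonoidHom.ofInjective hι
  set f : G → ℂ := Cfsg.extendByZero ι.range fun x => φ (e.symm x)
  have hf : ∀ m', f (ι m') = φ m' := fun m' => by
    show Cfsg.extendByZero ι.range _ (ι m') = _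
    rw [extendByZero_of_mem _ _ (MonoidHom.mem_range.2 ⟨m', rfl⟩)]
    exact congrArg φ (e.symm_apply_apply m')
  let j : Fin k × M → G := fun p => (R p.1 * ι p.2)⁻¹
  have hj : Function.Injective j := by
    rintro ⟨a, x⟩ ⟨b, y⟩ h
    have h1 : R a * ι x = R b * ι y := inv_injective h
    have hab : a = b := hF.disjoint a b (x * y⁻¹) (by
      have : R b = R a * ι x * (ι y)⁻¹ := eq_mul_inv_of_mul_eq h1.symm
      rw [map_mul, map_inv, this]; group)
    subst hab
    rw [hι (mul_left_cancel h1)]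
  have hval : ∀ p : Fin k × M, f ((j p)⁻¹ * ι m * j p) = φ (c p.1 m) := by
    rintro ⟨i, x⟩
    have : (j (i, x))⁻¹ * ι m * j (i, x) = ι (c i (x * m * x⁻¹)) := by
      rw [hF.act, map_mul, map_mul, map_inv]
      simp only [j]; group
    rw [this, hf, map_mul, map_mul, map_inv, hφc]
  have hout : ∀ g : G, g ∉ Finset.univ.image j → f (g⁻¹ * ι m * g) = 0 := by
    intro g hg
    by_contra hne
    obtain ⟨m', hm'⟩ : g⁻¹ * ι m * g ∈ ι.range := by
      by_contra h
      exact hne (extendByZero_of_notMem _ _ h)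
    rw [← hm', hf] at hne
    have hmS : m' ∈ S := by_contra fun h => hne (hφ m' h)
    obtain ⟨i, x, hx⟩ := hF.coset m hm g⁻¹ ⟨m', hmS, by rw [inv_inv]; exact hm'.symm⟩
    exact hg (Finset.mem_image.2 ⟨(i, x), Finset.mem_univ _, by simp only [j]; rw [← hx, inv_inv]⟩)
  rw [indHom, Cfsg.indFun, card_range hι,
    ← Finset.sum_subset (Finset.subset_univ _) fun g _ hg => hout g hg,
    Finset.sum_image fun a _ b _ h => hj h]
  rw [Finset.sum_congr rfl fun p _ => hval p, Fintype.sum_prod_type, Finset.mul_sum]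
  refine Finset.sum_congr rfl fun i _ => ?_
  simp only [Finset.sum_const, Finset.card_univ, nsmul_eq_mul]
  rw [Nat.card_eq_fintype_card, ← mul_assoc,
    inv_mul_cancel₀ (by simp), one_mul]

theorem inner_indHom_indHom {k : ℕ} {R : Fin k → G} {c : Fin k → (M ≃* M)} {S : Set M}
    (hF : Fusion ι R c S) {φ φ' : M → ℂ} (hφ'c : Cfsg.IsClassFunction M φ')
    (hφ : ∀ m, m ∉ S → φ m = 0) (hφ' : ∀ m, m ∉ S → φ' m = 0) :
    Cfsg.classInner (indHom hι φ) (indHom hι φ') =
      ∑ i, Cfsg.classInner φ (fun m => φ' (c i m)) := by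
  rw [inner_indHom hι φ (ψ := indHom hι φ') (indFun_isClassFunction _ _)]
  simp only [classInner_def, ← Finset.mul_sum]
  congr 1
  rw [Finset.sum_comm]
  refine Finset.sum_congr rfl fun m _ => ?_
  by_cases hm : m ∈ S
  · rw [indHom_apply hι hF hφ'c hφ' hm, map_sum, Finset.mul_sum]
  · simp [hφ m hm]

end Cfsg.Agent.JT.Embed
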