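import Mathlib
import Cfsg.Agent.Lib.JT.Chars
import Cfsg.Agent.Lib.JT.Embed

/-!
The product of the torus with the four-group, its fusion and the inverting involutions.
-/

set_option autoImplicit false
set_option linter.unusedSectionVars false

namespace Cfsg.Agent.JT.Setup.Torus

open Cfsg.Agent.Characters

universe u v

local notation "Z₂" => Multiplicative (ZMod 2)

variable {G : Type u} [Group G] [Fintype G] {K : Type v} [Group K] [Fintype K] {H : Setup G K}
  {D : KData K} (W : H.Torus D)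

noncomputable instance fintypeA : Fintype W.A := Fintype.ofFinite _

/-- The homomorphism from a group of order two given by an element of square one. -/
noncomputable def zhom (y : G) (hy : y * y = 1) : Z₂ →* G where
  toFun a := if a = 1 then 1 else y
  map_one' := if_pos rfl
  map_mul' a b := by
    rcases z2_cases a with rfl | rfl <;> rcases z2_cases b with rfl | rfl <;>
      simp [z2_ne, z2_sq, hy]

theorem zhom_gen (y : G) (hy : y * y = 1) : zhom y hy (Multiplicative.ofAdd 1) = y := by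
  simp [zhom, z2_ne]

theorem sq_of_two {y : G} (hy : orderOf y = 2) : y * y = 1 := by
  rw [← sq, ← hy]; exact pow_orderOf_eq_one _

include W

theorem tt : H.t * H.t = 1 := sq_of_two H.ht
theorem vv : W.v * W.v = 1 := sq_of_two W.v_two
theorem ss : W.s * W.s = 1 := sq_of_two W.s_two

/-- The four-group. -/
noncomputable def four : Z₂ × Z₂ →* G :=
  MonoidHom.noncommCoprod (zhom H.t W.tt) (zhom W.v W.vv) fun a b => by
    rcases z2_cases a with rfl | rfl <;> rcases z2_cases b with rfl | rfl <;>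
      simp [zhom, z2_ne, W.tv]

theorem four_mem (w : Z₂ × Z₂) : W.four w ∈ ({1, H.t, W.v, H.t * W.v} : Set G) := by
  obtain ⟨a, b⟩ := w
  rcases z2_cases a with rfl | rfl <;> rcases z2_cases b with rfl | rfl <;>
    simp [four, MonoidHom.noncommCoprod_apply, zhom, z2_ne]

theorem four_surj {g : G} (hg : g ∈ ({1, H.t, W.v, H.t * W.v} : Set G)) : ∃ w, W.four w = g := by
  rcases hg with rfl | rfl | rfl | rfl
  · exact ⟨1, map_one _⟩
  · exact ⟨(Multiplicative.ofAdd 1, 1), by simp [four, MonoidHom.noncommCoprod_apply, zhom_gen]⟩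
  · exact ⟨(1, Multiplicative.ofAdd 1), by simp [four, MonoidHom.noncommCoprod_apply, zhom_gen]⟩
  · exact ⟨(Multiplicative.ofAdd 1, Multiplicative.ofAdd 1),
      by simp [four, MonoidHom.noncommCoprod_apply, zhom_gen]⟩

theorem v_ne_t : W.v ≠ H.t := fun h => by
  obtain ⟨k, hk⟩ := W.v_K
  have hz := W.z_t
  have hv2 := W.z_v
  rw [h] at hv2 hz
  rw [hz, W.tt] at hv2
  have := H.ht
  rw [hv2, orderOf_one] at this
  norm_num at this

theorem four_injective : Function.Injective W.four := by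
  rw [injective_iff_map_eq_one]
  rintro ⟨a, b⟩ h
  simp only [four, MonoidHom.noncommCoprod_apply] at h
  have ht : H.t ≠ 1 := fun e => by simpa [e, orderOf_one] using H.ht
  have hv : W.v ≠ 1 := fun e => by simpa [e, orderOf_one] using W.v_two
  rcases z2_cases a with rfl | rfl <;> rcases z2_cases b with rfl | rfl <;>
    simp [zhom, z2_ne] at h ⊢
  · exact hv h
  · exact ht h
  · exact W.v_ne_t (((mul_eq_one_iff_eq_inv).1 h).trans (inv_eq_of_mul_eq_one_left W.vv)).symm

theorem four_sq (w : Z₂ × Z₂) : W.four w * W.four w = 1 := by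
  rw [← map_mul, show w * w = 1 from Prod.ext (z2_sq _) (z2_sq _), map_one]

theorem four_comm_A (a : G) (ha : a ∈ W.A) (w : Z₂ × Z₂) : Commute a (W.four w) := by
  rcases W.four_mem w with h | h | h | h <;> rw [h]
  exacts [Commute.one_right _, W.A_t a ha, W.A_v a ha, (W.A_t a ha).mul_right (W.A_v a ha)]

/-- The product of the torus and the four-group. -/
noncomputable def emb : W.A × (Z₂ × Z₂) →* G :=
  MonoidHom.noncommCoprod W.A.subtype W.four fun a w => W.four_comm_A a a.2 w

theorem emb_apply (m : W.A × (Z₂ × Z₂)) : W.emb m = (m.1 : G) * W.four m.2 := rfl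

theorem odd_part {a : G} (ha : a ∈ W.A) (h : a * a = 1) : a = 1 := by
  have h1 : (⟨a, ha⟩ : W.A) ^ Nat.card W.A = 1 := pow_card_eq_one'
  obtain ⟨c, hc⟩ := W.A_odd
  rw [hc, pow_succ, pow_mul, sq, show (⟨a, ha⟩ : W.A) * ⟨a, ha⟩ = 1 from Subtype.ext h, one_pow,
    one_mul] at h1
  exact congrArg Subtype.val h1

theorem emb_injective : Function.Injective W.emb := by
  rw [injective_iff_map_eq_one]
  rintro ⟨a, w⟩ h
  rw [W.emb_apply] at h
  have ha : (a : G) = W.four w := by
    rw [mul_eq_one_iff_eq_inv.1 h, inv_eq_of_mul_eq_one_left (W.four_sq w)]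
  have : (a : G) = 1 := W.odd_part a.2 (by rw [ha]; exact W.four_sq w)
  refine Prod.ext (Subtype.ext this) (W.four_injective ?_)
  show W.four w = W.four 1
  rw [map_one, ← ha, this]

theorem mem_range_of {g a w : G} (ha : a ∈ W.A) (hw : w ∈ ({1, H.t, W.v, H.t * W.v} : Set G))
    (h : g = a * w) : ∃ m, W.emb m = g := by
  obtain ⟨w', rfl⟩ := W.four_surj hw
  exact ⟨(⟨a, ha⟩, w'), h.symm⟩

omit W in
/-- The permutation of the four-group. -/
def rho : (Z₂ × Z₂) ≃* (Z₂ × Z₂) where
  toFun w := (w.2, w.1 * w.2)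
  invFun w := (w.1 * w.2, w.1)
  left_inv w := by revert w; decide +kernel
  right_inv w := by revert w; decide +kernel
  map_mul' w w' := by revert w w'; decide +kernel

theorem four_rho (w : Z₂ × Z₂) : W.four (rho w) = W.z * W.four w * W.z⁻¹ := by
  obtain ⟨a, b⟩ := w
  rcases z2_cases a with rfl | rfl <;> rcases z2_cases b with rfl | rfl <;>
    simp [rho, four, MonoidHom.noncommCoprod_apply, zhom, z2_ne, z2_sq]
  · rw [W.z_v]
  · exact W.z_t.symm
  · rw [show W.z * (H.t * W.v) * W.z⁻¹ = W.z * H.t * W.z⁻¹ * (W.z * W.v * W.z⁻¹) by group, W.z_t,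
      W.z_v, ← mul_assoc, ← W.tv.eq, mul_assoc, W.vv, mul_one]

/-- The action of `z` on the torus. -/
noncomputable def zA : W.A ≃* W.A where
  toFun a := ⟨W.z * a * W.z⁻¹, (Subgroup.mem_normalizer_iff.1 W.z_A a).1 a.2⟩
  invFun a := ⟨W.z⁻¹ * a * W.z, (Subgroup.mem_normalizer_iff.1 W.z_A _).2 (by
    convert a.2 using 1; group)⟩
  left_inv a := Subtype.ext (by simp; group)
  right_inv a := Subtype.ext (by simp; group)
  map_mul' a b := Subtype.ext (by simp [mul_assoc])

/-- The action of `z`. -/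
noncomputable def zB : MulAut (W.A × (Z₂ × Z₂)) := MulEquiv.prodCongr W.zA rho

/-- The action of `s`. -/
noncomputable def sB : MulAut (W.A × (Z₂ × Z₂)) where
  toFun m := (m.1⁻¹, m.2)
  invFun m := (m.1⁻¹, m.2)
  left_inv m := by simp
  right_inv m := by simp
  map_mul' m m' := by
    haveI := W.A_cyclic
    refine Prod.ext ?_ rfl
    show (m.1 * m'.1)⁻¹ = m.1⁻¹ * m'.1⁻¹
    rw [mul_inv_rev, (IsCyclic.commGroup (α := W.A)).mul_comm]

theorem emb_zB (m : W.A × (Z₂ × Z₂)) : W.emb (W.zB m) = W.z * W.emb m * W.z⁻¹ := by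
  rw [W.emb_apply, W.emb_apply]
  show (W.z * (m.1 : G) * W.z⁻¹) * W.four (rho m.2) = _
  rw [W.four_rho]; group

theorem s_four (w : Z₂ × Z₂) : Commute W.s (W.four w) := by
  rcases W.four_mem w with h | h | h | h <;> rw [h]
  exacts [Commute.one_right _, W.ts.symm, W.vs.symm, W.ts.symm.mul_right W.vs.symm]

theorem emb_sB (m : W.A × (Z₂ × Z₂)) : W.emb (W.sB m) = W.s * W.emb m * W.s⁻¹ := by
  rw [W.emb_apply, W.emb_apply]
  show ((m.1 : G))⁻¹ * W.four m.2 = _
  rw [← W.A_s m.1 m.1.2, show W.s * ((m.1 : G) * W.four m.2) * W.s⁻¹ =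
    W.s * (m.1 : G) * W.s⁻¹ * (W.s * W.four m.2 * W.s⁻¹) by group,
    (W.s_four m.2).eq, mul_inv_cancel_right]

/-- The representatives. -/
noncomputable def rep (i : Fin 6) : G := W.z ^ (i.val / 2) * W.s ^ (i.val % 2)

/-- Their automorphisms. -/
noncomputable def act (i : Fin 6) : MulAut (W.A × (Z₂ × Z₂)) :=
  W.zB ^ (i.val / 2) * W.sB ^ (i.val % 2)

theorem emb_act (i : Fin 6) (m : W.A × (Z₂ × Z₂)) :
    W.emb (W.act i m) = W.rep i * W.emb m * (W.rep i)⁻¹ := by
  have h : ∀ (α : MulAut (W.A × (Z₂ × Z₂))) (g : G),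
      (∀ m, W.emb (α m) = g * W.emb m * g⁻¹) → ∀ (n : ℕ) m, W.emb ((α ^ n) m) = g ^ n * W.emb m * (g ^ n)⁻¹ := by
    intro α g hα n
    induction n with
    | zero => intro m; simp
    | succ n ih =>
      intro m
      rw [pow_succ, MulAut.mul_apply, ih, hα, pow_succ]; group
  rw [act, MulAut.mul_apply, h _ _ W.emb_zB, h _ _ W.emb_sB, rep]; group

/-- No element of the torus has a centralizer with composition factor `A₅`. -/
def NoFive : Prop := ∀ a ∈ W.A, a ≠ 1 → W.z * a * W.z⁻¹ = a →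
  Subgroup.centralizer ({a} : Set G) = W.A ⊔ Subgroup.closure {H.t, W.v, W.z}

/-- The elements with nontrivial torus part. -/
def nzSet : Set (W.A × (Z₂ × Z₂)) := {m | m.1 ≠ 1}

theorem act_nz (i : Fin 6) (m : W.A × (Z₂ × Z₂)) (h : m ∈ W.nzSet) : W.act i m ∈ W.nzSet := by
  have hz : ∀ m, m ∈ W.nzSet → W.zB m ∈ W.nzSet := fun m hm e => hm (by
    have e' : W.zA m.1 = 1 := e
    simpa using congrArg W.zA.symm e')
  have hs : ∀ m, m ∈ W.nzSet → W.sB m ∈ W.nzSet := fun m hm e => hm (inv_eq_one.1 e)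
  have hp : ∀ (α : MulAut (W.A × (Z₂ × Z₂))), (∀ m, m ∈ W.nzSet → α m ∈ W.nzSet) →
      ∀ (n : ℕ) m, m ∈ W.nzSet → (α ^ n) m ∈ W.nzSet := by
    intro α hα n
    induction n with
    | zero => intro m hm; simpa using hm
    | succ n ih => intro m hm; rw [pow_succ, MulAut.mul_apply]; exact ih _ (hα _ hm)
  rw [act, MulAut.mul_apply]
  exact hp _ hz _ _ (hp _ hs _ _ h)

theorem pow_eq (m : W.A × (Z₂ × Z₂)) : W.emb m ^ (Nat.card W.A + 1) = (m.1 : G) := by
  rw [← map_pow, W.emb_apply, Prod.pow_fst, Prod.pow_snd]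
  obtain ⟨c, hc⟩ := W.A_odd
  rw [pow_succ, pow_card_eq_one', one_mul, hc, show 2 * c + 1 + 1 = 2 * (c + 1) by ring, pow_mul, sq,
    show m.2 * m.2 = 1 from Prod.ext (z2_sq _) (z2_sq _), one_pow, map_one, mul_one]

theorem range_of_comm {a : W.A} (ha : a ≠ 1) {g : G} (hg : Commute g (a : G)) {w : G}
    (hw : w ∈ ({H.t, W.v, H.t * W.v} : Set G)) (hgw : Commute g w) : ∃ x, W.emb x = g := by
  obtain ⟨b, hb, w', hw', h⟩ := W.cent_AV a a.2 (fun e => ha (Subtype.ext e)) w hw g hg hgw
  exact W.mem_range_of hb hw' h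

theorem four_t : ∃ et, W.emb (1, et) = H.t := by
  obtain ⟨et, het⟩ := W.four_surj (g := H.t) (Or.inr (Or.inl rfl))
  exact ⟨et, by rw [W.emb_apply, het]; simp⟩

theorem four_v : ∃ ev, W.emb (1, ev) = W.v := by
  obtain ⟨ev, hev⟩ := W.four_surj (g := W.v) (Or.inr (Or.inr (Or.inl rfl)))
  exact ⟨ev, by rw [W.emb_apply, hev]; simp⟩

theorem emb_comm (x y : W.A × (Z₂ × Z₂)) : Commute (W.emb x) (W.emb y) := by
  refine (show Commute x y from ?_).map W.emb
  haveI := W.A_cyclic
  exact Prod.ext ((IsCyclic.commGroup (α := W.A)).mul_comm x.1 y.1) (Prod.ext (mul_comm _ _) (mul_comm _ _))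

theorem z_pow_range {i : ℕ} {x : W.A × (Z₂ × Z₂)} (h : W.emb x = W.z ^ i) : W.z ^ i = 1 := by
  by_contra hne
  obtain ⟨et, het⟩ := W.four_t
  have hc : Commute (W.z ^ i) H.t := by rw [← h, ← het]; exact W.emb_comm _ _
  have h3 : i.Coprime (orderOf W.z) := by
    rw [W.z_three]
    exact ((Nat.Prime.coprime_iff_not_dvd Nat.prime_three).2 fun hd => hne (by
      rwa [← orderOf_dvd_iff_pow_eq_one, W.z_three])).symm
  obtain ⟨k, hk⟩ := exists_pow_eq_self_of_coprime h3
  have hzt := hc.pow_left k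
  rw [hk] at hzt
  refine W.v_ne_t ?_
  rw [← W.z_t, hzt.eq, mul_inv_cancel_right]

/-- An element commuting with a nontrivial element of the torus. -/
theorem cent_split (hN : W.NoFive) {a : W.A} (ha : a ≠ 1) {g : G} (hg : Commute g (a : G)) :
    ∃ x, ∃ i : ℕ, g = W.emb x * W.z ^ i := by
  by_cases hfix : W.z * (a : G) * W.z⁻¹ = a
  · have hmem : g ∈ W.emb.range ⊔ Subgroup.zpowers W.z := by
      have h1 : g ∈ Subgroup.centralizer ({(a : G)} : Set G) := Subgroup.mem_centralizer_singleton_iff.2 hg.eq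
      rw [hN a a.2 (fun e => ha (Subtype.ext e)) hfix] at h1
      refine (sup_le (fun b hb => Subgroup.mem_sup_left (MonoidHom.mem_range.2 ⟨((⟨b, hb⟩ : W.A), (1 : Z₂ × Z₂)), by rw [W.emb_apply, map_one, mul_one]⟩))
        ((Subgroup.closure_le _).2 ?_)) h1
      rintro y (rfl | rfl | rfl)
      · exact Subgroup.mem_sup_left (W.four_t.elim fun e he => ⟨_, he⟩)
      · exact Subgroup.mem_sup_left (W.four_v.elim fun e he => ⟨_, he⟩)
      · exact Subgroup.mem_sup_right (Subgroup.mem_zpowers _)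
    have hnorm : Subgroup.zpowers W.z ≤ Subgroup.normalizer (W.emb.range : Set G) := by
      rw [Subgroup.zpowers_le, Subgroup.mem_normalizer_iff]
      refine fun y => ⟨?_, ?_⟩
      · rintro ⟨x, rfl⟩
        exact ⟨W.zB x, W.emb_zB x⟩
      · rintro ⟨x, hx⟩
        refine ⟨W.zB.symm x, ?_⟩
        have h' : W.emb x = W.z * W.emb (W.zB.symm x) * W.z⁻¹ := by
          rw [← W.emb_zB, MulEquiv.apply_symm_apply]
        rw [h'] at hx
        exact mul_left_cancel (mul_right_cancel hx)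
    rw [← SetLike.mem_coe, Subgroup.coe_mul_of_right_le_normalizer_left _ _ hnorm] at hmem
    obtain ⟨_, ⟨x, rfl⟩, c, hc, rfl⟩ := hmem
    have hfin : IsOfFinOrder W.z := isOfFinOrder_of_finite _
    obtain ⟨i, rfl⟩ := hfin.mem_powers_iff_mem_zpowers.2 hc
    exact ⟨x, i, rfl⟩
  · obtain ⟨b, hb, w, hw, h⟩ := W.cent_free a a.2 hfix g hg
    obtain ⟨x, hx⟩ := W.mem_range_of hb hw h
    exact ⟨x, 0, by rw [pow_zero, mul_one, hx]⟩

/-- An involution commuting with a nontrivial element of the torus. -/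
theorem range_of_invol (hN : W.NoFive) {a : W.A} (ha : a ≠ 1) {g : G} (hg : Commute g (a : G))
    (h2 : g * g = 1) : ∃ x, W.emb x = g := by
  obtain ⟨x, i, rfl⟩ := W.cent_split hN ha hg
  have key : ∀ (n : ℕ) m, W.emb ((W.zB ^ n) m) = W.z ^ n * W.emb m * (W.z ^ n)⁻¹ := by
    intro n
    induction n with
    | zero => intro m; simp
    | succ n ih => intro m; rw [pow_succ, MulAut.mul_apply, ih, W.emb_zB, pow_succ]; group
  have h3 : W.emb (x * (W.zB ^ i) x)⁻¹ = W.z ^ (i + i) := by
    rw [map_inv, map_mul, key, inv_eq_iff_mul_eq_one, pow_add, ← h2]; group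
  have h4 := W.z_pow_range h3
  have : W.z ^ i = 1 := by
    calc W.z ^ i = (W.z ^ orderOf W.z) ^ i * (W.z ^ (i + i))⁻¹ := by
          rw [W.z_three, ← pow_mul]; group
      _ = 1 := by rw [pow_orderOf_eq_one, h4]; simp
  exact ⟨x, by rw [this, mul_one]⟩

theorem fusion (hL : H.Local) (hN : W.NoFive) : Embed.Fusion W.emb W.rep (fun i => W.act i) W.nzSet where
  act := W.emb_act
  stable := W.act_nz
  inner m m' hm := by
    show (m' * m * m'⁻¹).1 ≠ 1
    haveI := W.A_cyclic
    rwa [Prod.fst_mul, Prod.fst_mul, Prod.fst_inv,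
      (IsCyclic.commGroup (α := W.A)).mul_comm m'.1 m.1, mul_inv_cancel_right]
  coset m hm g := by
    rintro ⟨m', hm', he⟩
    have hpow : g * (m.1 : G) * g⁻¹ = m'.1 := by
      rw [← W.pow_eq m, ← W.pow_eq m', ← he, conj_pow]
    have hcx : ∀ x, Commute (g * W.emb x * g⁻¹) (m'.1 : G) := fun x => by
      rw [← hpow]
      refine (show Commute (W.emb x) (m.1 : G) from ?_).map (MulAut.conj g).toMonoidHom
      rw [show (m.1 : G) = W.emb (m.1, 1) by rw [W.emb_apply, map_one, mul_one]]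
      exact W.emb_comm _ _
    have hcg : ∀ x y, Commute (g * W.emb x * g⁻¹) (g * W.emb y * g⁻¹) := fun x y => (W.emb_comm x y).map (MulAut.conj g).toMonoidHom
    have hfour : ∀ e, ∃ y, W.emb y = g * W.emb (1, e) * g⁻¹ := fun e => W.range_of_invol hN hm' (hcx _) (by
      rw [show g * W.emb (1, e) * g⁻¹ * (g * W.emb (1, e) * g⁻¹) = g * (W.emb (1, e) * W.emb (1, e)) * g⁻¹ by group,
        ← map_mul, show ((1, e) * (1, e) : W.A × (Z₂ × Z₂)) = 1 from
          Prod.ext (one_mul 1) (Prod.ext (z2_sq _) (z2_sq _)), map_one]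
      simp)
    have hnorm : ∀ x, ∃ y, W.emb y = g * W.emb x * g⁻¹ := fun x => by
      obtain ⟨et, het⟩ := W.four_t
      obtain ⟨y, hy⟩ := hfour et
      have hy2 : (y.1 : G) = 1 := by
        refine W.odd_part y.1.2 ?_
        have h2 : W.emb (y * y) = W.emb 1 := by
          rw [map_mul, hy, map_one, show g * W.emb (1, et) * g⁻¹ * (g * W.emb (1, et) * g⁻¹) =
            g * (W.emb (1, et) * W.emb (1, et)) * g⁻¹ by group, het, W.tt]
          simp
        exact congrArg Subtype.val (congrArg Prod.fst (W.emb_injective h2))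
      refine W.range_of_comm hm' (hcx x) (w := W.emb y) ?_ (hy ▸ hcg x _)
      have hw := W.four_mem y.2
      rw [W.emb_apply, hy2, one_mul]
      rcases hw with h | h
      · exfalso
        have h' : g * H.t * g⁻¹ = 1 := by rw [← het, ← hy, W.emb_apply, hy2, one_mul, h]
        simpa [conj_eq_one_iff.1 h', orderOf_one] using H.ht
      · exact h
    have hinv : ∀ {h y : G}, (∃ x, W.emb x = h) → h * h = 1 → h ∈ ({1, H.t, W.v, H.t * W.v} : Set G) := by
      rintro h - ⟨x, rfl⟩ h2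
      rw [← map_mul] at h2
      have h3 := congrArg Prod.fst (W.emb_injective (h2.trans (map_one W.emb).symm))
      have h4 : (x.1 : G) = 1 := W.odd_part x.1.2 (congrArg Subtype.val h3)
      rw [W.emb_apply, h4, one_mul]; exact W.four_mem _
    obtain ⟨et, het⟩ := W.four_surj (g := H.t) (Or.inr (Or.inl rfl))
    have htR : ∃ x, W.emb x = g * H.t * g⁻¹ := by
      have := hnorm (1, et)
      rwa [show W.emb (1, et) = H.t by rw [W.emb_apply, het]; simp] at this
    obtain ⟨ev, hev⟩ := W.four_surj (g := W.v) (Or.inr (Or.inr (Or.inl rfl)))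
    have hvR : ∃ x, W.emb x = g * W.v * g⁻¹ := by
      have := hnorm (1, ev)
      rwa [show W.emb (1, ev) = W.v by rw [W.emb_apply, hev]; simp] at this
    have ht1 : H.t ≠ 1 := fun e => by simpa [e, orderOf_one] using H.ht
    have htg := hinv (y := 1) htR (by
      rw [show g * H.t * g⁻¹ * (g * H.t * g⁻¹) = g * (H.t * H.t) * g⁻¹ by group, W.tt]; simp)
    obtain ⟨i, hi⟩ : ∃ i : Fin 3, W.z ^ i.val * H.t * (W.z ^ i.val)⁻¹ = g * H.t * g⁻¹ := by
      rcases htg with h | h | h | h
      · exact absurd (conj_eq_one_iff.1 h) ht1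
      · exact ⟨0, by simp [h]⟩
      · exact ⟨1, by rw [h]; simpa using W.z_t⟩
      · refine ⟨2, ?_⟩
        rw [h, ← W.z_v, ← W.z_t]; simp only [Fin.val_two, sq]; group
    set g1 := (W.z ^ i.val)⁻¹ * g with hg1
    have hg1t : g1 * H.t * g1⁻¹ = H.t := by
      rw [hg1, show (W.z ^ i.val)⁻¹ * g * H.t * ((W.z ^ i.val)⁻¹ * g)⁻¹ =
        (W.z ^ i.val)⁻¹ * (g * H.t * g⁻¹) * W.z ^ i.val by group, ← hi]; group
    have hg1C : g1 ∈ H.C := Subgroup.mem_centralizer_singleton_iff.2 (mul_inv_eq_iff_eq_mul.1 hg1t)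
    have hg1v : g1 * W.v * g1⁻¹ = W.v := by
      obtain ⟨x, hx⟩ : ∃ x, W.emb x = g1 * W.v * g1⁻¹ := by
        obtain ⟨x, hx⟩ := hvR
        refine ⟨(W.zB ^ i.val).symm x, ?_⟩
        have h' : W.emb x = W.z ^ i.val * W.emb ((W.zB ^ i.val).symm x) * (W.z ^ i.val)⁻¹ := by
          have key : ∀ (n : ℕ) m, W.emb ((W.zB ^ n) m) = W.z ^ n * W.emb m * (W.z ^ n)⁻¹ := by
            intro n
            induction n with
            | zero => intro m; simp
            | succ n ih => intro m; rw [pow_succ, MulAut.mul_apply, ih, W.emb_zB, pow_succ]; group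
          conv_lhs => rw [← MulEquiv.apply_symm_apply (W.zB ^ i.val) x]
          exact key _ _
        rw [hg1]
        calc W.emb ((W.zB ^ i.val).symm x) = (W.z ^ i.val)⁻¹ * W.emb x * W.z ^ i.val := by
              rw [h']; group
          _ = _ := by rw [hx]; group
      have hmem := hinv (y := 1) ⟨x, hx⟩ (by
        rw [show g1 * W.v * g1⁻¹ * (g1 * W.v * g1⁻¹) = g1 * (W.v * W.v) * g1⁻¹ by group, W.vv]; simp)
      rcases hmem with h | h | h | h
      · exact absurd (conj_eq_one_iff.1 h) fun e => by simpa [e, orderOf_one] using W.v_two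
      · refine absurd ?_ W.v_ne_t
        have := hg1t.trans h.symm
        exact (mul_left_cancel (mul_right_cancel this)).symm
      · exact h
      · exfalso
        obtain ⟨k, hk⟩ := W.v_K
        have hv : W.v ∈ H.C := Subgroup.mem_centralizer_singleton_iff.2 W.tv.symm.eq
        have e1 : (H.e ⟨W.v, hv⟩).1 = 1 := by
          rw [show (⟨W.v, hv⟩ : H.C) = H.e.symm (1, k) from Subtype.ext hk.symm, MulEquiv.apply_symm_apply]
        have e2 := congrArg (fun y : H.C => (H.e y).1)
          (show (⟨g1, hg1C⟩ : H.C) * ⟨W.v, hv⟩ * (⟨g1, hg1C⟩ : H.C)⁻¹ =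
            ⟨H.t, Subgroup.mem_centralizer_singleton_iff.2 rfl⟩ * ⟨W.v, hv⟩ from Subtype.ext h)
        simp only [map_mul, map_inv, Prod.fst_mul, Prod.fst_inv, e1, mul_one, mul_inv_cancel] at e2
        have e3 : H.e ⟨H.t, Subgroup.mem_centralizer_singleton_iff.2 rfl⟩ = (Multiplicative.ofAdd 1, 1) := by
          rw [← MulEquiv.apply_symm_apply H.e (Multiplicative.ofAdd 1, 1)]
          exact congrArg H.e (Subtype.ext hL.emb_t.symm)
        rw [e3] at e2
        exact z2_ne e2.symm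
    obtain ⟨a, ha, w, hw, h⟩ := W.cent_V g1 (mul_inv_eq_iff_eq_mul.1 hg1t) (mul_inv_eq_iff_eq_mul.1 hg1v)
    obtain ⟨x, hx⟩ := W.mem_range_of ha hw rfl
    have hgz : g = W.z ^ i.val * g1 := by rw [hg1, mul_inv_cancel_left]
    rcases h with h | h
    · refine ⟨⟨2 * i.val, by omega⟩, x, ?_⟩
      rw [hgz, h, ← hx, rep]
      simp [Nat.mul_div_right, Nat.mul_mod_right]
    · refine ⟨⟨2 * i.val + 1, by omega⟩, W.sB x, ?_⟩
      rw [hgz, h, ← hx, rep, W.emb_sB, inv_eq_of_mul_eq_one_left W.ss]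
      have e1 : (2 * i.val + 1) / 2 = i.val := by omega
      have e2 : (2 * i.val + 1) % 2 = 1 := by omega
      simp only [e1, e2, pow_one]
      rw [← mul_assoc (W.z ^ i.val * W.s), ← mul_assoc (W.z ^ i.val * W.s)]
      rw [mul_assoc (W.z ^ i.val) W.s W.s, W.ss, mul_one, mul_assoc]
  disjoint i j x h := by
    have hconj : W.rep i * W.emb x = W.rep j := by rw [← h, mul_inv_cancel_left]
    have hxt : Commute (W.emb x) H.t := by
      obtain ⟨et, het⟩ := W.four_surj (g := H.t) (Or.inr (Or.inl rfl))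
      rw [W.emb_apply, ← het]
      exact ((W.four_comm_A x.1 x.1.2 et)).mul_left
        ((show Commute x.2 et from Prod.ext (mul_comm _ _) (mul_comm _ _)).map W.four)
    have hst : ∀ b : ℕ, Commute (W.s ^ b) H.t := fun b => (W.ts.symm).pow_left b
    have hz : ∀ a : ℕ, ∀ b : ℕ, ∀ g : G, Commute g H.t →
        (W.z ^ a * W.s ^ b * g) * H.t * (W.z ^ a * W.s ^ b * g)⁻¹ = W.z ^ a * H.t * (W.z ^ a)⁻¹ := by
      intro a b g hg
      rw [show W.z ^ a * W.s ^ b * g * H.t * (W.z ^ a * W.s ^ b * g)⁻¹ =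
        W.z ^ a * (W.s ^ b * (g * H.t * g⁻¹) * (W.s ^ b)⁻¹) * (W.z ^ a)⁻¹ by group, hg.eq,
        mul_inv_cancel_right, (hst b).eq, mul_inv_cancel_right]
    have hd : i.val / 2 = j.val / 2 := by
      have h1 := hz (i.val / 2) (i.val % 2) (W.emb x) hxt
      have h2 := hz (j.val / 2) (j.val % 2) 1 (Commute.one_left _)
      have heq : W.z ^ (i.val / 2) * H.t * (W.z ^ (i.val / 2))⁻¹ =
          W.z ^ (j.val / 2) * H.t * (W.z ^ (j.val / 2))⁻¹ := by
        rw [← h1, ← h2, mul_one]
        simp only [rep] at hconj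
        rw [hconj]
      have e0 : W.z ^ 0 * H.t * (W.z ^ 0)⁻¹ = H.t := by simp
      have e1 : W.z ^ 1 * H.t * (W.z ^ 1)⁻¹ = W.v := by simpa using W.z_t
      have e2 : W.z ^ 2 * H.t * (W.z ^ 2)⁻¹ = H.t * W.v := by
        rw [← W.z_v, ← W.z_t, sq]; group
      have hv : W.v ≠ 1 := fun e => by simpa [e, orderOf_one] using W.v_two
      have ht1 : H.t ≠ 1 := fun e => by simpa [e, orderOf_one] using H.ht
      have hi2 : i.val / 2 < 3 := by omega
      have hj2 : j.val / 2 < 3 := by omega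
      interval_cases hA : i.val / 2 <;> interval_cases hB : j.val / 2 <;>
        simp only [e0, e1, e2] at heq <;> first
          | rfl
          | exact absurd heq W.v_ne_t
          | exact absurd heq.symm W.v_ne_t
          | exact absurd (mul_eq_left.1 heq) hv
          | exact absurd (mul_eq_left.1 heq.symm) hv
          | exact absurd (mul_eq_right.1 heq) ht1
          | exact absurd (mul_eq_right.1 heq.symm) ht1
    have hs : i.val % 2 = j.val % 2 := by
      by_contra hne
      simp only [rep, hd, mul_assoc, mul_right_inj] at hconj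
      have hr : ∃ y, W.emb y = W.s := by
        rcases Nat.mod_two_eq_zero_or_one i.val with hi | hi <;>
          rcases Nat.mod_two_eq_zero_or_one j.val with hj | hj <;>
          simp [hi, hj] at hne hconj
        · exact ⟨x, hconj⟩
        · exact ⟨x, by rw [eq_inv_of_mul_eq_one_right hconj, inv_eq_of_mul_eq_one_left W.ss]⟩
      obtain ⟨⟨a, w⟩, hy⟩ := hr
      have h2 : W.emb ((a, w) * (a, w)) = W.emb 1 := by rw [map_mul, hy, W.ss, map_one]
      have h3 : (a : G) = 1 := W.odd_part a.2 (congrArg Subtype.val (congrArg Prod.fst (W.emb_injective h2)))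
      apply W.s_notMem
      rw [← hy, W.emb_apply, h3, one_mul]
      exact W.four_mem w
    exact Fin.ext (by omega)

end Cfsg.Agent.JT.Setup.Torus
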