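import Mathlib
import Cfsg.Agent.Lib.JT.Chars

/-!
The exceptional multiplicities: Gram matrix, degrees, values at `t` and the counting identities.
-/

set_option autoImplicit false
set_option linter.unusedSectionVars false

namespace Cfsg.Agent.JT.Setup

open Cfsg.Agent.Characters
open scoped ComplexConjugate

universe u v

variable {G : Type u} [Group G] [Fintype G] [Fintype (Cfsg.IrrCharacter G)]
  {K : Type v} [Group K] [Fintype K] [DecidableEq K] (H : Setup G K) (D : KData K) (hL : H.Local)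

/-- The exceptional multiplicities. -/
noncomputable def m (i : Fin 3) (χ : Cfsg.IrrCharacter G) : ℤ := coef (H.ind (D.θ i)) χ

/-- The multiplicities in the functions of the principal series block. -/
noncomputable def mΦ (χ : Cfsg.IrrCharacter G) : ℤ := coef (H.ind D.Φ) χ

/-- The multiplicities in the functions of the blocks of defect one. -/
noncomputable def mψ (l : Fin D.N) (χ : Cfsg.IrrCharacter G) : ℤ := coef (H.ind (D.ψ l)) χ

/-- The value at `t`. -/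
noncomputable def T (χ : Cfsg.IrrCharacter G) : ℤ := (exists_val_two H.ht χ).choose

theorem T_spec (χ : Cfsg.IrrCharacter G) : (χ : G → ℂ) H.t = (H.T χ : ℂ) :=
  (exists_val_two H.ht χ).choose_spec

include hL

theorem gram (i j : Fin 3) : ∑ χ, H.m D i χ * H.m D j χ = if i = j then 4 else 2 := by
  refine gram_sum (H.isGen_ind (D.θ_gen i)) (H.isGen_ind (D.θ_gen j)) ?_
  rw [H.inner_ind hL (D.θ_gen i) (D.θ_even i) (D.θ_even j), D.θ_inner]
  split_ifs <;> norm_num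

theorem gramψ (l l' : Fin D.N) :
    ∑ χ, H.mψ D l χ * H.mψ D l' χ = if l = l' then 2 else 0 := by
  refine gram_sum (H.isGen_ind (D.ψ_gen l)) (H.isGen_ind (D.ψ_gen l')) ?_
  rw [H.inner_ind hL (D.ψ_gen l) (D.ψ_even l) (D.ψ_even l'), D.ψ_inner]
  split_ifs <;> norm_num

omit hL in
theorem m_deg (i : Fin 3) : ∑ χ, H.m D i χ * (deg χ : ℤ) = 0 :=
  sum_at_one (H.isGen_ind (D.θ_gen i)) (by rw [H.ind_one]; simp)

omit hL in
theorem mψ_deg (l : Fin D.N) : ∑ χ, H.mψ D l χ * (deg χ : ℤ) = 0 :=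
  sum_at_one (H.isGen_ind (D.ψ_gen l)) (by rw [H.ind_one]; simp)

omit hL in
theorem m_triv (i : Fin 3) : H.m D i (trivIrr G) = 1 := by
  have h := coef_spec (H.isGen_ind (D.θ_gen i)) (trivIrr G)
  have h' : (trivIrr G : G → ℂ) = fun _ => 1 := by funext g; simp [trivIrr_coe]
  rw [h', H.ind_triv, D.θ_triv] at h
  exact_mod_cast h.symm

theorem recip (i : Fin 3) :
    (Nat.card G : ℚ) * ∑ χ, (H.m D i χ : ℚ) * (H.T χ : ℚ) ^ 2 / (deg χ : ℚ) =
      (Nat.card H.C : ℚ) * (if i = 2 then (D.Q : ℚ) * (D.Q + 1) ^ 2 * (D.Q - 1)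
        else (D.Q : ℚ) ^ 2 * (D.Q + 1) * (D.Q + 3)) := by
  have h := H.recip_ind hL (D.θ_gen i) (D.θ_even i)
  rw [D.θ_pairs] at h
  simp only [H.T_spec, (deg_spec _).1] at h
  have : ((((Nat.card G : ℚ) * ∑ χ, (H.m D i χ : ℚ) * (H.T χ : ℚ) ^ 2 / (deg χ : ℚ)) : ℚ) : ℂ) =
      (((Nat.card H.C : ℚ) * (if i = 2 then (D.Q : ℚ) * (D.Q + 1) ^ 2 * (D.Q - 1)
        else (D.Q : ℚ) ^ 2 * (D.Q + 1) * (D.Q + 3)) : ℚ) : ℂ) := by
    push_cast
    split_ifs at h ⊢ with hi <;> push_cast <;> exact h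
  exact_mod_cast this

/-- The value at `t` from the multiplicities. -/
theorem two_T (χ : Cfsg.IrrCharacter G) :
    2 * H.T χ = (D.Q + 1) * (H.m D 0 χ + H.m D 1 χ) - 2 * D.Q * H.m D 2 χ +
      2 * (D.Q + 1) * H.mΦ D χ + 2 * ((D.Q - 1).natAbs : ℤ) * ∑ l, H.mψ D l χ := by
  have hin : ∀ θ : K → ℂ, Cfsg.IsGeneralizedCharacter K θ →
      (coef (H.ind θ) χ : ℂ) = (Nat.card K : ℂ)⁻¹ * ∑ k, θ k * conj ((χ : G → ℂ) (H.tk k)) :=
    fun θ hθ => by rw [← coef_spec (H.isGen_ind hθ), H.inner_ind_char θ (irr_isClassFunction χ)]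
  have key : ((2 * H.T χ : ℤ) : ℂ) = (((D.Q + 1) * (H.m D 0 χ + H.m D 1 χ) - 2 * D.Q * H.m D 2 χ +
      2 * (D.Q + 1) * H.mΦ D χ + 2 * ((D.Q - 1).natAbs : ℤ) * ∑ l, H.mψ D l χ : ℤ) : ℂ) := by
    simp only [m, mΦ, mψ]
    push_cast
    rw [hin _ (D.θ_gen 0), hin _ (D.θ_gen 1), hin _ (D.θ_gen 2), hin _ D.Φ_gen,
      Finset.sum_congr rfl fun l _ => hin _ (D.ψ_gen l), ← Finset.mul_sum, Finset.sum_comm]
    set K0 : ℂ := (Nat.card K : ℂ) with hK0
    set c : K → ℂ := fun k => conj ((χ : G → ℂ) (H.tk k))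
    have hreg : ∑ k, ((D.Q : ℂ) * ((D.θ 0 k + D.θ 1 k) - 2 * D.θ 2 k) + (D.θ 0 k + D.θ 1 k) +
        2 * (((D.Q : ℂ) + 1) * D.Φ k + ((D.Q - 1).natAbs : ℂ) * ∑ l, D.ψ l k)) * c k =
        2 * K0 * c 1 := by
      rw [Finset.sum_congr rfl fun k _ => by rw [D.regular k]]
      rw [Finset.sum_eq_single 1 (fun k _ hk => by rw [if_neg (mt orderOf_eq_one_iff.1 hk), zero_mul])
        (fun h => absurd (Finset.mem_univ _) h), if_pos orderOf_one]
    have hc1 : c 1 = (H.T χ : ℂ) := by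
      simp only [c, tk, hL.emb_t, H.T_spec, map_intCast]
    have hK : K0 ≠ 0 := natCard_ne_zero
    simp only [add_mul, sub_mul, mul_add, mul_sub, mul_assoc, Finset.sum_add_distrib,
      Finset.sum_sub_distrib, ← Finset.mul_sum, Finset.sum_mul] at hreg
    rw [hc1] at hreg
    simp only [show ∀ k, conj ((χ : G → ℂ) (H.tk k)) = c k from fun k => rfl]
    simp only [Nat.cast_natAbs] at hreg ⊢
    field_simp
    linear_combination -hreg
  exact_mod_cast key

end Cfsg.Agent.JT.Setup
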