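import Mathlib
import Cfsg.Agent.Lib.JT.TorusBasic
import Cfsg.Agent.Lib.JT.Values

/-!
The functions of the torus when `z` moves every nontrivial element of `A`.
-/

set_option autoImplicit false
set_option linter.unusedSectionVars false
set_option linter.style.haveILetI false

namespace Cfsg.Agent.JT.Setup.Torus

open Cfsg.Agent.Characters
open scoped ComplexConjugate

universe u v

local notation "Z₂" => Multiplicative (ZMod 2)

theorem inner_prod {A B : Type*} [Group A] [Fintype A] [Group B] [Fintype B] (f f' : A → ℂ)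
    (g g' : B → ℂ) :
    Cfsg.classInner (fun m : A × B => f m.1 * g m.2) (fun m : A × B => f' m.1 * g' m.2) =
      Cfsg.classInner f f' * Cfsg.classInner g g' := by
  simp only [classInner_def, Nat.card_prod, Nat.cast_mul, mul_inv, map_mul, Fintype.sum_prod_type]
  rw [show ∑ x, ∑ y, f x * g y * (conj (f' x) * conj (g' y)) =
      (∑ x, f x * conj (f' x)) * ∑ y, g y * conj (g' y) by
    rw [Finset.sum_mul_sum]
    exact Finset.sum_congr rfl fun x _ => Finset.sum_congr rfl fun y _ => by ring]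
  ring

theorem inner_lin {A : Type*} [Group A] [Fintype A] (l l' : A →* ℂˣ) [Decidable (l = l')] :
    Cfsg.classInner (fun a => (l a : ℂ)) (fun a => (l' a : ℂ)) = if l = l' then 1 else 0 := by
  split_ifs with h
  · subst h
    exact classInner_isIrr_self (isIrrCharacter_linear l)
  · refine classInner_isIrr_ne (isIrrCharacter_linear l) (isIrrCharacter_linear l') fun e => h ?_
    exact MonoidHom.ext fun a => Units.ext (congrFun e a)

theorem inner_one_sub {A : Type*} [Group A] [Fintype A] (l l' : A →* ℂˣ) (hl : l ≠ 1) (hl' : l' ≠ 1)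
    [Decidable (l = l')] :
    Cfsg.classInner (fun a => 1 - (l a : ℂ)) (fun a => 1 - (l' a : ℂ)) =
      1 + if l = l' then 1 else 0 := by
  classical
  have e : ∀ k : A →* ℂˣ, (fun a => 1 - (k a : ℂ)) =
      (fun a => ((1 : A →* ℂˣ) a : ℂ)) - fun a => (k a : ℂ) := fun k => by funext a; simp
  rw [e l, e l', classInner_sub_left, classInner_sub_right, classInner_sub_right]
  simp only [inner_lin]
  simp [hl, Ne.symm hl']

variable {G : Type u} [Group G] [Fintype G] {K : Type v} [Group K] [Fintype K] {H : Setup G K}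
  {D : KData K} (W : H.Torus D)

/-- The characters of the four-group used: trivial, and one nontrivial. -/
noncomputable def mu : Bool → (Z₂ × Z₂ →* ℂˣ)
  | false => 1
  | true => sgn.comp (MonoidHom.fst _ _)

/-- The function on the torus product. -/
noncomputable def phi (l : W.A →* ℂˣ) (b : Bool) : W.A × (Z₂ × Z₂) → ℂ :=
  fun m => (1 - (l m.1 : ℂ)) * (mu b m.2 : ℂ)

/-- The induced function. -/
noncomputable def fn (l : W.A →* ℂˣ) (b : Bool) : G → ℂ := Embed.indHom W.emb_injective (W.phi l b)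

theorem isGen_phi (l : W.A →* ℂˣ) (b : Bool) :
    Cfsg.IsGeneralizedCharacter (W.A × (Z₂ × Z₂)) (W.phi l b) := by
  let a1 : W.A × (Z₂ × Z₂) →* ℂˣ := (mu b).comp (MonoidHom.snd _ _)
  let a2 : W.A × (Z₂ × Z₂) →* ℂˣ := (l.comp (MonoidHom.fst _ _)) * a1
  have h := isGen_sub (isGen_of_isCharacter (isCharacter_linear a1))
    (isGen_of_isCharacter (isCharacter_linear a2))
  convert h using 1
  funext m
  simp [phi, a1, a2, sub_mul]

theorem isGen_fn (l : W.A →* ℂˣ) (b : Bool) : Cfsg.IsGeneralizedCharacter G (W.fn l b) :=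
  Embed.isGen_indHom _ (W.isGen_phi l b)

theorem phi_supp (l : W.A →* ℂˣ) (b : Bool) (m : W.A × (Z₂ × Z₂))
    (hm : m ∉ W.nzSet) : W.phi l b m = 0 := by
  have : m.1 = 1 := by_contra fun h => hm h
  simp [phi, this]

theorem phi_supp_ne {l : W.A →* ℂˣ} {b : Bool} {m : W.A × (Z₂ × Z₂)} (hm : W.phi l b m ≠ 0) :
    m.1 ≠ 1 := fun h => hm (by simp [phi, h])

/-- The inner products of two of the functions. -/
theorem inner_fn (hL : H.Local) (hN : W.NoFive) {l : W.A →* ℂˣ} (hl : l ≠ 1) (b b' : Bool)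
    (hz : b = false → b' = false → ∃ a, l (W.zA a) ≠ l a) :
    Cfsg.classInner (W.fn l b) (W.fn l b') =
      if b = b' then (if b then 3 else 7) else 0 := by
  classical
  rw [fn, fn, Embed.inner_indHom_indHom W.emb_injective (W.fusion hL hN)
    (isGen_isClassFunction (W.isGen_phi l b')) (W.phi_supp l b) (W.phi_supp l b')]
  let li : Fin 6 → (W.A →* ℂˣ) := fun i =>
    l.comp ((MonoidHom.fst _ _).comp ((W.act i).toMonoidHom.comp (MonoidHom.inl _ _)))
  have hsB : ∀ m, W.sB m = (m.1⁻¹, m.2) := fun m => rfl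
  have hzB : ∀ m, W.zB m = (W.zA m.1, rho m.2) := fun m => rfl
  have hact : ∀ i m, W.act i m =
      ![(m.1, m.2), (m.1⁻¹, m.2), (W.zA m.1, rho m.2), (W.zA m.1⁻¹, rho m.2),
        (W.zA (W.zA m.1), rho (rho m.2)), (W.zA (W.zA m.1⁻¹), rho (rho m.2))] i := by
    intro i m
    fin_cases i <;> simp [act, hsB, hzB, sq]
  let rr : Fin 6 → (Z₂ × Z₂ → Z₂ × Z₂) := ![id, id, rho, rho, rho ∘ rho, rho ∘ rho]
  have hsplit : ∀ i m, W.phi l b' (W.act i m) = (1 - (li i m.1 : ℂ)) * (mu b' (rr i m.2) : ℂ) := by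
    intro i m
    show _ = (1 - (l (W.act i (m.1, 1)).1 : ℂ)) * _
    rw [phi, hact, hact]
    fin_cases i <;> simp [rr]
  have hterm : ∀ i, Cfsg.classInner (W.phi l b) (fun m => W.phi l b' (W.act i m)) =
      Cfsg.classInner (fun a => 1 - (l a : ℂ)) (fun a => 1 - (li i a : ℂ)) *
        Cfsg.classInner (fun w => (mu b w : ℂ)) (fun w => (mu b' (rr i w) : ℂ)) := fun i => by
    rw [show (fun m => W.phi l b' (W.act i m)) =
      fun m => (1 - (li i m.1 : ℂ)) * (mu b' (rr i m.2) : ℂ) from funext (hsplit i),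
      show W.phi l b = fun m => (1 - (l m.1 : ℂ)) * (mu b m.2 : ℂ) from rfl]
    exact inner_prod (fun a : W.A => 1 - (l a : ℂ)) (fun a : W.A => 1 - (li i a : ℂ))
      (fun w : Z₂ × Z₂ => (mu b w : ℂ)) (fun w : Z₂ × Z₂ => (mu b' (rr i w) : ℂ))
  haveI := W.A_cyclic
  letI := IsCyclic.commGroup (α := W.A)
  have hz3 : ∀ a, W.zA (W.zA (W.zA a)) = a := by
    intro a
    apply Subtype.ext
    show W.z * (W.z * (W.z * (a : G) * W.z⁻¹) * W.z⁻¹) * W.z⁻¹ = a
    rw [show W.z * (W.z * (W.z * (a : G) * W.z⁻¹) * W.z⁻¹) * W.z⁻¹ =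
      W.z ^ 3 * (a : G) * (W.z ^ 3)⁻¹ by simp [pow_succ]; group,
      ← W.z_three, pow_orderOf_eq_one]; simp
  have hodd : ∀ k : W.A →* ℂˣ, (∀ a, (k a)⁻¹ = k a) → k = 1 := fun k hk => by
    refine MonoidHom.ext fun a => ?_
    have h1 : k a * k a = 1 := by
      calc k a * k a = (k a)⁻¹ * k a := by rw [hk]
        _ = 1 := inv_mul_cancel _
    have h2 : k a ^ Nat.card W.A = 1 := by rw [← map_pow, pow_card_eq_one', map_one]
    obtain ⟨c, hc⟩ := W.A_odd
    rw [hc, pow_succ, pow_mul, sq, h1, one_pow, one_mul] at h2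
    simpa using h2
  have hne : ∀ i, li i ≠ 1 := by
    intro i h
    refine hl (MonoidHom.ext fun a => ?_)
    have := DFunLike.congr_fun h (((W.act i).symm (a, 1)).1)
    have hw : ((W.act i).symm (a, 1)).2 = 1 := by
      have h1 := (W.act i).apply_symm_apply (a, (1 : Z₂ × Z₂))
      rw [hact] at h1
      have h2 := congrArg Prod.snd h1
      fin_cases i <;> simpa using h2
    simp only [li, MonoidHom.comp_apply, MonoidHom.inl_apply, MulEquiv.coe_toMonoidHom,
      MonoidHom.coe_fst] at this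
    rw [show (((W.act i).symm (a, 1)).1, (1 : Z₂ × Z₂)) = (W.act i).symm (a, 1) from
      Prod.ext rfl hw.symm, MulEquiv.apply_symm_apply] at this
    exact this
  have heq0 : l = li 0 := by
    refine MonoidHom.ext fun a => ?_
    show l a = l (W.act 0 (a, 1)).1
    rw [hact]; simp
  have hli : ∀ i a, li i a = l (W.act i (a, 1)).1 := fun i a => rfl
  have heq1 : l ≠ li 1 := fun h => hl (hodd l fun a => by
    have := DFunLike.congr_fun h a
    rw [hli, hact] at this
    simpa using this.symm)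
  have heq : (∃ a, l (W.zA a) ≠ l a) → ∀ i, l = li i ↔ i = 0 := by
    rintro ⟨a0, ha0⟩ i
    refine ⟨fun h => ?_, fun h => h ▸ heq0⟩
    by_contra hi
    have h' : ∀ a, l a = li i a := fun a => DFunLike.congr_fun h a
    simp only [hli, hact] at h'
    fin_cases i <;> simp only [Fin.zero_eta, not_true, Matrix.cons_val_zero, Matrix.cons_val_one,
      Matrix.cons_val, Fin.mk_one, Fin.reduceFinMk, map_inv] at h' hi
    · exact heq1 h
    · exact ha0 (h' a0).symm
    · have h6 : ∀ a, (l a)⁻¹ = l a := fun a => by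
        have e2 := h' (W.zA a)
        have e3 := h' (W.zA (W.zA a)); rw [hz3] at e3
        calc (l a)⁻¹ = l (W.zA (W.zA a)) := e3.symm
          _ = (l (W.zA a))⁻¹ := by rw [e2, inv_inv]
          _ = l a := (h' a).symm
      exact hl (hodd l h6)
    · have := h' (W.zA a0); rw [hz3] at this; exact ha0 this
    · have h6 : ∀ a, (l a)⁻¹ = l a := fun a => by
        have e1 := h' (W.zA a); rw [hz3] at e1
        have e2 := h' (W.zA (W.zA a)); rw [hz3] at e2
        calc (l a)⁻¹ = l (W.zA a) := e1.symm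
          _ = (l (W.zA (W.zA a)))⁻¹ := by rw [e2, inv_inv]
          _ = l a := (h' a).symm
      exact hl (hodd l h6)
  simp only [hterm, inner_one_sub l _ hl (hne _)]
  have hμ : ∀ (c : Bool) (i : Fin 6), Cfsg.classInner (fun w => (mu b w : ℂ)) (fun w => (mu c (rr i w) : ℂ)) =
      if b = c then (if b then (if i = 0 ∨ i = 1 then 1 else 0) else 1) else 0 := by
    have hu : (Finset.univ : Finset (Z₂ × Z₂)) = {(1, 1), (Multiplicative.ofAdd 1, 1),
      (1, Multiplicative.ofAdd 1), (Multiplicative.ofAdd 1, Multiplicative.ofAdd 1)} := by decide +kernel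
    intro c i
    rw [classInner_def, hu]
    rw [Finset.sum_insert (by decide +kernel), Finset.sum_insert (by decide +kernel),
      Finset.sum_pair (by decide +kernel)]
    cases b <;> cases c <;> fin_cases i <;>
      simp [mu, rr, rho, sgn, z2_ne, z2_sq] <;> norm_num
  simp only [hμ, Fin.sum_univ_six]
  cases b <;> cases b'
  · simp only [heq (hz rfl rfl)]
    simp [Fin.ext_iff] <;> norm_num
  all_goals simp [Fin.ext_iff, ← heq0, heq1] <;> norm_num

end Cfsg.Agent.JT.Setup.Torus
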