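import Mathlib
import Cfsg.Agent.Lib.JT.TorusFun

/-!
Values of the torus functions: against the exceptional functions, at `1`, at `t`, and the counting
identity.
-/

set_option autoImplicit false
set_option linter.unusedSectionVars false
set_option linter.style.haveILetI false

namespace Cfsg.Agent.JT.Setup.Torus

open Cfsg.Agent.Characters
open scoped ComplexConjugate

universe u v

local notation "Z₂" => Multiplicative (ZMod 2)

variable {G : Type u} [Group G] [Fintype G] {K : Type v} [Group K] [Fintype K] {H : Setup G K}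
  {D : KData K} (W : H.Torus D)

theorem sum_lin_one_sub {l : W.A →* ℂˣ} (hl : l ≠ 1) :
    ∑ a : W.A, (1 - (l a : ℂ)) = (Nat.card W.A : ℂ) := by
  classical
  have h : Cfsg.classInner (fun a : W.A => (l a : ℂ)) (fun a : W.A => ((1 : W.A →* ℂˣ) a : ℂ)) = 0 := by
    rw [inner_lin, if_neg hl]
  simp only [classInner_def, MonoidHom.one_apply, Units.val_one, map_one, mul_one, mul_eq_zero,
    inv_eq_zero, Nat.cast_eq_zero, Nat.card_pos.ne', false_or] at h
  rw [Finset.sum_sub_distrib, h, sub_zero, Finset.sum_const, Finset.card_univ, nsmul_eq_mul, mul_one,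
    Nat.card_eq_fintype_card]

theorem sum_phi {l : W.A →* ℂˣ} (hl : l ≠ 1) (b : Bool) (ψ : W.A × (Z₂ × Z₂) → ℂ) (c : Z₂ × Z₂ → ℂ)
    (hψ : ∀ m : W.A × (Z₂ × Z₂), m.1 ≠ 1 → ψ m = c m.2) :
    ∑ m, W.phi l b m * ψ m = (Nat.card W.A : ℂ) * ∑ w, (mu b w : ℂ) * c w := by
  rw [← W.sum_lin_one_sub hl, Finset.sum_mul_sum, Fintype.sum_prod_type]
  refine Finset.sum_congr rfl fun a _ => Finset.sum_congr rfl fun w _ => ?_
  by_cases ha : a = 1
  · simp [phi, ha]
  · rw [hψ (a, w) ha, phi]; ring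

theorem sum_mu (b : Bool) : ∑ w : Z₂ × Z₂, (mu b w : ℂ) = if b then 0 else 4 := by
  have hu : (Finset.univ : Finset (Z₂ × Z₂)) = {(1, 1), (Multiplicative.ofAdd 1, 1),
    (1, Multiplicative.ofAdd 1), (Multiplicative.ofAdd 1, Multiplicative.ofAdd 1)} := by decide +kernel
  rw [hu, Finset.sum_insert (by decide +kernel), Finset.sum_insert (by decide +kernel),
    Finset.sum_pair (by decide +kernel)]
  cases b <;> simp [mu, sgn, z2_ne] <;> norm_num

theorem sum_mu_ne (b : Bool) :
    ∑ w : Z₂ × Z₂, (mu b w : ℂ) * (if w = 1 then 0 else 1) = if b then -1 else 3 := by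
  have hu : (Finset.univ : Finset (Z₂ × Z₂)) = {(1, 1), (Multiplicative.ofAdd 1, 1),
    (1, Multiplicative.ofAdd 1), (Multiplicative.ofAdd 1, Multiplicative.ofAdd 1)} := by decide +kernel
  rw [hu, Finset.sum_insert (by decide +kernel), Finset.sum_insert (by decide +kernel),
    Finset.sum_pair (by decide +kernel)]
  cases b <;> simp [mu, sgn, z2_ne] <;> norm_num

theorem card_B : Nat.card (W.A × (Z₂ × Z₂)) = 4 * Nat.card W.A := by
  simp [Nat.card_prod]; ring

theorem inner_triv {l : W.A →* ℂˣ} (hl : l ≠ 1) (b : Bool) :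
    Cfsg.classInner (W.fn l b) (fun _ => 1) = if b then 0 else 1 := by
  rw [fn, Embed.inner_indHom W.emb_injective _ (fun _ _ => rfl), W.card_B]
  simp only [map_one]
  rw [W.sum_phi hl b (fun _ => 1) (fun _ => 1) fun _ _ => rfl]
  simp only [mul_one, sum_mu]
  have hA : (Nat.card W.A : ℂ) ≠ 0 := natCard_ne_zero
  cases b <;> simp <;> field_simp

theorem fn_one (l : W.A →* ℂˣ) (b : Bool) : W.fn l b 1 = 0 := by
  rw [fn, Embed.indHom_one]; simp [phi]

theorem fn_t (l : W.A →* ℂˣ) (b : Bool) : W.fn l b H.t = 0 := by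
  refine Embed.indHom_zero _ _ _ fun m hm x h => W.phi_supp_ne hm ?_
  have h2 : W.emb (m * m) = W.emb 1 := by
    rw [map_mul, ← h, map_one, show x⁻¹ * H.t * x * (x⁻¹ * H.t * x) = x⁻¹ * (H.t * H.t) * x by group,
      W.tt]
    simp
  exact Subtype.ext (W.odd_part m.1.2 (congrArg Subtype.val (congrArg Prod.fst (W.emb_injective h2))))

/-- A function constant on the odd torus of the centralizer of an involution, on the torus product. -/
theorem ind_const (hL : H.Local) {θ : K → ℂ} (hg : Cfsg.IsGeneralizedCharacter K θ)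
    (he : ∀ k, Even (orderOf k) → θ k = 0) (c : ℂ)
    (hc : ∀ k, Odd (orderOf k) → k ≠ 1 → (∃ w : K, orderOf w = 2 ∧ Commute w k) → θ k = c)
    (m : W.A × (Z₂ × Z₂)) (hm : m.1 ≠ 1) :
    H.ind θ (W.emb m) = (if m.2 = 1 then 0 else 1) * (2 * c) := by
  classical
  have hcl : Cfsg.IsClassFunction G (H.ind θ) := isGen_isClassFunction (H.isGen_ind hg)
  have hm1 : (m.1 : G) ≠ 1 := fun e => hm (Subtype.ext e)
  have hord : Odd (orderOf (m.1 : G)) := by
    rw [Subgroup.orderOf_coe]
    exact W.A_odd.of_dvd_nat (orderOf_dvd_natCard _)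
  by_cases hw : m.2 = 1
  · rw [if_pos hw, zero_mul, W.emb_apply, hw, map_one, mul_one]
    refine ZStar.Induce.indFun_eq_zero (H.vanishOff he) _ fun x hx => ?_
    obtain ⟨k, hk, hxe⟩ := hx
    have h1 := H.pow_card hL k hk (hk.mul hord) (dvd_mul_right _ _)
    rw [← hxe, mul_comm (orderOf k), show x⁻¹ * (m.1 : G) * x = x⁻¹ * m.1 * x⁻¹⁻¹ by rw [inv_inv],
      conj_pow, pow_mul, pow_orderOf_eq_one, one_pow] at h1
    simp only [mul_one, mul_inv_cancel] at h1
    simpa [← h1, orderOf_one] using H.ht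
  · rw [if_neg hw, one_mul]
    -- the case of the involution `t`
    have key : ∀ a : W.A, a ≠ 1 → H.ind θ ((a : G) * H.t) = 2 * c := by
      intro a ha
      have haC : (a : G) ∈ H.C := Subgroup.mem_centralizer_singleton_iff.2 (W.A_t a a.2).eq
      set p := H.e ⟨a, haC⟩ with hp
      have hpa : H.emb p = (a : G) := H.emb_e _
      have hpo : Odd (orderOf p) := by
        rw [← orderOf_injective H.emb H.emb_injective p, hpa, Subgroup.orderOf_coe]
        exact W.A_odd.of_dvd_nat (orderOf_dvd_natCard _)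
      have hfst : p.1 = 1 := by
        rcases z2_cases p.1 with h | h
        · exact h
        · have h3 : orderOf p.1 ∣ orderOf p := orderOf_map_dvd (MonoidHom.fst _ _) p
          have h2 : orderOf p.1 = 2 := orderOf_eq_prime (by rw [sq, z2_sq]) (by rw [h]; exact z2_ne)
          rw [h2] at h3
          exact absurd (hpo.of_dvd_nat h3) (by norm_num)
      have hpk : p = (1, p.2) := Prod.ext hfst rfl
      have hk1 : p.2 ≠ 1 := fun e => ha (Subtype.ext (by rw [← hpa, hpk, e]; exact map_one _))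
      have hko : Odd (orderOf p.2) := hpo.of_dvd_nat (orderOf_map_dvd (MonoidHom.snd _ _) p)
      obtain ⟨kv, hkv⟩ := W.v_K
      have hkv2 : orderOf kv = 2 := by
        rw [← W.v_two, ← hkv]
        exact (orderOf_injective H.embK (H.emb_injective.comp fun a b h => congrArg Prod.snd h) kv).symm
      have hcomm : Commute kv p.2 := by
        have h := (W.A_v a a.2).symm
        rw [← hkv, ← hpa, hpk] at h
        exact congrArg Prod.snd (H.emb_injective (by rw [map_mul, map_mul]; exact h.eq :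
          H.emb ((1, kv) * (1, p.2)) = H.emb ((1, p.2) * (1, kv))))
      have hval : (a : G) * H.t = H.tk p.2 := by
        rw [tk, ← hpa, ← hL.emb_t, ← map_mul]
        congr 1
        exact Prod.ext (by simp [hfst]) (by simp)
      have hmem : H.tk p.2 ∈ H.C := H.emb_mem _
      rw [hval, ind]
      refine (ZStar.Induce.indFun_coe (H.isTI hL) (isGen_isClassFunction (H.isGen_lift hg))
        (H.vanishOff he) ⟨_, hmem⟩ ⟨p.2, hko, rfl⟩).trans ?_
      have he : H.e ⟨H.tk p.2, hmem⟩ = (Multiplicative.ofAdd 1, p.2) := by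
        rw [← MulEquiv.apply_symm_apply H.e (Multiplicative.ofAdd 1, p.2)]
        exact congrArg H.e (Subtype.ext rfl)
      simp only [lift, he, if_neg z2_ne, hc p.2 hko hk1 ⟨kv, hkv2, hcomm⟩]
    obtain ⟨et, het⟩ := W.four_surj (g := H.t) (Or.inr (Or.inl rfl))
    have hrho : m.2 = et ∨ m.2 = rho et ∨ m.2 = rho (rho et) := by
      have h2 : ∀ e w : Z₂ × Z₂, e ≠ 1 → w ≠ 1 → w = e ∨ w = rho e ∨ w = rho (rho e) := by
        decide +kernel
      refine h2 et m.2 (fun e => ?_) hw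
      rw [e, map_one] at het
      simpa [← het, orderOf_one] using H.ht
    have hstep : ∀ (a : W.A) (w : Z₂ × Z₂), a ≠ 1 → H.ind θ (W.emb (a, rho w)) =
        H.ind θ (W.emb (W.zA.symm a, w)) := fun a w _ => by
      rw [← hcl (W.emb (W.zA.symm a, w)) W.z, ← W.emb_zB]
      congr 2
      exact Prod.ext (MulEquiv.apply_symm_apply W.zA a).symm rfl
    have hz : ∀ a : W.A, a ≠ 1 → W.zA.symm a ≠ 1 := fun a ha e => ha (by
      have := congrArg W.zA e; simpa using this)
    have base : ∀ a : W.A, a ≠ 1 → H.ind θ (W.emb (a, et)) = 2 * c := fun a ha => by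
      rw [W.emb_apply, het]; exact key a ha
    obtain ⟨a, w⟩ := m
    rcases hrho with h | h | h <;> simp only at h <;> subst h
    · exact base a hm
    · rw [hstep _ _ hm]; exact base _ (hz a hm)
    · rw [hstep _ _ hm, hstep _ _ (hz a hm)]; exact base _ (hz _ (hz a hm))

/-- The exceptional functions on the torus product. -/
theorem ind_on_torus (hL : H.Local) (i : Fin 3) (m : W.A × (Z₂ × Z₂)) (hm : m.1 ≠ 1) :
    H.ind (D.θ i) (W.emb m) =
      (if m.2 = 1 then 0 else 1) * (if i = 2 then 0 else 4) := by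
  rw [W.ind_const hL (D.θ_gen i) (D.θ_even i) _ (D.θ_torus i) m hm]
  congr 1
  split_ifs <;> norm_num

theorem inner_theta (hL : H.Local) {l : W.A →* ℂˣ} (hl : l ≠ 1) (b : Bool) (i : Fin 3) :
    Cfsg.classInner (W.fn l b) (H.ind (D.θ i)) =
      (if b then -1 else 3) * (if i = 2 then 0 else 1) := by
  rw [fn, Embed.inner_indHom W.emb_injective _ (isGen_isClassFunction (H.isGen_ind (D.θ_gen i))),
    W.card_B, W.sum_phi hl b _ (fun w => (if w = 1 then 0 else 1) * (if i = 2 then 0 else 4))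
      fun m hm => by rw [W.ind_on_torus hL i m hm]; split_ifs <;> simp [Complex.conj_ofNat]]
  have hA : (Nat.card W.A : ℂ) ≠ 0 := natCard_ne_zero
  rw [show ∑ w : Z₂ × Z₂, (mu b w : ℂ) * ((if w = 1 then 0 else 1) * (if i = 2 then 0 else 4)) =
    (∑ w : Z₂ × Z₂, (mu b w : ℂ) * (if w = 1 then 0 else 1)) * (if i = 2 then 0 else 4) by
    rw [Finset.sum_mul]; simp only [mul_assoc], sum_mu_ne]
  push_cast
  split_ifs <;> field_simp <;> ring

/-- An inverter differs from `s` by an element of the torus product. -/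
theorem inverter (hN : W.NoFive) {m : W.A × (Z₂ × Z₂)} (hm : m ∈ W.nzSet) {y : G}
    (hc : Commute (W.s * y) (m.1 : G)) (e1 : y * y = 1) : ∃ x, W.emb x = W.s * y := by
  obtain ⟨x, i, hx⟩ := W.cent_split hN hm hc
  suffices hi : W.z ^ i = 1 from ⟨x, by rw [hx, hi, mul_one]⟩
  have hy : y = W.s * W.emb x * W.z ^ i := by rw [mul_assoc, ← hx, ← mul_assoc, W.ss, one_mul]
  have key : ∀ (n : ℕ) m, W.emb ((W.zB ^ n) m) = W.z ^ n * W.emb m * (W.z ^ n)⁻¹ := by
    intro n
    induction n with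
    | zero => intro m; simp
    | succ n ih => intro m; rw [pow_succ, MulAut.mul_apply, ih, W.emb_zB, pow_succ]; group
  have h3 : W.emb (W.sB x * (W.zB ^ i) x)⁻¹ = W.z ^ (i + i) := by
    rw [map_inv, map_mul, key, W.emb_sB, inv_eq_iff_mul_eq_one]
    have hzs : Commute (W.z ^ i) W.s := W.z_s.pow_left i
    calc W.s * W.emb x * W.s⁻¹ * (W.z ^ i * W.emb x * (W.z ^ i)⁻¹) * W.z ^ (i + i)
        = W.s * W.emb x * (W.s⁻¹ * W.z ^ i) * W.emb x * W.z ^ i := by rw [pow_add]; group
      _ = W.s * W.emb x * (W.z ^ i * W.s) * W.emb x * W.z ^ i := by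
          rw [inv_eq_of_mul_eq_one_left W.ss, hzs.eq]
      _ = y * y := by rw [hy]; group
      _ = 1 := e1
  have h4 := W.z_pow_range h3
  calc W.z ^ i = (W.z ^ orderOf W.z) ^ i * (W.z ^ (i + i))⁻¹ := by
        rw [W.z_three, ← pow_mul]; group
    _ = 1 := by rw [pow_orderOf_eq_one, h4]; simp

theorem inner_psi (hL : H.Local) (l : W.A →* ℂˣ) (b : Bool) (j : Fin D.N) :
    Cfsg.classInner (W.fn l b) (H.ind (D.ψ j)) = 0 := by
  rw [fn, Embed.inner_indHom W.emb_injective _ (isGen_isClassFunction (H.isGen_ind (D.ψ_gen j)))]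
  refine mul_eq_zero_of_right _ (Finset.sum_eq_zero fun m _ => ?_)
  by_cases hm : m.1 = 1
  · simp [phi, hm]
  · rw [W.ind_const hL (D.ψ_gen j) (D.ψ_even j) 0 (fun k _ h1 h2 => D.ψ_torus j k h1 h2) m hm]
    simp

theorem pairCount_emb (hL : H.Local) (hN : W.NoFive) {m : W.A × (Z₂ × Z₂)} (hm : m ∈ W.nzSet) :
    pairCount H.t (W.emb m) = 4 * Nat.card W.A := by
  classical
  rw [← W.card_B, pairCount]
  have hsB : ∀ x, W.s * W.emb x * (W.s * W.emb x) = W.emb (W.sB x * x) := fun x => by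
    rw [map_mul, W.emb_sB, inv_eq_of_mul_eq_one_left W.ss]; group
  have hsq : ∀ x, W.sB x * x = 1 := fun x =>
    Prod.ext (inv_mul_cancel _) (Prod.ext (z2_sq _) (z2_sq _))
  have hnot : ∀ x, W.s * W.emb x ≠ 1 := fun x h => by
    have hs : W.s = W.emb x⁻¹ := by rw [map_inv]; exact eq_inv_of_mul_eq_one_left h
    have h2 : W.emb (x⁻¹ * x⁻¹) = W.emb 1 := by rw [map_mul, ← hs, W.ss, map_one]
    have h3 : ((x⁻¹).1 : G) = 1 :=
      W.odd_part (x⁻¹).1.2 (congrArg Subtype.val (congrArg Prod.fst (W.emb_injective h2)))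
    apply W.s_notMem
    rw [hs, W.emb_apply, h3, one_mul]; exact W.four_mem _
  have hinv : ∀ x, orderOf (W.s * W.emb x) = 2 := fun x =>
    orderOf_eq_prime (by rw [sq, hsB, hsq, map_one]) (hnot x)
  symm
  refine Nat.card_congr (Equiv.ofBijective (fun x => (⟨W.s * W.emb x, hL.fused _ (hinv x),
    hL.fused _ (by rw [mul_assoc, ← map_mul]; exact hinv _)⟩ :
      {y : G // IsConj H.t y ∧ IsConj H.t (y * W.emb m)})) ⟨fun x y h => ?_, fun y => ?_⟩)
  · exact W.emb_injective (mul_left_cancel (congrArg Subtype.val h))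
  · obtain ⟨y, hy1, hy2⟩ := y
    rw [H.isConj_iff_two hL] at hy1 hy2
    have e1 := sq_of_two hy1
    have e2 := sq_of_two hy2
    have hyinv : y * W.emb m * y⁻¹ = (W.emb m)⁻¹ := by
      rw [inv_eq_of_mul_eq_one_left e1]
      exact eq_inv_of_mul_eq_one_left (by simpa [mul_assoc] using e2)
    have ha : y * (m.1 : G) * y⁻¹ = (m.1 : G)⁻¹ := by
      rw [← W.pow_eq m, ← conj_pow, hyinv, inv_pow]
    have hc : Commute (W.s * y) (m.1 : G) := by
      show _ = _
      calc W.s * y * m.1 = W.s * (y * m.1 * y⁻¹) * y := by group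
        _ = W.s * (m.1 : G)⁻¹ * W.s⁻¹ * (W.s * y) := by rw [ha]; group
        _ = _ := by
          rw [W.A_s _ (inv_mem m.1.2), inv_inv]
    obtain ⟨x, hx⟩ := W.inverter hN hm hc e1
    refine ⟨x, Subtype.ext ?_⟩
    show W.s * W.emb x = y
    rw [hx, ← mul_assoc, W.ss, one_mul]

theorem recip_fn [Fintype (Cfsg.IrrCharacter G)] (hL : H.Local) (hN : W.NoFive) {l : W.A →* ℂˣ}
    (hl : l ≠ 1) (b : Bool) :
    (Nat.card G : ℂ) * ∑ χ, (coef (W.fn l b) χ : ℂ) * ((χ : G → ℂ) H.t) ^ 2 / (χ : G → ℂ) 1 =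
      (Nat.card H.C : ℂ) ^ 2 * ((Nat.card W.A : ℂ) * if b then 0 else 4) := by
  rw [fn, Embed.recip W.emb_injective _ (W.isGen_phi l b) W.tt, W.card_B,
    W.sum_phi hl b (fun m => (pairCount H.t (W.emb m) : ℂ)) (fun _ => ((4 * Nat.card W.A : ℕ) : ℂ))
      fun m hm => by rw [W.pairCount_emb hL hN hm], ← Finset.sum_mul, sum_mu]
  have hA : (Nat.card W.A : ℂ) ≠ 0 := natCard_ne_zero
  push_cast
  field_simp

end Cfsg.Agent.JT.Setup.Torus
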