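import Mathlib
import Cfsg.Agent.Lib.JT.TorusVal
import Cfsg.Agent.BlocksChars.FrobNormalizer.Dual

/-!
Congruences for degrees and for values at `t`: modulo eight from the Sylow subgroup, modulo the
order of the torus from the sums of the multiplicities over its characters.
-/

set_option autoImplicit false
set_option linter.unusedSectionVars false
set_option linter.style.haveILetI false

namespace Cfsg.Agent.JT.Setup.Torus

open Cfsg.Agent.Characters
open scoped ComplexConjugate

universe u v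

local notation "Z₂" => Multiplicative (ZMod 2)

variable {G : Type u} [Group G] [Fintype G] {K : Type v} [Group K] [Fintype K] {H : Setup G K}
  {D : KData K} (W : H.Torus D)

theorem A_comm : IsMulCommutative W.A := by
  haveI := W.A_cyclic
  exact ⟨⟨(IsCyclic.commGroup (α := W.A)).mul_comm⟩⟩

theorem finite_dual : Finite (W.A →* ℂˣ) := by
  haveI := W.A_cyclic
  letI := IsCyclic.commGroup (α := W.A)
  exact Finite.of_equiv _ (CommGroup.monoidHom_mulEquiv_of_hasEnoughRootsOfUnity W.A ℂ).some.toEquiv.symm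

/-- The Sylow 2-subgroup. -/
noncomputable def eight : Z₂ × (Z₂ × Z₂) →* G :=
  MonoidHom.noncommCoprod (zhom W.s W.ss) W.four fun a w => by
    rcases z2_cases a with rfl | rfl
    · rw [map_one]; exact Commute.one_left _
    · rw [zhom_gen]; exact W.s_four w

theorem eight_injective : Function.Injective W.eight := by
  rw [injective_iff_map_eq_one]
  rintro ⟨a, w⟩ h
  simp only [eight, MonoidHom.noncommCoprod_apply] at h
  rcases z2_cases a with rfl | rfl
  · rw [map_one, one_mul] at h
    exact Prod.ext rfl (W.four_injective (h.trans (map_one _).symm))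
  · rw [zhom_gen] at h
    exfalso
    apply W.s_notMem
    rw [eq_inv_of_mul_eq_one_left h, inv_eq_of_mul_eq_one_left (W.four_sq w)]
    exact W.four_mem w

variable [Fintype (Cfsg.IrrCharacter G)]

include W in
theorem deg_T_eight (hL : H.Local) (χ : Cfsg.IrrCharacter G) :
    (8 : ℤ) ∣ (deg χ : ℤ) - H.T χ := by
  classical
  obtain ⟨k, hk⟩ := classInner_char_nat (isCharacter_comp W.eight (irr_isCharacter χ))
    (isCharacter_one (G := Z₂ × (Z₂ × Z₂)))
  have hv : ∀ x : Z₂ × (Z₂ × Z₂), ((χ : G → ℂ) ∘ W.eight) x =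
      if x = 1 then (deg χ : ℂ) else (H.T χ : ℂ) := by
    intro x
    split_ifs with hx
    · rw [Function.comp_apply, hx, map_one, (deg_spec χ).1]
    · have h2 : orderOf (W.eight x) = 2 := by
        rw [orderOf_injective _ W.eight_injective]
        refine orderOf_eq_prime ?_ hx
        rw [sq]; exact Prod.ext (z2_sq _) (Prod.ext (z2_sq _) (z2_sq _))
      obtain ⟨c, hc⟩ := isConj_iff.1 (hL.fused _ h2)
      rw [Function.comp_apply, ← hc, irr_isClassFunction χ H.t c, H.T_spec]
  have hc8 : Nat.card (Z₂ × (Z₂ × Z₂)) = 8 := by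
    simp [Nat.card_prod, Nat.card_eq_fintype_card]
  rw [classInner_def, hc8] at hk
  simp only [hv, map_one, mul_one] at hk
  rw [← Finset.add_sum_erase _ _ (Finset.mem_univ 1), if_pos rfl,
    Finset.sum_congr rfl (fun x hx => if_neg (Finset.ne_of_mem_erase hx)), Finset.sum_const,
    Finset.card_erase_of_mem (Finset.mem_univ _), Finset.card_univ, ← Nat.card_eq_fintype_card, hc8,
    nsmul_eq_mul] at hk
  refine ⟨(k : ℤ) - H.T χ, ?_⟩
  have : ((deg χ : ℤ) : ℂ) - (H.T χ : ℂ) = ((8 * ((k : ℤ) - H.T χ) : ℤ) : ℂ) := by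
    push_cast at hk ⊢
    linear_combination (8 : ℂ) * hk
  exact_mod_cast this

/-- The sum of the multiplicities over the characters of the torus. -/
theorem sum_coef [Fintype (W.A →* ℂˣ)] (hL : H.Local) (b : Bool) (χ : Cfsg.IrrCharacter G) :
    ∃ k : ℤ, 4 * ∑ l : W.A →* ℂˣ, coef (W.fn l b) χ =
      4 * (Nat.card W.A : ℤ) * k - ((deg χ : ℤ) + if b then -H.T χ else 3 * H.T χ) := by
  classical
  let e : W.A × (Z₂ × Z₂) →* ℂˣ := (mu b).comp (MonoidHom.snd _ _)
  obtain ⟨k, hk⟩ := classInner_gen_int (isGen_of_isCharacter (isCharacter_linear e))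
    (isGen_of_isCharacter (isCharacter_comp W.emb (irr_isCharacter χ)))
  refine ⟨k, ?_⟩
  set r : ℂ := (Nat.card W.A : ℂ) with hr
  have hr0 : r ≠ 0 := natCard_ne_zero
  set c : W.A × (Z₂ × Z₂) → ℂ := fun m => conj ((χ : G → ℂ) (W.emb m)) with hc
  have hfn : ∀ l, (coef (W.fn l b) χ : ℂ) = (4 * r)⁻¹ * ∑ m, W.phi l b m * c m := fun l => by
    rw [← coef_spec (W.isGen_fn l b), fn, Embed.inner_indHom W.emb_injective _ (irr_isClassFunction χ),
      W.card_B]
    push_cast; rfl
  have hsum : ∀ m : W.A × (Z₂ × Z₂), ∑ l : W.A →* ℂˣ, W.phi l b m =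
      r * (mu b m.2 : ℂ) * (1 - if m.1 = 1 then 1 else 0) := fun m => by
    simp only [phi, ← Finset.sum_mul, Finset.sum_sub_distrib, Finset.sum_const, Finset.card_univ,
      nsmul_eq_mul, mul_one]
    rw [BlocksChars.FrobNormalizer.sum_dual_apply W.A_comm, ← Nat.card_eq_fintype_card,
      BlocksChars.FrobNormalizer.card_dual W.A_comm]
    split_ifs <;> simp [r] <;> ring
  have hlhs : ∑ l : W.A →* ℂˣ, (coef (W.fn l b) χ : ℂ) = (4 * r)⁻¹ * r *
      (∑ m, (mu b m.2 : ℂ) * c m - ∑ w, (mu b w : ℂ) * c (1, w)) := by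
    simp only [hfn, ← Finset.mul_sum]
    rw [Finset.sum_comm, mul_assoc]
    congr 1
    simp only [← Finset.sum_mul, hsum]
    rw [mul_sub, Finset.mul_sum, Finset.mul_sum, Fintype.sum_prod_type, Fintype.sum_prod_type]
    simp only [mul_sub, sub_mul, Finset.sum_sub_distrib]
    congr 1
    · simp only [mul_one, mul_assoc]
    · rw [Finset.sum_eq_single (1 : W.A) (fun a _ ha => by simp [ha])
        (fun h => absurd (Finset.mem_univ _) h)]
      simp only [if_true, mul_one, mul_assoc]
  have hk' : (4 * r)⁻¹ * ∑ m, (mu b m.2 : ℂ) * c m = (k : ℂ) := by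
    rw [← hk, classInner_def, W.card_B]
    push_cast; rfl
  have hcw : ∀ w : Z₂ × Z₂, c (1, w) = if w = 1 then (deg χ : ℂ) else (H.T χ : ℂ) := by
    intro w
    simp only [c, W.emb_apply, OneMemClass.coe_one, one_mul]
    split_ifs with hw
    · rw [hw, map_one, (deg_spec χ).1, map_natCast]
    · have h2 : orderOf (W.four w) = 2 := orderOf_eq_prime (by rw [sq, W.four_sq])
        fun e => hw (W.four_injective (e.trans (map_one _).symm))
      obtain ⟨d, hd⟩ := isConj_iff.1 (hL.fused _ h2)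
      rw [← hd, irr_isClassFunction χ H.t d, H.T_spec, map_intCast]
  have hv : ∑ w, (mu b w : ℂ) * c (1, w) = (deg χ : ℂ) + if b then -(H.T χ : ℂ) else 3 * (H.T χ : ℂ) := by
    simp only [hcw]
    have hu : (Finset.univ : Finset (Z₂ × Z₂)) = {(1, 1), (Multiplicative.ofAdd 1, 1),
      (1, Multiplicative.ofAdd 1), (Multiplicative.ofAdd 1, Multiplicative.ofAdd 1)} := by decide +kernel
    rw [hu, Finset.sum_insert (by decide +kernel), Finset.sum_insert (by decide +kernel),
      Finset.sum_pair (by decide +kernel)]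
    cases b <;> simp [mu, sgn, z2_ne] <;> ring
  have key : ((4 * ∑ l : W.A →* ℂˣ, coef (W.fn l b) χ : ℤ) : ℂ) =
      ((4 * (Nat.card W.A : ℤ) * k - ((deg χ : ℤ) + if b then -H.T χ else 3 * H.T χ) : ℤ) : ℂ) := by
    push_cast
    rw [hlhs, ← hk', hv]
    simp only [← hr]
    split_ifs <;> push_cast <;> field_simp
  exact_mod_cast key

theorem fn_at_one (b : Bool) : W.fn 1 b = 0 := by
  funext g
  simp [fn, Embed.indHom, Cfsg.indFun, phi, Cfsg.extendByZero, Function.extend]

/-- Degrees and values at `t` modulo the order of the torus, from constant multiplicities. -/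
theorem congr_torus [Fintype (W.A →* ℂˣ)] (hL : H.Local) (χ : Cfsg.IrrCharacter G) (c d : ℤ)
    (hc : ∀ l : W.A →* ℂˣ, l ≠ 1 → coef (W.fn l false) χ + 3 * coef (W.fn l true) χ = c)
    (hd : ∀ l : W.A →* ℂˣ, l ≠ 1 → coef (W.fn l false) χ - coef (W.fn l true) χ = d) :
    (Nat.card W.A : ℤ) ∣ (deg χ : ℤ) - c ∧ (Nat.card W.A : ℤ) ∣ H.T χ - d := by
  classical
  obtain ⟨k, hk⟩ := W.sum_coef hL false χ
  obtain ⟨k', hk'⟩ := W.sum_coef hL true χ
  simp only [if_true, Bool.false_eq_true, if_false] at hk hk'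
  have hcard : (Finset.univ.erase (1 : W.A →* ℂˣ)).card = Nat.card W.A - 1 := by
    rw [Finset.card_erase_of_mem (Finset.mem_univ _), Finset.card_univ, ← Nat.card_eq_fintype_card,
      BlocksChars.FrobNormalizer.card_dual W.A_comm]
  have hzero : ∀ b, coef (W.fn (1 : W.A →* ℂˣ) b) χ = 0 := fun b => by
    have h := coef_spec (W.isGen_fn 1 b) χ
    have h0 : Cfsg.classInner (W.fn 1 b) (χ : G → ℂ) = 0 := by rw [W.fn_at_one, classInner_zero_left]
    rw [h0] at h
    exact_mod_cast h.symm
  have hsum : ∀ (α : ℤ) (f : ℤ), (∀ l : W.A →* ℂˣ, l ≠ 1 →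
      coef (W.fn l false) χ + α * coef (W.fn l true) χ = f) →
      ∑ l, coef (W.fn l false) χ + α * ∑ l, coef (W.fn l true) χ = ((Nat.card W.A : ℤ) - 1) * f := by
    intro α f hf
    rw [Finset.mul_sum, ← Finset.sum_add_distrib,
      ← Finset.add_sum_erase _ _ (Finset.mem_univ (1 : W.A →* ℂˣ)), hzero, hzero,
      Finset.sum_congr rfl fun l hl => hf l (Finset.ne_of_mem_erase hl), Finset.sum_const, hcard,
      nsmul_eq_mul, Nat.cast_sub Nat.card_pos]
    simp
  have h1 := hsum 3 c hc
  have h2 := hsum (-1) d fun l hl => by rw [← hd l hl]; ring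
  constructor
  · exact ⟨(k + 3 * k') - c, by linarith⟩
  · exact ⟨(k - k') - d, by linarith⟩

end Cfsg.Agent.JT.Setup.Torus
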