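import Mathlib
import Cfsg.Agent.Lib.J1Order.Lattice

/-!
The two shapes of three integral vectors of norm three with pairwise inner product one.
-/

set_option autoImplicit false
set_option linter.unusedSectionVars false

namespace Cfsg.Agent.JT.Lattice

open Cfsg.Agent.J1Order.Lattice

variable {ι : Type*} [Fintype ι]

/-- The table of shape A: one common character, two private ones for each vector. -/
def tableA : Fin 3 → Fin 7 → ℤ :=
  ![![1, 1, 1, 0, 0, 0, 0], ![1, 0, 0, 1, 1, 0, 0], ![1, 0, 0, 0, 0, 1, 1]]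

/-- The table of shape B: a character for each pair, one private character for each vector. -/
def tableB : Fin 3 → Fin 6 → ℤ :=
  ![![1, 0, 1, 1, 0, 0], ![0, 1, 1, 0, 1, 0], ![1, 1, 0, 0, 0, 1]]

/-- Three vectors are given by a table along an injection. -/
structure Shaped {k : ℕ} (v : Fin 3 → ι → ℤ) (tbl : Fin 3 → Fin k → ℤ) (f : Fin k → ι) : Prop where
  inj : Function.Injective f
  val : ∀ i j, v i (f j) = tbl i j
  zero : ∀ i x, (∀ j, x ≠ f j) → v i x = 0

theorem Shaped.sum_mul {k : ℕ} {v : Fin 3 → ι → ℤ} {tbl : Fin 3 → Fin k → ℤ} {f : Fin k → ι}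
    (h : Shaped v tbl f) {M : Type*} [CommRing M] (i : Fin 3) (F : ι → M) :
    ∑ x, (v i x : M) * F x = ∑ j, (tbl i j : M) * F (f j) := by
  classical
  rw [← Finset.sum_subset (Finset.subset_univ (Finset.univ.image f)) fun x _ hx => ?_,
    Finset.sum_image fun a _ b _ hab => h.inj hab]
  · simp only [h.val]
  · rw [h.zero i x fun j hj => hx (Finset.mem_image.2 ⟨j, Finset.mem_univ _, hj.symm⟩), Int.cast_zero,
      zero_mul]

theorem Shaped.sum_mul_int {k : ℕ} {v : Fin 3 → ι → ℤ} {tbl : Fin 3 → Fin k → ℤ} {f : Fin k → ι}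
    (h : Shaped v tbl f) (i : Fin 3) (F : ι → ℤ) :
    ∑ x, v i x * F x = ∑ j, tbl i j * F (f j) := by
  simpa using h.sum_mul (M := ℤ) i F

theorem tableB_inj : ∀ a b : Fin 6, (∀ i, tableB i a = tableB i b) → a = b := by decide +kernel

theorem tableA_inj : ∀ a b : Fin 7, (∀ i, tableA i a = tableA i b) →
    a = b ∨ (a = 1 ∧ b = 2) ∨ (a = 2 ∧ b = 1) ∨ (a = 3 ∧ b = 4) ∨ (a = 4 ∧ b = 3) ∨
      (a = 5 ∧ b = 6) ∨ (a = 6 ∧ b = 5) := by decide +kernel

/-- The signs and the two shapes. -/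
theorem split [DecidableEq ι] {m : Fin 3 → ι → ℤ} {n : ι → ℤ} (hn : ∀ x, 0 < n x)
    (norm : ∀ i, ∑ x, m i x * m i x = 3) (cross : ∀ i j, i ≠ j → ∑ x, m i x * m j x = 1)
    (deg : ∀ i, ∑ x, m i x * n x = -1) :
    ∃ e : ι → ℤ, (∀ x, e x = 1 ∨ e x = -1) ∧
      ((∃ f, Shaped (fun i x => e x * m i x) tableA f) ∨
        ∃ f, Shaped (fun i x => e x * m i x) tableB f) := by
  classical
  have hu : ∀ i x, m i x ≠ 0 → m i x = 1 ∨ m i x = -1 := fun i x hx =>
    unit_of_norm le_rfl (norm i) hx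
  let e : ι → ℤ := fun x => if m 0 x ≠ 0 then m 0 x else if m 1 x ≠ 0 then m 1 x else
    if m 2 x ≠ 0 then m 2 x else 1
  have hsh : ∀ i j : Fin 3, i ≠ j → ∃ r, m i r ≠ 0 ∧ m i r = m j r ∧
      ∀ x, m i x ≠ 0 → m j x ≠ 0 → x = r := fun i j hij =>
    pair (v := m i) (w := m j) hn (norm i) (norm j) (cross i j hij) ((deg i).trans (deg j).symm)
  obtain ⟨S, hS0, hS01, u01⟩ := hsh 0 1 (by decide)
  obtain ⟨Y, hY0, hY02, u02⟩ := hsh 0 2 (by decide)
  obtain ⟨W, hW1, hW12, u12⟩ := hsh 1 2 (by decide)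
  have he : ∀ x, e x = 1 ∨ e x = -1 := by
    intro x
    simp only [e]
    split_ifs with h0 h1 h2
    exacts [hu 0 x h0, hu 1 x h1, hu 2 x h2, Or.inl rfl]
  have hsame : ∀ i j x, m i x ≠ 0 → m j x ≠ 0 → m i x = m j x := by
    have h' : ∀ i j, i ≠ j → ∀ x, m i x ≠ 0 → m j x ≠ 0 → m i x = m j x := by
      intro i j hij x hi hj
      obtain ⟨r, -, hr, u⟩ := hsh i j hij
      rw [u x hi hj]; exact hr
    intro i j x hi hj
    by_cases hij : i = j
    · rw [hij]
    · exact h' i j hij x hi hj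
  have hv : ∀ i x, e x * m i x = if m i x = 0 then 0 else 1 := by
    intro i x
    split_ifs with h
    · rw [h, mul_zero]
    · have hex : e x = m i x := by
        simp only [e]
        split_ifs with h0 h1 h2
        · exact hsame 0 i x h0 h
        · exact hsame 1 i x h1 h
        · exact hsame 2 i x h2 h
        · fin_cases i <;> simp_all
      rw [hex]
      rcases hu i x h with h' | h' <;> rw [h'] <;> norm_num
  have three : ∀ i r, m i r ≠ 0 → ∃ p q, p ≠ r ∧ q ≠ r ∧ p ≠ q ∧ m i p ≠ 0 ∧ m i q ≠ 0 ∧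
      ∀ x, m i x ≠ 0 → x = r ∨ x = p ∨ x = q := by
    intro i r hr
    have hc : (supp (m i)).card = 3 := by exact_mod_cast card_supp le_rfl (norm i)
    have hc2 : ((supp (m i)).erase r).card = 2 := by
      rw [Finset.card_erase_of_mem (mem_supp.2 hr), hc]
    obtain ⟨p, q, hpq, hpe⟩ := Finset.card_eq_two.1 hc2
    have hp : p ∈ (supp (m i)).erase r := by simp [hpe]
    have hq : q ∈ (supp (m i)).erase r := by simp [hpe]
    rw [Finset.mem_erase, mem_supp] at hp hq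
    refine ⟨p, q, hp.1, hq.1, hpq, hp.2, hq.2, fun x hx => ?_⟩
    by_cases hxr : x = r
    · exact Or.inl hxr
    · have : x ∈ ({p, q} : Finset ι) := hpe ▸ Finset.mem_erase.2 ⟨hxr, mem_supp.2 hx⟩
      simp only [Finset.mem_insert, Finset.mem_singleton] at this
      exact Or.inr this
  refine ⟨e, he, ?_⟩
  have hS1 : m 1 S ≠ 0 := hS01 ▸ hS0
  have hY2 : m 2 Y ≠ 0 := hY02 ▸ hY0
  have hW2 : m 2 W ≠ 0 := hW12 ▸ hW1
  by_cases hS2 : m 2 S = 0
  · right
    have hSY : S ≠ Y := fun h => hY2 (h ▸ hS2)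
    have hSW : S ≠ W := fun h => hW2 (h ▸ hS2)
    have hYW : Y ≠ W := fun h => hSY ((u01 Y hY0 (h ▸ hW1)).symm)
    obtain ⟨p, hp0, hp, hpY⟩ : ∃ p, m 0 p ≠ 0 ∧ p ≠ S ∧ p ≠ Y := by
      obtain ⟨a, b, ha, hb, hab, ha0, hb0, -⟩ := three 0 S hS0
      by_cases h : a = Y
      exacts [⟨b, hb0, hb, fun h' => hab (h.trans h'.symm)⟩, ⟨a, ha0, ha, h⟩]
    obtain ⟨p2, hp21, hp2, hp2W⟩ : ∃ p, m 1 p ≠ 0 ∧ p ≠ S ∧ p ≠ W := by
      obtain ⟨a, b, ha, hb, hab, ha0, hb0, -⟩ := three 1 S hS1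
      by_cases h : a = W
      exacts [⟨b, hb0, hb, fun h' => hab (h.trans h'.symm)⟩, ⟨a, ha0, ha, h⟩]
    obtain ⟨p3, hp32, hp3, hp3W⟩ : ∃ p, m 2 p ≠ 0 ∧ p ≠ Y ∧ p ≠ W := by
      obtain ⟨a, b, ha, hb, hab, ha0, hb0, -⟩ := three 2 Y hY2
      by_cases h : a = W
      exacts [⟨b, hb0, hb, fun h' => hab (h.trans h'.symm)⟩, ⟨a, ha0, ha, h⟩]
    have z0W : m 0 W = 0 := by_contra fun h => hSW (u01 W h hW1).symm
    have z1Y : m 1 Y = 0 := by_contra fun h => hSY (u01 Y hY0 h).symm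
    have zp1 : m 1 p = 0 := by_contra fun h => hp (u01 p hp0 h)
    have zp2 : m 2 p = 0 := by_contra fun h => hpY (u02 p hp0 h)
    have zq0 : m 0 p2 = 0 := by_contra fun h => hp2 (u01 p2 h hp21)
    have zq2 : m 2 p2 = 0 := by_contra fun h => hp2W (u12 p2 hp21 h)
    have zr0 : m 0 p3 = 0 := by_contra fun h => hp3 (u02 p3 h hp32)
    have zr1 : m 1 p3 = 0 := by_contra fun h => hp3W (u12 p3 h hp32)
    have hval : ∀ i j, e ((![Y, W, S, p, p2, p3] : Fin 6 → ι) j) *
        m i ((![Y, W, S, p, p2, p3] : Fin 6 → ι) j) = tableB i j := by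
      intro i j
      fin_cases i <;> fin_cases j <;>
        simp only [hv, tableB, Fin.isValue, Fin.mk_one, Fin.zero_eta, Fin.reduceFinMk,
          Matrix.cons_val, Matrix.cons_val_zero, Matrix.cons_val_one, hY0, z1Y, hY2, z0W, hW1, hW2,
          hS0, hS1, hS2, hp0, zp1, zp2, zq0, hp21, zq2, zr0, zr1, hp32, if_true, if_false, reduceIte, eq_self, mul_zero]
    refine ⟨![Y, W, S, p, p2, p3], fun a b hab => tableB_inj a b fun i => ?_, hval, ?_⟩
    · rw [← hval i a, ← hval i b, hab]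
    · intro i x hx
      simp only [hv]
      rw [if_pos]
      by_contra h
      have hxY : x ≠ Y := hx 0
      have hxW : x ≠ W := hx 1
      have hxS : x ≠ S := hx 2
      have hxp : x ≠ p := hx 3
      have hxp2 : x ≠ p2 := hx 4
      have hxp3 : x ≠ p3 := hx 5
      have key : ∀ (i : Fin 3) (a b c : ι), a ≠ b → a ≠ c → b ≠ c → m i a ≠ 0 → m i b ≠ 0 →
          m i c ≠ 0 → m i x ≠ 0 → x = a ∨ x = b ∨ x = c := by
        intro i a b c hab hac hbc ha hb hc hx'
        by_contra hne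
        simp only [not_or] at hne
        have hcard : (supp (m i)).card = 3 := by exact_mod_cast card_supp le_rfl (norm i)
        have : ({x, a, b, c} : Finset ι) ⊆ supp (m i) := by
          intro y hy
          simp only [Finset.mem_insert, Finset.mem_singleton] at hy
          rcases hy with rfl | rfl | rfl | rfl <;> exact mem_supp.2 ‹_›
        have h4 := Finset.card_le_card this
        rw [hcard, Finset.card_insert_of_notMem, Finset.card_insert_of_notMem,
          Finset.card_pair hbc] at h4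
        · omega
        · simp [hab, hac]
        · simp [hne.1, hne.2.1, hne.2.2]
      fin_cases i
      · rcases key 0 S Y p hSY hp.symm hpY.symm hS0 hY0 hp0 h with h' | h' | h' <;> contradiction
      · rcases key 1 S W p2 hSW hp2.symm hp2W.symm hS1 hW1 hp21 h with h' | h' | h' <;> contradiction
      · rcases key 2 Y W p3 hYW hp3.symm hp3W.symm hY2 hW2 hp32 h with h' | h' | h' <;> contradiction
  · left
    have hYS : S = Y := u02 S hS0 hS2
    have hWS : S = W := u12 S hS1 hS2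
    obtain ⟨P, P', hP, hP', hPP, hP0, hP'0, a0⟩ := three 0 S hS0
    obtain ⟨P2, P2', hP2, hP2', hPP2, hP21, hP2'1, a1⟩ := three 1 S hS1
    obtain ⟨E, E', hE, hE', hEE, hE2, hE'2, a2⟩ := three 2 S hS2
    have only0 : ∀ x, x ≠ S → m 0 x ≠ 0 → m 1 x = 0 ∧ m 2 x = 0 := fun x hx h =>
      ⟨by_contra fun h' => hx (u01 x h h'), by_contra fun h' => hx ((u02 x h h').trans hYS.symm)⟩
    have only1 : ∀ x, x ≠ S → m 1 x ≠ 0 → m 0 x = 0 ∧ m 2 x = 0 := fun x hx h =>
      ⟨by_contra fun h' => hx (u01 x h' h), by_contra fun h' => hx ((u12 x h h').trans hWS.symm)⟩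
    have only2 : ∀ x, x ≠ S → m 2 x ≠ 0 → m 0 x = 0 ∧ m 1 x = 0 := fun x hx h =>
      ⟨by_contra fun h' => hx ((u02 x h' h).trans hYS.symm),
        by_contra fun h' => hx ((u12 x h' h).trans hWS.symm)⟩
    obtain ⟨zP1, zP2⟩ := only0 P hP hP0
    obtain ⟨zP'1, zP'2⟩ := only0 P' hP' hP'0
    obtain ⟨zQ0, zQ2⟩ := only1 P2 hP2 hP21
    obtain ⟨zQ'0, zQ'2⟩ := only1 P2' hP2' hP2'1
    obtain ⟨zE0, zE1⟩ := only2 E hE hE2
    obtain ⟨zE'0, zE'1⟩ := only2 E' hE' hE'2
    have hval : ∀ i j, e ((![S, P, P', P2, P2', E, E'] : Fin 7 → ι) j) *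
        m i ((![S, P, P', P2, P2', E, E'] : Fin 7 → ι) j) = tableA i j := by
      intro i j
      fin_cases i <;> fin_cases j <;>
        simp only [hv, tableA, Fin.isValue, Fin.mk_one, Fin.zero_eta, Fin.reduceFinMk,
          Matrix.cons_val, Matrix.cons_val_zero, Matrix.cons_val_one, hS0, hS1, hS2, hP0, zP1, zP2,
          hP'0, zP'1, zP'2, zQ0, hP21, zQ2, zQ'0, hP2'1, zQ'2, zE0, zE1, hE2, zE'0, zE'1, hE'2,
          if_true, if_false, reduceIte, eq_self, mul_zero]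
    refine ⟨![S, P, P', P2, P2', E, E'], fun a b hab => ?_, hval, ?_⟩
    · rcases tableA_inj a b (fun i => by rw [← hval i a, ← hval i b, hab]) with
        h | ⟨rfl, rfl⟩ | ⟨rfl, rfl⟩ | ⟨rfl, rfl⟩ | ⟨rfl, rfl⟩ | ⟨rfl, rfl⟩ | ⟨rfl, rfl⟩
      exacts [h, absurd hab hPP, absurd hab.symm hPP, absurd hab hPP2, absurd hab.symm hPP2,
        absurd hab hEE, absurd hab.symm hEE]
    · intro i x hx
      simp only [hv]
      rw [if_pos]
      by_contra h
      fin_cases i
      · rcases a0 x h with h' | h' | h'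
        exacts [hx 0 h', hx 1 h', hx 2 h']
      · rcases a1 x h with h' | h' | h'
        exacts [hx 0 h', hx 3 h', hx 4 h']
      · rcases a2 x h with h' | h' | h'
        exacts [hx 0 h', hx 5 h', hx 6 h']

end Cfsg.Agent.JT.Lattice
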