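import Mathlib
import Cfsg.Agent.Lib.JT.Lattice

/-!
Integral vectors against the two shapes: the part on the shape and the outside part, and the possible
parts on the shape for the vectors that occur.
-/

set_option autoImplicit false
set_option linter.unusedSectionVars false

namespace Cfsg.Agent.JT.Lattice

variable {ι : Type*} [Fintype ι] [DecidableEq ι]

/-- Three vectors with a distinguished index `o`, given by a table outside `o`. -/
structure Frame {k : ℕ} (m : Fin 3 → ι → ℤ) (o : ι) (tbl : Fin 3 → Fin k → ℤ) (f : Fin k → ι)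
    (e : ι → ℤ) : Prop where
  inj : Function.Injective f
  unit : ∀ x, e x = 1 ∨ e x = -1
  val : ∀ i j, e (f j) * m i (f j) = tbl i j
  zero : ∀ i x, x ≠ o → (∀ j, x ≠ f j) → m i x = 0
  ne : ∀ j, f j ≠ o
  one : ∀ i, m i o = 1

/-- The indices outside `o` and the shape. -/
def outside {k : ℕ} (o : ι) (f : Fin k → ι) : Finset ι :=
  Finset.univ.filter fun x => x ≠ o ∧ ∀ j, x ≠ f j

theorem mem_outside {k : ℕ} {o : ι} {f : Fin k → ι} {x : ι} :
    x ∈ outside o f ↔ x ≠ o ∧ ∀ j, x ≠ f j := by simp [outside]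

namespace Frame

variable {k : ℕ} {m : Fin 3 → ι → ℤ} {o : ι} {tbl : Fin 3 → Fin k → ℤ} {f : Fin k → ι} {e : ι → ℤ}
  (h : Frame m o tbl f e)
include h

theorem e_sq (x : ι) : e x * e x = 1 := by
  rcases h.unit x with e' | e' <;> rw [e'] <;> norm_num

theorem val' (i : Fin 3) (j : Fin k) : m i (f j) = e (f j) * tbl i j := by
  rw [← h.val, ← mul_assoc, h.e_sq, one_mul]

theorem expand (c : ι → ℤ) {M : Type*} [CommRing M] (F : ι → M) :
    ∑ x, (c x : M) * F x = (c o : M) * F o +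
      ∑ j, ((e (f j) * c (f j) : ℤ) : M) * ((e (f j) : M) * F (f j)) +
      ∑ x ∈ outside o f, (c x : M) * F x := by
  rw [← Finset.add_sum_erase _ _ (Finset.mem_univ o),
    ← Finset.sum_sdiff (show Finset.univ.image f ⊆ Finset.univ.erase o from fun x hx => by
      obtain ⟨j, -, rfl⟩ := Finset.mem_image.1 hx
      exact Finset.mem_erase.2 ⟨h.ne j, Finset.mem_univ _⟩),
    Finset.sum_image fun a _ b _ hab => h.inj hab, add_assoc]
  congr 1
  rw [add_comm]
  congr 1
  · refine Finset.sum_congr rfl fun j _ => ?_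
    have := congrArg (fun z : ℤ => (z : M)) (h.e_sq (f j))
    push_cast at this ⊢
    linear_combination (-(c (f j) : M) * F (f j)) * this
  · refine Finset.sum_congr ?_ fun _ _ => rfl
    ext x
    simp only [Finset.mem_sdiff, Finset.mem_erase, Finset.mem_univ, and_true, Finset.mem_image,
      true_and, mem_outside, not_exists]
    exact ⟨fun hx => ⟨hx.1, fun j hj => hx.2 j hj.symm⟩, fun hx => ⟨hx.1, fun j hj => hx.2 j hj.symm⟩⟩

theorem expand_int (c F : ι → ℤ) :
    ∑ x, c x * F x = c o * F o + ∑ j, (e (f j) * c (f j)) * (e (f j) * F (f j)) +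
      ∑ x ∈ outside o f, c x * F x := by
  simpa using h.expand c F

theorem eqs (c : ι → ℤ) (i : Fin 3) :
    ∑ x, c x * m i x = c o + ∑ j, tbl i j * (e (f j) * c (f j)) := by
  rw [h.expand_int c (m i), h.one, mul_one,
    Finset.sum_eq_zero (s := outside o f) fun x hx => by
      rw [h.zero i x (mem_outside.1 hx).1 (mem_outside.1 hx).2, mul_zero], add_zero]
  congr 1
  exact Finset.sum_congr rfl fun j _ => by rw [h.val, mul_comm]

theorem norm (c : ι → ℤ) : ∑ x, c x * c x = c o * c o +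
    ∑ j, (e (f j) * c (f j)) * (e (f j) * c (f j)) + ∑ x ∈ outside o f, c x * c x :=
  h.expand_int c c

end Frame

section Rest

variable {s : Finset ι} {c : ι → ℤ}

theorem rest_zero (h : ∑ x ∈ s, c x * c x = 0) : ∀ x ∈ s, c x = 0 := fun x hx =>
  mul_self_eq_zero.1 ((Finset.sum_eq_zero_iff_of_nonneg fun y _ => mul_self_nonneg (c y)).1 h x hx)

theorem rest_unit (h : ∑ x ∈ s, c x * c x ≤ 3) {x : ι} (hx : x ∈ s) (h0 : c x ≠ 0) :
    c x = 1 ∨ c x = -1 := by
  have h1 := (Finset.single_le_sum (f := fun y => c y * c y) (fun y _ => mul_self_nonneg _) hx).trans h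
  have h2 : c x ≤ 1 ∧ -1 ≤ c x := ⟨by nlinarith, by nlinarith⟩
  omega

theorem rest_one (h : ∑ x ∈ s, c x * c x = 1) :
    ∃ z ∈ s, (c z = 1 ∨ c z = -1) ∧ ∀ x ∈ s, x ≠ z → c x = 0 := by
  obtain ⟨z, hz, hz0⟩ : ∃ z ∈ s, c z ≠ 0 := by
    by_contra hne
    push Not at hne
    rw [Finset.sum_eq_zero fun x hx => by rw [hne x hx, mul_zero]] at h
    norm_num at h
  have hu := rest_unit (by omega) hz hz0
  refine ⟨z, hz, hu, fun x hx hxz => ?_⟩
  rw [← Finset.add_sum_erase _ _ hz] at h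
  have hzz : c z * c z = 1 := by rcases hu with e | e <;> rw [e] <;> norm_num
  exact rest_zero (s := s.erase z) (by omega) x (Finset.mem_erase.2 ⟨hxz, hx⟩)

theorem rest_two (h : ∑ x ∈ s, c x * c x = 2) :
    ∃ z ∈ s, ∃ w ∈ s, z ≠ w ∧ (c z = 1 ∨ c z = -1) ∧ (c w = 1 ∨ c w = -1) ∧
      ∀ x ∈ s, x ≠ z → x ≠ w → c x = 0 := by
  obtain ⟨z, hz, hz0⟩ : ∃ z ∈ s, c z ≠ 0 := by
    by_contra hne
    push Not at hne
    rw [Finset.sum_eq_zero fun x hx => by rw [hne x hx, mul_zero]] at h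
    norm_num at h
  have hu := rest_unit (by omega) hz hz0
  rw [← Finset.add_sum_erase _ _ hz] at h
  have hzz : c z * c z = 1 := by rcases hu with e | e <;> rw [e] <;> norm_num
  obtain ⟨w, hw, hwu, hw0⟩ := rest_one (s := s.erase z) (c := c) (by omega)
  obtain ⟨hwz, hws⟩ := Finset.mem_erase.1 hw
  exact ⟨z, hz, w, hws, hwz.symm, hu, hwu, fun x hx h1 h2 =>
    hw0 x (Finset.mem_erase.2 ⟨h1, hx⟩) h2⟩

/-- Sums against a vector with a single outside index. -/
theorem rest_single {M : Type*} [CommRing M] {z : ι} (hz : z ∈ s)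
    (h : ∀ x ∈ s, x ≠ z → c x = 0) (F : ι → M) : ∑ x ∈ s, (c x : M) * F x = (c z : M) * F z :=
  Finset.sum_eq_single_of_mem z hz fun x hx hne => by rw [h x hx hne, Int.cast_zero, zero_mul]

theorem rest_pair {M : Type*} [CommRing M] {z w : ι} (hz : z ∈ s) (hw : w ∈ s) (hzw : z ≠ w)
    (h : ∀ x ∈ s, x ≠ z → x ≠ w → c x = 0) (F : ι → M) :
    ∑ x ∈ s, (c x : M) * F x = (c z : M) * F z + (c w : M) * F w :=
  Finset.sum_eq_add_of_mem z w hz hw hzw fun x hx hne => by
    rw [h x hx hne.1 hne.2, Int.cast_zero, zero_mul]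

end Rest

section Options

theorem abs_le_two {k : ℕ} {p : Fin k → ℤ} {N : ℤ} (hN : N ≤ 8) (h : ∑ j, p j * p j ≤ N) (j : Fin k) :
    p j ∈ Finset.Icc (-2 : ℤ) 2 := by
  have h1 := (Finset.single_le_sum (f := fun y => p y * p y) (fun y _ => mul_self_nonneg _)
    (Finset.mem_univ j)).trans h
  rw [Finset.mem_Icc]
  constructor <;> nlinarith

/-- The possible parts of norm at most `N` on shape A with given inner products. -/
def solA (s0 s1 s2 N : ℤ) : List (List ℤ) :=
  let rng : List ℤ := [-2, -1, 0, 1, 2]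
  rng.flatMap fun r => rng.flatMap fun a => rng.flatMap fun b => rng.flatMap fun c =>
    let v := [r, a, s0 - r - a, b, s1 - r - b, c, s2 - r - c]
    if (v.map fun y => y * y).sum ≤ N then [v] else []

/-- The possible parts of norm at most `N` on shape B with given inner products. -/
def solB (s0 s1 s2 N : ℤ) : List (List ℤ) :=
  let rng : List ℤ := [-2, -1, 0, 1, 2]
  rng.flatMap fun y => rng.flatMap fun y' => rng.flatMap fun s =>
    let v := [y, y', s, s0 - y - s, s1 - y' - s, s2 - y - y']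
    if (v.map fun z => z * z).sum ≤ N then [v] else []

theorem mem_solA {p : Fin 7 → ℤ} {s0 s1 s2 N : ℤ} (hN : N ≤ 8) (h : ∑ j, p j * p j ≤ N)
    (h0 : ∑ j, tableA 0 j * p j = s0) (h1 : ∑ j, tableA 1 j * p j = s1)
    (h2 : ∑ j, tableA 2 j * p j = s2) : List.ofFn p ∈ solA s0 s1 s2 N := by
  have hb := abs_le_two hN h
  simp [Fin.sum_univ_succ, tableA] at h0 h1 h2 h
  have e0 : s0 - p 0 - p 1 = p 2 := by linarith
  have e1 : s1 - p 0 - p 3 = p 4 := by linarith
  have e2 : s2 - p 0 - p 5 = p 6 := by linarith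
  have hr : ∀ j, p j ∈ ([-2, -1, 0, 1, 2] : List ℤ) := fun j => by
    have := Finset.mem_Icc.1 (hb j)
    simp only [List.mem_cons, List.not_mem_nil, or_false]
    omega
  simp only [solA, List.mem_flatMap]
  refine ⟨p 0, hr 0, p 1, hr 1, p 3, hr 3, p 5, hr 5, ?_⟩
  rw [e0, e1, e2, if_pos, List.mem_singleton]
  · simp [List.ofFn_succ]
  · simp only [List.map_cons, List.map_nil, List.sum_cons, List.sum_nil]
    linarith

theorem mem_solB {p : Fin 6 → ℤ} {s0 s1 s2 N : ℤ} (hN : N ≤ 8) (h : ∑ j, p j * p j ≤ N)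
    (h0 : ∑ j, tableB 0 j * p j = s0) (h1 : ∑ j, tableB 1 j * p j = s1)
    (h2 : ∑ j, tableB 2 j * p j = s2) : List.ofFn p ∈ solB s0 s1 s2 N := by
  have hb := abs_le_two hN h
  simp [Fin.sum_univ_succ, tableB] at h0 h1 h2 h
  have e0 : s0 - p 0 - p 2 = p 3 := by linarith
  have e1 : s1 - p 1 - p 2 = p 4 := by linarith
  have e2 : s2 - p 0 - p 1 = p 5 := by linarith
  have hr : ∀ j, p j ∈ ([-2, -1, 0, 1, 2] : List ℤ) := fun j => by
    have := Finset.mem_Icc.1 (hb j)
    simp only [List.mem_cons, List.not_mem_nil, or_false]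
    omega
  simp only [solB, List.mem_flatMap]
  refine ⟨p 0, hr 0, p 1, hr 1, p 2, hr 2, ?_⟩
  rw [e0, e1, e2, if_pos, List.mem_singleton]
  · simp [List.ofFn_succ]
  · simp only [List.map_cons, List.map_nil, List.sum_cons, List.sum_nil]
    linarith

end Options

end Cfsg.Agent.JT.Lattice
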