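import Mathlib
import Cfsg.Agent.Lib.JT.Values
import Cfsg.Agent.Lib.J1Order.Lattice
import Cfsg.Agent.Lib.PrimeBlock.Simple
import Cfsg.Agent.BlockCharsA.PConjugate

/-!
The multiplicities of the functions of degree `|Q - 1|` and `|Q + 1|`, the values at `t` in terms of
the exceptional multiplicities, and the action of the automorphisms of `ℂ`.
-/

set_option autoImplicit false
set_option linter.unusedSectionVars false
set_option linter.style.haveILetI false

namespace Cfsg.Agent.JT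

open Cfsg.Agent.Characters
open scoped ComplexConjugate

universe u v

namespace KData

variable {K : Type v} [Group K] [Fintype K] (D : KData K)

/-- The parameter `x`, with `Q = 2 x - 1`. -/
def x : ℤ := (D.Q + 1) / 2

theorem Q_eq : D.Q = 2 * D.x - 1 := by
  have := D.Q_mod
  simp only [x]; omega

theorem x_mod : D.x % 4 = 3 := by
  have := D.Q_mod
  simp only [x]; omega

theorem x_facts : D.Q ≠ 0 ∧ D.x ≠ 0 ∧ D.x ≠ 1 ∧ D.x ≠ -1 ∧ (D.x ≤ -5 ∨ 7 ≤ D.x) := by
  have h1 := D.Q_eq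
  have h2 := D.x_mod
  have h3 := D.Q_gt
  omega

theorem card_gt (D : KData K) : 2 < Nat.card K := by
  have h := D.card
  have h3 := D.Q_gt
  have h1 : (6 : ℤ) ≤ |D.Q| := by rw [← Int.natCast_natAbs]; omega
  have h2 : |D.Q| ^ 2 = D.Q ^ 2 := sq_abs _
  nlinarith

end KData

section Aut

variable {G : Type u} [Group G] [Fintype G]

/-- The permutation of the irreducible characters given by an automorphism of `ℂ`. -/
noncomputable def autPerm (σ : ℂ ≃+* ℂ) : Cfsg.IrrCharacter G ≃ Cfsg.IrrCharacter G where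
  toFun χ := ⟨fun g => σ ((χ : G → ℂ) g), BlockCharsA.PConjugate.isIrr_aut σ χ.2⟩
  invFun χ := ⟨fun g => σ.symm ((χ : G → ℂ) g), BlockCharsA.PConjugate.isIrr_aut σ.symm χ.2⟩
  left_inv χ := Subtype.ext (funext fun g => by simp)
  right_inv χ := Subtype.ext (funext fun g => by simp)

theorem autPerm_coe (σ : ℂ ≃+* ℂ) (χ : Cfsg.IrrCharacter G) (g : G) :
    (autPerm σ χ : G → ℂ) g = σ ((χ : G → ℂ) g) := rfl

theorem deg_autPerm (σ : ℂ ≃+* ℂ) (χ : Cfsg.IrrCharacter G) : deg (autPerm σ χ) = deg χ := by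
  have h := (deg_spec (autPerm σ χ)).1
  rw [autPerm_coe, (deg_spec χ).1, map_natCast] at h
  exact_mod_cast h.symm

theorem classInner_aut (σ : ℂ ≃+* ℂ) (F : G → ℂ) {χ : G → ℂ} (hχ : Cfsg.IsCharacter G χ)
    (hσ : Cfsg.IsCharacter G fun g => σ (χ g)) :
    Cfsg.classInner (fun g => σ (F g)) (fun g => σ (χ g)) = σ (Cfsg.classInner F χ) := by
  rw [classInner_def, classInner_def, map_mul, map_inv₀, map_natCast, map_sum]
  congr 1
  exact Finset.sum_congr rfl fun g _ => by rw [← char_inv hσ g, ← char_inv hχ g, map_mul]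

/-- Multiplicities are transported along automorphisms. -/
theorem coef_aut (σ : ℂ ≃+* ℂ) {F F' : G → ℂ} (hF : Cfsg.IsGeneralizedCharacter G F)
    (hF' : Cfsg.IsGeneralizedCharacter G F') (h : ∀ g, σ (F g) = F' g) (χ : Cfsg.IrrCharacter G) :
    coef F' (autPerm σ χ) = coef F χ := by
  have e := classInner_aut σ F (irr_isCharacter χ)
    (isCharacter_of_isIrr (BlockCharsA.PConjugate.isIrr_aut σ χ.2))
  rw [coef_spec hF, map_intCast, funext h] at e
  have e' := coef_spec hF' (autPerm σ χ)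
  rw [show (autPerm σ χ : G → ℂ) = fun g => σ ((χ : G → ℂ) g) from rfl, e] at e'
  exact_mod_cast e'.symm

end Aut

namespace Setup

variable {G : Type u} [Group G] [Fintype G] {K : Type v} [Group K] [Fintype K] (H : Setup G K)
  (D : KData K)

theorem not_comm (H : Setup G K) (D : KData K) [IsSimpleGroup G] : ¬ IsMulCommutative G := by
  intro h
  have hc : ∀ g : G, Commute g H.t := fun g => mul_comm' g H.t
  have hn : (Subgroup.zpowers H.t).Normal := ⟨fun a ha g => by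
    rw [show g * a * g⁻¹ = a by rw [mul_comm' g a, mul_inv_cancel_right]]; exact ha⟩
  rcases hn.eq_bot_or_eq_top with h1 | h1
  · rw [Subgroup.zpowers_eq_bot] at h1
    simpa [h1, orderOf_one] using H.ht
  · have h2 : Nat.card G = 2 := by rw [← H.ht, ← Nat.card_zpowers, h1, Subgroup.card_top]
    have h3 := Subgroup.card_le_card_group H.C
    rw [H.card_C, h2] at h3
    have := D.card_gt
    omega

variable [Fintype (Cfsg.IrrCharacter G)]

theorem abs_T_lt (D : KData K) [IsSimpleGroup G] {χ : Cfsg.IrrCharacter G} (hχ : χ ≠ trivIrr G) :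
    |H.T χ| < (deg χ : ℤ) := by
  classical
  obtain ⟨k, hk⟩ := classInner_char_nat
    (isCharacter_restrict (Subgroup.zpowers H.t) (irr_isCharacter χ))
    (isCharacter_one (G := Subgroup.zpowers H.t))
  have hne : |H.T χ| ≠ (deg χ : ℤ) := fun e => by
    have := PrimeBlock.eq_one_of_norm_eq (H.not_comm D) hχ (g := H.t) (by
      rw [H.T_spec, (deg_spec χ).1, Complex.norm_intCast, Complex.norm_natCast, ← Int.cast_abs, e,
        Int.cast_natCast])
    simpa [this, orderOf_one] using H.ht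
  have hle : |H.T χ| ≤ (deg χ : ℤ) := by
    have h := char_norm_le (irr_isCharacter χ) H.t
    rw [H.T_spec, (deg_spec χ).1, Complex.norm_intCast, Complex.norm_natCast] at h
    exact_mod_cast h
  omega

variable [DecidableEq K] (hL : H.Local)
include hL

theorem ind_at_t {θ : K → ℂ} (hg : Cfsg.IsGeneralizedCharacter K θ)
    (he : ∀ k, Even (orderOf k) → θ k = 0) : H.ind θ H.t = 2 * θ 1 := by
  have ht1 : H.tk 1 = H.t := hL.emb_t
  have hmem : H.t ∈ H.C := ht1 ▸ H.emb_mem _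
  rw [ind, show H.t = ((⟨H.t, hmem⟩ : H.C) : G) from rfl]
  refine (ZStar.Induce.indFun_coe (H.isTI hL) (isGen_isClassFunction (H.isGen_lift hg))
    (H.vanishOff he) ⟨H.t, hmem⟩ ⟨1, by simp, ht1.symm⟩).trans ?_
  have : H.e ⟨H.t, hmem⟩ = (Multiplicative.ofAdd 1, 1) := by
    rw [← MulEquiv.apply_symm_apply H.e (Multiplicative.ofAdd 1, (1 : K))]
    exact congrArg H.e (Subtype.ext hL.emb_t.symm)
  simp [lift, this, z2_ne]

theorem m_T (i : Fin 3) :
    ∑ χ, H.m D i χ * H.T χ = if i = 2 then 2 * (1 - D.Q) else D.Q + 3 := by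
  refine sum_at (H.isGen_ind (D.θ_gen i)) H.T_spec ?_
  rw [H.ind_at_t hL (D.θ_gen i) (D.θ_even i)]
  fin_cases i
  · simpa using D.θ_one0
  · simpa using D.θ_one1
  · simp [D.θ_one2]

theorem m_mΦ (i : Fin 3) : ∑ χ, H.m D i χ * H.mΦ D χ = 0 := by
  refine gram_sum (H.isGen_ind (D.θ_gen i)) (H.isGen_ind D.Φ_gen) ?_
  rw [H.inner_ind hL (D.θ_gen i) (D.θ_even i) D.Φ_even, D.Φ_θ]
  simp

theorem m_mψ (i : Fin 3) (l : Fin D.N) : ∑ χ, H.m D i χ * H.mψ D l χ = 0 := by
  refine gram_sum (H.isGen_ind (D.θ_gen i)) (H.isGen_ind (D.ψ_gen l)) ?_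
  rw [H.inner_ind hL (D.θ_gen i) (D.θ_even i) (D.ψ_even l), D.ψ_θ]
  simp

omit hL in
theorem mΦ_triv : H.mΦ D (trivIrr G) = 0 := by
  have h := coef_spec (H.isGen_ind D.Φ_gen) (trivIrr G)
  rw [show (trivIrr G : G → ℂ) = fun _ => 1 from trivIrr_coe, H.ind_triv, D.Φ_triv] at h
  exact_mod_cast h.symm

omit hL in
theorem mψ_triv (l : Fin D.N) : H.mψ D l (trivIrr G) = 0 := by
  have h := coef_spec (H.isGen_ind (D.ψ_gen l)) (trivIrr G)
  rw [show (trivIrr G : G → ℂ) = fun _ => 1 from trivIrr_coe, H.ind_triv, D.ψ_triv] at h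
  exact_mod_cast h.symm

theorem mΦ_norm : ∃ M : ℕ, ∑ χ, H.mΦ D χ * H.mΦ D χ = 2 * (M : ℤ) ∧
    (M : ℤ) * (D.Q + 1) ^ 2 ≤ (Nat.card K : ℤ) := by
  obtain ⟨M, hM, hle⟩ := D.Φ_norm
  refine ⟨M, gram_sum (H.isGen_ind D.Φ_gen) (H.isGen_ind D.Φ_gen) ?_, hle⟩
  rw [H.inner_ind hL D.Φ_gen D.Φ_even D.Φ_even, hM]
  push_cast; rfl

theorem mψ_recip (l : Fin D.N) :
    ∑ χ, (H.mψ D l χ : ℚ) * (H.T χ : ℚ) ^ 2 / (deg χ : ℚ) = 0 := by
  have h := H.recip_ind hL (D.ψ_gen l) (D.ψ_even l)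
  rw [D.ψ_pairs] at h
  simp only [H.T_spec, (deg_spec _).1, mul_zero] at h
  have h' : ((∑ χ, (H.mψ D l χ : ℚ) * (H.T χ : ℚ) ^ 2 / (deg χ : ℚ) : ℚ) : ℂ) = 0 := by
    push_cast
    exact (mul_eq_zero.1 h).resolve_left natCard_ne_zero
  exact_mod_cast h'

theorem mψ_T (l : Fin D.N) : ∑ χ, H.mψ D l χ * H.T χ = 2 * ((D.Q - 1).natAbs : ℤ) := by
  refine sum_at (H.isGen_ind (D.ψ_gen l)) H.T_spec ?_
  rw [H.ind_at_t hL (D.ψ_gen l) (D.ψ_even l), D.ψ_one]
  push_cast; simp [Nat.cast_natAbs]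

/-- A character in one of the functions of degree `|Q - 1|`: its value at `t` is `± (Q - 1)`, and
a second character with the opposite column is in the same function. -/
theorem mψ_twin (l : Fin D.N) {χ : Cfsg.IrrCharacter G} (hχ : H.mψ D l χ ≠ 0) :
    |H.T χ| = ((D.Q - 1).natAbs : ℤ) ∧ ∃ χ', χ' ≠ χ ∧ ∀ i,
      H.m D i χ' = H.m D i χ ∨ H.m D i χ' = -H.m D i χ := by
  classical
  have hN := H.gramψ D hL l l
  rw [if_pos rfl] at hN
  set c := fun χ => H.mψ D l χ with hc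
  have hcard : (J1Order.Lattice.supp c).card = 2 := by
    exact_mod_cast J1Order.Lattice.card_supp (by norm_num) hN
  have hmem : χ ∈ J1Order.Lattice.supp c := J1Order.Lattice.mem_supp.2 hχ
  obtain ⟨χ', hχ'⟩ := Finset.card_eq_one.1 (show ((J1Order.Lattice.supp c).erase χ).card = 1 by
    rw [Finset.card_erase_of_mem hmem, hcard])
  have hne : χ' ≠ χ := (Finset.mem_erase.1 (show χ' ∈ _ from hχ' ▸ Finset.mem_singleton_self χ')).1
  have hχ'0 : c χ' ≠ 0 := J1Order.Lattice.mem_supp.1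
    (Finset.mem_erase.1 (show χ' ∈ _ from hχ' ▸ Finset.mem_singleton_self χ')).2
  have hsum : ∀ {M : Type} [AddCommMonoid M] (F : Cfsg.IrrCharacter G → M),
      (∀ x, c x = 0 → F x = 0) → ∑ x, F x = F χ + F χ' := by
    intro M _ F hF
    rw [J1Order.Lattice.sum_eq_supp c F hF, ← Finset.add_sum_erase _ _ hmem, hχ',
      Finset.sum_singleton]
  have u1 := J1Order.Lattice.unit_of_norm (v := c) (by norm_num) hN hχ
  have u2 := J1Order.Lattice.unit_of_norm (v := c) (by norm_num) hN hχ'0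
  have hdeg : c χ * (deg χ : ℤ) + c χ' * (deg χ' : ℤ) = 0 := by
    rw [← H.mψ_deg D l, hsum (fun x => H.mψ D l x * (deg x : ℤ)) fun x hx => by
      rw [show H.mψ D l x = 0 from hx, zero_mul]]
  have hd1 := (deg_spec χ).2.1
  have hd2 := (deg_spec χ').2.1
  have hopp : c χ' = -c χ ∧ deg χ' = deg χ := by
    rcases u1 with e | e <;> rcases u2 with e' | e' <;> simp only [e, e'] at hdeg ⊢ <;>
      first | (exfalso; omega) | (exact ⟨by norm_num, by omega⟩)
  have hrec := H.mψ_recip D hL l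
  rw [hsum _ fun x hx => by rw [show H.mψ D l x = 0 from hx]; simp] at hrec
  have hT := H.mψ_T D hL l
  rw [hsum (fun x => H.mψ D l x * H.T x) fun x hx => by
    rw [show H.mψ D l x = 0 from hx, zero_mul]] at hT
  simp only [show H.mψ D l χ' = -c χ from hopp.1, show H.mψ D l χ = c χ from rfl, hopp.2] at hrec hT
  refine ⟨?_, χ', hne, fun i => ?_⟩
  · have hd : (deg χ : ℚ) ≠ 0 := Nat.cast_ne_zero.2 hd1.ne'
    field_simp at hrec
    have hsq : (H.T χ) ^ 2 = (H.T χ') ^ 2 := by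
      rcases u1 with e | e <;> rw [e] at hrec <;> push_cast at hrec <;>
        exact_mod_cast (show ((H.T χ : ℚ)) ^ 2 = (H.T χ' : ℚ) ^ 2 by linarith)
    rcases sq_eq_sq_iff_eq_or_eq_neg.1 hsq with e' | e'
    · exfalso
      rw [e'] at hT
      have := D.Q_gt
      rcases u1 with e | e <;> rw [e] at hT <;> omega
    · rcases u1 with e | e <;> rw [e, e'] at hT <;> rw [abs_eq (by positivity)] <;> omega
  · have h := H.m_mψ D hL i l
    rw [hsum (fun x => H.m D i x * H.mψ D l x) fun x hx => by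
      rw [show H.mψ D l x = 0 from hx, mul_zero]] at h
    simp only [show H.mψ D l χ' = -c χ from hopp.1, show H.mψ D l χ = c χ from rfl] at h
    rcases u1 with e | e <;> rw [e] at h <;> left <;> linarith

/-- The value at `t` of a character outside the functions of degree `|Q - 1|`. -/
theorem T_eq {χ : Cfsg.IrrCharacter G} (hψ : ∀ l, H.mψ D l χ = 0) :
    H.T χ = D.x * (H.m D 0 χ + H.m D 1 χ) - D.Q * H.m D 2 χ + 2 * D.x * H.mΦ D χ := by
  have h := H.two_T D hL χ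
  have hQ := D.Q_eq
  simp only [hψ, Finset.sum_const_zero, mul_zero, add_zero] at h
  rw [hQ] at h ⊢
  linarith

/-- A character with odd column sum is outside the functions of degree `|Q - 1|`. -/
theorem mψ_odd {χ : Cfsg.IrrCharacter G} (hodd : Odd (H.m D 0 χ + H.m D 1 χ + H.m D 2 χ))
    (l : Fin D.N) : H.mψ D l χ = 0 := by
  by_contra hne
  obtain ⟨hT, -⟩ := H.mψ_twin D hL l hne
  have h := H.two_T D hL χ
  obtain ⟨k, hk⟩ := hodd
  have hQ := D.Q_eq
  obtain ⟨y, hy⟩ : ∃ y, D.x = 2 * y + 1 := ⟨D.x / 2, by have := D.x_mod; omega⟩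
  have hQ1 : ((D.Q - 1).natAbs : ℤ) = |D.Q - 1| := Int.natCast_natAbs _
  obtain ⟨c, hc⟩ : ∃ c : ℤ, H.T χ = 2 * c := by
    rcases abs_choice (H.T χ) with e | e <;> rw [e] at hT
    · exact ⟨H.T χ / 2, by omega⟩
    · exact ⟨H.T χ / 2, by omega⟩
  obtain ⟨d, hd⟩ : ∃ d : ℤ, ((D.Q - 1).natAbs : ℤ) = 2 * d :=
    ⟨((D.Q - 1).natAbs : ℤ) / 2, by have := D.Q_mod; omega⟩
  rw [hc, hd, hQ, hy, show H.m D 2 χ = 2 * k + 1 - H.m D 0 χ - H.m D 1 χ by linarith] at h
  generalize H.m D 0 χ = a at h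
  generalize H.m D 1 χ = b at h
  generalize H.mΦ D χ = f at h
  generalize ∑ l, H.mψ D l χ = s at h
  ring_nf at h
  omega

omit hL in
theorem T_autPerm (σ : ℂ ≃+* ℂ) (χ : Cfsg.IrrCharacter G) : H.T (autPerm σ χ) = H.T χ := by
  have h := H.T_spec (autPerm σ χ)
  rw [autPerm_coe, H.T_spec, map_intCast] at h
  exact_mod_cast h.symm

omit hL in
theorem ind_aut (σ : ℂ ≃+* ℂ) (θ : K → ℂ) (g : G) :
    σ (H.ind θ g) = H.ind (fun k => σ (θ k)) g := by
  classical
  simp only [ind, Cfsg.indFun, map_mul, map_inv₀, map_natCast, map_sum]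
  congr 1
  refine Finset.sum_congr rfl fun y _ => ?_
  by_cases hy : y⁻¹ * g * y ∈ H.C
  · rw [CharTheory.IndBasic.extendByZero_of_mem _ _ hy, CharTheory.IndBasic.extendByZero_of_mem _ _ hy]
    simp only [lift]; split_ifs <;> simp [map_ofNat]
  · rw [CharTheory.IndBasic.extendByZero_of_notMem _ _ hy,
      CharTheory.IndBasic.extendByZero_of_notMem _ _ hy, map_zero]

omit hL in
/-- The automorphisms of `ℂ` permute the exceptional multiplicities. -/
theorem m_aut (σ : ℂ ≃+* ℂ) {π : Equiv.Perm (Fin 3)} (hπ : ∀ i k, σ (D.θ i k) = D.θ (π i) k)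
    (i : Fin 3) (χ : Cfsg.IrrCharacter G) : H.m D (π i) (autPerm σ χ) = H.m D i χ :=
  coef_aut σ (H.isGen_ind (D.θ_gen i)) (H.isGen_ind (D.θ_gen (π i)))
    (fun g => by rw [H.ind_aut]; simp only [hπ]) χ

end Setup

end Cfsg.Agent.JT
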