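import Mathlib
import Cfsg.Agent.Lib.JT.Mult
import Cfsg.Agent.Lib.JT.Cong
import Cfsg.Agent.Lib.JT.Frame
import Cfsg.Agent.Lib.JT.ArithDefs

/-!
The signed degrees and values at `t` on the shape, and the identities for the functions of degree zero.
-/

set_option autoImplicit false
set_option linter.unusedSectionVars false
set_option linter.style.haveILetI false

namespace Cfsg.Agent.JT

open Cfsg.Agent.Characters
open scoped ComplexConjugate

universe u v

namespace Setup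

open Lattice

variable {G : Type u} [Group G] [Fintype G] [Fintype (Cfsg.IrrCharacter G)]
  [DecidableEq (Cfsg.IrrCharacter G)] {K : Type v} [Group K] [Fintype K] [DecidableEq K]
  (H : Setup G K) (D : KData K)

/-- The order of `G`, divided by `Q² |Q - 1|`. -/
noncomputable def gq (_H : Setup G K) (D : KData K) : ℚ :=
  (Nat.card G : ℚ) / ((D.Q : ℚ) ^ 2 * ((D.Q - 1).natAbs : ℕ))

/-- A shape for the exceptional multiplicities. -/
abbrev Shp {k : ℕ} (tbl : Fin 3 → Fin k → ℤ) (f : Fin k → Cfsg.IrrCharacter G)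
    (e : Cfsg.IrrCharacter G → ℤ) : Prop :=
  Frame (H.m D) (trivIrr G) tbl f e

theorem gq_den : (0 : ℚ) < (D.Q : ℚ) ^ 2 * ((D.Q - 1).natAbs : ℕ) := by
  have h1 : (D.Q : ℚ) ≠ 0 := Int.cast_ne_zero.2 D.x_facts.1
  have h2 : 0 < (D.Q - 1).natAbs := by have := D.Q_gt; omega
  have h3 : (0 : ℚ) < ((D.Q - 1).natAbs : ℕ) := Nat.cast_pos.2 h2
  positivity

theorem gq_pos : 0 < H.gq D :=
  div_pos (Nat.cast_pos.2 Nat.card_pos) (gq_den D)

theorem gq_mul : (Nat.card G : ℚ) = H.gq D * ((D.Q : ℚ) ^ 2 * ((D.Q - 1).natAbs : ℕ)) := by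
  rw [gq, div_mul_cancel₀ _ (gq_den D).ne']

omit [Fintype (Cfsg.IrrCharacter G)] [DecidableEq (Cfsg.IrrCharacter G)] [DecidableEq K] in
theorem card_C_eq : (Nat.card H.C : ℤ) = |D.Q| * (D.Q ^ 2 - 1) := by
  rw [H.card_C, ← D.card]; push_cast; rfl

theorem ord : Arith.Ord D.Q D.x (H.gq D) := by
  refine ⟨H.gq_pos D, (H.C.index : ℤ), ?_⟩
  have h : (Nat.card H.C : ℚ) * (H.C.index : ℚ) = (Nat.card G : ℚ) := by
    exact_mod_cast Subgroup.card_mul_index H.C
  have hC : (Nat.card H.C : ℚ) = |(D.Q : ℚ)| * ((D.Q : ℚ) ^ 2 - 1) := by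
    exact_mod_cast H.card_C_eq D
  rw [H.gq_mul D, hC, Nat.cast_natAbs, Int.cast_abs, Int.cast_sub, Int.cast_one] at h
  obtain ⟨hQ, -, -, -, -⟩ := D.x_facts
  have hQ' : (D.Q : ℚ) ≠ 0 := Int.cast_ne_zero.2 hQ
  have hx : (2 : ℚ) * (D.x : ℚ) = (D.Q : ℚ) + 1 := by rw [D.Q_eq]; push_cast; ring
  have h1 : (D.Q : ℚ) - 1 ≠ 0 := by
    rw [← Int.cast_one, ← Int.cast_sub]; exact Int.cast_ne_zero.2 (by have := D.Q_gt; omega)
  rw [hx, Int.cast_natCast]
  have hgt := D.Q_gt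
  rcases le_or_gt 0 D.Q with hp | hn
  · rw [abs_of_nonneg (by exact_mod_cast hp : (0 : ℚ) ≤ (D.Q : ℚ)),
      abs_of_nonneg (by exact_mod_cast (show (0 : ℤ) ≤ D.Q - 1 by omega) : (0 : ℚ) ≤ (D.Q : ℚ) - 1)] at h
    refine mul_right_cancel₀ (mul_ne_zero hQ' h1) ?_
    linear_combination -h
  · rw [abs_of_neg (by exact_mod_cast hn : (D.Q : ℚ) < 0),
      abs_of_neg (by exact_mod_cast (show D.Q - 1 < 0 by omega) : (D.Q : ℚ) - 1 < 0)] at h
    refine mul_right_cancel₀ (mul_ne_zero hQ' h1) ?_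
    linear_combination h

/-- The two shapes. -/
theorem exists_shape (hL : H.Local) :
    ∃ e, (∃ f, H.Shp D tableA f e) ∨ ∃ f, H.Shp D tableB f e := by
  classical
  let o := trivIrr G
  let m' : Fin 3 → Cfsg.IrrCharacter G → ℤ := fun i x => if x = o then 0 else H.m D i x
  have hsum : ∀ (i : Fin 3) (F : Cfsg.IrrCharacter G → ℤ),
      ∑ x, m' i x * F x = ∑ x, H.m D i x * F x - F o := by
    intro i F
    rw [← Finset.add_sum_erase _ _ (Finset.mem_univ o), ← Finset.add_sum_erase _ _ (Finset.mem_univ o)]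
    simp only [m', if_true, zero_mul, zero_add]
    rw [Finset.sum_congr rfl fun x hx => by rw [if_neg (Finset.ne_of_mem_erase hx)], H.m_triv]
    ring
  have hgram : ∀ i j, ∑ x, m' i x * m' j x = (if i = j then 4 else 2) - 1 := by
    intro i j
    have h1 := hsum i (m' j)
    have h2 : ∑ x, H.m D i x * m' j x = (if i = j then 4 else 2) - 1 := by
      simp only [mul_comm (H.m D i _)]
      rw [hsum j, H.m_triv]
      simp only [mul_comm (H.m D j _)]
      rw [H.gram D hL]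
    rw [h1, h2]; simp [m']
  have hdeg : ∀ i, ∑ x, m' i x * (deg x : ℤ) = -1 := fun i => by
    rw [hsum, H.m_deg]
    have : deg o = 1 := by
      have h := (deg_spec o).1
      simp [o, trivIrr_coe] at h
      exact_mod_cast h.symm
    rw [this]; rfl
  obtain ⟨e, he, h⟩ := Lattice.split (m := m') (fun x => by exact_mod_cast (deg_spec x).2.1)
    (fun i => by rw [hgram, if_pos rfl]; norm_num) (fun i j hij => by rw [hgram, if_neg hij]; norm_num)
    hdeg
  have conv : ∀ {k : ℕ} (tbl : Fin 3 → Fin k → ℤ) (f : Fin k → Cfsg.IrrCharacter G),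
      (∀ j, ∃ i, tbl i j ≠ 0) → Shaped (fun i x => e x * m' i x) tbl f → H.Shp D tbl f e := by
    intro k tbl f hcol hs
    have hne : ∀ j, f j ≠ o := fun j hj => by
      obtain ⟨i, hi⟩ := hcol j
      exact hi (by rw [← hs.val i j, hj]; simp [m'])
    refine ⟨hs.inj, he, fun i j => ?_, fun i x hx hxj => ?_, hne, H.m_triv D⟩
    · rw [← hs.val i j]; simp [m', hne j]
    · have h0 := hs.zero i x hxj
      simp only [m', if_neg (show x ≠ o from hx)] at h0
      exact (mul_eq_zero.1 h0).resolve_left (by rcases he x with e' | e' <;> simp [e'])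
  rcases h with ⟨f, hf⟩ | ⟨f, hf⟩
  · exact ⟨e, Or.inl ⟨f, conv _ f (by decide) hf⟩⟩
  · exact ⟨e, Or.inr ⟨f, conv _ f (by decide) hf⟩⟩

variable {k : ℕ} {tbl : Fin 3 → Fin k → ℤ} {f : Fin k → Cfsg.IrrCharacter G}
  {e : Cfsg.IrrCharacter G → ℤ}

/-- Signed degree. -/
noncomputable def dd (_H : Setup G K) (f : Fin k → Cfsg.IrrCharacter G)
    (e : Cfsg.IrrCharacter G → ℤ) (j : Fin k) : ℤ := e (f j) * (deg (f j) : ℤ)

/-- Signed value at `t`. -/
noncomputable def uu (f : Fin k → Cfsg.IrrCharacter G) (e : Cfsg.IrrCharacter G → ℤ) (j : Fin k) : ℤ :=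
  e (f j) * H.T (f j)

/-- Signed multiplicity in the function of the degrees `|Q + 1|`. -/
noncomputable def ff (f : Fin k → Cfsg.IrrCharacter G) (e : Cfsg.IrrCharacter G → ℤ) (j : Fin k) : ℤ :=
  e (f j) * H.mΦ D (f j)

variable (hL : H.Local) (S : H.Shp D tbl f e)
include S

omit hL in
theorem dd_ne (j : Fin k) : H.dd f e j ≠ 0 := by
  have := (deg_spec (f j)).2.1
  rcases S.unit (f j) with e' | e' <;> simp only [dd, e'] <;> omega

omit hL in
theorem uu_lt [IsSimpleGroup G] (j : Fin k) : |H.uu f e j| < |H.dd f e j| := by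
  have h := H.abs_T_lt D (S.ne j)
  have h2 : (0 : ℤ) ≤ (deg (f j) : ℤ) := Int.natCast_nonneg _
  rcases S.unit (f j) with e' | e' <;>
    simp only [uu, dd, e', one_mul, neg_mul, abs_neg, abs_of_nonneg h2] <;> exact h

omit hL in
theorem dd_mod (W : H.Torus D) (hL : H.Local) (j : Fin k) : (8 : ℤ) ∣ H.dd f e j - H.uu f e j := by
  rw [dd, uu, ← mul_sub]
  exact Dvd.dvd.mul_left (W.deg_T_eight hL _) _

include hL

theorem uu_eq (hψ : ∀ j l, H.mψ D l (f j) = 0) (j : Fin k) :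
    H.uu f e j = D.x * (tbl 0 j + tbl 1 j) - D.Q * tbl 2 j + 2 * D.x * H.ff D f e j := by
  rw [uu, ff, ← S.val 0 j, ← S.val 1 j, ← S.val 2 j, H.T_eq D hL (hψ j)]
  ring

theorem ff_sum (i : Fin 3) : ∑ j, tbl i j * H.ff D f e j = 0 := by
  have h := S.eqs (H.mΦ D) i
  simp only [mul_comm (H.mΦ D _) (H.m D i _)] at h
  rw [H.m_mΦ D hL, H.mΦ_triv] at h
  simpa [ff] using h.symm

theorem dd_sum (i : Fin 3) : ∑ j, tbl i j * H.dd f e j = -1 := by
  have h := S.expand_int (H.m D i) (fun x => (deg x : ℤ))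
  rw [H.m_deg, S.one, Finset.sum_eq_zero (s := outside (trivIrr G) f) fun x hx => by
    rw [S.zero i x (mem_outside.1 hx).1 (mem_outside.1 hx).2, zero_mul]] at h
  have h1 : deg (trivIrr G) = 1 := by
    have h' := (deg_spec (trivIrr G)).1
    simp [trivIrr_coe] at h'
    exact_mod_cast h'.symm
  simp only [h1, S.val, Nat.cast_one] at h
  simp only [dd]
  linarith

omit hL S in
theorem T_triv : H.T (trivIrr G) = 1 := by
  have h := H.T_spec (trivIrr G)
  simp [trivIrr_coe] at h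
  exact_mod_cast h.symm

omit hL S in
theorem deg_triv : deg (trivIrr G) = 1 := by
  have h := (deg_spec (trivIrr G)).1
  simp [trivIrr_coe] at h
  exact_mod_cast h.symm

theorem uu_sum (i : Fin 3) :
    ∑ j, tbl i j * H.uu f e j = if i = 2 then 1 - 2 * D.Q else D.Q + 2 := by
  have h := S.expand_int (H.m D i) H.T
  rw [H.m_T D hL, S.one, H.T_triv, Finset.sum_eq_zero (s := outside (trivIrr G) f) fun x hx => by
    rw [S.zero i x (mem_outside.1 hx).1 (mem_outside.1 hx).2, zero_mul]] at h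
  simp only [S.val] at h
  simp only [uu]
  split_ifs at h ⊢ <;> linarith

theorem theta_recip (i : Fin 3) :
    H.gq D * (1 + ∑ j, (tbl i j : ℚ) * ((H.uu f e j : ℚ) ^ 2 / (H.dd f e j : ℚ))) =
      if i = 2 then 16 * (D.x : ℚ) ^ 3 * ((D.x : ℚ) - 1)
      else 8 * (D.x : ℚ) ^ 2 * (D.Q : ℚ) * ((D.x : ℚ) + 1) := by
  have h := H.recip D hL i
  have hsplit := S.expand (H.m D i) (M := ℚ) fun x => (H.T x : ℚ) ^ 2 / (deg x : ℚ)
  simp only [← mul_div_assoc] at hsplit
  rw [S.one, H.T_triv, deg_triv (G := G), Finset.sum_eq_zero (s := outside (trivIrr G) f) fun x hx => by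
    rw [S.zero i x (mem_outside.1 hx).1 (mem_outside.1 hx).2]; simp] at hsplit
  have hterm : ∀ j, ((e (f j) * H.m D i (f j) : ℤ) : ℚ) * ((e (f j) : ℚ) * (H.T (f j) : ℚ) ^ 2) /
      (deg (f j) : ℚ) = (tbl i j : ℚ) * ((H.uu f e j : ℚ) ^ 2 / (H.dd f e j : ℚ)) := fun j => by
    rw [S.val, uu, dd]
    push_cast
    rcases S.unit (f j) with e' | e' <;> rw [e'] <;> push_cast <;> ring
  simp only [hterm, Int.cast_one, Nat.cast_one, one_pow, mul_one, div_one, add_zero] at hsplit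
  rw [hsplit, H.gq_mul D] at h
  have hd := gq_den D
  have hC : (Nat.card H.C : ℚ) = |(D.Q : ℚ)| * ((D.Q : ℚ) ^ 2 - 1) := by
    exact_mod_cast H.card_C_eq D
  rw [hC] at h
  refine mul_left_cancel₀ hd.ne' ?_
  have habs : |(D.Q : ℚ)| * (D.Q : ℚ) * ((D.Q : ℚ) - 1) =
      (D.Q : ℚ) ^ 2 * ((D.Q - 1).natAbs : ℕ) := by
    rw [Nat.cast_natAbs, Int.cast_abs, Int.cast_sub, Int.cast_one]
    have hgt := D.Q_gt
    rcases le_or_gt 0 D.Q with hp | hn
    · rw [abs_of_nonneg (by exact_mod_cast hp : (0 : ℚ) ≤ (D.Q : ℚ)),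
        abs_of_nonneg (by exact_mod_cast (show (0 : ℤ) ≤ D.Q - 1 by omega) : (0 : ℚ) ≤ (D.Q : ℚ) - 1)]
      ring
    · rw [abs_of_neg (by exact_mod_cast hn : (D.Q : ℚ) < 0),
        abs_of_neg (by exact_mod_cast (show D.Q - 1 < 0 by omega) : (D.Q : ℚ) - 1 < 0)]
      ring
  have hQ : (D.Q : ℚ) = 2 * (D.x : ℚ) - 1 := by rw [D.Q_eq]; push_cast; ring
  split_ifs at h ⊢
  · rw [← habs] at h ⊢
    rw [hQ] at h ⊢
    linear_combination h
  · rw [← habs] at h ⊢
    rw [hQ] at h ⊢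
    linear_combination h

/-- The multiplicities of the functions of degree `|Q + 1|` vanish if the order of the torus
divides them. -/
theorem ff_zero (W : H.Torus D) (hcol : ∀ j, ∃ i, tbl i j ≠ 0)
    (hdvd : ∀ j, (Nat.card W.A : ℤ) ∣ 2 * H.ff D f e j) : ∀ j, H.ff D f e j = 0 := by
  classical
  set r : ℤ := (Nat.card W.A : ℤ) with hr
  have hdvd' : ∀ j, r ∣ H.ff D f e j := fun j => by
    refine Int.dvd_of_dvd_mul_right_of_gcd_one (hdvd j) ?_
    obtain ⟨c, hc⟩ := W.A_odd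
    rw [hr, hc, Int.gcd_eq_natAbs, Int.natAbs_natCast]
    exact Nat.coprime_two_right.2 ⟨c, rfl⟩
  have hA : 4 * r = |D.Q - 1| := by
    rw [hr, ← Int.natCast_natAbs, ← W.A_card]; push_cast; rfl
  have hr3 : 3 ≤ r := by
    have := D.x_facts
    have := D.Q_eq
    rcases abs_cases (D.Q - 1) with ⟨e', -⟩ | ⟨e', -⟩ <;> rw [e'] at hA <;> omega
  intro j0
  by_contra hne
  obtain ⟨i, hi⟩ := hcol j0
  obtain ⟨j1, hj1, hj10⟩ : ∃ j1, j1 ≠ j0 ∧ H.ff D f e j1 ≠ 0 := by
    by_contra hall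
    push Not at hall
    have h := H.ff_sum D hL S i
    rw [Finset.sum_eq_single j0 (fun j _ hj => by rw [hall j hj, mul_zero])
      fun h' => absurd (Finset.mem_univ _) h'] at h
    exact (mul_ne_zero hi hne) h
  obtain ⟨M, hM, hMle⟩ := H.mΦ_norm D hL
  rw [S.norm (H.mΦ D), H.mΦ_triv] at hM
  have hbig : ∀ j, H.ff D f e j ≠ 0 → r * r ≤ H.ff D f e j * H.ff D f e j := fun j hj => by
    have h1 : r.natAbs ≤ (H.ff D f e j).natAbs := Int.natAbs_le_of_dvd_ne_zero (hdvd' j) hj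
    rw [← Int.natAbs_mul_self (a := r), ← Int.natAbs_mul_self (a := H.ff D f e j)]
    exact_mod_cast Nat.mul_le_mul h1 h1
  have hsum : r * r + r * r ≤ ∑ j, H.ff D f e j * H.ff D f e j := by
    refine le_trans ?_ (Finset.sum_le_sum_of_subset_of_nonneg (Finset.subset_univ {j0, j1})
      fun x _ _ => mul_self_nonneg _)
    rw [Finset.sum_pair hj1.symm]
    exact add_le_add (hbig j0 hne) (hbig j1 hj10)
  have hrest : (0 : ℤ) ≤ ∑ x ∈ outside (trivIrr G) f, H.mΦ D x * H.mΦ D x :=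
    Finset.sum_nonneg fun x _ => mul_self_nonneg _
  simp only [ff] at hsum
  have hMr : r * r ≤ (M : ℤ) := by linarith
  have hK := D.card
  have h1 : |D.Q + 1| * |D.Q + 1| = (D.Q + 1) ^ 2 := by rw [abs_mul_abs_self, sq]
  have h2 : D.Q ^ 2 - 1 = |D.Q - 1| * |D.Q + 1| := by
    rw [← abs_mul, show (D.Q - 1) * (D.Q + 1) = D.Q ^ 2 - 1 by ring, abs_of_nonneg]
    have := D.Q_gt
    nlinarith [sq_abs D.Q, Int.natCast_natAbs D.Q]
  have h3 : |D.Q - 1| = 4 * r := hA.symm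
  have h4 : |D.Q| - 1 ≤ |D.Q + 1| := by
    have := abs_add_le (D.Q + 1) (-1)
    simp only [add_neg_cancel_right, abs_neg, abs_one] at this
    linarith
  have hQ6 : 6 ≤ |D.Q| := by rw [← Int.natCast_natAbs]; have := D.Q_gt; omega
  rw [h2, h3] at hK
  have h5 : r * r * (|D.Q + 1| * |D.Q + 1|) ≤ 2 * r * |D.Q| * |D.Q + 1| := by
    rw [← h1] at hMle
    nlinarith [mul_le_mul_of_nonneg_right hMr (mul_self_nonneg |D.Q + 1|)]
  have h6 : 0 < |D.Q + 1| := by linarith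
  have h7 : r * |D.Q + 1| ≤ 2 * |D.Q| := by
    refine le_of_mul_le_mul_left ?_ (mul_pos (by linarith : (0 : ℤ) < r) h6)
    nlinarith [h5]
  nlinarith [mul_le_mul hr3 h4 (by linarith) (by linarith)]

end Setup

end Cfsg.Agent.JT
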