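import Mathlib
import Cfsg.Agent.Lib.JT.Shape

/-!
A generalized character vanishing at `1` and at `t`, read on a shape: its inner products, degree,
value at `t` and counting identity.
-/

set_option autoImplicit false
set_option linter.unusedSectionVars false
set_option linter.style.haveILetI false

namespace Cfsg.Agent.JT.Setup

open Cfsg.Agent.Characters Lattice
open scoped ComplexConjugate

universe u v

variable {G : Type u} [Group G] [Fintype G] [Fintype (Cfsg.IrrCharacter G)]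
  [DecidableEq (Cfsg.IrrCharacter G)] {K : Type v} [Group K] [Fintype K] [DecidableEq K]
  (H : Setup G K) (D : KData K)
  {k : ℕ} {tbl : Fin 3 → Fin k → ℤ} {f : Fin k → Cfsg.IrrCharacter G}
  {e : Cfsg.IrrCharacter G → ℤ}

/-- The signed part on the shape. -/
noncomputable def pp (f : Fin k → Cfsg.IrrCharacter G) (e : Cfsg.IrrCharacter G → ℤ) (F : G → ℂ)
    (j : Fin k) : ℤ := e (f j) * coef F (f j)

variable (hL : H.Local) (S : H.Shp D tbl f e) {F F' : G → ℂ} (hF : Cfsg.IsGeneralizedCharacter G F)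
include S hF

theorem vec_inner (hF' : Cfsg.IsGeneralizedCharacter G F') {z : ℤ}
    (hz : Cfsg.classInner F F' = (z : ℂ)) :
    coef F (trivIrr G) * coef F' (trivIrr G) + ∑ j, pp f e F j * pp f e F' j +
      ∑ x ∈ outside (trivIrr G) f, coef F x * coef F' x = z := by
  rw [← gram_sum hF hF' hz, S.expand_int (coef F) (coef F')]
  rfl

theorem vec_eqs (i : Fin 3) {z : ℤ} (hz : Cfsg.classInner F (H.ind (D.θ i)) = (z : ℂ)) :
    ∑ j, tbl i j * pp f e F j = z - coef F (trivIrr G) := by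
  have h := gram_sum hF (H.isGen_ind (D.θ_gen i)) hz
  rw [show ∑ χ, coef F χ * coef (H.ind (D.θ i)) χ = ∑ χ, coef F χ * H.m D i χ from rfl, S.eqs] at h
  simp only [pp]
  linarith

omit S in
theorem coef_triv {z : ℤ} (hz : Cfsg.classInner F (fun _ => 1) = (z : ℂ)) :
    coef F (trivIrr G) = z := by
  have h := coef_spec hF (trivIrr G)
  rw [show (trivIrr G : G → ℂ) = fun _ => 1 from trivIrr_coe, hz] at h
  exact_mod_cast h.symm

theorem vec_one (h1 : F 1 = 0) :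
    coef F (trivIrr G) + ∑ j, pp f e F j * H.dd f e j +
      ∑ x ∈ outside (trivIrr G) f, coef F x * (deg x : ℤ) = 0 := by
  rw [← sum_at_one (z := 0) hF (by rw [h1]; simp), S.expand_int (coef F) fun x => (deg x : ℤ)]
  simp only [deg_triv (G := G), Nat.cast_one, mul_one]
  rfl

theorem vec_t (ht : F H.t = 0) :
    coef F (trivIrr G) + ∑ j, pp f e F j * H.uu f e j +
      ∑ x ∈ outside (trivIrr G) f, coef F x * H.T x = 0 := by
  rw [← sum_at hF H.T_spec (z := 0) (by rw [ht]; simp), S.expand_int (coef F) H.T, H.T_triv, mul_one]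
  rfl

theorem vec_recip (W : H.Torus D) {c : ℚ}
    (hr : (Nat.card G : ℂ) * ∑ χ, (coef F χ : ℂ) * ((χ : G → ℂ) H.t) ^ 2 / (χ : G → ℂ) 1 =
      (Nat.card H.C : ℂ) ^ 2 * ((Nat.card W.A : ℂ) * (c : ℂ))) :
    H.gq D * ((coef F (trivIrr G) : ℚ) +
      ∑ j, (pp f e F j : ℚ) * ((H.uu f e j : ℚ) ^ 2 / (H.dd f e j : ℚ)) +
      ∑ x ∈ outside (trivIrr G) f, (coef F x : ℚ) * ((H.T x : ℚ) ^ 2 / (deg x : ℚ))) =
    4 * ((D.x : ℚ) * ((D.x : ℚ) - 1)) ^ 2 * c := by
  simp only [H.T_spec, (deg_spec _).1] at hr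
  have h : (Nat.card G : ℚ) * ∑ χ, (coef F χ : ℚ) * ((H.T χ : ℚ) ^ 2 / (deg χ : ℚ)) =
      (Nat.card H.C : ℚ) ^ 2 * ((Nat.card W.A : ℚ) * c) := by
    have : ((((Nat.card G : ℚ) * ∑ χ, (coef F χ : ℚ) * ((H.T χ : ℚ) ^ 2 / (deg χ : ℚ))) : ℚ) : ℂ) =
        (((Nat.card H.C : ℚ) ^ 2 * ((Nat.card W.A : ℚ) * c) : ℚ) : ℂ) := by
      push_cast
      simp only [← mul_div_assoc]
      exact hr
    exact_mod_cast this
  rw [S.expand (coef F) (M := ℚ) fun x => (H.T x : ℚ) ^ 2 / (deg x : ℚ), H.T_triv, deg_triv (G := G),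
    Int.cast_one, Nat.cast_one, one_pow, div_one, mul_one, H.gq_mul D] at h
  have hterm : ∀ j, ((e (f j) * coef F (f j) : ℤ) : ℚ) *
      ((e (f j) : ℚ) * ((H.T (f j) : ℚ) ^ 2 / (deg (f j) : ℚ))) =
      (pp f e F j : ℚ) * ((H.uu f e j : ℚ) ^ 2 / (H.dd f e j : ℚ)) := fun j => by
    simp only [pp, uu, dd]
    rcases S.unit (f j) with e' | e' <;> rw [e'] <;> push_cast <;> ring
  simp only [hterm] at h
  have hd := gq_den D
  refine mul_left_cancel₀ hd.ne' ?_
  have hC : (Nat.card H.C : ℚ) = |(D.Q : ℚ)| * ((D.Q : ℚ) ^ 2 - 1) := by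
    exact_mod_cast H.card_C_eq D
  have hA : 4 * (Nat.card W.A : ℚ) = ((D.Q - 1).natAbs : ℕ) := by exact_mod_cast W.A_card
  have hQ : (D.Q : ℚ) = 2 * (D.x : ℚ) - 1 := by rw [D.Q_eq]; push_cast; ring
  rw [hC, mul_pow, sq_abs] at h
  rw [← hA] at h ⊢
  rw [hQ] at h ⊢
  linear_combination h

/-- The single outside constituent. -/
structure One (F : G → ℂ) (f : Fin k → Cfsg.IrrCharacter G) (Z : Cfsg.IrrCharacter G) : Prop where
  mem : Z ∈ outside (trivIrr G) f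
  unit : coef F Z = 1 ∨ coef F Z = -1
  only : ∀ x ∈ outside (trivIrr G) f, x ≠ Z → coef F x = 0

theorem exists_one {N : ℤ} (hN : Cfsg.classInner F F = (N : ℂ))
    (h : coef F (trivIrr G) * coef F (trivIrr G) + ∑ j, pp f e F j * pp f e F j = N - 1) :
    ∃ Z, One F f Z := by
  have := H.vec_inner D S hF hF hN
  obtain ⟨Z, hZ, hu, h0⟩ := rest_one (s := outside (trivIrr G) f) (c := coef F) (by linarith)
  exact ⟨Z, hZ, hu, h0⟩

omit S hF

/-- Signed degree of an outside constituent. -/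
noncomputable def zd (F : G → ℂ) (Z : Cfsg.IrrCharacter G) : ℤ := coef F Z * (deg Z : ℤ)

/-- Signed value at `t` of an outside constituent. -/
noncomputable def zu (F : G → ℂ) (Z : Cfsg.IrrCharacter G) : ℤ := coef F Z * H.T Z

theorem One.sum {F : G → ℂ} {Z : Cfsg.IrrCharacter G} (h : One F f Z) {M : Type*} [CommRing M]
    (w : Cfsg.IrrCharacter G → M) :
    ∑ x ∈ outside (trivIrr G) f, (coef F x : M) * w x = (coef F Z : M) * w Z :=
  rest_single h.mem h.only w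

theorem One.sum_int {F : G → ℂ} {Z : Cfsg.IrrCharacter G} (h : One F f Z)
    (w : Cfsg.IrrCharacter G → ℤ) :
    ∑ x ∈ outside (trivIrr G) f, coef F x * w x = coef F Z * w Z := by
  simpa using h.sum w

theorem One.zd_ne {F : G → ℂ} {Z : Cfsg.IrrCharacter G} (h : One F f Z) : zd F Z ≠ 0 := by
  have := (deg_spec Z).2.1
  rcases h.unit with e' | e' <;> simp only [zd, e'] <;> omega

theorem One.zu_lt [IsSimpleGroup G] (D : KData K) {F : G → ℂ} {Z : Cfsg.IrrCharacter G}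
    (h : One F f Z) : |H.zu F Z| < |zd F Z| := by
  have h1 := H.abs_T_lt D (mem_outside.1 h.mem).1
  have h2 : (0 : ℤ) ≤ (deg Z : ℤ) := Int.natCast_nonneg _
  rcases h.unit with e' | e' <;>
    simp only [zu, zd, e', one_mul, neg_mul, abs_neg, abs_of_nonneg h2] <;> exact h1

theorem One.term {F : G → ℂ} {Z : Cfsg.IrrCharacter G} (h : One F f Z) :
    (coef F Z : ℚ) * ((H.T Z : ℚ) ^ 2 / (deg Z : ℚ)) = (H.zu F Z : ℚ) ^ 2 / (zd F Z : ℚ) := by
  rcases h.unit with e' | e' <;> simp only [zu, zd, e'] <;> push_cast <;> ring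

/-- The part on the shape is in the list. -/
theorem pp_mem_A {f : Fin 7 → Cfsg.IrrCharacter G} (S : H.Shp D tableA f e) {F : G → ℂ}
    (hF : Cfsg.IsGeneralizedCharacter G F) {N z z0 z1 z2 : ℤ} (hN : Cfsg.classInner F F = (N : ℂ))
    (hz : Cfsg.classInner F (fun _ => 1) = (z : ℂ))
    (h0 : Cfsg.classInner F (H.ind (D.θ 0)) = (z0 : ℂ))
    (h1 : Cfsg.classInner F (H.ind (D.θ 1)) = (z1 : ℂ))
    (h2 : Cfsg.classInner F (H.ind (D.θ 2)) = (z2 : ℂ)) (hb : N - z * z ≤ 8) :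
    coef F (trivIrr G) = z ∧
      List.ofFn (pp f e F) ∈ solA (z0 - z) (z1 - z) (z2 - z) (N - z * z) := by
  have hc := coef_triv hF hz
  refine ⟨hc, ?_⟩
  have hn := H.vec_inner D S hF hF hN
  have hr : (0 : ℤ) ≤ ∑ x ∈ outside (trivIrr G) f, coef F x * coef F x :=
    Finset.sum_nonneg fun x _ => mul_self_nonneg _
  rw [hc] at hn
  refine mem_solA hb (by linarith) ?_ ?_ ?_
  · rw [H.vec_eqs D S hF 0 h0, hc]
  · rw [H.vec_eqs D S hF 1 h1, hc]
  · rw [H.vec_eqs D S hF 2 h2, hc]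

theorem pp_mem_B {f : Fin 6 → Cfsg.IrrCharacter G} (S : H.Shp D tableB f e) {F : G → ℂ}
    (hF : Cfsg.IsGeneralizedCharacter G F) {N z z0 z1 z2 : ℤ} (hN : Cfsg.classInner F F = (N : ℂ))
    (hz : Cfsg.classInner F (fun _ => 1) = (z : ℂ))
    (h0 : Cfsg.classInner F (H.ind (D.θ 0)) = (z0 : ℂ))
    (h1 : Cfsg.classInner F (H.ind (D.θ 1)) = (z1 : ℂ))
    (h2 : Cfsg.classInner F (H.ind (D.θ 2)) = (z2 : ℂ)) (hb : N - z * z ≤ 8) :
    coef F (trivIrr G) = z ∧
      List.ofFn (pp f e F) ∈ solB (z0 - z) (z1 - z) (z2 - z) (N - z * z) := by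
  have hc := coef_triv hF hz
  refine ⟨hc, ?_⟩
  have hn := H.vec_inner D S hF hF hN
  have hr : (0 : ℤ) ≤ ∑ x ∈ outside (trivIrr G) f, coef F x * coef F x :=
    Finset.sum_nonneg fun x _ => mul_self_nonneg _
  rw [hc] at hn
  refine mem_solB hb (by linarith) ?_ ?_ ?_
  · rw [H.vec_eqs D S hF 0 h0, hc]
  · rw [H.vec_eqs D S hF 1 h1, hc]
  · rw [H.vec_eqs D S hF 2 h2, hc]

end Cfsg.Agent.JT.Setup
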