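import Mathlib
import Cfsg.Agent.Lib.JT.Vec
import Cfsg.Agent.Lib.JT.CaseArith
import Cfsg.Agent.Lib.J1Order.Lattice

/-!
Alignment of the shape under Galois, the bound for the multiplicities of degree `|Q + 1|`, and the
torus functions read on a shape.
-/

set_option autoImplicit false
set_option linter.unusedSectionVars false
set_option linter.style.haveILetI false

namespace Cfsg.Agent.JT.Setup

open Cfsg.Agent.Characters Lattice
open scoped ComplexConjugate

universe u v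

variable {G : Type u} [Group G] [Fintype G] [Fintype (Cfsg.IrrCharacter G)]
  [DecidableEq (Cfsg.IrrCharacter G)] {K : Type v} [Group K] [Fintype K] [DecidableEq K]
  (H : Setup G K) (D : KData K)
  {k : ℕ} {tbl : Fin 3 → Fin k → ℤ} {f : Fin k → Cfsg.IrrCharacter G}
  {e : Cfsg.IrrCharacter G → ℤ} (hL : H.Local)

include hL

/-- The multiplicities of degree `|Q + 1|` are small. -/
theorem ff_le (S : H.Shp D tbl f e) (W : H.Torus D) (j : Fin k) : |H.ff D f e j| ≤ |D.x| := by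
  obtain ⟨M, hM, hMle⟩ := H.mΦ_norm D hL
  have h1 : H.ff D f e j * H.ff D f e j ≤ 2 * (M : ℤ) := by
    rw [← hM]
    refine le_trans (le_of_eq ?_) (Finset.single_le_sum (f := fun χ => H.mΦ D χ * H.mΦ D χ)
      (fun χ _ => mul_self_nonneg _) (Finset.mem_univ (f j)))
    simp only [ff]
    rcases S.unit (f j) with e' | e' <;> rw [e'] <;> ring
  have hK := D.card
  have hQ := D.Q_eq
  have hx := D.x_facts
  rw [← sq_abs (D.Q + 1)] at hMle
  by_contra hlt
  push Not at hlt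
  have h2 : |D.x| * |D.x| + 1 ≤ 2 * (M : ℤ) := by
    rw [← abs_mul_abs_self (H.ff D f e j)] at h1
    nlinarith [abs_nonneg D.x]
  have hx1 : D.Q + 1 = 2 * D.x := by omega
  rw [hx1, abs_mul, show |(2 : ℤ)| = 2 from rfl] at hMle
  have hQle : |D.Q| ≤ 2 * |D.x| + 1 := by
    rw [hQ]
    have := abs_sub (2 * D.x) 1
    rw [abs_mul] at this
    simpa using this
  have hQsq : D.Q ^ 2 - 1 ≤ 4 * |D.x| * (|D.x| + 1) := by
    rw [← sq_abs D.Q]
    nlinarith [abs_nonneg D.Q, abs_nonneg D.x]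
  have hQ1 : 0 ≤ D.Q ^ 2 - 1 := by nlinarith [sq_nonneg D.Q, D.Q_gt]
  have h3 : 2 * (Nat.card K : ℤ) ≤ (2 * |D.x| + 1) * (4 * |D.x| * (|D.x| + 1)) := by
    rw [hK]
    exact mul_le_mul hQle hQsq hQ1 (by positivity)
  have h5 : 5 ≤ |D.x| := by rcases abs_cases D.x with ⟨e', he'⟩ | ⟨e', he'⟩ <;> omega
  nlinarith [mul_le_mul_of_nonneg_right h2 (mul_self_nonneg |D.x|)]

omit hL in
/-- The shape is carried to itself by the automorphisms. -/
theorem aut_image (S : H.Shp D tbl f e) (hcol : ∀ j, ∃ i, tbl i j ≠ 0) (σ : ℂ ≃+* ℂ)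
    {π : Equiv.Perm (Fin 3)} (hσ : ∀ i k, σ (D.θ i k) = D.θ (π i) k) :
    ∀ j, ∃ j', autPerm σ (f j) = f j' ∧ (((∀ i, tbl (π i) j' = tbl i j) ∧
      e (f j') = e (f j) ∧ H.dd f e j' = H.dd f e j ∧ H.uu f e j' = H.uu f e j) ∨
      ∀ i, tbl (π i) j' = -tbl i j) := by
  intro j
  set χ := autPerm σ (f j) with hχ
  have hm : ∀ i, H.m D (π i) χ = H.m D i (f j) := fun i => H.m_aut D σ hσ i (f j)
  have hne : χ ≠ trivIrr G := fun h => by
    obtain ⟨i, hi⟩ := hcol j
    apply S.ne j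
    refine (autPerm σ).injective ?_
    rw [← hχ, h]
    refine Subtype.ext (funext fun g => ?_)
    rw [autPerm_coe, trivIrr_coe, map_one]
  obtain ⟨j', hj'⟩ : ∃ j', χ = f j' := by
    by_contra h
    push Not at h
    obtain ⟨i, hi⟩ := hcol j
    have h0 := S.zero (π i) χ hne h
    rw [hm, S.val' i j] at h0
    rcases S.unit (f j) with e' | e' <;> simp [e'] at h0 <;> exact hi h0
  refine ⟨j', hj', ?_⟩
  have hv : ∀ i, e (f j') * tbl (π i) j' = e (f j) * tbl i j := fun i => by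
    rw [← S.val' (π i) j', ← hj', hm, S.val' i j]
  by_cases he : e (f j') = e (f j)
  · refine Or.inl ⟨fun i => ?_, he, ?_, ?_⟩
    · have := hv i
      rw [he] at this
      exact mul_left_cancel₀ (by rcases S.unit (f j) with e' | e' <;> rw [e'] <;> norm_num) this
    · rw [dd, dd, he, ← hj', hχ, deg_autPerm]
    · rw [uu, uu, he, ← hj', hχ, H.T_autPerm]
  · refine Or.inr fun i => ?_
    have := hv i
    rcases S.unit (f j) with e' | e' <;> rcases S.unit (f j') with e'' | e'' <;>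
      rw [e', e''] at he this <;> first | exact absurd rfl he | linarith

omit hL in
/-- The shape is carried to itself by the automorphism exchanging the first two functions. -/
theorem aut_shape (S : H.Shp D tbl f e) (hcol : ∀ j, ∃ i, tbl i j ≠ 0) :
    ∀ j, ∃ j', (∀ i, tbl (Equiv.swap 0 1 i) j' = tbl i j) ∧
      H.dd f e j' = H.dd f e j ∧ H.uu f e j' = H.uu f e j ∨
      ∀ i, tbl (Equiv.swap 0 1 i) j' = -tbl i j := fun j => by
  obtain ⟨σ, hσ⟩ := D.θ_galois
  obtain ⟨j', -, h⟩ := H.aut_image D S hcol σ hσ j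
  exact ⟨j', h.imp (fun h => ⟨h.1, h.2.2⟩) id⟩

omit hL in
/-- Reordering the shape. -/
theorem Shp.comp (S : H.Shp D tbl f e) (π : Equiv.Perm (Fin k)) (hπ : ∀ i j, tbl i (π j) = tbl i j) :
    H.Shp D tbl (f ∘ π) e where
  inj := S.inj.comp π.injective
  unit := S.unit
  val i j := (S.val i (π j)).trans (hπ i j)
  zero i x hx h := S.zero i x hx fun j => by
    have := h (π.symm j)
    simpa using this
  ne j := S.ne (π j)
  one := S.one

/-- The second vector mirrors the first. -/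
def AlignA (H : Setup G K) (f : Fin 7 → Cfsg.IrrCharacter G) (e : Cfsg.IrrCharacter G → ℤ) : Prop :=
  H.dd f e 3 = H.dd f e 1 ∧ H.dd f e 4 = H.dd f e 2 ∧ H.uu f e 3 = H.uu f e 1 ∧
    H.uu f e 4 = H.uu f e 2

/-- The second vector mirrors the first. -/
def AlignB (H : Setup G K) (f : Fin 6 → Cfsg.IrrCharacter G) (e : Cfsg.IrrCharacter G → ℤ) : Prop :=
  H.dd f e 0 = H.dd f e 1 ∧ H.dd f e 4 = H.dd f e 3 ∧ H.uu f e 0 = H.uu f e 1 ∧
    H.uu f e 4 = H.uu f e 3

theorem alignB {f : Fin 6 → Cfsg.IrrCharacter G} (S : H.Shp D tableB f e) : AlignB H f e := by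
  have key : ∀ j, ∃ j', (∀ i, tableB (Equiv.swap 0 1 i) j' = tableB i j) ∧
      H.dd f e j' = H.dd f e j ∧ H.uu f e j' = H.uu f e j := fun j => by
    obtain ⟨j', h | h⟩ := H.aut_shape D S (by decide) j
    · exact ⟨j', h⟩
    · exfalso
      revert h
      revert j j'
      decide
  obtain ⟨a, ha, ha1, ha2⟩ := key 0
  obtain ⟨b, hb, hb1, hb2⟩ := key 3
  have ea : a = 1 := by clear ha1 ha2; revert ha; revert a; decide
  have eb : b = 4 := by clear hb1 hb2; revert hb; revert b; decide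
  subst ea eb
  exact ⟨ha1.symm, hb1, ha2.symm, hb2⟩

theorem alignA {f : Fin 7 → Cfsg.IrrCharacter G} (S : H.Shp D tableA f e) :
    ∃ f', H.Shp D tableA f' e ∧ AlignA H f' e := by
  have key : ∀ j, ∃ j', (∀ i, tableA (Equiv.swap 0 1 i) j' = tableA i j) ∧
      H.dd f e j' = H.dd f e j ∧ H.uu f e j' = H.uu f e j := fun j => by
    obtain ⟨j', h | h⟩ := H.aut_shape D S (by decide) j
    · exact ⟨j', h⟩
    · exfalso
      revert h
      revert j j'
      decide
  obtain ⟨a, ha, ha1, ha2⟩ := key 1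
  have ea : a = 3 ∨ a = 4 := by clear ha1 ha2; revert ha; revert a; decide
  have h0 := H.dd_sum D hL S 0
  have h1 := H.dd_sum D hL S 1
  have h0' := H.uu_sum D hL S 0
  have h1' := H.uu_sum D hL S 1
  simp [Fin.sum_univ_succ, tableA] at h0 h1 h0' h1'
  rcases ea with rfl | rfl
  · exact ⟨f, S, ha1, by linarith, ha2, by linarith⟩
  · refine ⟨f ∘ Equiv.swap 3 4, Shp.comp H D S _ (by decide), ?_⟩
    refine ⟨?_, ?_, ?_, ?_⟩
    · exact ha1
    · show H.dd f e 3 = H.dd f e 2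
      linarith
    · exact ha2
    · show H.uu f e 3 = H.uu f e 2
      linarith

/-- The torus functions on a shape of type A. -/
theorem torus_vec (W : H.Torus D) (hN : W.NoFive) {l : W.A →* ℂˣ} (hl : l ≠ 1)
    (hz : ∃ a, l (W.zA a) ≠ l a) :
    (∀ b, Cfsg.IsGeneralizedCharacter G (W.fn l b)) ∧
    Cfsg.classInner (W.fn l false) (W.fn l false) = ((7 : ℤ) : ℂ) ∧
    Cfsg.classInner (W.fn l true) (W.fn l true) = ((3 : ℤ) : ℂ) ∧
    Cfsg.classInner (W.fn l true) (W.fn l false) = ((0 : ℤ) : ℂ) ∧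
    Cfsg.classInner (W.fn l false) (fun _ => 1) = ((1 : ℤ) : ℂ) ∧
    Cfsg.classInner (W.fn l true) (fun _ => 1) = ((0 : ℤ) : ℂ) ∧
    (∀ i, Cfsg.classInner (W.fn l false) (H.ind (D.θ i)) = ((if i = 2 then 0 else 3 : ℤ) : ℂ)) ∧
    (∀ i, Cfsg.classInner (W.fn l true) (H.ind (D.θ i)) = ((if i = 2 then 0 else -1 : ℤ) : ℂ)) := by
  refine ⟨W.isGen_fn l, ?_, ?_, ?_, ?_, ?_, fun i => ?_, fun i => ?_⟩
  · rw [W.inner_fn hL hN hl false false fun _ _ => hz]; norm_num
  · rw [W.inner_fn hL hN hl true true fun h => absurd h (by decide)]; norm_num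
  · rw [W.inner_fn hL hN hl true false fun h => absurd h (by decide)]; norm_num
  · rw [W.inner_triv hl false]; norm_num
  · rw [W.inner_triv hl true]; norm_num
  · rw [W.inner_theta hL hl false i]; split_ifs <;> simp_all
  · rw [W.inner_theta hL hl true i]; split_ifs <;> simp_all

theorem torus_recip (W : H.Torus D) (hN : W.NoFive) {l : W.A →* ℂˣ} (hl : l ≠ 1) (b : Bool) :
    (Nat.card G : ℂ) *
      ∑ χ, (coef (W.fn l b) χ : ℂ) * ((χ : G → ℂ) H.t) ^ 2 / (χ : G → ℂ) 1 =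
    (Nat.card H.C : ℂ) ^ 2 * ((Nat.card W.A : ℂ) * (((if b then 0 else 4 : ℚ)) : ℂ)) := by
  rw [W.recip_fn hL hN hl b]
  cases b <;> norm_num

end Cfsg.Agent.JT.Setup
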