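import Mathlib
import Cfsg.Agent.BlockCharsA.AlgAut
import Cfsg.Agent.Lib.JT.TorusVec

/-!
An automorphism of `ℂ` squaring the fifth roots of unity and fixing those of order prime to five,
and its action on the vectors read on a shape.
-/

set_option autoImplicit false
set_option linter.unusedSectionVars false
set_option linter.style.haveILetI false

namespace Cfsg.Agent.JT

open Cfsg.Agent.Characters
open scoped ComplexConjugate

universe u v

/-- An automorphism squaring the fifth roots of unity, fixing the others of order dividing `N`. -/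
theorem exists_squaring (N : ℕ) (hN : N ≠ 0) :
    ∃ σ : ℂ ≃+* ℂ, (∀ w : ℂ, w ^ 5 = 1 → σ w = w ^ 2) ∧
      ∀ d : ℕ, d ∣ N → ¬ 5 ∣ d → ∀ w : ℂ, w ^ d = 1 → σ w = w := by
  obtain ⟨v, m, hm, hvm⟩ := Nat.exists_eq_pow_mul_and_not_dvd hN 5 (by norm_num)
  have h5 : Nat.Coprime 5 m := (Nat.Prime.coprime_iff_not_dvd (by norm_num)).2 hm
  have hco : Nat.Coprime (5 ^ (v + 1)) m := h5.pow_left _
  set M : ℕ := 5 ^ (v + 1) * m with hM
  have hm0 : m ≠ 0 := fun h => hm (h ▸ dvd_zero _)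
  have hM0 : M ≠ 0 := mul_ne_zero (pow_ne_zero _ (by norm_num)) hm0
  haveI : NeZero M := ⟨hM0⟩
  obtain ⟨k, hk2, hk1⟩ := Nat.chineseRemainder hco 2 1
  have hk5 : k ≡ 2 [MOD 5] := hk2.of_dvd (dvd_pow_self _ (Nat.succ_ne_zero _))
  have hkM : Nat.Coprime k M := by
    refine Nat.Coprime.mul_right (Nat.Coprime.pow_right _ ?_) ?_
    · rw [Nat.coprime_comm, Nat.Prime.coprime_iff_not_dvd (by norm_num)]
      unfold Nat.ModEq at hk5
      omega
    · rw [Nat.coprime_iff_gcd_eq_one, Nat.ModEq.gcd_eq hk1, Nat.gcd_one_left]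
  obtain ⟨ζ, hζ⟩ : ∃ ζ : ℂ, IsPrimitiveRoot ζ M := ⟨_, Complex.isPrimitiveRoot_exp M hM0⟩
  obtain ⟨σ, hσ⟩ := BlockCharsA.AlgAut.exists_aut hζ (ZMod.unitOfCoprime k hkM)
  rw [ZMod.coe_unitOfCoprime, ZMod.val_natCast, ← pow_eq_pow_mod _ hζ.pow_eq_one] at hσ
  have hpow : ∀ (d c : ℕ), d ∣ M → k ≡ c [MOD d] → ∀ w : ℂ, w ^ d = 1 → σ w = w ^ c := by
    intro d c hd hkc w hw
    obtain ⟨e, he⟩ := hd
    obtain ⟨i, -, hi⟩ := hζ.eq_pow_of_pow_eq_one (ξ := w) (by rw [he, pow_mul, hw, one_pow])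
    rw [← hi, map_pow, hσ, ← pow_mul, mul_comm, pow_mul, hi, pow_eq_pow_mod k hw, hkc,
      ← pow_eq_pow_mod c hw]
  refine ⟨σ, hpow 5 2 (Dvd.dvd.mul_right (dvd_pow_self _ (Nat.succ_ne_zero _)) _) hk5,
    fun d hd h5d w hw => ?_⟩
  have hdm : d ∣ m := by
    refine (Nat.Coprime.pow_right v ?_).dvd_of_dvd_mul_left (hvm ▸ hd)
    exact ((Nat.Prime.coprime_iff_not_dvd (by norm_num)).2 h5d).symm
  have := hpow d 1 (Dvd.dvd.mul_left hdm _) (hk1.of_dvd hdm) w hw
  rwa [pow_one] at this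

/-- Values of generalized characters are fixed along with the roots of unity of their order. -/
theorem gen_value_fixed {K : Type v} [Group K] [Finite K] {θ : K → ℂ}
    (hθ : Cfsg.IsGeneralizedCharacter K θ) (σ : ℂ ≃+* ℂ) (k : K)
    (hσ : ∀ w : ℂ, w ^ orderOf k = 1 → σ w = w) : σ (θ k) = θ k := by
  obtain ⟨χ, ψ, ⟨n, ρ, rfl⟩, ⟨n', ρ', rfl⟩, rfl⟩ := hθ
  obtain ⟨w, hw, h⟩ := exists_rootsOfUnity_sum ρ k
  obtain ⟨w', hw', h'⟩ := exists_rootsOfUnity_sum ρ' k
  have e := h 1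
  have e' := h' 1
  simp only [pow_one] at e e'
  rw [Pi.sub_apply, e, e', map_sub, map_sum, map_sum]
  simp only [hσ _ (hw _), hσ _ (hw' _)]

namespace Setup

open Lattice

variable {G : Type u} [Group G] [Fintype G] [Fintype (Cfsg.IrrCharacter G)]
  [DecidableEq (Cfsg.IrrCharacter G)] {K : Type v} [Group K] [Fintype K] [DecidableEq K]
  {H : Setup G K} {D : KData K}

/-- The squaring automorphism with its permutation of the three functions, and when it is trivial. -/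
theorem exists_squaring_perm (W : H.Torus D) :
    ∃ σ : ℂ ≃+* ℂ, (∀ w : ℂ, w ^ 5 = 1 → σ w = w ^ 2) ∧
      (¬ 5 ∣ Nat.card W.A → ∀ l : W.A →* ℂˣ,
        (Units.map σ.toRingHom.toMonoidHom).comp l = l) ∧
      ∃ π : Equiv.Perm (Fin 3), π 2 = 2 ∧ (∀ i k, σ (D.θ i k) = D.θ (π i) k) ∧
        (¬ 5 ∣ D.Q.natAbs → π = 1) := by
  obtain ⟨σ, h5, hfix⟩ := exists_squaring (Nat.card G) Nat.card_pos.ne'
  obtain ⟨π, hπ2, hπ⟩ := D.θ_aut σ
  refine ⟨σ, h5, fun hr l => ?_, π, hπ2, hπ, fun hQ => ?_⟩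
  · refine MonoidHom.ext fun a => Units.ext ?_
    show σ (l a : ℂ) = l a
    refine hfix (Nat.card W.A) W.A.card_subgroup_dvd_card hr _ ?_
    rw [← Units.val_pow_eq_pow_val, ← map_pow, pow_card_eq_one', map_one, Units.val_one]
  · obtain ⟨k, ⟨n, hn⟩, hne⟩ := D.θ_split
    have hinj : Function.Injective H.embK := fun a b h => by
      have := H.emb_injective h
      exact (Prod.ext_iff.1 this).2
    have hk : orderOf k ∣ Nat.card G := by
      rw [← orderOf_injective H.embK hinj k]; exact orderOf_dvd_natCard _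
    have hk5 : ¬ 5 ∣ orderOf k := fun h =>
      hQ ((Nat.Prime.dvd_of_dvd_pow (by norm_num)) (h.trans hn))
    have h0 : D.θ (π 0) k = D.θ 0 k := by
      rw [← hπ]; exact gen_value_fixed (D.θ_gen 0) σ k (hfix _ hk hk5)
    have hπ0 : π 0 = 0 := by
      rcases (show ∀ x : Fin 3, x = 0 ∨ x = 1 ∨ x = 2 by decide) (π 0) with h | h | h
      · exact h
      · rw [h] at h0; exact absurd h0.symm hne
      · exact absurd (π.injective (h.trans hπ2.symm)) (by decide)
    clear * - hπ2 hπ0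
    revert π
    decide +kernel

variable {k : ℕ} {tbl : Fin 3 → Fin k → ℤ} {f : Fin k → Cfsg.IrrCharacter G}
  {e : Cfsg.IrrCharacter G → ℤ}

/-- The automorphism carries the shape and the outside constituents along. -/
structure Moves (H : Setup G K) (D : KData K) (f : Fin k → Cfsg.IrrCharacter G)
    (e : Cfsg.IrrCharacter G → ℤ) (tbl : Fin 3 → Fin k → ℤ) (σ : ℂ ≃+* ℂ) (π : Equiv.Perm (Fin 3))
    (τ : Fin k → Fin k) : Prop where
  bij : Function.Bijective τ
  map : ∀ j, autPerm σ (f j) = f (τ j)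
  sign : ∀ j, e (f (τ j)) = e (f j)
  tblEq : ∀ i j, tbl (π i) (τ j) = tbl i j
  ddEq : ∀ j, H.dd f e (τ j) = H.dd f e j
  uuEq : ∀ j, H.uu f e (τ j) = H.uu f e j
  out : ∀ x ∈ outside (trivIrr G) f, autPerm σ x ∈ outside (trivIrr G) f

theorem exists_moves (S : H.Shp D tbl f e) (hcol : ∀ j, ∃ i, tbl i j ≠ 0)
    (hpos : ∀ i j, 0 ≤ tbl i j) {σ : ℂ ≃+* ℂ} {π : Equiv.Perm (Fin 3)}
    (hπ : ∀ i k, σ (D.θ i k) = D.θ (π i) k) : ∃ τ, Moves H D f e tbl σ π τ := by
  have key : ∀ j, ∃ j', autPerm σ (f j) = f j' ∧ (∀ i, tbl (π i) j' = tbl i j) ∧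
      e (f j') = e (f j) ∧ H.dd f e j' = H.dd f e j ∧ H.uu f e j' = H.uu f e j := fun j => by
    obtain ⟨j', hj', h | h⟩ := H.aut_image D S hcol σ hπ j
    · exact ⟨j', hj', h⟩
    · exfalso
      obtain ⟨i, hi⟩ := hcol j
      have := h i
      have := hpos (π i) j'
      have := hpos i j
      omega
  choose τ h1 h2 h3 h4 h5 using key
  have hinj : Function.Injective τ := fun a b h =>
    S.inj ((autPerm σ).injective (by rw [h1, h1, h]))
  have hbij : Function.Bijective τ := Finite.injective_iff_bijective.1 hinj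
  refine ⟨τ, hbij, h1, h3, fun i j => h2 j i, h4, h5, fun x hx => ?_⟩
  obtain ⟨hx0, hxf⟩ := mem_outside.1 hx
  refine mem_outside.2 ⟨fun h => hx0 ((autPerm σ).injective (h.trans ?_)), fun j h => ?_⟩
  · refine Subtype.ext (funext fun g => ?_)
    rw [autPerm_coe, trivIrr_coe, map_one]
  · obtain ⟨j', rfl⟩ := hbij.2 j
    rw [← h1] at h
    exact hxf j' ((autPerm σ).injective h)

variable {σ : ℂ ≃+* ℂ} {π : Equiv.Perm (Fin 3)} {τ : Fin k → Fin k}

theorem Moves.pp_eq (M : Moves H D f e tbl σ π τ) {F F' : G → ℂ}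
    (hF : Cfsg.IsGeneralizedCharacter G F) (hF' : Cfsg.IsGeneralizedCharacter G F')
    (h : ∀ g, σ (F g) = F' g) (j : Fin k) : pp f e F' (τ j) = pp f e F j := by
  rw [pp, pp, M.sign, ← M.map, coef_aut σ hF hF' h]

theorem One.unique {F : G → ℂ} {Z x : Cfsg.IrrCharacter G} (hZ : One F f Z)
    (hx : x ∈ outside (trivIrr G) f) (h : coef F x ≠ 0) : x = Z :=
  by_contra fun hne => h (hZ.only x hx hne)

/-- The single outside constituent is moved to the single outside constituent, with its sign. -/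
theorem Moves.one (M : Moves H D f e tbl σ π τ) {F F' : G → ℂ}
    (hF : Cfsg.IsGeneralizedCharacter G F) (hF' : Cfsg.IsGeneralizedCharacter G F')
    (h : ∀ g, σ (F g) = F' g) {Z Z' : Cfsg.IrrCharacter G} (hZ : One F f Z) (hZ' : One F' f Z') :
    coef F' Z' = coef F Z := by
  have hc := coef_aut σ hF hF' h Z
  have hne : coef F' (autPerm σ Z) ≠ 0 := by
    rw [hc]; rcases hZ.unit with e | e <;> rw [e] <;> norm_num
  rw [← hZ'.unique (M.out _ hZ.mem) hne, hc]

/-- The outside part of a product of two vectors, each with a single constituent there. -/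
theorem One.pair {F F' : G → ℂ} {Z Z' : Cfsg.IrrCharacter G} (hZ : One F f Z) (hZ' : One F' f Z') :
    ∑ x ∈ outside (trivIrr G) f, coef F x * coef F' x =
      if Z = Z' then coef F Z * coef F' Z' else 0 := by
  rw [hZ.sum_int]
  split_ifs with h
  · rw [h]
  · rw [hZ'.only Z hZ.mem h, mul_zero]

theorem One.mul_self {F : G → ℂ} {Z : Cfsg.IrrCharacter G} (hZ : One F f Z) :
    coef F Z * coef F Z = 1 := by
  rcases hZ.unit with e | e <;> rw [e] <;> norm_num

/-- The outside part is bounded by one. -/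
theorem One.pair_abs {F F' : G → ℂ} {Z Z' : Cfsg.IrrCharacter G} (hZ : One F f Z)
    (hZ' : One F' f Z') : |∑ x ∈ outside (trivIrr G) f, coef F x * coef F' x| ≤ 1 := by
  rw [hZ.pair hZ']
  split_ifs
  · rcases hZ.unit with e | e <;> rcases hZ'.unit with e' | e' <;> rw [e, e'] <;> norm_num
  · norm_num

end Setup

end Cfsg.Agent.JT
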