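import Mathlib
import Cfsg.Agent.Lib.JT.TorusFun

/-!
The functions attached to the centralizers `A × A₄` and `A × A₅` of elements of the torus: interfaces.
-/

set_option autoImplicit false
set_option linter.unusedSectionVars false

namespace Cfsg.Agent.JT.Setup.Torus

universe u v

variable {G : Type u} [Group G] [Fintype G] {K : Type v} [Group K] [Fintype K] {H : Setup G K}
  {D : KData K} (W : H.Torus D)

/-- The functions induced from `(1 - l) ω ^ j` on `(A × V) ⋊ ⟨z⟩`, `l` invariant under `z`. -/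
structure FourFuns [Fintype (Cfsg.IrrCharacter G)] (l : W.A →* ℂˣ) (F : Fin 3 → G → ℂ) : Prop where
  gen : ∀ j, Cfsg.IsGeneralizedCharacter G (F j)
  inner : ∀ j k, Cfsg.classInner (F j) (F k) = if j = k then 3 else 0
  inner_true : ∀ j, Cfsg.classInner (F j) (W.fn l true) = 0
  triv : ∀ j, Cfsg.classInner (F j) (fun _ => 1) = if j = 0 then 1 else 0
  theta : ∀ j i, Cfsg.classInner (F j) (H.ind (D.θ i)) = if i = 2 then 0 else 1
  one : ∀ j, F j 1 = 0
  at_t : ∀ j, F j H.t = 0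
  conj : ∀ j g, (starRingEnd ℂ) (F j g) = F (-j) g
  sum : ∀ g, W.fn l false g = F 0 g + F 1 g + F 2 g
  recip : ∀ j, (Nat.card G : ℂ) *
      ∑ χ, (coef (F j) χ : ℂ) * ((χ : G → ℂ) H.t) ^ 2 / (χ : G → ℂ) 1 =
    (Nat.card H.C : ℂ) ^ 2 * ((Nat.card W.A : ℂ) * (4 / 3))

/-- The inner products of the characters of `A₅` with the trivial character and the functions `θ`. -/
def fiveSign : Fin 5 → ℤ := ![1, -1, -1, 0, 1]

/-- `(1 / 60) ∑ χ(x) n(x)`, `n(x)` the number of `u` with `u² = (u x)² = 1`, for the five characters. -/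
noncomputable def fiveRecip : Fin 5 → ℂ := ![64 / 15, 4 / 5, 4 / 5, 1 / 15, 4 / 3]

/-- The functions induced from `(1 - l) χ` on `A × A₅`, `χ` of degrees `1, 3, 3, 4, 5`. -/
structure FiveFuns [Fintype (Cfsg.IrrCharacter G)] (F : (W.A →* ℂˣ) → Fin 5 → G → ℂ) : Prop where
  gen : ∀ l j, Cfsg.IsGeneralizedCharacter G (F l j)
  inner : ∀ l l', l ≠ 1 → l' ≠ 1 → ∀ [Decidable (l = l')] [Decidable (l = l'⁻¹)] j k,
    Cfsg.classInner (F l j) (F l' k) =
      if j = k then 2 + (if l = l' then 1 else 0) + (if l = l'⁻¹ then 1 else 0) else 0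
  triv : ∀ l, l ≠ 1 → ∀ j, Cfsg.classInner (F l j) (fun _ => 1) = if j = 0 then 1 else 0
  theta : ∀ l, l ≠ 1 → ∀ j i, Cfsg.classInner (F l j) (H.ind (D.θ i)) =
    (fiveSign j : ℂ) * if i = 2 then 0 else 1
  one : ∀ l j, F l j 1 = 0
  at_t : ∀ l j, F l j H.t = 0
  fn_false : ∀ l g, W.fn l false g = F l 0 g + F l 3 g + 2 * F l 4 g
  fn_true : ∀ l g, W.fn l true g = F l 1 g + F l 2 g + F l 3 g + F l 4 g
  recip : ∀ l, l ≠ 1 → ∀ j, (Nat.card G : ℂ) *
      ∑ χ, (coef (F l j) χ : ℂ) * ((χ : G → ℂ) H.t) ^ 2 / (χ : G → ℂ) 1 =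
    (Nat.card H.C : ℂ) ^ 2 * ((Nat.card W.A : ℂ) * fiveRecip j)
  /-- An automorphism squaring the fifth roots of unity exchanges the two of degree three. -/
  galois : ∀ σ : ℂ ≃+* ℂ, (∀ w : ℂ, w ^ 5 = 1 → σ w = w ^ 2) → ∀ l j g,
    σ (F l j g) = F ((Units.map σ.toRingHom.toMonoidHom).comp l) (Equiv.swap 1 2 j) g

/-- The case `A₄`. -/
def FourExists [Fintype (Cfsg.IrrCharacter G)] : Prop := H.Local → W.NoFive →
  ∀ l : W.A →* ℂˣ, l ≠ 1 → (∀ a, l (W.zA a) = l a) → ∃ F, W.FourFuns l F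

/-- The case `A₅`. -/
def FiveExists [Fintype (Cfsg.IrrCharacter G)] : Prop := H.Local → ¬ W.NoFive →
  (∀ a : W.A, W.zA a = a) ∧ ∃ F, W.FiveFuns F

end Cfsg.Agent.JT.Setup.Torus
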