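import Mathlib
import Cfsg.Agent.Lib.JT.TorusVec

/-!
A character of the torus moved by `z`, read on shape A: two options.
-/

set_option autoImplicit false
set_option linter.unusedSectionVars false
set_option linter.style.haveILetI false

namespace Cfsg.Agent.JT.Setup

open Cfsg.Agent.Characters Lattice
open scoped ComplexConjugate

universe u v

variable {G : Type u} [Group G] [Fintype G] [Fintype (Cfsg.IrrCharacter G)]
  [DecidableEq (Cfsg.IrrCharacter G)] {K : Type v} [Group K] [Fintype K] [DecidableEq K]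
  {H : Setup G K} {D : KData K} (W : H.Torus D)
  {e : Cfsg.IrrCharacter G → ℤ}

/-- The patterns of the first option: the function of norm three, then the function of norm seven. -/
def optOnePat : List (List ℤ × List ℤ) :=
  [([-1, 0, 0, 0, 0, 1, 0], [0, 1, 1, 1, 1, 0, -1]),
   ([-1, 0, 0, 0, 0, 0, 1], [0, 1, 1, 1, 1, -1, 0])]

/-- The patterns of the second option. -/
def optTwoPat : List (List ℤ × List ℤ) :=
  [([0, 0, -1, 0, -1, 0, 0], [1, 1, 0, 1, 0, -1, -1]),
   ([0, 0, -1, -1, 0, 0, 0], [1, 1, 0, 0, 1, -1, -1]),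
   ([0, -1, 0, 0, -1, 0, 0], [1, 0, 1, 1, 0, -1, -1]),
   ([0, -1, 0, -1, 0, 0, 0], [1, 0, 1, 0, 1, -1, -1])]

/-- The eight ways to name a common private character and its partners. -/
def fourPerms : List (Fin 7 × Fin 7 × Fin 7 × Fin 7) :=
  [(1, 2, 3, 4), (1, 2, 4, 3), (2, 1, 3, 4), (2, 1, 4, 3),
    (3, 4, 1, 2), (3, 4, 2, 1), (4, 3, 1, 2), (4, 3, 2, 1)]

/-- The inner product of two lists. -/
def dot (a b : List ℤ) : ℤ := (List.zipWith (· * ·) a b).sum

set_option synthInstance.maxSize 4000 in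
set_option synthInstance.maxHeartbeats 100000 in
theorem combosA :
    ∀ a ∈ solA (-1) (-1) 0 3, ∀ b ∈ solA 2 2 (-1) 6,
      dot a a = 2 ∧ dot b b = 5 ∧ dot a b ≠ 1 ∧
      (dot a b = 0 → (a, b) ∈ optOnePat ++ optTwoPat) ∧
      (dot a b = -1 →
        (∃ i i' : Fin 7, ((i = 5 ∧ i' = 6) ∨ (i = 6 ∧ i' = 5)) ∧
          a = List.ofFn (fun j : Fin 7 => (if j = 0 then -1 else if j = i then 1 else 0 : ℤ)) ∧
          b = List.ofFn (fun j : Fin 7 =>
            (if j = i then -1 else if j = 0 ∨ j = i' then 0 else 1 : ℤ))) ∨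
        ∃ t ∈ fourPerms,
          a = List.ofFn (fun j : Fin 7 => (if j = t.1 ∨ j = t.2.2.1 then -1 else 0 : ℤ)) ∧
          b = List.ofFn (fun j : Fin 7 =>
            (if j = 5 ∨ j = 6 then -1 else if j = 0 ∨ j = t.1 ∨ j = t.2.2.2 then 1 else 0 : ℤ))) := by
  decide +kernel

theorem fourPerms_row : ∀ t ∈ fourPerms, ∃ io : Fin 3, io ≠ 2 ∧
    ∀ j, tableA io j = if j = 0 ∨ j = t.1 ∨ j = t.2.1 then 1 else 0 := by decide +kernel

theorem dot_ofFn (p q : Fin 7 → ℤ) : dot (List.ofFn p) (List.ofFn q) = ∑ j, p j * q j := by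
  simp [dot, List.ofFn_succ, Fin.sum_univ_succ]

/-- The parts on the shape of the two torus functions. -/
noncomputable def patA (f : Fin 7 → Cfsg.IrrCharacter G) (e : Cfsg.IrrCharacter G → ℤ)
    (l : W.A →* ℂˣ) : List ℤ × List ℤ :=
  (List.ofFn (pp f e (W.fn l true)), List.ofFn (pp f e (W.fn l false)))

variable (hL : H.Local) (hN : W.NoFive)
include hL hN

/-- The first variant of the first option is impossible. -/
theorem not_altOne [IsSimpleGroup G] {f : Fin 7 → Cfsg.IrrCharacter G} (S : H.Shp D tableA f e)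
    (hA : AlignA H f e) {l : W.A →* ℂˣ} (hl : l ≠ 1) {Y : Cfsg.IrrCharacter G}
    (hY : One (W.fn l true) f Y) (hY' : One (W.fn l false) f Y)
    (hcY : coef (W.fn l false) Y = coef (W.fn l true) Y)
    (h0 : coef (W.fn l true) (trivIrr G) = 0) (h1 : coef (W.fn l false) (trivIrr G) = 1)
    {i i' : Fin 7} (hii : (i = 5 ∧ i' = 6) ∨ (i = 6 ∧ i' = 5))
    (hμ : ∀ j, pp f e (W.fn l true) j = if j = 0 then -1 else if j = i then 1 else 0)
    (hone : ∀ j, pp f e (W.fn l false) j =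
      if j = i then -1 else if j = 0 ∨ j = i' then 0 else 1) : False := by
  have hz : zd (W.fn l false) Y = zd (W.fn l true) Y := by rw [zd, zd, hcY]
  have hzu : H.zu (W.fn l false) Y = H.zu (W.fn l true) Y := by rw [zu, zu, hcY]
  have eμ := H.vec_one D S (W.isGen_fn l true) (W.fn_one l true)
  have tμ := H.vec_t D S (W.isGen_fn l true) (W.fn_t l true)
  have e1 := H.vec_one D S (W.isGen_fn l false) (W.fn_one l false)
  have t1 := H.vec_t D S (W.isGen_fn l false) (W.fn_t l false)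
  have rμ := H.vec_recip D S (W.isGen_fn l true) W (c := 0) (by
    rw [H.torus_recip D hL W hN hl true]; norm_num)
  rw [hY.sum_int fun x => (deg x : ℤ)] at eμ
  rw [hY.sum_int H.T] at tμ
  rw [hY'.sum_int fun x => (deg x : ℤ)] at e1
  rw [hY'.sum_int H.T] at t1
  rw [hY.sum fun x => (H.T x : ℚ) ^ 2 / (deg x : ℚ), One.term H hY, mul_zero] at rμ
  have rμ' := (mul_eq_zero.1 rμ).resolve_left (H.gq_pos D).ne'
  simp only [show coef (W.fn l false) Y * (deg Y : ℤ) = zd (W.fn l false) Y from rfl,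
    show coef (W.fn l true) Y * (deg Y : ℤ) = zd (W.fn l true) Y from rfl,
    show coef (W.fn l false) Y * H.T Y = H.zu (W.fn l false) Y from rfl,
    show coef (W.fn l true) Y * H.T Y = H.zu (W.fn l true) Y from rfl] at eμ tμ e1 t1
  rw [hz] at e1
  rw [hzu] at t1
  have hd := H.dd_sum D hL S 0
  have hd1 := H.dd_sum D hL S 1
  have hu := H.uu_sum D hL S 0
  have hu1 := H.uu_sum D hL S 1
  have hzne := One.zd_ne hY
  have hne := H.dd_ne D S i
  have hne0 := H.dd_ne D S 0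
  have hlt := H.uu_lt D S i
  have hQ := D.Q_eq
  simp [Fin.sum_univ_succ, tableA] at hd hd1 hu hu1
  simp only [Fin.sum_univ_seven, hμ, hone, h0, h1] at eμ tμ e1 t1 rμ'
  rcases hii with ⟨rfl, rfl⟩ | ⟨rfl, rfl⟩ <;> simp [Fin.ext_iff] at eμ tμ e1 t1 rμ'
  all_goals
    refine Arith.altOne (x := D.x) (R := H.dd f e 0) (uR := H.uu f e 0) D.x_facts.2.1
      (by linarith) (by linarith) ?_ hlt
  · have hzd : H.dd f e 0 = H.dd f e 5 + zd (W.fn l true) Y := by linarith
    have hzu' : H.uu f e 0 = H.uu f e 5 + H.zu (W.fn l true) Y := by linarith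
    have hab : (H.dd f e 5 : ℚ) + (zd (W.fn l true) Y : ℚ) ≠ 0 := by
      rw [← Int.cast_add, ← hzd]; exact Int.cast_ne_zero.2 hne0
    have key := Arith.proportional (u := (H.uu f e 5 : ℚ)) (v := (H.zu (W.fn l true) Y : ℚ))
      (Int.cast_ne_zero.2 hne) (Int.cast_ne_zero.2 hzne) hab (by
        rw [hzd, hzu'] at rμ'
        push_cast at rμ'
        linarith)
    have key' : H.uu f e 5 * zd (W.fn l true) Y = H.zu (W.fn l true) Y * H.dd f e 5 := by
      exact_mod_cast key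
    rw [hzd, hzu']
    linarith
  · have hzd : H.dd f e 0 = H.dd f e 6 + zd (W.fn l true) Y := by linarith
    have hzu' : H.uu f e 0 = H.uu f e 6 + H.zu (W.fn l true) Y := by linarith
    have hab : (H.dd f e 6 : ℚ) + (zd (W.fn l true) Y : ℚ) ≠ 0 := by
      rw [← Int.cast_add, ← hzd]; exact Int.cast_ne_zero.2 hne0
    have key := Arith.proportional (u := (H.uu f e 6 : ℚ)) (v := (H.zu (W.fn l true) Y : ℚ))
      (Int.cast_ne_zero.2 hne) (Int.cast_ne_zero.2 hzne) hab (by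
        rw [hzd, hzu'] at rμ'
        push_cast at rμ'
        linarith)
    have key' : H.uu f e 6 * zd (W.fn l true) Y = H.zu (W.fn l true) Y * H.dd f e 6 := by
      exact_mod_cast key
    rw [hzd, hzu']
    linarith

/-- The second variant of the second option is impossible. -/
theorem not_twoB [IsSimpleGroup G] {f : Fin 7 → Cfsg.IrrCharacter G} (S : H.Shp D tableA f e)
    (hA : AlignA H f e) {l : W.A →* ℂˣ} (hl : l ≠ 1) {Y : Cfsg.IrrCharacter G}
    (hY : One (W.fn l true) f Y) (hY' : One (W.fn l false) f Y)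
    (hcY : coef (W.fn l false) Y = coef (W.fn l true) Y)
    (h0 : coef (W.fn l true) (trivIrr G) = 0) (h1 : coef (W.fn l false) (trivIrr G) = 1)
    {o o' q q' : Fin 7} {io : Fin 3} (hio : io ≠ 2)
    (hrow : ∀ j, tableA io j = if j = 0 ∨ j = o ∨ j = o' then 1 else 0)
    (hperm : (o, o', q, q') ∈ ([(1, 2, 3, 4), (1, 2, 4, 3), (2, 1, 3, 4), (2, 1, 4, 3),
      (3, 4, 1, 2), (3, 4, 2, 1), (4, 3, 1, 2), (4, 3, 2, 1)] : List (Fin 7 × Fin 7 × Fin 7 × Fin 7)))
    (hμ : ∀ j, pp f e (W.fn l true) j = if j = o ∨ j = q then -1 else 0)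
    (hone : ∀ j, pp f e (W.fn l false) j =
      if j = 5 ∨ j = 6 then -1 else if j = 0 ∨ j = o ∨ j = q' then 1 else 0) : False := by
  have hz : zd (W.fn l false) Y = zd (W.fn l true) Y := by rw [zd, zd, hcY]
  have hzu : H.zu (W.fn l false) Y = H.zu (W.fn l true) Y := by rw [zu, zu, hcY]
  have eμ := H.vec_one D S (W.isGen_fn l true) (W.fn_one l true)
  have tμ := H.vec_t D S (W.isGen_fn l true) (W.fn_t l true)
  have e1 := H.vec_one D S (W.isGen_fn l false) (W.fn_one l false)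
  have t1 := H.vec_t D S (W.isGen_fn l false) (W.fn_t l false)
  have rμ := H.vec_recip D S (W.isGen_fn l true) W (c := 0) (by
    rw [H.torus_recip D hL W hN hl true]; norm_num)
  have r1 := H.vec_recip D S (W.isGen_fn l false) W (c := 4) (by
    rw [H.torus_recip D hL W hN hl false]; norm_num)
  rw [hY.sum_int fun x => (deg x : ℤ)] at eμ
  rw [hY.sum_int H.T] at tμ
  rw [hY'.sum_int fun x => (deg x : ℤ)] at e1
  rw [hY'.sum_int H.T] at t1
  rw [hY.sum fun x => (H.T x : ℚ) ^ 2 / (deg x : ℚ), One.term H hY, mul_zero] at rμ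
  rw [hY'.sum fun x => (H.T x : ℚ) ^ 2 / (deg x : ℚ), One.term H hY'] at r1
  have rμ' := (mul_eq_zero.1 rμ).resolve_left (H.gq_pos D).ne'
  simp only [show coef (W.fn l false) Y * (deg Y : ℤ) = zd (W.fn l false) Y from rfl,
    show coef (W.fn l true) Y * (deg Y : ℤ) = zd (W.fn l true) Y from rfl,
    show coef (W.fn l false) Y * H.T Y = H.zu (W.fn l false) Y from rfl,
    show coef (W.fn l true) Y * H.T Y = H.zu (W.fn l true) Y from rfl] at eμ tμ e1 t1
  rw [hz] at e1 r1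
  rw [hzu] at t1 r1
  obtain ⟨a3, a4, b3, b4⟩ := hA
  have hd := H.dd_sum D hL S 0
  have hd1 := H.dd_sum D hL S 1
  have hd2 := H.dd_sum D hL S 2
  have hu := H.uu_sum D hL S 0
  have hu1 := H.uu_sum D hL S 1
  have hu2 := H.uu_sum D hL S 2
  have hE := H.theta_recip D hL S io
  have hE3 := H.theta_recip D hL S 2
  rw [if_neg hio] at hE
  rw [if_pos rfl] at hE3
  have hodd : Odd (H.m D 0 (f o) + H.m D 1 (f o) + H.m D 2 (f o)) := by
    rw [S.val' 0 o, S.val' 1 o, S.val' 2 o, ← mul_add, ← mul_add]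
    refine Odd.mul ?_ ?_
    · rcases S.unit (f o) with e' | e' <;> rw [e'] <;> decide
    · clear * - hperm; revert o o' q q'; decide
  have huo : H.uu f e o = D.x + 2 * D.x * H.ff D f e o := by
    rw [uu, ff, H.T_eq D hL (H.mψ_odd D hL hodd), S.val' 0 o, S.val' 1 o, S.val' 2 o]
    have hs : tableA 0 o + tableA 1 o = 1 ∧ tableA 2 o = 0 := by
      clear * - hperm; revert o o' q q'; decide
    rcases S.unit (f o) with e' | e' <;> rw [e'] <;> rcases hs with ⟨s1, s2⟩ <;> rw [s2] <;>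
      linear_combination D.x * s1
  have hlt := H.uu_lt D S o
  have hff := H.ff_le D hL S W o
  have hno := H.dd_ne D S o
  have hnq := H.dd_ne D S q
  have hzne := One.zd_ne hY
  have hQ := D.Q_eq
  have hxm := D.x_mod
  have hxf := D.x_facts
  have hg := (H.gq_pos D).ne'
  simp [Fin.sum_univ_succ, tableA] at hd hd1 hd2 hu hu1 hu2
  simp only [Fin.sum_univ_seven, hμ, hone, h0, h1] at eμ tμ e1 t1 rμ' r1
  simp only [Fin.sum_univ_seven, hrow] at hE
  simp [Fin.sum_univ_seven, tableA] at hE3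
  have key0 : -(H.dd f e o + H.dd f e q) + zd (W.fn l true) Y = 0 ∧
      -(H.uu f e o + H.uu f e q) + H.zu (W.fn l true) Y = 0 ∧
      1 + H.dd f e 0 + H.dd f e o + H.dd f e q' - H.dd f e 5 - H.dd f e 6 + zd (W.fn l true) Y = 0 ∧
      1 + H.uu f e 0 + H.uu f e o + H.uu f e q' - H.uu f e 5 - H.uu f e 6 + H.zu (W.fn l true) Y = 0 ∧
      H.dd f e 0 + H.dd f e o + H.dd f e o' = -1 ∧ H.dd f e 0 + H.dd f e q + H.dd f e q' = -1 ∧
      H.uu f e 0 + H.uu f e o + H.uu f e o' = D.Q + 2 ∧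
      H.uu f e 0 + H.uu f e q + H.uu f e q' = D.Q + 2 ∧
      (H.dd f e o' = H.dd f e o → H.dd f e q' = H.dd f e q) ∧
      -((H.uu f e o : ℚ) ^ 2 / H.dd f e o + (H.uu f e q : ℚ) ^ 2 / H.dd f e q) +
        (H.zu (W.fn l true) Y : ℚ) ^ 2 / zd (W.fn l true) Y = 0 ∧
      H.gq D * (1 + (H.uu f e 0 : ℚ) ^ 2 / H.dd f e 0 + (H.uu f e o : ℚ) ^ 2 / H.dd f e o +
        (H.uu f e q' : ℚ) ^ 2 / H.dd f e q' - (H.uu f e 5 : ℚ) ^ 2 / H.dd f e 5 -
        (H.uu f e 6 : ℚ) ^ 2 / H.dd f e 6 + (H.zu (W.fn l true) Y : ℚ) ^ 2 / zd (W.fn l true) Y) =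
          4 * ((D.x : ℚ) * ((D.x : ℚ) - 1)) ^ 2 * 4 ∧
      H.gq D * (1 + (H.uu f e 0 : ℚ) ^ 2 / H.dd f e 0 + (H.uu f e o : ℚ) ^ 2 / H.dd f e o +
        (H.uu f e o' : ℚ) ^ 2 / H.dd f e o') = 8 * (D.x : ℚ) ^ 2 * (D.Q : ℚ) * ((D.x : ℚ) + 1) := by
    simp only [List.mem_cons, Prod.mk.injEq, List.not_mem_nil, or_false] at hperm
    rcases hperm with ⟨rfl, rfl, rfl, rfl⟩ | ⟨rfl, rfl, rfl, rfl⟩ | ⟨rfl, rfl, rfl, rfl⟩ |
      ⟨rfl, rfl, rfl, rfl⟩ | ⟨rfl, rfl, rfl, rfl⟩ | ⟨rfl, rfl, rfl, rfl⟩ | ⟨rfl, rfl, rfl, rfl⟩ |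
      ⟨rfl, rfl, rfl, rfl⟩ <;> simp [Fin.ext_iff] at eμ tμ e1 t1 rμ' r1 hE <;>
      refine ⟨by linarith, by linarith, by linarith, by linarith, by linarith, by linarith, by linarith,
        by linarith, fun h => by linarith, by linarith, ?_, ?_⟩ <;>
        first | linear_combination r1 | linear_combination hE
  obtain ⟨k1, k2, k3, k4, k5, k6, k7, k8, k9, k10, k11, k12⟩ := key0
  have hdo' : H.dd f e o' = H.dd f e o := by linarith
  have hdq' := k9 hdo'
  have hdq : H.dd f e q = H.dd f e o := by linarith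
  have hzd : zd (W.fn l true) Y = 2 * H.dd f e o := by linarith
  have hzu' : H.zu (W.fn l true) Y = H.uu f e o + H.uu f e q := by linarith
  have hR : H.dd f e 0 = -1 - 2 * H.dd f e o := by linarith
  have hoq : (H.dd f e o : ℚ) ≠ 0 := Int.cast_ne_zero.2 hno
  rw [hzd, hzu', hdq] at k10
  push_cast at k10
  have key := Arith.proportional (u := (H.uu f e o : ℚ)) (v := (H.uu f e q : ℚ)) hoq hoq
    (by rw [← two_mul]; exact mul_ne_zero two_ne_zero hoq) (by rw [← two_mul]; linarith)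
  have key' : H.uu f e q = H.uu f e o := by exact_mod_cast (mul_right_cancel₀ hoq key).symm
  have hw' : H.uu f e q' = H.uu f e o' := by linarith
  have hw : H.uu f e o' = 8 * D.x + H.uu f e o := by linarith
  have huR : H.uu f e 0 = -(6 * D.x - 1) - 2 * H.uu f e o := by linarith
  have hQq : (D.Q : ℚ) = 2 * (D.x : ℚ) - 1 := by rw [D.Q_eq]; push_cast; ring
  rw [hzd, hzu', key', hw', hdq', hdq] at k11
  rw [hdo', hQq] at k12
  push_cast at k11
  refine Arith.twoB (x := D.x) (P := H.dd f e o) (v := H.uu f e o) (R := H.dd f e 0)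
    (uR := H.uu f e 0) (w := H.uu f e o') (a := H.ff D f e o) (g := H.gq D) hxm
    (by rcases abs_cases D.x with ⟨e', he'⟩ | ⟨e', he'⟩ <;> omega) hg hR huR hw
    (by rw [huo]; ring) hff hlt ?_ ?_
  · rw [show ((H.uu f e o : ℚ) + H.uu f e o) ^ 2 / (2 * (H.dd f e o : ℚ)) =
      2 * ((H.uu f e o : ℚ) ^ 2 / (H.dd f e o : ℚ)) by field_simp; ring] at k11
    linear_combination k11 - k12 + hE3
  · linear_combination k12

/-- A moved character on shape A: one of the two options. -/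
theorem pat_A [IsSimpleGroup G] {f : Fin 7 → Cfsg.IrrCharacter G} (S : H.Shp D tableA f e)
    (hA : AlignA H f e) {l : W.A →* ℂˣ} (hl : l ≠ 1) (hz : ∃ a, l (W.zA a) ≠ l a) :
    patA W f e l ∈ optOnePat ++ optTwoPat := by
  obtain ⟨hgen, n1, nμ, nμ1, t1, tμ, th1, thμ⟩ := H.torus_vec D hL W hN hl hz
  obtain ⟨c0, mμ⟩ := H.pp_mem_A D S (hgen true) nμ tμ (thμ 0) (thμ 1) (thμ 2) (by norm_num)
  obtain ⟨c1, m1⟩ := H.pp_mem_A D S (hgen false) n1 t1 (th1 0) (th1 1) (th1 2) (by norm_num)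
  simp only [if_neg (show (0 : Fin 3) ≠ 2 by decide), if_neg (show (1 : Fin 3) ≠ 2 by decide),
    if_true] at mμ m1
  rw [show solA (-1 - 0) (-1 - 0) (0 - 0) (3 - 0 * 0) = solA (-1) (-1) 0 3 from rfl] at mμ
  rw [show solA (3 - 1) (3 - 1) (0 - 1) (7 - 1 * 1) = solA 2 2 (-1) 6 from rfl] at m1
  obtain ⟨haa, hbb, hne1, hzero, hbad⟩ := combosA _ mμ _ m1
  rw [dot_ofFn] at haa hbb hne1 hzero hbad
  obtain ⟨Y, hY⟩ := H.exists_one D S (hgen true) nμ (by rw [c0, haa]; norm_num)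
  obtain ⟨Y', hY'⟩ := H.exists_one D S (hgen false) n1 (by rw [c1, hbb]; norm_num)
  have hin := H.vec_inner D S (hgen true) (hgen false) nμ1
  rw [c0, c1, hY.sum_int, zero_mul, zero_add] at hin
  by_cases h : coef (W.fn l false) Y = 0
  · rw [h, mul_zero, add_zero] at hin
    exact hzero hin
  · have hYY : One (W.fn l false) f Y := by
      have : Y = Y' := by_contra fun hne => h (hY'.only Y hY.mem hne)
      subst this
      exact hY'
    rcases hY.unit with ea | ea <;> rcases hYY.unit with eb | eb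
    case inl.inr => rw [ea, eb] at hin; exact absurd (by linarith) hne1
    case inr.inl => rw [ea, eb] at hin; exact absurd (by linarith) hne1
    all_goals
      exfalso
      have hab : coef (W.fn l false) Y = coef (W.fn l true) Y := by rw [ea, eb]
      rw [ea, eb] at hin
      rcases hbad (by linarith) with ⟨i, i', hii, hp, hp'⟩ | ⟨⟨o, o', q, q'⟩, ht, hp, hp'⟩
      · exact not_altOne W hL hN S hA hl hY hYY hab c0 c1 hii (congrFun (List.ofFn_inj.1 hp))
          (congrFun (List.ofFn_inj.1 hp'))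
      · obtain ⟨io, hio, hr⟩ := fourPerms_row _ ht
        exact not_twoB W hL hN S hA hl hY hYY hab c0 c1 hio hr ht (congrFun (List.ofFn_inj.1 hp))
          (congrFun (List.ofFn_inj.1 hp'))

end Cfsg.Agent.JT.Setup
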