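import Mathlib
import Cfsg.Agent.Lib.JT.TorusVec
import Cfsg.Agent.Lib.JT.NonInvA

/-!
A character of the torus moved by `z`, read on shape B: two options.
-/

set_option autoImplicit false
set_option linter.unusedSectionVars false
set_option linter.style.haveILetI false

namespace Cfsg.Agent.JT.Setup

open Cfsg.Agent.Characters Lattice
open scoped ComplexConjugate

universe u v

variable {G : Type u} [Group G] [Fintype G] [Fintype (Cfsg.IrrCharacter G)]
  [DecidableEq (Cfsg.IrrCharacter G)] {K : Type v} [Group K] [Fintype K] [DecidableEq K]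
  {H : Setup G K} {D : KData K} (W : H.Torus D)
  {e : Cfsg.IrrCharacter G → ℤ}

/-- The patterns of the two options on shape B. -/
def optBPat : List (List ℤ × List ℤ) :=
  [([0, 0, -1, 0, 0, 0], [0, 0, 1, 1, 1, -1]), ([0, 0, 0, -1, -1, 0], [0, 0, 2, 0, 0, -1])]

/-- The parts on the shape of the two torus functions. -/
noncomputable def patB (f : Fin 6 → Cfsg.IrrCharacter G) (e : Cfsg.IrrCharacter G → ℤ)
    (l : W.A →* ℂˣ) : List ℤ × List ℤ :=
  (List.ofFn (pp f e (W.fn l true)), List.ofFn (pp f e (W.fn l false)))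

theorem combosB :
    ∀ a ∈ solB (-1) (-1) 0 3, ∀ b ∈ solB 2 2 (-1) 6,
      (a = [-1, 0, 0, 0, -1, 1] ∨ a = [0, -1, 0, -1, 0, 1]) ∨
      (dot a a ≤ 2 ∧ dot b b ≤ 6 ∧
        (|dot a b| ≤ 3 - dot a a → |dot a b| ≤ 6 - dot b b → (a, b) ∈ optBPat)) := by
  decide +kernel

theorem dot_ofFn_six (p q : Fin 6 → ℤ) : dot (List.ofFn p) (List.ofFn q) = ∑ j, p j * q j := by
  simp [dot, List.ofFn_succ, Fin.sum_univ_succ]

theorem abs_cross_le {ι : Type*} [Fintype ι] [DecidableEq ι] {s : Finset ι} {c c' : ι → ℤ} (hc' : ∑ x ∈ s, c' x * c' x ≤ 3) :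
    |∑ x ∈ s, c x * c' x| ≤ ∑ x ∈ s, c x * c x := by
  classical
  refine (Finset.abs_sum_le_sum_abs _ _).trans (Finset.sum_le_sum fun x hx => ?_)
  by_cases h : c x = 0
  · simp [h]
  · have h1 : |c' x| ≤ 1 := by
      by_cases h' : c' x = 0
      · simp [h']
      · rcases rest_unit hc' hx h' with e' | e' <;> rw [e'] <;> norm_num
    rw [abs_mul, ← abs_mul_abs_self (c x)]
    exact mul_le_mul_of_nonneg_left (h1.trans (Int.one_le_abs h)) (abs_nonneg _)

variable (hL : H.Local) (hN : W.NoFive)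
include hL hN

/-- The variant without an outside constituent is impossible. -/
theorem not_optC [IsSimpleGroup G] {f : Fin 6 → Cfsg.IrrCharacter G} (S : H.Shp D tableB f e)
    {l : W.A →* ℂˣ} (hl : l ≠ 1) (hz : ∃ a, l (W.zA a) ≠ l a)
    (h : List.ofFn (pp f e (W.fn l true)) = [-1, 0, 0, 0, -1, 1] ∨
      List.ofFn (pp f e (W.fn l true)) = [0, -1, 0, -1, 0, 1]) : False := by
  obtain ⟨hgen, n1, nμ, nμ1, t1, tμ, th1, thμ⟩ := H.torus_vec D hL W hN hl hz
  have c0 := coef_triv (hgen true) tμ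
  have hn := H.vec_inner D S (hgen true) (hgen true) nμ
  have hpp : ∑ j, pp f e (W.fn l true) j * pp f e (W.fn l true) j = 3 := by
    rw [← dot_ofFn_six]
    rcases h with h | h <;> rw [h] <;> rfl
  rw [c0, hpp] at hn
  have hrest := rest_zero (s := outside (trivIrr G) f) (c := coef (W.fn l true)) (by linarith)
  have eμ := H.vec_one D S (hgen true) (W.fn_one l true)
  have tμ' := H.vec_t D S (hgen true) (W.fn_t l true)
  have rμ := H.vec_recip D S (hgen true) W (c := 0) (by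
    rw [H.torus_recip D hL W hN hl true]; norm_num)
  rw [c0, Finset.sum_eq_zero (s := outside (trivIrr G) f) (fun x hx => by rw [hrest x hx, zero_mul])] at eμ tμ'
  rw [c0, Finset.sum_eq_zero (s := outside (trivIrr G) f) (fun x hx => by rw [hrest x hx, Int.cast_zero, zero_mul]), mul_zero] at rμ
  have rμ' := (mul_eq_zero.1 rμ).resolve_left (H.gq_pos D).ne'
  obtain ⟨a0, a4, b0, b4⟩ := H.alignB D hL S
  have hd := H.dd_sum D hL S 2
  have hu := H.uu_sum D hL S 2
  simp [Fin.sum_univ_succ, tableB] at hd hu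
  have key : H.dd f e 5 = -1 - 2 * H.dd f e 1 ∧ H.dd f e 3 = -1 - 3 * H.dd f e 1 ∧
      H.uu f e 5 = 1 - 2 * D.Q - 2 * H.uu f e 1 ∧ H.uu f e 3 = 1 - 2 * D.Q - 3 * H.uu f e 1 ∧
      -((H.uu f e 1 : ℚ) ^ 2 / H.dd f e 1) - (H.uu f e 3 : ℚ) ^ 2 / H.dd f e 3 +
        (H.uu f e 5 : ℚ) ^ 2 / H.dd f e 5 = 0 := by
    simp [List.ofFn_succ] at h
    rcases h with ⟨q0, q1, q2, q3, q4, q5⟩ | ⟨q0, q1, q2, q3, q4, q5⟩ <;>
      simp [Fin.sum_univ_succ, q0, q1, q2, q3, q4, q5] at eμ tμ' rμ' <;>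
      simp only [a0, a4, b0, b4] at eμ tμ' rμ' hd hu <;>
      refine ⟨by linarith, by linarith, by linarith, by linarith, by linarith⟩
  obtain ⟨k1, k2, k3, k4, k5⟩ := key
  refine Arith.optC (Q := D.Q) (Y := H.dd f e 1) (v := H.uu f e 1) D.Q_gt (H.dd_ne D S 1) ?_
    (H.uu_lt D S 1)
  rw [k1, k2, k3, k4] at k5
  push_cast at k5
  rw [show (-1 : ℚ) - 3 * (H.dd f e 1 : ℚ) = -(1 + 3 * (H.dd f e 1 : ℚ)) by ring,
    show (-1 : ℚ) - 2 * (H.dd f e 1 : ℚ) = -(1 + 2 * (H.dd f e 1 : ℚ)) by ring, div_neg, div_neg] at k5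
  linarith

/-- A moved character on shape B: one of the two options. -/
theorem pat_B [IsSimpleGroup G] {f : Fin 6 → Cfsg.IrrCharacter G} (S : H.Shp D tableB f e)
    {l : W.A →* ℂˣ} (hl : l ≠ 1) (hz : ∃ a, l (W.zA a) ≠ l a) :
    patB W f e l ∈ optBPat := by
  obtain ⟨hgen, n1, nμ, nμ1, t1, tμ, th1, thμ⟩ := H.torus_vec D hL W hN hl hz
  obtain ⟨c0, mμ⟩ := H.pp_mem_B D S (hgen true) nμ tμ (thμ 0) (thμ 1) (thμ 2) (by norm_num)
  obtain ⟨c1, m1⟩ := H.pp_mem_B D S (hgen false) n1 t1 (th1 0) (th1 1) (th1 2) (by norm_num)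
  simp only [if_neg (show (0 : Fin 3) ≠ 2 by decide), if_neg (show (1 : Fin 3) ≠ 2 by decide),
    if_true] at mμ m1
  rw [show solB (-1 - 0) (-1 - 0) (0 - 0) (3 - 0 * 0) = solB (-1) (-1) 0 3 from rfl] at mμ
  rw [show solB (3 - 1) (3 - 1) (0 - 1) (7 - 1 * 1) = solB 2 2 (-1) 6 from rfl] at m1
  rcases combosB _ mμ _ m1 with hC | ⟨haa, hbb, hcross⟩
  · exact absurd hC fun h => not_optC W hL hN S hl hz h
  rw [dot_ofFn_six] at haa hbb
  rw [dot_ofFn_six, dot_ofFn_six, dot_ofFn_six] at hcross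
  have hin := H.vec_inner D S (hgen true) (hgen false) nμ1
  have hnμ := H.vec_inner D S (hgen true) (hgen true) nμ
  have hn1 := H.vec_inner D S (hgen false) (hgen false) n1
  rw [c0] at hin hnμ
  rw [c1] at hin hn1
  set s := outside (trivIrr G) f
  set c := coef (W.fn l true)
  set c' := coef (W.fn l false)
  have h3 : ∑ x ∈ s, c x * c x ≤ 3 := by
    linarith [Finset.sum_nonneg (s := Finset.univ) fun j _ => mul_self_nonneg (pp f e (W.fn l true) j)]
  refine hcross ?_ ?_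
  · by_cases hb : ∑ x ∈ s, c' x * c' x ≤ 3
    · have := abs_cross_le (c := c) (c' := c') hb
      rw [show ∑ j, pp f e (W.fn l true) j * pp f e (W.fn l false) j = -∑ x ∈ s, c x * c' x by linarith,
        abs_neg]
      linarith
    · exfalso
      have hb2 : ∀ b ∈ solB 2 2 (-1) 6, 4 ≤ dot b b := by decide +kernel
      have := hb2 _ m1
      rw [dot_ofFn_six] at this
      push Not at hb
      linarith
  · have h := abs_cross_le (c := c') (c' := c) h3
    rw [Finset.sum_congr rfl fun x _ => mul_comm (c' x) (c x)] at h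
    rw [show ∑ j, pp f e (W.fn l true) j * pp f e (W.fn l false) j = -∑ x ∈ s, c x * c' x by linarith,
      abs_neg]
    linarith

end Cfsg.Agent.JT.Setup
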