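import Mathlib
import Cfsg.Agent.Lib.JT.CaseFiveMainGalois
import Cfsg.Agent.Lib.JT.NonInvA
import Cfsg.Agent.Lib.JT.NonInvB
import Cfsg.Agent.Lib.JT.FunsDefs

/-!
The functions of degree three of `A₅` read on the shapes: shape B is impossible, and on shape A
their parts are the two crossed pairs of private constituents.
-/

set_option autoImplicit false
set_option linter.unusedSectionVars false
set_option linter.style.haveILetI false

namespace Cfsg.Agent.JT.Setup

open Cfsg.Agent.Characters Lattice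
open scoped ComplexConjugate

universe u v

variable {G : Type u} [Group G] [Fintype G] [Fintype (Cfsg.IrrCharacter G)]
  [DecidableEq (Cfsg.IrrCharacter G)] {K : Type v} [Group K] [Fintype K] [DecidableEq K]
  {H : Setup G K} {D : KData K} {W : H.Torus D} {F : (W.A →* ℂˣ) → Fin 5 → G → ℂ}
  {e : Cfsg.IrrCharacter G → ℤ}

theorem five_comp_ne {l : W.A →* ℂˣ} (hl : l ≠ 1) (σ : ℂ ≃+* ℂ) :
    (Units.map σ.toRingHom.toMonoidHom).comp l ≠ 1 := fun h => hl <| MonoidHom.ext fun a =>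
  Units.ext <| σ.injective <| by
    have := congrArg Units.val (DFunLike.congr_fun h a)
    simpa using this

theorem five_inv_ne {l : W.A →* ℂˣ} (hl : l ≠ 1) : l ≠ l⁻¹ := fun h => hl <| MonoidHom.ext fun a => by
  have h2 : l a * l a = 1 := by
    nth_rw 1 [h]
    rw [MonoidHom.inv_apply, inv_mul_cancel]
  obtain ⟨c, hc⟩ := W.A_odd
  have h3 : l a ^ Nat.card W.A = 1 := by rw [← map_pow, pow_card_eq_one', map_one]
  rw [hc, pow_succ, pow_mul, pow_two, h2, one_pow, one_mul] at h3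
  rw [h3, MonoidHom.one_apply]

theorem five_norm (hF : W.FiveFuns F) {l : W.A →* ℂˣ} (hl : l ≠ 1) (j : Fin 5) :
    Cfsg.classInner (F l j) (F l j) = ((3 : ℤ) : ℂ) := by
  classical
  rw [hF.inner l l hl hl j j, if_pos rfl, if_pos rfl, if_neg (five_inv_ne hl)]
  norm_num

theorem five_orth (hF : W.FiveFuns F) {l l' : W.A →* ℂˣ} (hl : l ≠ 1) (hl' : l' ≠ 1) {j k : Fin 5}
    (h : j ≠ k) : Cfsg.classInner (F l j) (F l' k) = ((0 : ℤ) : ℂ) := by
  classical
  rw [hF.inner l l' hl hl' j k, if_neg h]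
  norm_num

theorem five_triv (hF : W.FiveFuns F) {l : W.A →* ℂˣ} (hl : l ≠ 1) (j : Fin 5) :
    Cfsg.classInner (F l j) (fun _ => 1) = ((if j = 0 then 1 else 0 : ℤ) : ℂ) := by
  rw [hF.triv l hl j]
  split_ifs <;> norm_num

theorem five_theta (hF : W.FiveFuns F) {l : W.A →* ℂˣ} (hl : l ≠ 1) (j : Fin 5) (i : Fin 3) :
    Cfsg.classInner (F l j) (H.ind (D.θ i)) =
      ((Torus.fiveSign j * if i = 2 then 0 else 1 : ℤ) : ℂ) := by
  rw [hF.theta l hl j i]
  split_ifs <;> norm_num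

section B

variable {f : Fin 6 → Cfsg.IrrCharacter G}

theorem combosFiveB :
    ∀ a ∈ solB (-1) (-1) 0 3, ∀ b ∈ solB (-1) (-1) 0 3,
      a.getD 2 0 = b.getD 2 0 → a.getD 5 0 = b.getD 5 0 →
      (dot a a = 3 ∧ 1 ≤ dot a b) ∨ (dot a a = 2 ∧ dot b b = 2 ∧ 2 ≤ dot a b) ∨
        (a = [0, 0, -1, 0, 0, 0] ∧ b = [0, 0, -1, 0, 0, 0]) := by
  decide +kernel

theorem fixedB : ∀ π : Equiv.Perm (Fin 3), π 2 = 2 → ∀ j : Fin 6,
    ((∀ i, tableB (π i) j = tableB i 2) → j = 2) ∧ ((∀ i, tableB (π i) j = tableB i 5) → j = 5) := by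
  decide +kernel

theorem five_pp_B (hF : W.FiveFuns F) (S : H.Shp D tableB f e) {l : W.A →* ℂˣ} (hl : l ≠ 1)
    {j : Fin 5} (hj : j = 1 ∨ j = 2) :
    coef (F l j) (trivIrr G) = 0 ∧ List.ofFn (pp f e (F l j)) ∈ solB (-1) (-1) 0 3 := by
  have h := H.pp_mem_B D S (hF.gen l j) (five_norm hF hl j) (five_triv hF hl j)
    (five_theta hF hl j 0) (five_theta hF hl j 1) (five_theta hF hl j 2) (by
      rcases hj with rfl | rfl <;> decide)
  rcases hj with rfl | rfl <;> exact h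

/-- Shape B is impossible. -/
theorem five_not_B (hL : H.Local) (hF : W.FiveFuns F) (S : H.Shp D tableB f e) {σ : ℂ ≃+* ℂ}
    (hσ : ∀ w : ℂ, w ^ 5 = 1 → σ w = w ^ 2) {π : Equiv.Perm (Fin 3)} (hπ2 : π 2 = 2)
    (hπ : ∀ i k, σ (D.θ i k) = D.θ (π i) k) {l : W.A →* ℂˣ} (hl : l ≠ 1) : False := by
  obtain ⟨τ, M⟩ := exists_moves S (by decide) (by decide) hπ
  have hl' := five_comp_ne hl σ
  have hg : ∀ g, σ (F l 1 g) = F ((Units.map σ.toRingHom.toMonoidHom).comp l) 2 g := fun g => by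
    rw [hF.galois σ hσ l 1 g, show Equiv.swap (1 : Fin 5) 2 1 = 2 from Equiv.swap_apply_left 1 2]
  have gF := hF.gen l 1
  have gF' := hF.gen ((Units.map σ.toRingHom.toMonoidHom).comp l) 2
  obtain ⟨c0, m1⟩ := five_pp_B hF S hl (Or.inl rfl)
  obtain ⟨c0', m2⟩ := five_pp_B hF S hl' (Or.inr rfl)
  have hin := H.vec_inner D S gF gF' (five_orth hF hl hl' (by decide))
  have hn := H.vec_inner D S gF gF (five_norm hF hl 1)
  have hn' := H.vec_inner D S gF' gF' (five_norm hF hl' 2)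
  rw [c0, c0', zero_mul, zero_add] at hin
  rw [c0, zero_mul, zero_add] at hn
  rw [c0', zero_mul, zero_add] at hn'
  have p2 := M.pp_eq gF gF' hg 2
  have p5 := M.pp_eq gF gF' hg 5
  rw [(fixedB π hπ2 (τ 2)).1 fun i => M.tblEq i 2] at p2
  rw [(fixedB π hπ2 (τ 5)).2 fun i => M.tblEq i 5] at p5
  rcases combosFiveB _ m1 _ m2 (by simp [List.ofFn_succ]; exact p2.symm)
      (by simp [List.ofFn_succ]; exact p5.symm) with ⟨ha, hd⟩ | ⟨ha, hb, hd⟩ | ⟨ha, hb⟩
  · rw [dot_ofFn_six] at ha hd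
    have h0 := rest_zero (s := outside (trivIrr G) f) (c := coef (F l 1)) (by linarith)
    rw [Finset.sum_eq_zero (s := outside (trivIrr G) f) fun x hx => by rw [h0 x hx, zero_mul]] at hin
    linarith
  · rw [dot_ofFn_six] at ha hb hd
    obtain ⟨Z, hZ⟩ := H.exists_one D S gF (five_norm hF hl 1) (by rw [c0, ha]; norm_num)
    obtain ⟨Z', hZ'⟩ := H.exists_one D S gF' (five_norm hF hl' 2) (by rw [c0', hb]; norm_num)
    have := abs_le.1 (hZ.pair_abs hZ')
    linarith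
  · have hp : ∀ j, pp f e (F l 1) j = if j = 2 then -1 else 0 := by
      simp [List.ofFn_succ] at ha
      obtain ⟨a0, a1, a2, a3, a4, a5⟩ := ha
      intro j
      fin_cases j <;> simpa
    have hd : ∑ j, pp f e (F l 1) j *
        pp f e (F ((Units.map σ.toRingHom.toMonoidHom).comp l) 2) j = 1 := by
      rw [← dot_ofFn_six, ha, hb]; rfl
    have hd1 : ∑ j, pp f e (F l 1) j * pp f e (F l 1) j = 1 := by
      rw [← dot_ofFn_six, ha]; rfl
    obtain ⟨z, hz, w, hw, hzw, uz, uw, honly⟩ :=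
      rest_two (s := outside (trivIrr G) f) (c := coef (F l 1)) (by linarith)
    set c := coef (F l 1) with hc
    set c' := coef (F ((Units.map σ.toRingHom.toMonoidHom).comp l) 2) with hc'
    have hsum : c z * c' z + c w * c' w = -1 := by
      have := rest_pair (M := ℤ) (c := c) hz hw hzw honly c'
      simp only [Int.cast_id] at this
      linarith
    -- the products are `0`, `1`, or that of a swap
    have hprod : ∀ x ∈ outside (trivIrr G) f, ∀ y ∈ outside (trivIrr G) f, (x = z ∧ y = w) ∨ (x = w ∧ y = z) →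
        c x * c' x = 0 ∨ c x * c' x = 1 ∨ (autPerm σ y = x ∧ c x * c' x = c x * c y) := by
      intro x hx y _ hxy
      by_cases h0 : c' x = 0
      · exact Or.inl (by rw [h0, mul_zero])
      obtain ⟨p, rfl⟩ := (autPerm σ).surjective x
      have hcp : c' (autPerm σ p) = c p := coef_aut σ gF gF' hg p
      rw [hcp] at h0
      have hp0 : p ∈ outside (trivIrr G) f := by
        refine mem_outside.2 ⟨fun h => (mem_outside.1 hx).1 ?_, fun j h => (mem_outside.1 hx).2 (τ j) ?_⟩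
        · rw [h]
          refine Subtype.ext (funext fun g => ?_)
          rw [autPerm_coe, trivIrr_coe, map_one]
        · rw [h]; exact M.map j
      rcases hxy with ⟨hx', hy'⟩ | ⟨hx', hy'⟩ <;>
      · by_cases hpx : p = autPerm σ p
        · right; left
          rw [hcp, ← hpx]
          rcases (show c p = 1 ∨ c p = -1 by
            by_cases h1 : p = z
            · rw [h1]; exact uz
            by_cases h2 : p = w
            · rw [h2]; exact uw
            exact absurd (honly p hp0 h1 h2) h0) with e | e <;> rw [e] <;> norm_num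
        · refine Or.inr (Or.inr ?_)
          have hpy : p = y := by
            by_contra hne
            by_cases h1 : p = z
            · first | exact hne (h1.trans hy'.symm) | exact hpx (h1.trans hx'.symm)
            by_cases h2 : p = w
            · first | exact hne (h2.trans hy'.symm) | exact hpx (h2.trans hx'.symm)
            exact h0 (honly p hp0 h1 h2)
          subst hpy
          exact ⟨rfl, by rw [hcp]⟩
    have hswap : c z * c w = -1 ∧ deg z = deg w := by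
      rcases hprod z hz w hw (Or.inl ⟨rfl, rfl⟩) with h | h | ⟨hs, h⟩ <;>
        rcases hprod w hw z hz (Or.inr ⟨rfl, rfl⟩) with h' | h' | ⟨hs', h'⟩ <;>
        rcases uz with e1 | e1 <;> rcases uw with e2 | e2 <;>
        rw [h, h'] at hsum <;> simp only [e1, e2] at hsum ⊢ <;>
        first
        | (exfalso; norm_num at hsum; done)
        | exact ⟨by norm_num, by rw [← hs, deg_autPerm]⟩
        | exact ⟨by norm_num, by rw [← hs', deg_autPerm]⟩
    have e1 := H.vec_one D S gF (hF.one l 1)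
    have hr := rest_pair (M := ℤ) (c := c) hz hw hzw honly fun x => (deg x : ℤ)
    simp only [Int.cast_id] at hr
    simp only [← hc] at e1
    rw [c0, hr, hswap.2] at e1
    simp only [hp] at e1
    simp [Fin.sum_univ_succ] at e1
    have hneg : c z = -c w := by
      rcases uz with a | a <;> rcases uw with b | b <;> have := hswap.1 <;> rw [a, b] at this <;> omega
    rw [hneg] at e1
    exact H.dd_ne D S 2 (by linarith)

end B

section A

variable {f : Fin 7 → Cfsg.IrrCharacter G}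

theorem five_pp_A (hF : W.FiveFuns F) (S : H.Shp D tableA f e) {l : W.A →* ℂˣ} (hl : l ≠ 1) :
    (∀ j, j = 1 ∨ j = 2 →
      coef (F l j) (trivIrr G) = 0 ∧ List.ofFn (pp f e (F l j)) ∈ solA (-1) (-1) 0 3) ∧
    (coef (F l 4) (trivIrr G) = 0 ∧ List.ofFn (pp f e (F l 4)) ∈ solA 1 1 0 3) ∧
    (coef (F l 0) (trivIrr G) = 1 ∧ List.ofFn (pp f e (F l 0)) ∈ solA 0 0 (-1) 2) := by
  have h : ∀ j, _ := fun j => H.pp_mem_A D S (hF.gen l j) (five_norm hF hl j) (five_triv hF hl j)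
    (five_theta hF hl j 0) (five_theta hF hl j 1) (five_theta hF hl j 2) (by split_ifs <;> norm_num)
  refine ⟨fun j hj => ?_, h 4, h 0⟩
  rcases hj with rfl | rfl
  · exact h 1
  · exact h 2

/-- The crossed pairs. -/
def fiveP : List ℤ := [0, -1, 0, 0, -1, 0, 0]

/-- The crossed pairs. -/
def fiveP' : List ℤ := [0, 0, -1, -1, 0, 0, 0]

theorem combosFiveA :
    ∀ a ∈ solA (-1) (-1) 0 3, ∀ b ∈ solA (-1) (-1) 0 3, a.getD 0 0 = b.getD 0 0 →
      dot a a = 2 ∧ dot b b = 2 ∧ 0 ≤ dot a b ∧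
      (dot a b = 0 → (a = fiveP ∧ b = fiveP') ∨ (a = fiveP' ∧ b = fiveP) ∨
        (a = [0, -1, 0, -1, 0, 0, 0] ∧ b = [0, 0, -1, 0, -1, 0, 0]) ∨
        (a = [0, 0, -1, 0, -1, 0, 0] ∧ b = [0, -1, 0, -1, 0, 0, 0])) := by
  decide +kernel

set_option synthInstance.maxSize 4000 in
set_option synthInstance.maxHeartbeats 100000 in
theorem fixedA : ∀ π : Equiv.Perm (Fin 3), π 2 = 2 → ∀ j : Fin 7,
    ((∀ i, tableA (π i) j = tableA i 0) → j = 0) ∧
    ((∀ i, tableA (π i) j = tableA i 1) → (π = 1 ∧ (j = 1 ∨ j = 2)) ∨ (π ≠ 1 ∧ (j = 3 ∨ j = 4))) ∧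
    ((∀ i, tableA (π i) j = tableA i 2) → (π = 1 ∧ (j = 1 ∨ j = 2)) ∨ (π ≠ 1 ∧ (j = 3 ∨ j = 4))) := by
  decide +kernel

/-- The crossed pairs with equal degrees and values contradict the counting identity. -/
theorem five_not_equal (hL : H.Local) (hF : W.FiveFuns F) (S : H.Shp D tableA f e) (hA : AlignA H f e)
    {l : W.A →* ℂˣ} (hl : l ≠ 1) {Z : Cfsg.IrrCharacter G} (hZ : One (F l 1) f Z)
    (hp : List.ofFn (pp f e (F l 1)) ∈ ([fiveP, fiveP', [0, -1, 0, -1, 0, 0, 0],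
      [0, 0, -1, 0, -1, 0, 0]] : List (List ℤ)))
    (hd : H.dd f e 2 = H.dd f e 1) (hu : H.uu f e 2 = H.uu f e 1) : False := by
  obtain ⟨a3, a4, b3, b4⟩ := hA
  obtain ⟨c0, -⟩ := (five_pp_A hF S hl).1 1 (Or.inl rfl)
  have e1 := H.vec_one D S (hF.gen l 1) (hF.one l 1)
  have t1 := H.vec_t D S (hF.gen l 1) (hF.at_t l 1)
  have r1 := H.vec_recip D S (hF.gen l 1) W (c := 4 / 5) (by
    rw [hF.recip l hl 1]; simp [Torus.fiveRecip])
  rw [hZ.sum_int fun x => (deg x : ℤ)] at e1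
  rw [hZ.sum_int H.T] at t1
  rw [hZ.sum fun x => (H.T x : ℚ) ^ 2 / (deg x : ℚ), One.term H hZ] at r1
  simp only [show coef (F l 1) Z * (deg Z : ℤ) = zd (F l 1) Z from rfl,
    show coef (F l 1) Z * H.T Z = H.zu (F l 1) Z from rfl] at e1 t1
  have hne : (H.dd f e 1 : ℚ) ≠ 0 := Int.cast_ne_zero.2 (H.dd_ne D S 1)
  have hzd : zd (F l 1) Z = 2 * H.dd f e 1 ∧ H.zu (F l 1) Z = 2 * H.uu f e 1 ∧
      ∑ j, (pp f e (F l 1) j : ℚ) * ((H.uu f e j : ℚ) ^ 2 / (H.dd f e j : ℚ)) =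
        -2 * ((H.uu f e 1 : ℚ) ^ 2 / (H.dd f e 1 : ℚ)) := by
    simp [fiveP, fiveP', List.ofFn_succ] at hp
    rcases hp with h | h | h | h <;> obtain ⟨q0, q1, q2, q3, q4, q5, q6⟩ := h <;>
      simp [Fin.sum_univ_succ, c0, q0, q1, q2, q3, q4, q5, q6] at e1 t1 ⊢ <;>
      simp only [a3, a4, b3, b4, hd, hu] at e1 t1 ⊢ <;>
      exact ⟨by linarith, by linarith, by ring⟩
  obtain ⟨z1, z2, z3⟩ := hzd
  rw [c0, z1, z2, z3] at r1
  push_cast at r1
  rw [show ((2 : ℚ) * (H.uu f e 1 : ℚ)) ^ 2 / (2 * (H.dd f e 1 : ℚ)) =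
    2 * ((H.uu f e 1 : ℚ) ^ 2 / (H.dd f e 1 : ℚ)) by field_simp] at r1
  have hx : (D.x : ℚ) * ((D.x : ℚ) - 1) ≠ 0 := by
    obtain ⟨-, h0, h1, -⟩ := D.x_facts
    exact mul_ne_zero (Int.cast_ne_zero.2 h0) (sub_ne_zero.2 (by exact_mod_cast h1))
  have := sq_pos_iff.2 hx
  linarith

/-- On shape A the parts of the two functions of degree three are the crossed pairs, and the
automorphism exchanges the first two functions. -/
theorem five_A_one (hL : H.Local) (hF : W.FiveFuns F) (S : H.Shp D tableA f e) (hA : AlignA H f e)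
    {σ : ℂ ≃+* ℂ} (hσ : ∀ w : ℂ, w ^ 5 = 1 → σ w = w ^ 2) {π : Equiv.Perm (Fin 3)} (hπ2 : π 2 = 2)
    (hπ : ∀ i k, σ (D.θ i k) = D.θ (π i) k) {l : W.A →* ℂˣ} (hl : l ≠ 1) :
    π ≠ 1 ∧
      ((List.ofFn (pp f e (F l 1)) = fiveP ∧
        List.ofFn (pp f e (F ((Units.map σ.toRingHom.toMonoidHom).comp l) 2)) = fiveP') ∨
      (List.ofFn (pp f e (F l 1)) = fiveP' ∧
        List.ofFn (pp f e (F ((Units.map σ.toRingHom.toMonoidHom).comp l) 2)) = fiveP)) := by
  obtain ⟨τ, M⟩ := exists_moves S (by decide) (by decide) hπ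
  have hl' := five_comp_ne hl σ
  have hg : ∀ g, σ (F l 1 g) = F ((Units.map σ.toRingHom.toMonoidHom).comp l) 2 g := fun g => by
    rw [hF.galois σ hσ l 1 g, show Equiv.swap (1 : Fin 5) 2 1 = 2 from Equiv.swap_apply_left 1 2]
  have gF := hF.gen l 1
  have gF' := hF.gen ((Units.map σ.toRingHom.toMonoidHom).comp l) 2
  obtain ⟨c0, m1⟩ := (five_pp_A hF S hl).1 1 (Or.inl rfl)
  obtain ⟨c0', m2⟩ := (five_pp_A hF S hl').1 2 (Or.inr rfl)
  have hin := H.vec_inner D S gF gF' (five_orth hF hl hl' (by decide))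
  rw [c0, c0', zero_mul, zero_add] at hin
  have p0 := M.pp_eq gF gF' hg 0
  rw [(fixedA π hπ2 (τ 0)).1 fun i => M.tblEq i 0] at p0
  obtain ⟨ha, hb, hge, hzero⟩ := combosFiveA _ m1 _ m2 (by simp [List.ofFn_succ]; exact p0.symm)
  rw [dot_ofFn] at ha hb hge hzero
  obtain ⟨Z, hZ⟩ := H.exists_one D S gF (five_norm hF hl 1) (by rw [c0, ha]; norm_num)
  obtain ⟨Z', hZ'⟩ := H.exists_one D S gF' (five_norm hF hl' 2) (by rw [c0', hb]; norm_num)
  have hout : (0 : ℤ) ≤ ∑ x ∈ outside (trivIrr G) f,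
      coef (F l 1) x * coef (F ((Units.map σ.toRingHom.toMonoidHom).comp l) 2) x := by
    rw [hZ.pair hZ', M.one gF gF' hg hZ hZ', hZ.mul_self]
    split_ifs <;> norm_num
  have hpat := hzero (by linarith)
  obtain ⟨a3, a4, b3, b4⟩ := id hA
  -- the images of the two named indices
  have h1 := (fixedA π hπ2 (τ 1)).2.1 fun i => M.tblEq i 1
  have h2 := (fixedA π hπ2 (τ 2)).2.2 fun i => M.tblEq i 2
  have p1 := M.pp_eq gF gF' hg 1
  have p2 := M.pp_eq gF gF' hg 2
  have d1 := M.ddEq 1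
  have d2 := M.ddEq 2
  have u1 := M.uuEq 1
  have u2 := M.uuEq 2
  rcases hpat with ⟨hp, hp'⟩ | ⟨hp, hp'⟩ | ⟨hp, hp'⟩ | ⟨hp, hp'⟩
  all_goals
    have hq := hp
    have hq' := hp'
    simp [fiveP, fiveP', List.ofFn_succ] at hq hq'
    obtain ⟨q0, q1, q2, q3, q4, q5, q6⟩ := hq
    obtain ⟨r0, r1, r2, r3, r4, r5, r6⟩ := hq'
  · rcases h1 with ⟨-, e | e⟩ | ⟨hne, e | e⟩ <;> rw [e] at p1 d1 u1
    · exact absurd (r1.symm.trans (p1.trans q1)) (by norm_num)
    · exact absurd (five_not_equal hL hF S hA hl hZ (by rw [hp]; simp) d1 u1) id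
    · exact ⟨hne, Or.inl ⟨hp, hp'⟩⟩
    · exact absurd (r4.symm.trans (p1.trans q1)) (by norm_num)
  · rcases h2 with ⟨-, e | e⟩ | ⟨hne, e | e⟩ <;> rw [e] at p2 d2 u2
    · exact absurd (five_not_equal hL hF S hA hl hZ (by rw [hp]; simp) d2.symm u2.symm) id
    · exact absurd (r2.symm.trans (p2.trans q2)) (by norm_num)
    · exact absurd (r3.symm.trans (p2.trans q2)) (by norm_num)
    · exact ⟨hne, Or.inr ⟨hp, hp'⟩⟩
  · rcases h1 with ⟨-, e | e⟩ | ⟨-, e | e⟩ <;> rw [e] at p1 d1 u1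
    · exact absurd (r1.symm.trans (p1.trans q1)) (by norm_num)
    · exact absurd (five_not_equal hL hF S hA hl hZ (by rw [hp]; simp) d1 u1) id
    · exact absurd (r3.symm.trans (p1.trans q1)) (by norm_num)
    · exact absurd (five_not_equal hL hF S hA hl hZ (by rw [hp]; simp) (a4.symm.trans d1)
        (b4.symm.trans u1)) id
  · rcases h2 with ⟨-, e | e⟩ | ⟨-, e | e⟩ <;> rw [e] at p2 d2 u2
    · exact absurd (five_not_equal hL hF S hA hl hZ (by rw [hp]; simp) d2.symm u2.symm) id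
    · exact absurd (r2.symm.trans (p2.trans q2)) (by norm_num)
    · exact absurd (five_not_equal hL hF S hA hl hZ (by rw [hp]; simp) (d2.symm.trans a3)
        (u2.symm.trans b3)) id
    · exact absurd (r4.symm.trans (p2.trans q2)) (by norm_num)

end A

end Cfsg.Agent.JT.Setup
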