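import Mathlib
import Cfsg.Agent.Lib.JT.CaseFiveMainShape

/-!
The functions of degree one and five on shape A, and the congruence for the values at `t`.
-/

set_option autoImplicit false
set_option linter.unusedSectionVars false
set_option linter.style.haveILetI false

namespace Cfsg.Agent.JT

open Cfsg.Agent.Characters
open scoped ComplexConjugate

universe u v

/-- The two functions with the same private constituent: the counting identities disagree. -/
theorem five_same {g u X : ℚ} {d : ℤ} (hX : X ≠ 0) (hd : d ≠ 0) (hd1 : d ≠ 1)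
    (h0 : g * (1 - u ^ 2 / d + (u - 1) ^ 2 / (d - 1)) = 4 * X ^ 2 * (64 / 15))
    (h4 : g * ((2 * u - 1) ^ 2 / (2 * d - 1) - u ^ 2 / d - (u - 1) ^ 2 / (d - 1)) =
      4 * X ^ 2 * (4 / 3)) : False := by
  have h1 : (d : ℚ) ≠ 0 := Int.cast_ne_zero.2 hd
  have h2 : (d : ℚ) - 1 ≠ 0 := sub_ne_zero.2 (by exact_mod_cast hd1)
  have h3 : 2 * (d : ℚ) - 1 ≠ 0 := by
    have : (2 * d - 1 : ℤ) ≠ 0 := by omega
    exact_mod_cast this
  have e0 : g * ((u - d) ^ 2 / ((d : ℚ) * (d - 1))) = 4 * X ^ 2 * (64 / 15) := by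
    rw [← h0]; congr 1; field_simp; ring
  have e4 : g * ((u - d) ^ 2 / ((d : ℚ) * (d - 1))) = -(4 * X ^ 2 * (4 / 3) * (2 * d - 1)) := by
    have hid : (2 * u - 1) ^ 2 / (2 * (d : ℚ) - 1) - u ^ 2 / d - (u - 1) ^ 2 / (d - 1) =
        -((u - d) ^ 2 / ((d : ℚ) * (d - 1))) / (2 * d - 1) := by
      field_simp; ring
    rw [hid, mul_div, div_eq_iff h3] at h4
    linarith
  have h5 : X ^ 2 * (5 * (2 * (d : ℚ) - 1) + 16) = 0 := by linarith [e0, e4]
  have h6 : (5 * (2 * d - 1) + 16 : ℤ) = 0 := by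
    exact_mod_cast (mul_eq_zero.1 h5).resolve_left (pow_ne_zero _ hX)
  omega

namespace Setup

open Lattice

variable {G : Type u} [Group G] [Fintype G] [Fintype (Cfsg.IrrCharacter G)]
  [DecidableEq (Cfsg.IrrCharacter G)] {K : Type v} [Group K] [Fintype K] [DecidableEq K]
  {H : Setup G K} {D : KData K} {W : H.Torus D} {F : (W.A →* ℂˣ) → Fin 5 → G → ℂ}
  {e : Cfsg.IrrCharacter G → ℤ} {f : Fin 7 → Cfsg.IrrCharacter G}

/-- The two private pairs with the third function. -/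
def fiveRest : List (List ℤ × List ℤ) :=
  [([1, 0, 0, 0, 0, -1, 0], [0, 0, 0, 0, 0, 0, -1]), ([1, 0, 0, 0, 0, 0, -1], [0, 0, 0, 0, 0, -1, 0])]

theorem combosFour :
    ∀ a ∈ solA 1 1 0 3, ∀ b ∈ solA 0 0 (-1) 2, dot a a = 2 ∧ dot b b = 1 ∧
      (dot a fiveP + dot a fiveP' = -2 ∨
        ((a, b) ∈ fiveRest) ∨
        ∃ i : Fin 7, (i = 5 ∨ i = 6) ∧
          a = List.ofFn (fun j : Fin 7 => (if j = 0 then 1 else if j = i then -1 else 0 : ℤ)) ∧
          b = List.ofFn (fun j : Fin 7 => (if j = i then -1 else 0 : ℤ))) := by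
  decide +kernel

/-- The functions of degree five and one use different private constituents of the third function. -/
theorem five_A_rest (hL : H.Local) (hF : W.FiveFuns F) (S : H.Shp D tableA f e) {l : W.A →* ℂˣ}
    (hl : l ≠ 1)
    (h12 : (List.ofFn (pp f e (F l 1)) = fiveP ∧ List.ofFn (pp f e (F l 2)) = fiveP') ∨
      (List.ofFn (pp f e (F l 1)) = fiveP' ∧ List.ofFn (pp f e (F l 2)) = fiveP)) :
    (List.ofFn (pp f e (F l 4)), List.ofFn (pp f e (F l 0))) ∈ fiveRest := by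
  obtain ⟨h12', ⟨c4, m4⟩, ⟨c0, m0⟩⟩ := five_pp_A hF S hl
  obtain ⟨c1, -⟩ := h12' 1 (Or.inl rfl)
  obtain ⟨c2, -⟩ := h12' 2 (Or.inr rfl)
  obtain ⟨ha, hb, h⟩ := combosFour _ m4 _ m0
  rw [dot_ofFn] at ha hb
  have hp1 : ∑ j, pp f e (F l 1) j * pp f e (F l 1) j = 2 := by
    rw [← dot_ofFn]; rcases h12 with ⟨e1, -⟩ | ⟨e1, -⟩ <;> rw [e1] <;> rfl
  have hp2 : ∑ j, pp f e (F l 2) j * pp f e (F l 2) j = 2 := by
    rw [← dot_ofFn]; rcases h12 with ⟨-, e2⟩ | ⟨-, e2⟩ <;> rw [e2] <;> rfl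
  obtain ⟨Z4, hZ4⟩ := H.exists_one D S (hF.gen l 4) (five_norm hF hl 4) (by rw [c4, ha]; norm_num)
  obtain ⟨Z1, hZ1⟩ := H.exists_one D S (hF.gen l 1) (five_norm hF hl 1) (by rw [c1, hp1]; norm_num)
  obtain ⟨Z2, hZ2⟩ := H.exists_one D S (hF.gen l 2) (five_norm hF hl 2) (by rw [c2, hp2]; norm_num)
  obtain ⟨Z0, hZ0⟩ := H.exists_one D S (hF.gen l 0) (five_norm hF hl 0) (by rw [c0, hb]; norm_num)
  rcases h with h | h | ⟨i, hi, hp4, hp0⟩
  · exfalso
    have e41 := H.vec_inner D S (hF.gen l 4) (hF.gen l 1) (five_orth hF hl hl (by decide))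
    have e42 := H.vec_inner D S (hF.gen l 4) (hF.gen l 2) (five_orth hF hl hl (by decide))
    have e12 := H.vec_inner D S (hF.gen l 1) (hF.gen l 2) (five_orth hF hl hl (by decide))
    have b1 := abs_le.1 (hZ4.pair_abs hZ1)
    have b2 := abs_le.1 (hZ4.pair_abs hZ2)
    rw [c4, c1] at e41
    rw [c4, c2] at e42
    rw [c1, c2] at e12
    rw [hZ4.pair hZ1] at e41 b1
    rw [hZ4.pair hZ2] at e42 b2
    rw [hZ1.pair hZ2, ← dot_ofFn] at e12
    rw [← dot_ofFn] at e41 e42
    have hsum : dot (List.ofFn (pp f e (F l 4))) (List.ofFn (pp f e (F l 1))) +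
        dot (List.ofFn (pp f e (F l 4))) (List.ofFn (pp f e (F l 2))) = -2 := by
      rcases h12 with ⟨e1, e2⟩ | ⟨e1, e2⟩ <;> rw [e1, e2] <;> linarith
    have h0 : dot (List.ofFn (pp f e (F l 1))) (List.ofFn (pp f e (F l 2))) = 0 := by
      rcases h12 with ⟨e1, e2⟩ | ⟨e1, e2⟩ <;> rw [e1, e2] <;> rfl
    rw [h0] at e12
    have z1 : Z4 = Z1 := by
      by_contra hne
      rw [if_neg hne] at e41
      linarith
    have z2 : Z4 = Z2 := by
      by_contra hne
      rw [if_neg hne] at e42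
      linarith
    rw [if_pos z1] at e41 b1
    rw [if_pos z2] at e42 b2
    rw [if_pos (z1.symm.trans z2)] at e12
    rcases hZ4.unit with u4 | u4 <;> rcases hZ1.unit with u1 | u1 <;> rcases hZ2.unit with u2 | u2 <;>
      rw [u4, u1] at e41 <;> rw [u4, u2] at e42 <;> rw [u1, u2] at e12 <;> omega
  · exact h
  · exfalso
    replace hp4 : ∀ j, pp f e (F l 4) j = if j = 0 then 1 else if j = i then -1 else 0 :=
      congrFun (List.ofFn_inj.1 hp4)
    replace hp0 : ∀ j, pp f e (F l 0) j = if j = i then -1 else 0 :=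
      congrFun (List.ofFn_inj.1 hp0)
    have e40 := H.vec_inner D S (hF.gen l 4) (hF.gen l 0) (five_orth hF hl hl (by decide))
    rw [c4, c0, hZ4.pair hZ0] at e40
    simp only [hp4, hp0] at e40
    have hdot : ∑ j : Fin 7,
        (if j = 0 then 1 else if j = i then -1 else 0 : ℤ) * (if j = i then -1 else 0) = 1 := by
      rcases hi with rfl | rfl <;> decide
    rw [hdot] at e40
    have hz : Z4 = Z0 := by
      by_contra hne
      rw [if_neg hne] at e40
      norm_num at e40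
    rw [if_pos hz] at e40
    have hcc : coef (F l 4) Z4 = -coef (F l 0) Z0 := by
      rcases hZ4.unit with u4 | u4 <;> rcases hZ0.unit with u0 | u0 <;> rw [u4, u0] at e40 <;>
        rw [u4, u0] <;> omega
    have hzd : zd (F l 4) Z4 = -zd (F l 0) Z0 := by rw [zd, zd, hcc, hz]; ring
    have hzu : H.zu (F l 4) Z4 = -H.zu (F l 0) Z0 := by rw [zu, zu, hcc, hz]; ring
    have a0 := H.vec_one D S (hF.gen l 0) (hF.one l 0)
    have t0 := H.vec_t D S (hF.gen l 0) (hF.at_t l 0)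
    have r0 := H.vec_recip D S (hF.gen l 0) W (c := 64 / 15) (by
      rw [hF.recip l hl 0]; simp [Torus.fiveRecip])
    have a4 := H.vec_one D S (hF.gen l 4) (hF.one l 4)
    have t4 := H.vec_t D S (hF.gen l 4) (hF.at_t l 4)
    have r4 := H.vec_recip D S (hF.gen l 4) W (c := 4 / 3) (by
      rw [hF.recip l hl 4]; simp [Torus.fiveRecip])
    rw [hZ0.sum_int fun x => (deg x : ℤ)] at a0
    rw [hZ0.sum_int H.T] at t0
    rw [hZ0.sum fun x => (H.T x : ℚ) ^ 2 / (deg x : ℚ), One.term H hZ0] at r0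
    rw [hZ4.sum_int fun x => (deg x : ℤ)] at a4
    rw [hZ4.sum_int H.T] at t4
    rw [hZ4.sum fun x => (H.T x : ℚ) ^ 2 / (deg x : ℚ), One.term H hZ4, hzd, hzu] at r4
    simp only [show coef (F l 0) Z0 * (deg Z0 : ℤ) = zd (F l 0) Z0 from rfl,
      show coef (F l 4) Z4 * (deg Z4 : ℤ) = zd (F l 4) Z4 from rfl,
      show coef (F l 0) Z0 * H.T Z0 = H.zu (F l 0) Z0 from rfl,
      show coef (F l 4) Z4 * H.T Z4 = H.zu (F l 4) Z4 from rfl, hzd, hzu] at a0 t0 a4 t4
    have hne := One.zd_ne hZ0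
    simp only [Fin.sum_univ_seven, hp0, hp4, c0, c4] at a0 t0 a4 t4 r0 r4
    have key : zd (F l 0) Z0 = H.dd f e i - 1 ∧ H.zu (F l 0) Z0 = H.uu f e i - 1 ∧
        H.dd f e 0 = 2 * H.dd f e i - 1 ∧ H.uu f e 0 = 2 * H.uu f e i - 1 := by
      rcases hi with rfl | rfl <;> simp [Fin.ext_iff] at a0 t0 a4 t4 <;>
        exact ⟨by linarith, by linarith, by linarith, by linarith⟩
    obtain ⟨k1, k2, k3, k4⟩ := key
    have hx : (D.x : ℚ) * ((D.x : ℚ) - 1) ≠ 0 := by
      obtain ⟨-, h0, h1, -⟩ := D.x_facts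
      exact mul_ne_zero (Int.cast_ne_zero.2 h0) (sub_ne_zero.2 (by exact_mod_cast h1))
    refine five_same (g := H.gq D) (u := (H.uu f e i : ℚ)) (d := H.dd f e i) hx (H.dd_ne D S i)
      (fun h1 => hne (by rw [k1, h1]; norm_num)) ?_ ?_
    · rw [k1, k2] at r0
      rcases hi with rfl | rfl <;> simp [Fin.ext_iff] at r0 <;> push_cast at r0 ⊢ <;>
        linear_combination r0
    · have hneg : ∀ a b : ℚ, (1 - a) ^ 2 / (1 - b) = -((a - 1) ^ 2 / (b - 1)) := fun a b => by
        rw [← div_neg, neg_sub]; ring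
      rw [k1, k2] at r4
      rcases hi with rfl | rfl <;> simp [Fin.ext_iff, k3, k4] at r4 <;> push_cast at r4 ⊢ <;>
        simp only [hneg] at r4 <;> linear_combination r4

/-- The difference of the two torus functions in terms of the functions on `A × A₅`. -/
theorem five_coef_diff (hF : W.FiveFuns F) (l : W.A →* ℂˣ) (χ : Cfsg.IrrCharacter G) :
    coef (W.fn l false) χ - coef (W.fn l true) χ =
      coef (F l 0) χ + coef (F l 4) χ - coef (F l 1) χ - coef (F l 2) χ := by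
  have h : W.fn l false - W.fn l true = F l 0 + F l 4 - F l 1 - F l 2 := funext fun g => by
    simp only [Pi.sub_apply, Pi.add_apply, hF.fn_false, hF.fn_true]
    ring
  have h' := congrArg (fun θ => Cfsg.classInner θ (χ : G → ℂ)) h
  simp only [classInner_sub_left, classInner_add_left, coef_spec (W.isGen_fn l _),
    coef_spec (hF.gen l _)] at h'
  exact_mod_cast h'

namespace Torus

/-- The values at `t` modulo the order of the torus, from a constant difference of multiplicities. -/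
theorem congr_value (W : H.Torus D) (hL : H.Local) (χ : Cfsg.IrrCharacter G) (d : ℤ)
    (hd : ∀ l : W.A →* ℂˣ, l ≠ 1 → coef (W.fn l false) χ - coef (W.fn l true) χ = d) :
    (Nat.card W.A : ℤ) ∣ H.T χ - d := by
  classical
  haveI := W.finite_dual
  letI := Fintype.ofFinite (W.A →* ℂˣ)
  obtain ⟨k, hk⟩ := W.sum_coef hL false χ
  obtain ⟨k', hk'⟩ := W.sum_coef hL true χ
  simp only [if_true, Bool.false_eq_true, if_false] at hk hk'
  have hcard : (Finset.univ.erase (1 : W.A →* ℂˣ)).card = Nat.card W.A - 1 := by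
    rw [Finset.card_erase_of_mem (Finset.mem_univ _), Finset.card_univ, ← Nat.card_eq_fintype_card,
      BlocksChars.FrobNormalizer.card_dual W.A_comm]
  have hzero : ∀ b, coef (W.fn (1 : W.A →* ℂˣ) b) χ = 0 := fun b => by
    have h := coef_spec (W.isGen_fn 1 b) χ
    rw [W.fn_at_one, classInner_zero_left] at h
    rw [W.fn_at_one]
    exact_mod_cast h.symm
  have hsum : ∑ l, coef (W.fn l false) χ - ∑ l, coef (W.fn l true) χ = ((Nat.card W.A : ℤ) - 1) * d := by
    rw [← Finset.sum_sub_distrib, ← Finset.add_sum_erase _ _ (Finset.mem_univ (1 : W.A →* ℂˣ)),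
      hzero, hzero, Finset.sum_congr rfl fun l hl => hd l (Finset.ne_of_mem_erase hl),
      Finset.sum_const, hcard, nsmul_eq_mul, Nat.cast_sub Nat.card_pos]
    simp
  exact ⟨k - k' - d, by linarith⟩

end Torus

end Setup

end Cfsg.Agent.JT
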