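import Mathlib
import Cfsg.Agent.Lib.JT.CaseFiveMainValues
import Cfsg.Agent.Lib.JT.ArithCaseFive

/-!
The case of centralizers `A × A₅`: impossible.
-/

set_option autoImplicit false
set_option linter.unusedSectionVars false
set_option linter.style.haveILetI false

namespace Cfsg.Agent.JT.Setup

open Cfsg.Agent.Characters Lattice
open scoped ComplexConjugate

universe u v

variable {G : Type u} [Group G] [Fintype G] [Fintype (Cfsg.IrrCharacter G)]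
  [DecidableEq (Cfsg.IrrCharacter G)] {K : Type v} [Group K] [Fintype K] [DecidableEq K]
  {H : Setup G K} {D : KData K} {W : H.Torus D} {F : (W.A →* ℂˣ) → Fin 5 → G → ℂ}
  {e : Cfsg.IrrCharacter G → ℤ} {f : Fin 7 → Cfsg.IrrCharacter G}

/-- A power of five is positive modulo eight. -/
theorem five_Q (h5 : 5 ∣ D.Q.natAbs) : 125 ≤ D.Q ∧ D.Q % 5 = 0 := by
  obtain ⟨p, n, hp, ⟨m, rfl⟩, hQ⟩ := D.Q_pow
  have h5p : p = 5 := ((Nat.prime_dvd_prime_iff_eq (by norm_num) hp).1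
    (Nat.Prime.dvd_of_dvd_pow (by norm_num) (hQ ▸ h5))).symm
  subst h5p
  have h8 : (5 ^ (2 * m + 1) : ℕ) % 8 = 5 := by
    rw [pow_succ, pow_mul, Nat.mul_mod, Nat.pow_mod]; norm_num
  have hm : 1 ≤ m := by
    by_contra hm
    have := D.Q_gt
    rw [hQ, show m = 0 by omega] at this
    norm_num at this
  have hbig : 125 ≤ 5 ^ (2 * m + 1) :=
    le_trans (by norm_num) (Nat.pow_le_pow_right (by norm_num) (show 3 ≤ 2 * m + 1 by omega))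
  have hdvd : 5 ∣ (5 ^ (2 * m + 1) : ℕ) := dvd_pow_self _ (by omega)
  have := D.Q_mod
  generalize (5 ^ (2 * m + 1) : ℕ) = q at *
  omega

theorem five_getD (p : Fin 7 → ℤ) (j : Fin 7) : (List.ofFn p).getD j 0 = p j := by
  fin_cases j <;> simp [List.ofFn_succ]

theorem five_column : ∀ t ∈ fiveRest, ∀ j : Fin 7,
    t.2.getD j 0 + t.1.getD j 0 - fiveP.getD j 0 - fiveP'.getD j 0 =
      tableA 0 j + tableA 1 j - tableA 2 j := by
  decide +kernel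

/-- The counting identities of one character, in the unknowns of the arithmetical case. -/
theorem five_case_A [IsSimpleGroup G] (hL : H.Local) (hF : W.FiveFuns F)
    (S : H.Shp D tableA f e) (hA : AlignA H f e) {σ : ℂ ≃+* ℂ}
    (hσ : ∀ w : ℂ, w ^ 5 = 1 → σ w = w ^ 2)
    (hσl : ¬ 5 ∣ Nat.card W.A → ∀ l : W.A →* ℂˣ, (Units.map σ.toRingHom.toMonoidHom).comp l = l)
    {π : Equiv.Perm (Fin 3)} (hπ2 : π 2 = 2) (hπ : ∀ i k, σ (D.θ i k) = D.θ (π i) k)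
    (hπ1 : ¬ 5 ∣ D.Q.natAbs → π = 1) {l₀ : W.A →* ℂˣ} (hl₀ : l₀ ≠ 1) : False := by
  classical
  obtain ⟨hne, -⟩ := five_A_one hL hF S hA hσ hπ2 hπ hl₀
  obtain ⟨hQ, hQ5⟩ := five_Q (by_contra fun h => hne (hπ1 h))
  set r : ℤ := (Nat.card W.A : ℤ) with hr
  have hrQ : 4 * r = D.Q - 1 := by
    have := W.A_card
    omega
  have hr5 : ¬ 5 ∣ Nat.card W.A := fun h => by
    obtain ⟨c, hc⟩ := h
    omega
  have hQx := D.Q_eq
  have h12 : ∀ l : W.A →* ℂˣ, l ≠ 1 →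
      (List.ofFn (pp f e (F l 1)) = fiveP ∧ List.ofFn (pp f e (F l 2)) = fiveP') ∨
      (List.ofFn (pp f e (F l 1)) = fiveP' ∧ List.ofFn (pp f e (F l 2)) = fiveP) := fun l hl => by
    have h := (five_A_one hL hF S hA hσ hπ2 hπ hl).2
    rwa [hσl hr5 l] at h
  have hrest := fun l (hl : l ≠ (1 : W.A →* ℂˣ)) => five_A_rest hL hF S hl (h12 l hl)
  have hd : ∀ j, ∀ l : W.A →* ℂˣ, l ≠ 1 →
      coef (W.fn l false) (f j) - coef (W.fn l true) (f j) =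
        e (f j) * (tableA 0 j + tableA 1 j - tableA 2 j) := fun j l hl => by
    have h := five_column _ (hrest l hl) j
    simp only [five_getD] at h
    have h' : pp f e (F l 0) j + pp f e (F l 4) j - pp f e (F l 1) j - pp f e (F l 2) j =
        tableA 0 j + tableA 1 j - tableA 2 j := by
      rcases h12 l hl with ⟨e1, e2⟩ | ⟨e1, e2⟩ <;> rw [← e1, ← e2, five_getD, five_getD] at h <;>
        linarith
    rw [five_coef_diff hF l (f j), ← h']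
    simp only [pp]
    linear_combination -(coef (F l 0) (f j) + coef (F l 4) (f j) - coef (F l 1) (f j) -
      coef (F l 2) (f j)) * S.e_sq (f j)
  have hψ : ∀ j l, H.mψ D l (f j) = 0 := fun j l => by
    refine H.mψ_odd D hL ?_ l
    rw [S.val' 0 j, S.val' 1 j, S.val' 2 j, ← mul_add, ← mul_add]
    refine Odd.mul ?_ ?_
    · rcases S.unit (f j) with e' | e' <;> rw [e'] <;> decide
    · revert j; decide
  have hff := H.ff_zero D hL S W (by decide) fun j => by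
    obtain ⟨c, hc⟩ := Torus.congr_value W hL (f j) _ (hd j)
    have hu := H.uu_eq D hL S hψ j
    rw [uu] at hu
    refine ⟨e (f j) * c - 2 * (tableA 0 j + tableA 1 j) + 4 * tableA 2 j - 4 * H.ff D f e j, ?_⟩
    rw [hQx] at hrQ hu
    have hx : D.x = 2 * r + 1 := by omega
    rw [hx] at hu
    rw [← hr] at hc ⊢
    linear_combination (-1) * hu + e (f j) * hc +
      (tableA 0 j + tableA 1 j - tableA 2 j) * S.e_sq (f j)
  have hu : ∀ j, H.uu f e j = D.x * (tableA 0 j + tableA 1 j) - D.Q * tableA 2 j := fun j => by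
    rw [H.uu_eq D hL S hψ j, hff j, mul_zero, add_zero]
  have u0 : H.uu f e 0 = 1 := by rw [hu 0]; simp [tableA]; omega
  have u1 : H.uu f e 1 = D.x := by rw [hu 1]; simp [tableA]
  have u2 : H.uu f e 2 = D.x := by rw [hu 2]; simp [tableA]
  have u5 : H.uu f e 5 = -D.Q := by rw [hu 5]; simp [tableA]
  have u6 : H.uu f e 6 = -D.Q := by rw [hu 6]; simp [tableA]
  -- one character
  obtain ⟨a3, a4, b3, b4⟩ := id hA
  obtain ⟨hpp, ⟨c4, -⟩, ⟨c0, -⟩⟩ := five_pp_A hF S hl₀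
  obtain ⟨c1, -⟩ := hpp 1 (Or.inl rfl)
  have hp1 := h12 l₀ hl₀
  have hp40 := hrest l₀ hl₀
  have n1 : ∑ j, pp f e (F l₀ 1) j * pp f e (F l₀ 1) j = 2 := by
    rw [← dot_ofFn]; rcases hp1 with ⟨e1, -⟩ | ⟨e1, -⟩ <;> rw [e1] <;> rfl
  have n40 : ∑ j, pp f e (F l₀ 4) j * pp f e (F l₀ 4) j = 2 ∧
      ∑ j, pp f e (F l₀ 0) j * pp f e (F l₀ 0) j = 1 := by
    rw [← dot_ofFn, ← dot_ofFn]
    simp only [fiveRest, List.mem_cons, Prod.mk.injEq, List.not_mem_nil, or_false] at hp40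
    rcases hp40 with ⟨e4, e0⟩ | ⟨e4, e0⟩ <;> rw [e4, e0] <;> decide
  obtain ⟨Z1, hZ1⟩ := H.exists_one D S (hF.gen l₀ 1) (five_norm hF hl₀ 1) (by rw [c1, n1]; norm_num)
  obtain ⟨Z4, hZ4⟩ := H.exists_one D S (hF.gen l₀ 4) (five_norm hF hl₀ 4) (by rw [c4, n40.1]; norm_num)
  obtain ⟨Z0, hZ0⟩ := H.exists_one D S (hF.gen l₀ 0) (five_norm hF hl₀ 0) (by rw [c0, n40.2]; norm_num)
  have a0 := H.vec_one D S (hF.gen l₀ 0) (hF.one l₀ 0)
  have t0 := H.vec_t D S (hF.gen l₀ 0) (hF.at_t l₀ 0)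
  have r0 := H.vec_recip D S (hF.gen l₀ 0) W (c := 64 / 15) (by
    rw [hF.recip l₀ hl₀ 0]; simp [Torus.fiveRecip])
  have aa1 := H.vec_one D S (hF.gen l₀ 1) (hF.one l₀ 1)
  have t1 := H.vec_t D S (hF.gen l₀ 1) (hF.at_t l₀ 1)
  have r1 := H.vec_recip D S (hF.gen l₀ 1) W (c := 4 / 5) (by
    rw [hF.recip l₀ hl₀ 1]; simp [Torus.fiveRecip])
  have aa4 := H.vec_one D S (hF.gen l₀ 4) (hF.one l₀ 4)
  have t4 := H.vec_t D S (hF.gen l₀ 4) (hF.at_t l₀ 4)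
  have r4 := H.vec_recip D S (hF.gen l₀ 4) W (c := 4 / 3) (by
    rw [hF.recip l₀ hl₀ 4]; simp [Torus.fiveRecip])
  rw [hZ0.sum_int fun x => (deg x : ℤ)] at a0
  rw [hZ0.sum_int H.T] at t0
  rw [hZ0.sum fun x => (H.T x : ℚ) ^ 2 / (deg x : ℚ), One.term H hZ0] at r0
  rw [hZ1.sum_int fun x => (deg x : ℤ)] at aa1
  rw [hZ1.sum_int H.T] at t1
  rw [hZ1.sum fun x => (H.T x : ℚ) ^ 2 / (deg x : ℚ), One.term H hZ1] at r1
  rw [hZ4.sum_int fun x => (deg x : ℤ)] at aa4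
  rw [hZ4.sum_int H.T] at t4
  rw [hZ4.sum fun x => (H.T x : ℚ) ^ 2 / (deg x : ℚ), One.term H hZ4] at r4
  simp only [show coef (F l₀ 0) Z0 * (deg Z0 : ℤ) = zd (F l₀ 0) Z0 from rfl,
    show coef (F l₀ 1) Z1 * (deg Z1 : ℤ) = zd (F l₀ 1) Z1 from rfl,
    show coef (F l₀ 4) Z4 * (deg Z4 : ℤ) = zd (F l₀ 4) Z4 from rfl,
    show coef (F l₀ 0) Z0 * H.T Z0 = H.zu (F l₀ 0) Z0 from rfl,
    show coef (F l₀ 1) Z1 * H.T Z1 = H.zu (F l₀ 1) Z1 from rfl,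
    show coef (F l₀ 4) Z4 * H.T Z4 = H.zu (F l₀ 4) Z4 from rfl] at a0 t0 aa1 t1 aa4 t4
  -- the first and second function
  have hsum := H.dd_sum D hL S 0
  have hsum2 := H.dd_sum D hL S 2
  have hE := H.theta_recip D hL S 0
  have hE2 := H.theta_recip D hL S 2
  rw [if_neg (by decide)] at hE
  rw [if_pos rfl] at hE2
  simp [Fin.sum_univ_succ, tableA] at hsum hsum2
  simp [Fin.sum_univ_succ, tableA, u0, u1, u2, u5, u6] at hE hE2
  have hk1 : zd (F l₀ 1) Z1 = H.dd f e 1 + H.dd f e 2 ∧ H.zu (F l₀ 1) Z1 = 2 * D.x ∧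
      ∑ j, (pp f e (F l₀ 1) j : ℚ) * ((H.uu f e j : ℚ) ^ 2 / (H.dd f e j : ℚ)) =
        -((D.x : ℚ) ^ 2 / (H.dd f e 1 : ℚ)) - (D.x : ℚ) ^ 2 / (H.dd f e 2 : ℚ) := by
    simp [fiveP, fiveP', List.ofFn_succ] at hp1
    rcases hp1 with ⟨h, -⟩ | ⟨h, -⟩ <;> obtain ⟨q0, q1, q2, q3, q4, q5, q6⟩ := h <;>
      simp [Fin.sum_univ_succ, c1, q0, q1, q2, q3, q4, q5, q6] at aa1 t1 ⊢ <;>
      simp only [a3, a4, b3, b4, u1, u2] at aa1 t1 ⊢ <;>
      exact ⟨by linarith, by linarith, by ring⟩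
  obtain ⟨k1, k1', k1''⟩ := hk1
  rw [c1, k1, k1', k1''] at r1
  obtain ⟨i, i', hi, hk⟩ : ∃ i i' : Fin 7, ((i = 5 ∧ i' = 6) ∨ (i = 6 ∧ i' = 5)) ∧
      zd (F l₀ 4) Z4 = H.dd f e i - H.dd f e 0 ∧ H.zu (F l₀ 4) Z4 = -D.Q - 1 ∧
      zd (F l₀ 0) Z0 = H.dd f e i' - 1 ∧ H.zu (F l₀ 0) Z0 = -D.Q - 1 ∧
      ∑ j, (pp f e (F l₀ 4) j : ℚ) * ((H.uu f e j : ℚ) ^ 2 / (H.dd f e j : ℚ)) =
        1 / (H.dd f e 0 : ℚ) - (D.Q : ℚ) ^ 2 / (H.dd f e i : ℚ) ∧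
      ∑ j, (pp f e (F l₀ 0) j : ℚ) * ((H.uu f e j : ℚ) ^ 2 / (H.dd f e j : ℚ)) =
        -((D.Q : ℚ) ^ 2 / (H.dd f e i' : ℚ)) := by
    simp [fiveRest, List.ofFn_succ] at hp40
    rcases hp40 with ⟨h4, h0⟩ | ⟨h4, h0⟩
    · refine ⟨5, 6, Or.inl ⟨rfl, rfl⟩, ?_⟩
      obtain ⟨q0, q1, q2, q3, q4, q5, q6⟩ := h4
      obtain ⟨p0, p1, p2, p3, p4, p5, p6⟩ := h0
      simp [Fin.sum_univ_succ, c0, c4, u0, u5, u6, q0, q1, q2, q3, q4, q5, q6, p0, p1, p2, p3, p4, p5,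
        p6] at a0 t0 aa4 t4 ⊢
      exact ⟨by linarith, by linarith, by linarith, by linarith, by ring⟩
    · refine ⟨6, 5, Or.inr ⟨rfl, rfl⟩, ?_⟩
      obtain ⟨q0, q1, q2, q3, q4, q5, q6⟩ := h4
      obtain ⟨p0, p1, p2, p3, p4, p5, p6⟩ := h0
      simp [Fin.sum_univ_succ, c0, c4, u0, u5, u6, q0, q1, q2, q3, q4, q5, q6, p0, p1, p2, p3, p4, p5,
        p6] at a0 t0 aa4 t4 ⊢
      exact ⟨by linarith, by linarith, by linarith, by linarith, by ring⟩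
  obtain ⟨k4, k4', k0, k0', k4'', k0''⟩ := hk
  rw [c4, k4, k4', k4''] at r4
  rw [c0, k0, k0', k0''] at r0
  have hz1 := One.zd_ne hZ1
  have hz4 := One.zd_ne hZ4
  have hz0 := One.zd_ne hZ0
  have hP : (H.dd f e 1 : ℚ) ≠ 0 := Int.cast_ne_zero.2 (H.dd_ne D S 1)
  have hP' : (H.dd f e 2 : ℚ) ≠ 0 := Int.cast_ne_zero.2 (H.dd_ne D S 2)
  have hR : (H.dd f e 0 : ℚ) ≠ 0 := Int.cast_ne_zero.2 (H.dd_ne D S 0)
  have hD : (H.dd f e i : ℚ) ≠ 0 := Int.cast_ne_zero.2 (H.dd_ne D S i)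
  have hD' : (H.dd f e i' : ℚ) ≠ 0 := Int.cast_ne_zero.2 (H.dd_ne D S i')
  have hsP : H.dd f e 0 + H.dd f e 1 + H.dd f e 2 = -1 := by linarith
  have hsD : H.dd f e 0 + H.dd f e i + H.dd f e i' = -1 := by
    rcases hi with ⟨rfl, rfl⟩ | ⟨rfl, rfl⟩ <;> linarith
  have hsPq : (H.dd f e 0 : ℚ) + 1 = -((H.dd f e 1 : ℚ) + (H.dd f e 2 : ℚ)) := by
    have : H.dd f e 0 + 1 = -(H.dd f e 1 + H.dd f e 2) := by linarith
    exact_mod_cast this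
  have hsDq : (H.dd f e 0 : ℚ) + 1 = -((H.dd f e i : ℚ) + (H.dd f e i' : ℚ)) := by
    have : H.dd f e 0 + 1 = -(H.dd f e i + H.dd f e i') := by linarith
    exact_mod_cast this
  have hR1 : H.dd f e 0 ≠ -1 := fun h => hz1 (by rw [k1]; linarith)
  have hsum1 : (H.dd f e 1 : ℚ) + (H.dd f e 2 : ℚ) ≠ 0 := by
    rw [k1] at hz1
    exact_mod_cast hz1
  have hsum4 : (H.dd f e i : ℚ) - (H.dd f e 0 : ℚ) ≠ 0 := by
    rw [k4] at hz4
    exact_mod_cast hz4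
  have hsum0 : (H.dd f e i' : ℚ) - 1 ≠ 0 := by
    rw [k0] at hz0
    exact_mod_cast hz0
  push_cast at r0 r1 r4
  refine Arith.caseFive (Q := D.Q) (x := D.x) (g := H.gq D) (R := H.dd f e 0) (P := H.dd f e 1)
    (P' := H.dd f e 2) (D := H.dd f e i) (D' := H.dd f e i')
    { par := ⟨D.Q_eq, D.x_mod, D.Q_pow, D.Q_gt⟩
      x_ge := by omega
      pos := H.gq_pos D
      R_ne := H.dd_ne D S 0
      R_ne' := hR1
      P_ne := H.dd_ne D S 1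
      P'_ne := H.dd_ne D S 2
      D_ne := H.dd_ne D S i
      D'_ne := H.dd_ne D S i'
      D'_ne' := fun h => hz0 (by rw [k0, h]; norm_num)
      D_ne_R := fun h => hz4 (by rw [k4, h]; ring)
      sumP := hsP
      sumD := hsD
      e1 := ?_
      e3 := ?_
      f0 := ?_
      f3 := ?_
      f5 := ?_ }
  · rw [← hE]
    congr 1
    rw [show ((H.dd f e 0 : ℤ) : ℚ) + 1 = -((H.dd f e 1 : ℚ) + (H.dd f e 2 : ℚ)) from hsPq]
    field_simp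
    linear_combination (-(H.dd f e 1 : ℚ) * (H.dd f e 2 : ℚ)) * hsPq
  · rw [← hE2]
    congr 1
    rcases hi with ⟨rfl, rfl⟩ | ⟨rfl, rfl⟩ <;>
      (rw [show ((H.dd f e 0 : ℤ) : ℚ) + 1 = _ from hsDq]
       field_simp
       linear_combination (-(H.dd f e 5 : ℚ) * (H.dd f e 6 : ℚ)) * hsDq)
  · rw [show (256 : ℚ) * (D.x : ℚ) ^ 2 * ((D.x : ℚ) - 1) ^ 2 / 15 =
      4 * ((D.x : ℚ) * ((D.x : ℚ) - 1)) ^ 2 * (64 / 15) by ring, ← r0]
    congr 1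
    field_simp
    ring
  · rw [show (16 : ℚ) * (D.x : ℚ) ^ 2 * ((D.x : ℚ) - 1) ^ 2 / 5 =
      4 * ((D.x : ℚ) * ((D.x : ℚ) - 1)) ^ 2 * (4 / 5) by ring, ← r1]
    congr 1
    rw [hsPq]
    field_simp
    ring
  · rw [show (16 : ℚ) * (D.x : ℚ) ^ 2 * ((D.x : ℚ) - 1) ^ 2 / 3 =
      4 * ((D.x : ℚ) * ((D.x : ℚ) - 1)) ^ 2 * (4 / 3) by ring, ← r4]
    congr 1
    field_simp
    ring

namespace Torus

/-- The case of centralizers `A × A₅` does not occur. -/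
theorem five_case [IsSimpleGroup G] (hL : H.Local) (hN : ¬ W.NoFive) (hz : ∀ a, W.zA a = a)
    (hF : W.FiveFuns F) : False := by
  classical
  obtain ⟨σ, hσ, hσl, π, hπ2, hπ, hπ1⟩ := exists_squaring_perm W
  obtain ⟨l₀, hl₀⟩ : ∃ l : W.A →* ℂˣ, l ≠ 1 := by
    by_contra h
    push Not at h
    haveI : Subsingleton (W.A →* ℂˣ) := ⟨fun a b => (h a).trans (h b).symm⟩
    have h1 : Nat.card (W.A →* ℂˣ) = 1 := Nat.card_of_subsingleton 1
    rw [BlocksChars.FrobNormalizer.card_dual W.A_comm] at h1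
    have := W.A_card
    have := D.Q_gt
    omega
  obtain ⟨e, ⟨f, S⟩ | ⟨f, S⟩⟩ := H.exists_shape D hL
  · obtain ⟨f', S', hA⟩ := H.alignA D hL S
    exact five_case_A hL hF S' hA hσ hσl hπ2 hπ hπ1 hl₀
  · exact five_not_B hL hF S hσ hπ2 hπ hl₀

end Torus

end Cfsg.Agent.JT.Setup
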