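import Mathlib

/-!
The equations left by the second option of shape A have no solutions:
`β + β' = κ A`, `e (β β' - A²) = 4x + 5`, `e A β = 4x(x+1) - κ`.
-/

set_option autoImplicit false

namespace Cfsg.Agent.JT.Arith

/-- No `e`, `β`, `β'` for the given `x`, `κ`, `A`. -/
def noTriple (x κ A : ℤ) : Bool :=
  (List.range (2 * (4 * x + 5).natAbs + 1)).all fun i =>
    let e : ℤ := (i : ℤ) - (4 * x + 5).natAbs
    let C : ℤ := 4 * x * (x + 1) - κ
    let β : ℤ := C / (e * A)
    let β' : ℤ := κ * A - β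
    e == 0 || (4 * x + 5) % e != 0 || A == 0 || C % (e * A) != 0 || β' == 0 ||
      κ.natAbs * A.natAbs > 4 * (x.natAbs + 1) * Int.gcd x β ||
      e * (β * β' - A ^ 2) != 4 * x + 5

/-- The finite search for a given `x`. -/
def smallCheck (x : ℤ) : Bool :=
  (List.range (8 * (x.natAbs + 1) * x.natAbs + 1)).all fun i =>
    let κ : ℤ := (i : ℤ) - (4 * (x.natAbs + 1) * x.natAbs : ℕ)
    κ % 8 != 1 || (κ - 5) % (|x - 1| / 2) != 0 ||
      κ.natAbs > 4 * (x.natAbs + 1) * Int.gcd x κ ||
      (List.range (2 * (4 * (x.natAbs + 1) * Int.gcd x κ / κ.natAbs) + 1)).all fun j =>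
        noTriple x κ ((j : ℤ) - (4 * (x.natAbs + 1) * Int.gcd x κ / κ.natAbs : ℕ))

theorem smallCheck_all :
    ([-21, -17, -13, -9, -5, 7, 11, 15, 19] : List ℤ).all smallCheck = true := by
  decide +kernel

set_option maxHeartbeats 1600000 in
/-- The reduced system of the second option has no solution. -/
theorem optTwo_core {x e A β β' κ xp : ℤ} (hx : x % 4 = 3) (hxs : x ≤ -5 ∨ 7 ≤ x)
    (hA : A ≠ 0) (hb : β ≠ 0) (hb' : β' ≠ 0) (hb8 : 8 ∣ β')
    (hxpx : xp ∣ x) (hxpb : xp ∣ β) (hxpk : xp ∣ κ)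
    (hbound : |β'| ≤ 2 * (|x| + 1) * |xp|)
    (h1 : β + β' = κ * A) (h2 : e * (β * β' - A ^ 2) = 4 * x + 5)
    (h3 : e * A * β = 4 * x * (x + 1) - κ)
    (hr : |x - 1| / 2 ∣ κ - 5) (h8 : κ % 8 = 1) : False := by
  have he : e ≠ 0 := fun h => by simp [h] at h2; omega
  set X := |x| with hX
  set K := |κ| with hK
  set a := |A| with ha
  set B := |β| with hB
  set B' := |β'| with hB'
  have hX5 : 5 ≤ X := by rw [hX]; rcases hxs with h | h <;> cases abs_cases x <;> linarith
  have ha1 : 1 ≤ a := by rw [ha]; exact Int.one_le_abs hA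
  have hB1 : 1 ≤ B := by rw [hB]; exact Int.one_le_abs hb
  have hB'8 : 8 ≤ B' := by
    rw [hB']; exact Int.le_of_dvd (abs_pos.mpr hb') ((dvd_abs _ _).mpr hb8)
  have hκ : 2 * |x - 1| ≤ |κ - 5| := by
    obtain ⟨ρ, hρ⟩ : ∃ ρ, |x - 1| = 2 * ρ := ⟨|x - 1| / 2, by
      cases abs_cases (x - 1) <;> omega⟩
    rw [hρ, Int.mul_ediv_cancel_left _ two_ne_zero] at hr
    have hodd : IsCoprime ρ 4 := by
      have : ρ % 2 = 1 := by cases abs_cases (x - 1) <;> omega
      have h2c : IsCoprime ρ 2 := ⟨1, -(ρ / 2), by omega⟩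
      simpa using h2c.pow_right (n := 2)
    have h4 : (4 : ℤ) ∣ κ - 5 := by omega
    have hd := Int.le_of_dvd (abs_pos.mpr (show κ - 5 ≠ 0 by omega))
      ((dvd_abs _ _).mpr (hodd.mul_dvd hr h4))
    rw [hρ]; linarith
  have hK1 : 2 * X - 7 ≤ K := by
    rw [hX, hK]; cases abs_cases x <;> cases abs_cases κ <;> cases abs_cases (x - 1) <;>
      cases abs_cases (κ - 5) <;> linarith
  have hK7 : 7 ≤ K := by
    by_contra h
    have : κ = 1 := by rw [hK] at h; cases abs_cases κ <;> omega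
    subst this
    cases abs_cases (x - 1) <;> norm_num at hκ <;> omega
  have hKA : K * a ≤ B + B' := by
    rw [hK, ha, ← abs_mul, ← h1]; exact abs_add_le _ _
  have hM : |4 * x + 5| ≤ 4 * X + 5 := by
    rw [hX]; cases abs_cases x <;> cases abs_cases (4 * x + 5) <;> linarith
  have hBB : B * B' ≤ a ^ 2 + (4 * X + 5) := by
    have h4 : |β * β' - A ^ 2| ≤ |4 * x + 5| := by
      rw [← h2, abs_mul]
      exact le_mul_of_one_le_left (abs_nonneg _) (Int.one_le_abs he)
    have h5 := abs_sub_abs_le_abs_sub (β * β') (A ^ 2)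
    rw [abs_mul, abs_pow] at h5
    linarith
  have hC : |e| * a * B = |4 * x * (x + 1) - κ| := by
    rw [← h3, abs_mul, abs_mul]
  have hCu : |4 * x * (x + 1) - κ| ≤ 4 * X * (X + 1) + K := by
    refine (abs_sub _ _).trans ?_
    rw [abs_mul, abs_mul, hX]
    have h1' : |x + 1| ≤ |x| + 1 := (abs_add_le x 1).trans (by simp)
    have h4' : |(4 : ℤ)| = 4 := by norm_num
    rw [h4']
    nlinarith [mul_le_mul_of_nonneg_left h1' (abs_nonneg x)]
  rcases le_or_gt B' B with hcase | hcase
  · -- the private one is at least as large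
    rcases eq_or_lt_of_le ha1 with h | h
    · rw [← h] at hBB hKA
      nlinarith
    · have h4 : 4 * (K * a) ≤ a ^ 2 + (4 * X + 5) := by nlinarith
      have hKX : X ≤ K := by omega
      have h5 : 4 * K - 2 ≤ a := by
        by_contra h5
        nlinarith [mul_nonneg (show 0 ≤ a - 2 by omega) (show 0 ≤ 4 * K - 2 - a by omega)]
      have h6 : a * B ≤ |4 * x * (x + 1) - κ| := by
        rw [← hC, mul_assoc]
        exact le_mul_of_one_le_left (by positivity) (Int.one_le_abs he)
      have h7 : K * a ^ 2 ≤ 2 * (4 * X * (X + 1) + K) := by nlinarith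
      have h8' : (4 * K - 2) * 18 ≤ a ^ 2 := by nlinarith
      nlinarith
  · have hxp0 : xp ≠ 0 := by
      rintro rfl; exact hb (zero_dvd_iff.mp hxpb)
    set X' := |xp| with hX'
    have hX'1 : 1 ≤ X' := by rw [hX']; exact Int.one_le_abs hxp0
    have hX'B : X' ≤ B := Int.le_of_dvd (by omega) ((abs_dvd _ _).mpr ((dvd_abs _ _).mpr hxpb))
    have hKA' : K * a ≤ 4 * (X + 1) * X' := by linarith
    by_cases hsmall : X ≤ 22
    · have hg : X' ≤ Int.gcd x κ := by
        refine Int.le_of_dvd ?_ ((abs_dvd _ _).mpr (Int.dvd_coe_gcd hxpx hxpk))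
        have : Int.gcd x κ ≠ 0 := by
          rw [ne_eq, Int.gcd_eq_zero_iff]; omega
        omega
      have hgx : (Int.gcd x κ : ℤ) ≤ X :=
        Int.le_of_dvd (by omega) ((dvd_abs _ _).mpr (Int.gcd_dvd_left x κ))
      have hmem : x ∈ ([-21, -17, -13, -9, -5, 7, 11, 15, 19] : List ℤ) := by
        rw [hX] at hsmall
        simp only [List.mem_cons, List.not_mem_nil, or_false]
        cases abs_cases x <;> omega
      have hc := List.all_eq_true.mp smallCheck_all x hmem
      have hκb : |κ| ≤ 4 * (|x| + 1) * |x| := by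
        rw [← hK, ← hX]; nlinarith
      have hprod : κ.natAbs * A.natAbs ≤ 4 * (x.natAbs + 1) * Int.gcd x κ := by
        have : K * a ≤ 4 * (X + 1) * (Int.gcd x κ : ℤ) := by nlinarith
        rw [hK, ha, hX, Int.abs_eq_natAbs, Int.abs_eq_natAbs, Int.abs_eq_natAbs] at this
        exact_mod_cast this
      simp only [smallCheck, List.all_eq_true, List.mem_range] at hc
      have hκ' : κ.natAbs ≤ 4 * (x.natAbs + 1) * x.natAbs := by
        rw [Int.abs_eq_natAbs, Int.abs_eq_natAbs] at hκb; exact_mod_cast hκb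
      obtain ⟨i, hi⟩ : ∃ i : ℕ, (i : ℤ) = κ + (4 * (x.natAbs + 1) * x.natAbs : ℕ) :=
        ⟨(κ + (4 * (x.natAbs + 1) * x.natAbs : ℕ)).toNat, Int.toNat_of_nonneg (by omega)⟩
      have hc1 := hc i (by
        have : 8 * (x.natAbs + 1) * x.natAbs = 2 * (4 * (x.natAbs + 1) * x.natAbs) := by ring
        omega)
      rw [show (i : ℤ) - (4 * (x.natAbs + 1) * x.natAbs : ℕ) = κ by omega] at hc1
      have hpos : 0 < κ.natAbs := by omega
      have hle : A.natAbs ≤ 4 * (x.natAbs + 1) * Int.gcd x κ / κ.natAbs :=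
        (Nat.le_div_iff_mul_le hpos).mpr (by rw [mul_comm]; exact hprod)
      have hna : ¬ κ.natAbs > 4 * (x.natAbs + 1) * Int.gcd x κ := by
        have : 1 ≤ A.natAbs := by omega
        nlinarith
      have hr' : (κ - 5) % (|x - 1| / 2) = 0 := Int.emod_eq_zero_of_dvd hr
      simp only [h8, hr', hna, bne_self_eq_false, Bool.or_eq_true, decide_false,
        Bool.false_eq_true, false_or, List.all_eq_true, List.mem_range] at hc1
      obtain ⟨j, hj⟩ : ∃ j : ℕ, (j : ℤ) =
          A + (4 * (x.natAbs + 1) * Int.gcd x κ / κ.natAbs : ℕ) :=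
        ⟨(A + (4 * (x.natAbs + 1) * Int.gcd x κ / κ.natAbs : ℕ)).toNat,
          Int.toNat_of_nonneg (by omega)⟩
      have hc2 := hc1 j (by omega)
      rw [show (j : ℤ) - (4 * (x.natAbs + 1) * Int.gcd x κ / κ.natAbs : ℕ) = A by omega]
        at hc2
      simp only [noTriple, List.all_eq_true, List.mem_range] at hc2
      have hed : e ∣ 4 * x + 5 := ⟨_, h2.symm⟩
      have heb : e.natAbs ≤ (4 * x + 5).natAbs := Int.natAbs_le_of_dvd_ne_zero hed (by omega)
      obtain ⟨l, hl⟩ : ∃ l : ℕ, (l : ℤ) = e + (4 * x + 5).natAbs :=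
        ⟨(e + (4 * x + 5).natAbs).toNat, Int.toNat_of_nonneg (by omega)⟩
      have hc3 := hc2 l (by omega)
      rw [show (l : ℤ) - (4 * x + 5).natAbs = e by omega] at hc3
      have heA : e * A ≠ 0 := mul_ne_zero he hA
      have hdiv : (4 * x * (x + 1) - κ) / (e * A) = β := by
        rw [← h3, Int.mul_ediv_cancel_left _ heA]
      have hmod : (4 * x * (x + 1) - κ) % (e * A) = 0 := by
        rw [← h3, Int.mul_emod_right]
      have hb2 : κ * A - β = β' := by linarith
      have hgb : ¬ κ.natAbs * A.natAbs > 4 * (x.natAbs + 1) * Int.gcd x β := by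
        have hg' : X' ≤ (Int.gcd x β : ℤ) := by
          refine Int.le_of_dvd ?_ ((abs_dvd _ _).mpr (Int.dvd_coe_gcd hxpx hxpb))
          have : Int.gcd x β ≠ 0 := by
            rw [ne_eq, Int.gcd_eq_zero_iff]; omega
          omega
        have h6 : K * a ≤ 4 * (X + 1) * (Int.gcd x β : ℤ) := by nlinarith
        rw [hK, ha, hX, Int.abs_eq_natAbs, Int.abs_eq_natAbs, Int.abs_eq_natAbs] at h6
        exact not_lt.mpr (by exact_mod_cast h6)
      simp [he, hgb, hA, hdiv, hmod, hb2, hb', Int.emod_eq_zero_of_dvd hed, h2] at hc3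
    · have hK39 : 39 ≤ K := by omega
      have hp1 : X' * (K * a) ≤ 2 * (a ^ 2 + (4 * X + 5)) := by nlinarith
      have hp2 : X' * a * (K ^ 2) ≤ (8 * X + 8) * (X' * a) + (8 * X + 10) * K := by nlinarith
      have h5 : (8 * X + 8) ≤ 5 * K := by omega
      have hp3 : X' * a * (K - 5) ≤ 8 * X + 10 := by
        refine le_of_mul_le_mul_right ?_ (show 0 < K by omega)
        nlinarith [mul_nonneg (show (0:ℤ) ≤ X' * a by positivity)
          (show 0 ≤ 5 * K - (8 * X + 8) by omega)]
      have hp : X' * a ≤ 5 := by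
        by_contra hp
        nlinarith [mul_le_mul_of_nonneg_right (show 6 ≤ X' * a by omega)
          (show 0 ≤ K - 5 by omega)]
      have hK20 : K ≤ 20 * (X + 1) := by nlinarith
      have ha5 : a ≤ 5 := by nlinarith
      have he5 : |e| ≤ 4 * X + 5 :=
        (Int.le_of_dvd (abs_pos.mpr (show 4 * x + 5 ≠ 0 by omega))
          ((abs_dvd _ _).mpr ((dvd_abs _ _).mpr ⟨_, h2.symm⟩))).trans hM
      have hCl : 4 * X * (X - 1) - 20 * (X + 1) ≤ |4 * x * (x + 1) - κ| := by
        have h4 := abs_sub_abs_le_abs_sub (4 * x * (x + 1)) κ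
        have h5 : 4 * X * (X - 1) ≤ |4 * x * (x + 1)| := by
          have h6 : X - 1 ≤ |x + 1| := by
            rw [hX]; cases abs_cases x <;> cases abs_cases (x + 1) <;> omega
          rw [abs_mul, abs_mul, show |(4 : ℤ)| = 4 by norm_num, ← hX]
          exact mul_le_mul_of_nonneg_left h6 (by omega)
        linarith
      have hBK : a * B * K ≤ 2 * (a ^ 2 + (4 * X + 5)) := by
        have h4 : K * a ≤ 2 * B' := by omega
        calc a * B * K = B * (K * a) := by ring
          _ ≤ B * (2 * B') := mul_le_mul_of_nonneg_left h4 (by omega)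
          _ = 2 * (B * B') := by ring
          _ ≤ 2 * (a ^ 2 + (4 * X + 5)) := mul_le_mul_of_nonneg_left hBB (by norm_num)
      have hCK : |4 * x * (x + 1) - κ| * K ≤ |e| * (2 * (a ^ 2 + (4 * X + 5))) := by
        rw [← hC]
        calc |e| * a * B * K = |e| * (a * B * K) := by ring
          _ ≤ _ := mul_le_mul_of_nonneg_left hBK (abs_nonneg e)
      have ha25 : a ^ 2 ≤ 25 := by
        calc a ^ 2 = a * a := sq a
          _ ≤ 5 * 5 := mul_le_mul ha5 ha5 (by omega) (by norm_num)
      have hR : |4 * x * (x + 1) - κ| * K ≤ (4 * X + 5) * (2 * (25 + (4 * X + 5))) :=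
        hCK.trans (mul_le_mul he5 (by omega) (by positivity) (by omega))
      have hL : (4 * X * (X - 1) - 20 * (X + 1)) * (2 * X - 7) ≤
          (4 * X + 5) * (2 * (25 + (4 * X + 5))) :=
        (mul_le_mul hCl hK1 (by omega) (abs_nonneg _)).trans hR
      have h6 : 0 ≤ X * (X * (X - 23)) :=
        mul_nonneg (by omega) (mul_nonneg (by omega) (by omega))
      have h7 : 0 ≤ X * (X - 23) := mul_nonneg (by omega) (by omega)
      ring_nf at hL h6 h7
      linarith

end Cfsg.Agent.JT.Arith
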