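import Mathlib
import Cfsg.Agent.Lib.JT.ArithDefs
import Cfsg.Agent.Lib.JT.ArithOptOne
import Cfsg.Agent.Lib.JT.ArithOptTwoAux

/-!
Shape A, second option: impossible.
-/

set_option autoImplicit false

namespace Cfsg.Agent.JT.Arith

/-- The cleared equation: `(R+1)(x² R - P P') = 4x²(x+1) R P`. -/
theorem OptTwo.eq_one {Q x : ℤ} {g : ℚ} {R P P' : ℤ} (h : OptTwo Q x g R P P') :
    (R + 1) * (x ^ 2 * R - P * P') = 4 * x ^ 2 * (x + 1) * (R * P) := by
  have hQ0 := h.par.facts.2.2.2.1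
  have e1 := h.e1
  rw [h.g_eq] at e1
  have hR : (R : ℚ) ≠ 0 := by exact_mod_cast h.R_ne
  have hP : (P : ℚ) ≠ 0 := by exact_mod_cast h.P_ne
  have hP' : (P' : ℚ) ≠ 0 := by exact_mod_cast h.P'_ne
  have hQ : (2 * Q : ℚ) ≠ 0 := by exact_mod_cast mul_ne_zero two_ne_zero hQ0
  have hc : (2 * Q : ℚ) * ((R + 1) * (x ^ 2 * R - P * P') - 4 * x ^ 2 * (x + 1) * (R * P)) =
      R * P * ((-2 * (Q : ℚ) * P') * ((R + 1) / R - x ^ 2 * (R + 1) / (P * P')) -
        8 * x ^ 2 * Q * (x + 1)) := by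
    field_simp; ring
  rw [e1, sub_self, mul_zero] at hc
  exact_mod_cast sub_eq_zero.mp ((mul_eq_zero.mp hc).resolve_left hQ)

/-- `x` divides the private degree `P'`. -/
theorem OptTwo.dvd_priv {Q x : ℤ} {g : ℚ} {R P P' : ℤ} (h : OptTwo Q x g R P P') : x ∣ P' := by
  obtain ⟨N, hN⟩ := h.ord.index
  rw [h.g_eq] at hN
  have : -2 * Q * P' * Q = 2 * x * N := by exact_mod_cast hN
  have hd : x ∣ Q ^ 2 * P' := ⟨-N, by linarith⟩
  have hc : IsCoprime x (Q ^ 2) := by
    refine IsCoprime.pow_right ⟨2, -1, ?_⟩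
    rw [h.par.Q_eq]; ring
  exact hc.dvd_of_dvd_mul_left hd

/-- The second option of shape A is impossible. -/
theorem optTwo {Q x : ℤ} {g : ℚ} {R P P' : ℤ} (h : OptTwo Q x g R P P') : False := by
  obtain ⟨hx0, hx1, hxm1, hQ0, -, -, hxs⟩ := h.par.facts
  have hx4 := h.par.x_mod
  have hQx := h.par.Q_eq
  have heq := h.eq_one
  have hP' : P' = -(R + 1) - P := by have := h.sumP; linarith
  obtain ⟨k0, hint⟩ := h.integral
  -- `P = G a`, `R = G b`
  have hgpos : 0 < Int.gcd P R := Int.gcd_pos_of_ne_zero_left _ h.P_ne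
  obtain ⟨a, b, hab, hPa, hRb⟩ := Int.exists_gcd_one hgpos
  set G : ℤ := (Int.gcd P R : ℤ) with hG
  have hG0 : G ≠ 0 := by omega
  have hab' : IsCoprime a b := Int.isCoprime_iff_gcd_eq_one.mpr hab
  have ha0 : a ≠ 0 := fun h0 => h.P_ne (by rw [hPa, h0, zero_mul])
  have hb0 : b ≠ 0 := fun h0 => h.R_ne (by rw [hRb, h0, zero_mul])
  set s := R + 1 with hs
  have heq' : s * (x ^ 2 * b + a * s + G * a ^ 2) = 4 * x ^ 2 * (x + 1) * (G * a * b) := by
    apply mul_left_cancel₀ hG0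
    rw [hP', hPa, hRb] at heq
    linear_combination heq
  -- `a ∣ s`
  have has : a ∣ s := by
    have h1 : a ∣ s * x ^ 2 := by
      refine hab'.dvd_of_dvd_mul_right ⟨4 * x ^ 2 * (x + 1) * (G * b) - s * (s + G * a), ?_⟩
      linear_combination heq'
    set M := (2 * (x - 1)) ^ k0 * Q ^ 3 with hM
    have h2 : a ∣ M * s := by
      refine hab'.dvd_of_dvd_mul_right ?_
      obtain ⟨c, hc⟩ := hint
      refine ⟨-(M * s * (s + G * a)) - G * c * b, ?_⟩
      apply mul_left_cancel₀ hG0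
      rw [hP', hPa, hRb] at hc
      linear_combination -hc
    have hcop : IsCoprime (x ^ 2) M := by
      refine IsCoprime.pow_left (IsCoprime.mul_right (IsCoprime.pow_right ?_) (IsCoprime.pow_right ?_))
      · refine IsCoprime.mul_right ⟨1, -(x / 2), by omega⟩ ⟨1, -1, by ring⟩
      · exact ⟨2, -1, by rw [hQx]; ring⟩
    obtain ⟨u, v, huv⟩ := hcop
    have : s = u * (s * x ^ 2) + v * (M * s) := by linear_combination (-s) * huv
    rw [this]
    exact dvd_add (h1.mul_left u) (h2.mul_left v)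
  obtain ⟨hh, hh_eq⟩ := has
  have hR1 : a * hh - G * b = 1 := by rw [hs, hRb] at hh_eq; linarith
  have hGh : IsCoprime hh G := ⟨a, -b, by linear_combination hR1⟩
  have hbh : IsCoprime b hh := ⟨-G, a, by linear_combination hR1⟩
  have h5 : hh * (x ^ 2 * b + a ^ 2 * hh + G * a ^ 2) = 4 * x ^ 2 * (x + 1) * (G * b) := by
    apply mul_left_cancel₀ ha0
    rw [hh_eq] at heq'
    linear_combination heq'
  -- `G + h = b k`
  obtain ⟨k, hk⟩ : b ∣ hh + G := by
    have h6 : b ∣ (hh + G) * (hh * a ^ 2) :=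
      ⟨4 * x ^ 2 * (x + 1) * G - hh * x ^ 2, by linear_combination h5⟩
    exact (hbh.mul_right hab'.symm.pow_right).dvd_of_dvd_mul_right h6
  have h7 : hh * (x ^ 2 + a ^ 2 * k) = 4 * x ^ 2 * (x + 1) * G := by
    apply mul_left_cancel₀ hb0
    linear_combination h5 - hh * a ^ 2 * hk
  have hPk : P' = -(a * b * k) := by
    rw [hP', hh_eq, hPa]; linear_combination (-a) * hk
  have hxabk : x ∣ a * b * k := by simpa [hPk] using h.dvd_priv
  have hhbk : IsCoprime hh (b * k) := ⟨a + b, -b, by linear_combination hR1 + b * hk⟩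
  -- the common part of `x` and `a`
  have hdpos : 0 < Int.gcd x a := Int.gcd_pos_of_ne_zero_left _ hx0
  obtain ⟨xp, A, hxA, hxd, had⟩ := Int.exists_gcd_one hdpos
  set d : ℤ := (Int.gcd x a : ℤ) with hd
  have hd0 : d ≠ 0 := by omega
  have hxA' : IsCoprime xp A := Int.isCoprime_iff_gcd_eq_one.mpr hxA
  have hxpx : xp ∣ x := ⟨d, hxd⟩
  have hxp0 : xp ≠ 0 := fun h0 => hx0 (by rw [hxd, h0, zero_mul])
  have hA0 : A ≠ 0 := fun h0 => ha0 (by rw [had, h0, zero_mul])
  have hxbk : xp ∣ b * k := by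
    refine hxA'.dvd_of_dvd_mul_left ?_
    obtain ⟨c, hc⟩ := hxabk
    refine ⟨c, mul_left_cancel₀ hd0 ?_⟩
    rw [had, hxd] at hc
    linear_combination hc
  have hxh : IsCoprime xp hh := (hhbk.of_isCoprime_of_dvd_right hxbk).symm
  have h8 : hh * (xp ^ 2 + A ^ 2 * k) = 4 * xp ^ 2 * (x + 1) * G := by
    apply mul_left_cancel₀ (pow_ne_zero 2 hd0)
    have h9 := h7
    rw [had] at h9
    linear_combination h9 - (hh - 4 * (x + 1) * G) * (x + xp * d) * hxd
  obtain ⟨e, he⟩ : xp ^ 2 ∣ k := by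
    refine ((hxh.mul_right (hxA'.pow_right (n := 2))).pow_left (m := 2)).dvd_of_dvd_mul_left
      ⟨4 * (x + 1) * G - hh, ?_⟩
    linear_combination h8
  have h9 : hh * (1 + e * A ^ 2) = 4 * (x + 1) * G := by
    apply mul_left_cancel₀ (pow_ne_zero 2 hxp0)
    rw [he] at h8
    linear_combination h8
  obtain ⟨w, hw⟩ : hh ∣ 4 * (x + 1) := hGh.dvd_of_dvd_mul_right ⟨1 + e * A ^ 2, h9.symm⟩
  have hh0 : hh ≠ 0 := by rintro rfl; omega
  have hwG : 1 + e * A ^ 2 = w * G := by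
    apply mul_left_cancel₀ hh0
    linear_combination h9 + G * hw
  -- parity of `h`
  have haodd : a % 2 = 1 := by
    have hp := h.P_mod
    have h2 : P % 2 = 1 := by omega
    rw [hPa, Int.mul_emod] at h2
    rcases Int.emod_two_eq_zero_or_one a with h' | h'
    · simp [h'] at h2
    · exact h'
  have hsmod : (a * hh) % 8 = 2 := by rw [← hh_eq, hs]; have := h.R_mod; omega
  have hh4 : hh % 4 = 2 := by
    have h4 : (a * hh) % 4 = 2 := by omega
    rw [Int.mul_emod] at h4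
    have : a % 4 = 1 ∨ a % 4 = 3 := by omega
    have := Int.emod_nonneg hh (by norm_num : (4 : ℤ) ≠ 0)
    have := Int.emod_lt_of_pos hh (by norm_num : (0 : ℤ) < 4)
    rcases ‹a % 4 = 1 ∨ a % 4 = 3› with h' | h' <;> rw [h'] at h4 <;> omega
  have hw8 : 8 ∣ w := by
    obtain ⟨h', hh'⟩ : ∃ h', hh = 2 * h' := ⟨hh / 2, by omega⟩
    have hd8 : (8 : ℤ) ∣ h' * w := ⟨(x + 1) / 4, by
      have : 4 * (x + 1) = 2 * (h' * w) := by rw [hw, hh']; ring
      omega⟩
    have hc : IsCoprime (8 : ℤ) h' := by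
      have : IsCoprime h' 2 := ⟨1, -(h' / 2), by omega⟩
      simpa using (this.pow_right (n := 3)).symm
    exact hc.dvd_of_dvd_mul_left hd8
  have hw0 : w ≠ 0 := by rintro rfl; omega
  set κ : ℤ := 4 * x * (x + 1) - e * A * (xp * b) with hκ
  set u : ℤ := -(e * A * (xp * b)) with hu
  have hPu : P' = x * u := by
    rw [hPk, hu, had, he, hxd]; ring
  have hE1 : xp * b + w * xp = κ * A := by
    have hwd : b * (1 + e * A ^ 2) + w = 4 * (x + 1) * (A * d) := by
      rw [hwG, ← had]; linear_combination (-w) * hR1 - a * hw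
    rw [hκ]; linear_combination xp * hwd - 4 * (x + 1) * A * hxd
  have hE2 : e * (xp * b * (w * xp) - A ^ 2) = 4 * x + 5 := by
    linear_combination (-w) * hk - hw + (-w * b) * he - hwG
  have hr : |x - 1| / 2 ∣ κ - 5 := by
    set r := |x - 1| / 2 with hrdef
    have hrx : r ∣ x - 1 := by
      have : |x - 1| = r * 2 := by rw [hrdef]; cases abs_cases (x - 1) <;> omega
      exact (dvd_abs _ _).mp ⟨2, this⟩
    have h3 : r ∣ x * u + 3 := by
      rw [← hPu]
      have hsum := h.sumP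
      have : P' + 3 = -(R - 1) - (P - 1) := by linarith
      rw [this]
      exact dvd_sub (dvd_neg.mpr h.R_one) h.P_one
    have : κ - 5 = (4 * (x + 2)) * (x - 1) + ((x * u + 3) - u * (x - 1)) := by
      rw [hκ, hu]; ring
    rw [this]
    exact dvd_add (hrx.mul_left _) (dvd_sub h3 (hrx.mul_left _))
  have hκ8 : κ % 8 = 1 := by
    obtain ⟨q, hq⟩ : ∃ q, x = 4 * q + 3 := ⟨x / 4, by omega⟩
    obtain ⟨c, hc⟩ : (8 : ℤ) ∣ x * u - x := by
      rw [← hPu]; have := h.P'_mod; omega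
    have h1 : u - 1 = x * (x * u - x) - (8 * (2 * q ^ 2 + 3 * q + 1)) * (u - 1) := by
      rw [hq]; ring
    have h2 : κ - 1 = 8 * ((8 * q + 6) * (q + 1) + x * c - (2 * q ^ 2 + 3 * q + 1) * (u - 1)) := by
      have : κ - 1 = 4 * x * (x + 1) + (u - 1) := by rw [hκ, hu]; ring
      rw [this]; linear_combination h1 + x * hc + 4 * (x + 4 * q + 4) * hq
    omega
  have hbound : |w * xp| ≤ 2 * (|x| + 1) * |xp| := by
    rw [abs_mul]
    refine mul_le_mul_of_nonneg_right ?_ (abs_nonneg _)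
    have h2 : 2 ≤ |hh| := by cases abs_cases hh <;> omega
    have h3 : |hh| * |w| = 4 * |x + 1| := by
      rw [← abs_mul, ← hw, abs_mul]; norm_num
    have h4 : |x + 1| ≤ |x| + 1 := (abs_add_le x 1).trans (by simp)
    have h5 := mul_le_mul_of_nonneg_right h2 (abs_nonneg w)
    linarith
  refine optTwo_core (x := x) (e := e) (A := A) (β := xp * b) (β' := w * xp) (κ := κ) (xp := xp)
    hx4 hxs hA0 (mul_ne_zero hxp0 hb0) (mul_ne_zero hw0 hxp0) (hw8.mul_right xp) hxpx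
    (dvd_mul_right _ _) ?_ hbound hE1 hE2 (by rw [hκ]; ring) hr hκ8
  exact hxA'.dvd_of_dvd_mul_right ⟨b + w, by rw [← hE1]; ring⟩

end Cfsg.Agent.JT.Arith
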