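import Mathlib
import Cfsg.Agent.Lib.JT.FunsDefs
import Cfsg.Agent.Lib.JT.LocalSmall

/-!
# The centralizer `A × A₅` of an element of the torus

`z` centralizes `A`; the order of `A` is prime to `15` (an element of order `p ∈ {3, 5}` of the `A₅`
would be conjugate into `A`, and the normalizer of the group of order `p²` would have an orbit of even
length on subgroups fixed by one of its Sylow 2-subgroups), so the centralizer splits.
-/

set_option autoImplicit false
set_option linter.unusedSectionVars false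
set_option linter.style.haveILetI false

namespace Cfsg.Agent.JT.Setup.Torus

open Subgroup
open scoped Pointwise

universe u v

local notation "Z₂" => Multiplicative (ZMod 2)
local notation "A5" => alternatingGroup (Fin 5)

variable {G : Type u} [Group G] [Fintype G] {K : Type v} [Group K] [Fintype K] {H : Setup G K}
  {D : KData K} (W : H.Torus D)

/-- The splitting of the centralizer. -/
structure FiveData where
  ι : W.A × A5 →* G
  inj : Function.Injective ι
  fst : ∀ a : W.A, ι (a, 1) = a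
  cent : ∀ a : W.A, a ≠ 1 → ∀ g : G, Commute g (a : G) → ∃ m, ι m = g
  sc : ∀ m : W.A × A5, W.s * ι m * W.s⁻¹ = ι (m.1⁻¹, m.2)
  four : ∀ w : Z₂ × Z₂, ∃ x : A5, ι (1, x) = W.four w
  zA : ∀ a : W.A, W.zA a = a
  power : ∃ k : ℕ, ∀ m : W.A × A5, m ^ k = (m.1, 1)

variable (hL : H.Local)
include hL

include W in
/-- Two-subgroups are abelian. -/
theorem two_comm {T : Subgroup G} (hT : IsPGroup 2 T) : ∀ a ∈ T, ∀ b ∈ T, a * b = b * a := by
  classical
  haveI := Fact.mk Nat.prime_two
  have hsf : ∀ (m : Z₂ × Z₂) (n : Z₂), Commute (W.four m) (zhom W.s W.ss n) := fun m n => by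
    rcases z2_cases n with rfl | rfl
    · simp
    · rw [zhom_gen]; exact (W.s_four m).symm
  let j : (Z₂ × Z₂) × Z₂ →* G := MonoidHom.noncommCoprod W.four (zhom W.s W.ss) hsf
  have hj : Function.Injective j := by
    rw [injective_iff_map_eq_one]
    rintro ⟨w, n⟩ h
    simp only [j, MonoidHom.noncommCoprod_apply] at h
    rcases z2_cases n with rfl | rfl
    · rw [map_one, mul_one] at h
      exact Prod.ext (W.four_injective (h.trans (map_one _).symm)) rfl
    · exfalso
      rw [zhom_gen] at h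
      apply W.s_notMem
      rw [eq_inv_of_mul_eq_one_right h, inv_eq_of_mul_eq_one_right (W.four_sq w)]
      exact W.four_mem w
  have hcard : Nat.card j.range = 8 := by
    rw [Nat.card_congr (MonoidHom.ofInjective hj).toEquiv.symm]; simp
  obtain ⟨k, hk⟩ := hL.sylow
  have hidx : ¬ 2 ∣ j.range.index := by
    have h := j.range.index_mul_card
    rw [hcard, hk] at h
    omega
  let P0 : Sylow 2 G := (IsPGroup.of_card (n := 3) hcard).toSylow hidx
  obtain ⟨Q, hQ⟩ := hT.exists_le_sylow
  obtain ⟨c, hc⟩ := MulAction.exists_smul_eq G Q P0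
  intro a ha b hb
  have hmem : ∀ x ∈ T, ∃ y, j y = c * x * c⁻¹ := fun x hx => by
    have h1 : c * x * c⁻¹ ∈ (P0 : Subgroup G) := hc ▸ ⟨x, hQ hx, rfl⟩
    exact h1
  obtain ⟨p, hp⟩ := hmem a ha
  obtain ⟨q, hq⟩ := hmem b hb
  have h1 : (c * a * c⁻¹) * (c * b * c⁻¹) = (c * b * c⁻¹) * (c * a * c⁻¹) := by
    rw [← hp, ← hq, ← map_mul, ← map_mul, mul_comm]
  calc a * b = c⁻¹ * ((c * a * c⁻¹) * (c * b * c⁻¹)) * c := by group
    _ = c⁻¹ * ((c * b * c⁻¹) * (c * a * c⁻¹)) * c := by rw [h1]
    _ = b * a := by group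

/-- The orbit argument: a group of order `p²` with an involution inverting one line and fixing
another, conjugate, one. -/
theorem no_swap {p : ℕ} (hp : p.Prime) (hp2 : p ≠ 2) {a y g : G} (ha : orderOf a = p) (hy : orderOf y = p)
    (hay : Commute a y) (hsa : W.s * a * W.s⁻¹ = a⁻¹) (hsy : Commute W.s y)
    (hgP : g ∈ normalizer ((zpowers a ⊔ zpowers y : Subgroup G) : Set G))
    (hgA : (zpowers a).map (MulAut.conj g).toMonoidHom = zpowers y) : False := by
  classical
  haveI := Fact.mk hp
  haveI := Fact.mk Nat.prime_two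
  set P := zpowers a ⊔ zpowers y with hPdef
  have hss := W.ss
  have hpodd : Odd p := hp.odd_of_ne_two hp2
  have hsq : ∀ {b : G}, b ^ p = 1 → b * b = 1 → b = 1 := fun {b} h1 h2 => by
    obtain ⟨c, hc⟩ := hpodd
    rw [hc, pow_succ, pow_mul, pow_two, h2, one_pow, one_mul] at h1
    exact h1
  have hcm : ∀ i j : ℤ, Commute (a ^ i) (y ^ j) := fun i j => hay.zpow_zpow i j
  have hmem : ∀ x : G, x ∈ P ↔ ∃ i j : ℤ, a ^ i * y ^ j = x := by
    intro x
    constructor
    · intro hx
      rw [hPdef, sup_eq_closure] at hx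
      induction hx using Subgroup.closure_induction with
      | mem x hx =>
        rcases hx with hx | hx
        · obtain ⟨i, rfl⟩ := mem_zpowers_iff.1 hx; exact ⟨i, 0, by simp⟩
        · obtain ⟨i, rfl⟩ := mem_zpowers_iff.1 hx; exact ⟨0, i, by simp⟩
      | one => exact ⟨0, 0, by simp⟩
      | mul x x' _ _ h h' =>
        obtain ⟨i, j, rfl⟩ := h
        obtain ⟨i', j', rfl⟩ := h'
        exact ⟨i + i', j + j', by rw [zpow_add, zpow_add, (hcm i' j).mul_mul_mul_comm]⟩
      | inv x _ h =>
        obtain ⟨i, j, rfl⟩ := h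
        exact ⟨-i, -j, by rw [zpow_neg, zpow_neg, ← (hcm i j).inv_inv.symm.eq, mul_inv_rev]⟩
    · rintro ⟨i, j, rfl⟩
      exact mul_mem (mem_sup_left (zpow_mem (mem_zpowers a) i)) (mem_sup_right (zpow_mem (mem_zpowers y) j))
  have hsconj : ∀ i j : ℤ, W.s * (a ^ i * y ^ j) * W.s⁻¹ = (a ^ i)⁻¹ * y ^ j := by
    intro i j
    calc W.s * (a ^ i * y ^ j) * W.s⁻¹ = (W.s * a * W.s⁻¹) ^ i * (W.s * y ^ j * W.s⁻¹) := by
          rw [conj_zpow]; group
      _ = _ := by rw [hsa, inv_zpow, (hsy.zpow_right j).eq, mul_inv_cancel_right]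
  have hsN : W.s ∈ normalizer (P : Set G) := by
    refine mem_normalizer_iff.2 fun x => ⟨fun hx => ?_, fun hx => ?_⟩
    · obtain ⟨i, j, rfl⟩ := (hmem x).1 hx
      exact (hmem _).2 ⟨-i, j, by rw [hsconj, zpow_neg]⟩
    · obtain ⟨i, j, e⟩ := (hmem _).1 hx
      refine (hmem _).2 ⟨-i, j, ?_⟩
      rw [zpow_neg, ← hsconj, e, inv_eq_of_mul_eq_one_right hss,
        show W.s * (W.s * x * W.s) * W.s = (W.s * W.s) * x * (W.s * W.s) by group, hss, one_mul, mul_one]
  set N := normalizer (P : Set G) with hN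
  let φN : N →* ConjAct G := (ConjAct.toConjAct (G := G)).toMonoidHom.comp N.subtype
  letI : MulAction N (Subgroup G) := MulAction.compHom _ φN
  have hsmul : ∀ (n : N) (X : Subgroup G), n • X = X.map (MulAut.conj (n : G)).toMonoidHom := fun n X => rfl
  -- a Sylow 2-subgroup containing `s` fixes `⟨a⟩`
  have hs2 : IsPGroup 2 (zpowers (⟨W.s, hsN⟩ : N)) :=
    IsPGroup.of_card (n := 1) (by rw [Nat.card_zpowers, Subgroup.orderOf_mk, W.s_two, pow_one])
  obtain ⟨T, hT⟩ := hs2.exists_le_sylow
  have hTfix : (T : Subgroup N) ≤ MulAction.stabilizer N (zpowers a) := by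
    intro k hk
    rw [MulAction.mem_stabilizer_iff, hsmul]
    have hks : (k : G) * W.s = W.s * k := W.two_comm hL (T.2.map N.subtype) _ ⟨k, hk, rfl⟩ _
      ⟨⟨W.s, hsN⟩, hT (mem_zpowers _), rfl⟩
    refine eq_of_le_of_card_ge ?_
      (le_of_eq (Subgroup.card_map_of_injective (MulAut.conj (k : G)).injective).symm)
    rw [MonoidHom.map_zpowers, zpowers_le]
    show (k : G) * a * (k : G)⁻¹ ∈ zpowers a
    obtain ⟨i, j, e⟩ := (hmem _).1 ((mem_normalizer_iff.1 k.2 a).1 ((hmem a).2 ⟨1, 0, by simp⟩))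
    have h1 : W.s * ((k : G) * a * (k : G)⁻¹) * W.s⁻¹ = ((k : G) * a * (k : G)⁻¹)⁻¹ := by
      calc W.s * ((k : G) * a * (k : G)⁻¹) * W.s⁻¹ = (W.s * k) * a * (W.s * k)⁻¹ := by group
        _ = (k : G) * (W.s * a * W.s⁻¹) * (k : G)⁻¹ := by rw [← hks]; group
        _ = _ := by rw [hsa]; group
    rw [← e, hsconj, mul_inv_rev, ← (hcm i j).inv_inv.eq] at h1
    have h2 : y ^ j = (y ^ j)⁻¹ := mul_left_cancel h1
    have h3 : y ^ j = 1 := by
      refine hsq (by rw [← zpow_natCast, ← zpow_mul, mul_comm, zpow_mul, zpow_natCast, ← hy,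
        pow_orderOf_eq_one, one_zpow]) ?_
      nth_rw 2 [h2]; exact mul_inv_cancel _
    rw [← e, h3, mul_one]
    exact zpow_mem (mem_zpowers a) i
  have hodd : ¬ 2 ∣ (MulAction.stabilizer N (zpowers a)).index := fun h =>
    T.not_dvd_index (h.trans (index_dvd_of_le hTfix))
  rw [MulAction.index_stabilizer] at hodd
  -- but the orbit has even length
  set O := MulAction.orbit N (zpowers a) with hO
  have hAO : zpowers a ∈ O := MulAction.mem_orbit_self _
  have hYO : zpowers y ∈ O := ⟨⟨g, hgP⟩, hgA⟩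
  let σ : Subgroup G → Subgroup G := fun X => X.map (MulAut.conj W.s).toMonoidHom
  have hσσ : ∀ X, σ (σ X) = X := fun X => by
    show (X.map _).map _ = X
    rw [Subgroup.map_map]
    conv_rhs => rw [← X.map_id]
    congr 1
    ext x
    show W.s * (W.s * x * W.s⁻¹) * W.s⁻¹ = x
    rw [inv_eq_of_mul_eq_one_right hss,
      show W.s * (W.s * x * W.s) * W.s = (W.s * W.s) * x * (W.s * W.s) by group, hss, one_mul, mul_one]
  have hσA : σ (zpowers a) = zpowers a := by
    show (zpowers a).map _ = _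
    rw [MonoidHom.map_zpowers]
    show zpowers (W.s * a * W.s⁻¹) = _
    rw [hsa, zpowers_inv]
  have hσY : σ (zpowers y) = zpowers y := by
    show (zpowers y).map _ = _
    rw [MonoidHom.map_zpowers]
    show zpowers (W.s * y * W.s⁻¹) = _
    rw [hsy.eq, mul_inv_cancel_right]
  have hline : ∀ X ∈ O, σ X = X → X = zpowers a ∨ X = zpowers y := by
    rintro _ ⟨n, rfl⟩ hfix
    set X := n • zpowers a
    change σ X = X at hfix
    have hX : X = zpowers ((n : G) * a * (n : G)⁻¹) :=
      (hsmul n (zpowers a)).trans (MonoidHom.map_zpowers _ _)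
    obtain ⟨i, j, e⟩ := (hmem _).1 ((mem_normalizer_iff.1 n.2 a).1 ((hmem a).2 ⟨1, 0, by simp⟩))
    set w := (n : G) * a * (n : G)⁻¹ with hw
    have hwX : w ∈ X := hX ▸ mem_zpowers w
    have hw' : W.s * w * W.s⁻¹ ∈ X := by rw [← hfix]; exact ⟨w, hwX, rfl⟩
    have hwp : orderOf w = p := by
      rw [hw, ← MulAut.conj_apply, MulEquiv.orderOf_eq, ha]
    have hXc : Nat.card X = p := by rw [hX, Nat.card_zpowers, hwp]
    have hgen : ∀ u ∈ X, u ≠ 1 → X = zpowers u := fun u hu hu1 => by
      refine (eq_of_le_of_card_ge (zpowers_le.2 hu) ?_).symm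
      rw [hXc, Nat.card_zpowers]
      rcases (Nat.dvd_prime hp).1 (hXc ▸ X.orderOf_dvd_natCard hu) with h | h
      · exact absurd (orderOf_eq_one_iff.1 h) hu1
      · exact h.ge
    have hyy : y ^ j * y ^ j ∈ X := by
      have : w * (W.s * w * W.s⁻¹) ∈ X := mul_mem hwX hw'
      rwa [← e, hsconj, (hcm i j).eq, show y ^ j * a ^ i * ((a ^ i)⁻¹ * y ^ j) = y ^ j * y ^ j by group] at this
    by_cases hj : y ^ j = 1
    · left
      rw [hj, mul_one] at e
      refine hX.trans ?_
      refine eq_of_le_of_card_ge (zpowers_le.2 (e ▸ zpow_mem (mem_zpowers a) i)) ?_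
      rw [Nat.card_zpowers, Nat.card_zpowers, hwp, ha]
    · right
      have h2 : y ^ j * y ^ j ≠ 1 := fun h => hj (hsq (by
        rw [← zpow_natCast, ← zpow_mul, mul_comm, zpow_mul, zpow_natCast, ← hy, pow_orderOf_eq_one,
          one_zpow]) h)
      refine (hgen _ hyy h2).trans ?_
      refine eq_of_le_of_card_ge (zpowers_le.2 (mul_mem (zpow_mem (mem_zpowers y) j) (zpow_mem (mem_zpowers y) j))) ?_
      rw [← hgen _ hyy h2, hXc, Nat.card_zpowers, hy]
  have hσO : ∀ X ∈ O, σ X ∈ O := by
    rintro _ ⟨n, rfl⟩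
    exact ⟨⟨W.s, hsN⟩ * n, by show (⟨W.s, hsN⟩ * n : N) • zpowers a = σ (n • zpowers a); rw [mul_smul]; rfl⟩
  haveI := Fintype.ofFinite O
  set rest := (O.toFinset.erase (zpowers a)).erase (zpowers y) with hrest
  have hne : zpowers y ≠ zpowers a := by
    intro h
    obtain ⟨i, hi⟩ := mem_zpowers_iff.1 (h ▸ mem_zpowers y : y ∈ zpowers a)
    have h1 := hsconj i 0
    simp only [zpow_zero, mul_one] at h1
    rw [hi, hsy.eq, mul_inv_cancel_right] at h1
    have : y = 1 := hsq (hy ▸ pow_orderOf_eq_one y) (by nth_rw 2 [h1]; exact mul_inv_cancel _)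
    rw [this, orderOf_one] at hy
    exact hp.ne_one hy.symm
  have hrest2 : Even rest.card := by
    refine (ZMod.natCast_eq_zero_iff_even).1 ?_
    rw [← nsmul_one, ← Finset.sum_const]
    refine Finset.sum_involution (fun X _ => σ X) (fun _ _ => CharTwo.add_self_eq_zero (1 : ZMod 2)) (fun X hX _ h => ?_) (fun X hX => ?_)
      (fun X _ => hσσ X)
    · simp only [hrest, Finset.mem_erase, Set.mem_toFinset] at hX
      rcases hline X hX.2.2 h with e | e
      · exact hX.2.1 e
      · exact hX.1 e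
    · simp only [hrest, Finset.mem_erase, Set.mem_toFinset] at hX ⊢
      refine ⟨fun e => hX.1 ?_, fun e => hX.2.1 ?_, hσO X hX.2.2⟩
      · rw [← hσσ X, e, hσY]
      · rw [← hσσ X, e, hσA]
  apply hodd
  rw [Set.ncard_eq_toFinset_card', ← Finset.card_erase_add_one (a := zpowers a) (Set.mem_toFinset.2 hAO),
    ← Finset.card_erase_add_one (a := zpowers y) (Finset.mem_erase.2 ⟨hne, Set.mem_toFinset.2 hYO⟩),
    ← hrest]
  obtain ⟨c, hc⟩ := hrest2
  omega

/-- The splitting. -/
theorem exists_fiveData (hF : ¬ W.NoFive) : Nonempty W.FiveData := by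
  classical
  simp only [NoFive, not_forall] at hF
  obtain ⟨a, haA, ha1, hza, hne⟩ := hF
  haveI := W.A_cyclic
  letI := IsCyclic.commGroup (α := W.A)
  have hAab : ∀ b ∈ W.A, ∀ c ∈ W.A, Commute b c := fun b hb c hc =>
    congrArg Subtype.val (mul_comm (⟨b, hb⟩ : W.A) ⟨c, hc⟩)
  have hcf := W.cent_fixed a haA ha1 hza
  set M := centralizer ({a} : Set G) with hM
  obtain h | ⟨f, hf, hker⟩ := hcf
  · exact absurd h hne
  have hAM : W.A ≤ M := fun b hb => mem_centralizer_singleton_iff.2 (hAab b hb a haA).eq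
  have hcen := Loc.torus_central W.A_cyclic hAM hf hker
  have hzM : Commute W.z a := mul_inv_eq_iff_eq_mul.1 hza
  have hzA : ∀ b : W.A, W.zA b = b := fun b => Subtype.ext (by
    show W.z * (b : G) * W.z⁻¹ = b
    rw [(hcen W.z hzM b b.2).eq, mul_inv_cancel_right])
  have hcardM : Nat.card M = Nat.card W.A * 60 := by
    have h := f.ker.index_mul_card
    rw [Subgroup.index_ker, MonoidHom.range_eq_top.2 hf, Subgroup.card_top, hker,
      Nat.card_congr (subgroupOfEquivOfLe hAM).toEquiv,
      show Nat.card A5 = 60 by rw [Nat.card_eq_fintype_card]; decide +kernel] at h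
    rw [← h, mul_comm]
  -- all nontrivial elements of the torus have the same centralizer
  have hall : ∀ b ∈ W.A, b ≠ 1 → centralizer ({b} : Set G) = M := by
    intro b hb hb1
    have hle : M ≤ centralizer ({b} : Set G) := fun g hg =>
      mem_centralizer_singleton_iff.2 (hcen g (mem_centralizer_singleton_iff.1 hg) b hb).eq
    refine (eq_of_le_of_card_ge hle ?_).symm
    rcases W.cent_fixed b hb hb1 (congrArg Subtype.val (hzA ⟨b, hb⟩)) with h | ⟨f', hf', hker'⟩
    · exfalso
      apply hne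
      refine le_antisymm (h ▸ hle) (sup_le hAM ((closure_le _).2 ?_))
      rintro g (rfl | rfl | rfl)
      · exact mem_centralizer_singleton_iff.2 (W.A_t a haA).symm.eq
      · exact mem_centralizer_singleton_iff.2 (W.A_v a haA).symm.eq
      · exact mem_centralizer_singleton_iff.2 hzM.eq
    · have hAM' : W.A ≤ centralizer ({b} : Set G) := fun c hc =>
        mem_centralizer_singleton_iff.2 (hAab c hc b hb).eq
      have h' := f'.ker.index_mul_card
      rw [Subgroup.index_ker, MonoidHom.range_eq_top.2 hf', Subgroup.card_top, hker',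
        Nat.card_congr (subgroupOfEquivOfLe hAM').toEquiv,
        show Nat.card A5 = 60 by rw [Nat.card_eq_fintype_card]; decide +kernel] at h'
      rw [hcardM, ← h', mul_comm]
  have hcom := Loc.commutator_alt5_le W.A_cyclic W.A_odd haA (W.A_t a haA).symm (W.A_v a haA).symm hzM
    H.ht W.v_two W.v_ne_t.symm W.tv W.s_two W.ts.symm W.vs.symm W.z_s.symm W.z_t W.z_v W.A_s hf hker
  have hMperf : ∀ x : A5, ∃ g : M, g ∈ commutator M ∧ f g = x := fun x => by
    have : x ∈ (commutator M).map f := by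
      rw [_root_.commutator_def, map_commutator, map_top_of_surjective f hf, ← _root_.commutator_def,
        Loc.alt5_perfect]
      exact mem_top _
    obtain ⟨g, hg, e⟩ := this
    exact ⟨g, hg, e⟩
  -- the torus order is prime to `15`
  have hcop : Nat.Coprime (Nat.card W.A) 15 := by
    rcases W.five_small a haA ha1 ⟨f, hf, hker⟩ with h | h
    · exact h
    exfalso
    obtain ⟨p, hp, hAp, hp35⟩ : ∃ p, p.Prime ∧ Nat.card W.A = p ∧ (p = 3 ∨ p = 5) := by
      rcases h with h | h
      · exact ⟨3, by norm_num, h, Or.inl rfl⟩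
      · exact ⟨5, by norm_num, h, Or.inr rfl⟩
    haveI := Fact.mk hp
    have hp2 : p ≠ 2 := by rcases hp35 with rfl | rfl <;> norm_num
    have hA : W.A = zpowers a := by
      refine (eq_of_le_of_card_ge (zpowers_le.2 haA) ?_).symm
      rw [Nat.card_zpowers]
      rcases (Nat.dvd_prime hp).1 (hAp ▸ W.A.orderOf_dvd_natCard haA) with e | e
      · exact absurd (orderOf_eq_one_iff.1 e) ha1
      · rw [hAp, e]
    have hao : orderOf a = p := by rw [← Nat.card_zpowers, ← hA, hAp]
    obtain ⟨x₀, hx₀, hx₁⟩ : ∃ x : A5, x ^ p = 1 ∧ x ≠ 1 := by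
      rcases hp35 with rfl | rfl
      exacts [Loc.alt5_three, Loc.alt5_five]
    obtain ⟨x, hx, hfx⟩ := hMperf x₀
    obtain ⟨i, hi⟩ : p ∣ orderOf x := by
      rw [← orderOf_eq_prime hx₀ hx₁, ← hfx]; exact orderOf_map_dvd f x
    have hi0 : i ≠ 0 := by rintro rfl; exact (orderOf_pos x).ne' (by rw [hi, mul_zero])
    set y : G := (x : G) ^ i with hy
    have hyo : orderOf y = p := by
      rw [hy, orderOf_pow_of_dvd hi0 (by rw [Subgroup.orderOf_coe, hi]; exact dvd_mul_left _ _),
        Subgroup.orderOf_coe, hi, Nat.mul_div_cancel _ (Nat.pos_of_ne_zero hi0)]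
    have hys : Commute y W.s :=
      (show Commute (x : G) W.s from mem_centralizer_singleton_iff.1 (mem_subgroupOf.1 (hcom hx))).pow_left i
    have hay : Commute a y :=
      ((show Commute (x : G) a from mem_centralizer_singleton_iff.1 x.2).pow_left i).symm
    -- `⟨y⟩` is conjugate to the torus
    obtain ⟨c, hc⟩ := isConj_iff.1 (hL.fused W.s W.s_two)
    have hCp : ¬ p ^ 2 ∣ Nat.card H.C := by
      rw [H.card_C]
      intro hd
      have h2 : ((2 * Nat.card K : ℕ) : ℤ) = |D.Q| * (D.Q ^ 2 - 1) := by push_cast; exact D.card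
      have h4 := W.A_card
      rw [hAp] at h4
      have hd' : ((p ^ 2 : ℕ) : ℤ) ∣ |D.Q| * (D.Q ^ 2 - 1) := h2 ▸ Int.natCast_dvd_natCast.2 hd
      rcases Int.natAbs_eq_iff.1 h4.symm with e | e <;>
        rw [eq_add_of_sub_eq e] at hd' <;>
        rcases hp35 with rfl | rfl <;> norm_num at hd'
    have hfac : p ^ (Nat.card H.C).factorization p ≤ p := by
      have h1 : (Nat.card H.C).factorization p ≤ 1 := by
        by_contra h1
        exact hCp ((hp.pow_dvd_iff_le_factorization Nat.card_pos.ne').2 (Nat.lt_of_not_le h1))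
      calc p ^ (Nat.card H.C).factorization p ≤ p ^ 1 := Nat.pow_le_pow_right hp.pos h1
        _ = p := pow_one p
    have hmk : ∀ w : G, orderOf w = p → (hw : w ∈ H.C) →
        ∃ Q : Sylow p H.C, (Q : Subgroup H.C) = zpowers (⟨w, hw⟩ : H.C) := by
      intro w hw hwC
      obtain ⟨Q, hQ⟩ := (IsPGroup.of_card (n := 1) (G := zpowers (⟨w, hwC⟩ : H.C)) (p := p) (by
        rw [Nat.card_zpowers, Subgroup.orderOf_mk, hw, pow_one])).exists_le_sylow
      refine ⟨Q, (eq_of_le_of_card_ge hQ ?_).symm⟩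
      rw [Nat.card_zpowers, Subgroup.orderOf_mk, hw, Q.card_eq_multiplicity]
      exact hfac
    have hy'C : c⁻¹ * y * c ∈ H.C := by
      refine mem_centralizer_singleton_iff.2 ?_
      have := hys.map (MulAut.conj c⁻¹)
      simp only [MulAut.conj_apply, inv_inv] at this
      rw [show c⁻¹ * W.s * c = H.t by rw [← hc]; group] at this
      exact this.eq
    have haC : a ∈ H.C := mem_centralizer_singleton_iff.2 (W.A_t a haA).eq
    obtain ⟨Q1, hQ1⟩ := hmk a hao haC
    obtain ⟨Q2, hQ2⟩ := hmk _ (by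
      rw [show c⁻¹ * y * c = MulAut.conj c⁻¹ y by simp, MulEquiv.orderOf_eq, hyo]) hy'C
    obtain ⟨d, hd⟩ := MulAction.exists_smul_eq H.C Q1 Q2
    set g := c * (d : G) with hg
    have hgA : (zpowers a).map (MulAut.conj g).toMonoidHom = zpowers y := by
      have h1 : (d • Q1 : Sylow p H.C).toSubgroup = Q2 := by rw [hd]
      rw [Sylow.coe_subgroup_smul, hQ1, hQ2] at h1
      have h2 : (⟨c⁻¹ * y * c, hy'C⟩ : H.C) ∈ zpowers (d * ⟨a, haC⟩ * d⁻¹) := by
        have : (⟨c⁻¹ * y * c, hy'C⟩ : H.C) ∈ MulAut.conj d • zpowers (⟨a, haC⟩ : H.C) :=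
          h1 ▸ mem_zpowers _
        rw [show MulAut.conj d • zpowers (⟨a, haC⟩ : H.C) =
          (zpowers (⟨a, haC⟩ : H.C)).map (MulAut.conj d).toMonoidHom from rfl, MonoidHom.map_zpowers] at this
        exact this
      obtain ⟨k, hk⟩ := mem_zpowers_iff.1 h2
      have hk' : ((d : G) * a * (d : G)⁻¹) ^ k = c⁻¹ * y * c := congrArg Subtype.val hk
      rw [MonoidHom.map_zpowers]
      refine (eq_of_le_of_card_ge (zpowers_le.2 (mem_zpowers_iff.2 ⟨k, ?_⟩)) ?_).symm
      · show (g * a * g⁻¹) ^ k = y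
        calc (g * a * g⁻¹) ^ k = c * ((d : G) * a * (d : G)⁻¹) ^ k * c⁻¹ := by
              rw [← conj_zpow, hg]; congr 1; group
          _ = y := by rw [hk']; group
      · rw [Nat.card_zpowers, Nat.card_zpowers, hyo]
        show orderOf (g * a * g⁻¹) ≤ p
        rw [← MulAut.conj_apply, MulEquiv.orderOf_eq, hao]
    -- both groups of order `p²` are Sylow in the centralizer of `y`
    set P := zpowers a ⊔ zpowers y with hP
    have hPy : ∀ q ∈ P, Commute q y := by
      intro q hq
      have : P ≤ centralizer ({y} : Set G) := sup_le (zpowers_le.2 (mem_centralizer_singleton_iff.2 hay.eq))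
        (zpowers_le.2 (mem_centralizer_singleton_iff.2 rfl))
      exact mem_centralizer_singleton_iff.1 (this hq)
    have hne' : zpowers a ⊓ zpowers y = ⊥ := by
      by_contra hne'
      obtain ⟨w, hw, hw1⟩ := ((zpowers a ⊓ zpowers y).bot_or_exists_ne_one).resolve_left hne'
      obtain ⟨i, hi⟩ := mem_zpowers_iff.1 hw.1
      obtain ⟨j, hj⟩ := mem_zpowers_iff.1 hw.2
      have h1 : W.s * w * W.s⁻¹ = w := by rw [← hj, (hys.symm.zpow_right j).eq, mul_inv_cancel_right]
      have h2 : W.s * w * W.s⁻¹ = w⁻¹ := by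
        rw [← hi, ← conj_zpow, W.A_s a haA, inv_zpow]
      exact hw1 (W.odd_part (hA ▸ hw.1) (by
        nth_rw 1 [h1.symm.trans h2]; exact inv_mul_cancel _))
    have hPc : Nat.card P = p ^ 2 := by
      let j : zpowers a × zpowers y →* G := MonoidHom.noncommCoprod (zpowers a).subtype (zpowers y).subtype
        fun q r => by
          obtain ⟨i, hi⟩ := mem_zpowers_iff.1 q.2
          obtain ⟨k, hk⟩ := mem_zpowers_iff.1 r.2
          show Commute (q : G) r
          rw [← hi, ← hk]; exact hay.zpow_zpow i k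
      have hj : Function.Injective j := by
        refine (MonoidHom.noncommCoprod_injective _ _ _).2
          ⟨Subgroup.subtype_injective _, Subgroup.subtype_injective _, ?_⟩
        rw [disjoint_iff, Subgroup.range_subtype, Subgroup.range_subtype, hne']
      have hr : j.range = P := by
        rw [MonoidHom.noncommCoprod_range, Subgroup.range_subtype, Subgroup.range_subtype]
      rw [← hr, Nat.card_congr (MonoidHom.ofInjective hj).toEquiv.symm, Nat.card_prod, Nat.card_zpowers,
        Nat.card_zpowers, hao, hyo, sq]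
    set a' := g * a * g⁻¹ with ha'
    have hA' : zpowers a' = zpowers y := by rw [← hgA, MonoidHom.map_zpowers]; rfl
    have hCy : centralizer ({y} : Set G) = M.map (MulAut.conj g).toMonoidHom := by
      have h1 : centralizer ({y} : Set G) = centralizer ({a'} : Set G) := by
        rw [← centralizer_closure ({y} : Set G), ← zpowers_eq_closure, ← hA', zpowers_eq_closure,
          centralizer_closure]
      rw [h1]
      ext u
      rw [Subgroup.mem_map_equiv, hM, mem_centralizer_singleton_iff, mem_centralizer_singleton_iff,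
        MulAut.conj_symm_apply]
      constructor <;> intro hu
      · calc g⁻¹ * u * g * a = g⁻¹ * (u * a') * g := by rw [ha']; group
          _ = g⁻¹ * (a' * u) * g := by rw [hu]
          _ = _ := by rw [ha']; group
      · calc u * a' = g * (g⁻¹ * u * g * a) * g⁻¹ := by rw [ha']; group
          _ = g * (a * (g⁻¹ * u * g)) * g⁻¹ := by rw [hu]
          _ = _ := by rw [ha']; group
    set Cy := centralizer ({y} : Set G) with hCydef
    have hcy : (Nat.card Cy).factorization p = 2 := by
      rw [hCy, Subgroup.card_map_of_injective (MulAut.conj g).injective, hcardM, hAp]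
      rcases hp35 with rfl | rfl
      · rw [show 3 * 60 = 3 ^ 2 * 20 by norm_num, Nat.factorization_mul (by norm_num) (by norm_num),
          Finsupp.add_apply, hp.factorization_pow, Finsupp.single_eq_same,
          Nat.factorization_eq_zero_of_not_dvd (by norm_num : ¬ 3 ∣ 20)]
      · rw [show 5 * 60 = 5 ^ 2 * 12 by norm_num, Nat.factorization_mul (by norm_num) (by norm_num),
          Finsupp.add_apply, hp.factorization_pow, Finsupp.single_eq_same,
          Nat.factorization_eq_zero_of_not_dvd (by norm_num : ¬ 5 ∣ 12)]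
    have hPM : P ≤ M := sup_le (zpowers_le.2 (hAM haA))
      (zpowers_le.2 (mem_centralizer_singleton_iff.2 hay.symm.eq))
    have hP1 : P ≤ Cy := fun q hq => mem_centralizer_singleton_iff.2 (hPy q hq).eq
    have hP2 : P.map (MulAut.conj g).toMonoidHom ≤ Cy := hCy ▸ Subgroup.map_mono hPM
    let S1 : Sylow p Cy := Sylow.ofCard (P.subgroupOf Cy) (by
      rw [Nat.card_congr (subgroupOfEquivOfLe hP1).toEquiv, hPc, hcy])
    let S2 : Sylow p Cy := Sylow.ofCard ((P.map (MulAut.conj g).toMonoidHom).subgroupOf Cy) (by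
      rw [Nat.card_congr (subgroupOfEquivOfLe hP2).toEquiv,
        Subgroup.card_map_of_injective (MulAut.conj g).injective, hPc, hcy])
    obtain ⟨h, hh⟩ := MulAction.exists_smul_eq Cy S2 S1
    refine W.no_swap hL hp hp2 hao hyo hay (W.A_s a haA) hys.symm (g := (h : G) * g) ?_ ?_
    · suffices hfw : ∀ q ∈ P, (h : G) * g * q * ((h : G) * g)⁻¹ ∈ P by
        refine (mem_normalizer_iff_map_conj_eq).2 ?_
        refine eq_of_le_of_card_ge ?_ (le_of_eq (Subgroup.card_map_of_injective (MulAut.conj _).injective).symm)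
        rintro _ ⟨q, hq, rfl⟩
        exact hfw q hq
      intro q hq
      have h1 : MulAut.conj h • (⟨g * q * g⁻¹, hP2 ⟨q, hq, rfl⟩⟩ : Cy) ∈ (S1 : Subgroup Cy) := by
        rw [← hh]
        exact ⟨_, Subgroup.mem_subgroupOf.2 ⟨q, hq, rfl⟩, rfl⟩
      have h2 := Subgroup.mem_subgroupOf.1 h1
      rw [show (h : G) * g * q * ((h : G) * g)⁻¹ = (h : G) * (g * q * g⁻¹) * (h : G)⁻¹ by group]
      exact h2
    · rw [MonoidHom.map_zpowers]
      show zpowers ((h : G) * g * a * ((h : G) * g)⁻¹) = _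
      rw [show (h : G) * g * a * ((h : G) * g)⁻¹ = MulAut.conj (h : G) a' by
        rw [ha', MulAut.conj_apply]; group, ← MulEquiv.coe_toMonoidHom, ← MonoidHom.map_zpowers, hA',
        MonoidHom.map_zpowers]
      show zpowers ((h : G) * y * (h : G)⁻¹) = _
      rw [(mem_centralizer_singleton_iff.1 h.2 : (h : G) * y = y * h), mul_inv_cancel_right]
  -- the complement
  haveI hNn : (W.A.subgroupOf M).Normal := hker ▸ f.normal_ker
  have hN : Nat.card (W.A.subgroupOf M) = Nat.card W.A :=
    Nat.card_congr (subgroupOfEquivOfLe hAM).toEquiv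
  have hNi : (W.A.subgroupOf M).index = 60 := by
    have h := (W.A.subgroupOf M).index_mul_card
    rw [hN, hcardM, mul_comm (Nat.card W.A) 60] at h
    exact Nat.eq_of_mul_eq_mul_right Nat.card_pos h
  have hc60 : Nat.Coprime (Nat.card W.A) 60 := by
    have h4 : Nat.Coprime (Nat.card W.A) 4 := by
      rw [show (4 : ℕ) = 2 ^ 2 from rfl]
      exact (Nat.coprime_two_right.2 W.A_odd).pow_right 2
    simpa using h4.mul_right hcop
  obtain ⟨L, hLc⟩ := exists_right_complement'_of_coprime (N := W.A.subgroupOf M) (by rwa [hN, hNi])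
  have hLcard : Nat.card L = 60 := by
    have h := hLc.card_mul
    rw [hN, hcardM] at h
    exact Nat.eq_of_mul_eq_mul_left Nat.card_pos h
  have hfL : Function.Injective (f.comp L.subtype) := by
    rw [injective_iff_map_eq_one]
    intro x hx
    have h1 : (x : M) ∈ W.A.subgroupOf M := by rw [← hker]; exact hx
    exact Subtype.ext (Subgroup.disjoint_def.1 hLc.disjoint h1 x.2)
  let e : L ≃* A5 := MulEquiv.ofBijective _ ((Nat.bijective_iff_injective_and_card _).2
    ⟨hfL, by rw [hLcard, Nat.card_eq_fintype_card (α := A5)]; decide +kernel⟩)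
  have hLs : ∀ x : L, Commute ((x : M) : G) W.s := by
    have hperf : commutator L = ⊤ := by
      have hmap : (commutator L).map (e : L →* A5) = ⊤ := by
        rw [_root_.commutator_def, map_commutator, map_top_of_surjective _ e.surjective, ← _root_.commutator_def,
          Loc.alt5_perfect]
      exact eq_top_iff.2 fun x _ => by
        obtain ⟨y, hy, hyx⟩ : e x ∈ (commutator L).map (e : L →* A5) := hmap ▸ mem_top _
        rwa [← e.injective hyx]
    intro x
    refine mem_centralizer_singleton_iff.1 (mem_subgroupOf.1 (hcom ?_))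
    have hx : x ∈ commutator L := hperf ▸ mem_top x
    rw [_root_.commutator_def] at hx ⊢
    exact Subgroup.commutator_mono le_top le_top ((map_commutator ⊤ ⊤ L.subtype) ▸ Subgroup.mem_map_of_mem L.subtype hx)
  let lam : A5 →* G := M.subtype.comp (L.subtype.comp e.symm.toMonoidHom)
  have hlam : ∀ x, lam x ∈ M := fun x => ((e.symm x : L) : M).2
  let ι : W.A × A5 →* G := MonoidHom.noncommCoprod W.A.subtype lam fun b x =>
    (hcen _ (mem_centralizer_singleton_iff.1 (hlam x)) b b.2).symm
  have hι : ∀ m, ι m = (m.1 : G) * lam m.2 := fun m => rfl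
  have hmM : ∀ m, ι m ∈ M := fun m => mul_mem (hAM m.1.2) (hlam _)
  have hfι : ∀ m, f ⟨ι m, hmM m⟩ = m.2 := by
    intro m
    have h1 : (⟨(m.1 : G), hAM m.1.2⟩ : M) ∈ f.ker := by
      rw [hker, mem_subgroupOf]; exact m.1.2
    rw [show (⟨ι m, hmM m⟩ : M) = ⟨(m.1 : G), hAM m.1.2⟩ * ((e.symm m.2 : L) : M) from rfl, map_mul,
      MonoidHom.mem_ker.1 h1, one_mul]
    exact e.apply_symm_apply m.2
  have hinj : Function.Injective ι := by
    rw [injective_iff_map_eq_one]
    intro m hm
    have h2 : m.2 = 1 := by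
      rw [← hfι m, show (⟨ι m, hmM m⟩ : M) = 1 from Subtype.ext hm, map_one]
    refine Prod.ext (Subtype.ext ?_) h2
    rw [hι, h2, map_one, mul_one] at hm
    exact hm
  have hsurj : ∀ g ∈ M, ∃ m, ι m = g := by
    have hr : ι.range = M := by
      refine eq_of_le_of_card_ge (by rintro _ ⟨m, rfl⟩; exact hmM m) ?_
      rw [hcardM, ← Nat.card_congr (MonoidHom.ofInjective hinj).toEquiv, Nat.card_prod,
        show Nat.card A5 = 60 by rw [Nat.card_eq_fintype_card]; decide +kernel]
    intro g hg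
    exact MonoidHom.mem_range.1 (hr.symm ▸ hg)
  refine ⟨
    { ι := ι
      inj := hinj
      fst := fun b => by rw [hι]; simp
      cent := fun b hb g hg => hsurj g (hall b b.2 (fun e => hb (Subtype.ext e)) ▸
        mem_centralizer_singleton_iff.2 hg.eq)
      sc := fun m => ?_
      four := fun w => ?_
      zA := hzA
      power := ?_ }⟩
  · rw [hι, hι, show W.s * ((m.1 : G) * lam m.2) * W.s⁻¹ =
      W.s * (m.1 : G) * W.s⁻¹ * (W.s * lam m.2 * W.s⁻¹) by group, W.A_s _ m.1.2,
      show W.s * lam m.2 = lam m.2 * W.s from (hLs (e.symm m.2)).symm.eq, mul_inv_cancel_right]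
    rfl
  · have hwM : W.four w ∈ M := mem_centralizer_singleton_iff.2 (W.four_comm_A a haA w).symm.eq
    obtain ⟨⟨b, x⟩, hbx⟩ := hsurj _ hwM
    refine ⟨x, ?_⟩
    have h2 : ι ((b, x) * (b, x)) = ι 1 := by rw [map_mul, hbx, W.four_sq, map_one]
    have hb : b = 1 :=
      Subtype.ext (W.odd_part b.2 (congrArg Subtype.val (congrArg Prod.fst (hinj h2))))
    rw [← hb]; exact hbx
  · have hc30 : Nat.Coprime (Nat.card W.A) 30 := hc60.coprime_dvd_right (by norm_num)
    obtain ⟨k, hk1, hk2⟩ := Nat.chineseRemainder hc30 1 0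
    refine ⟨k, fun m => Prod.ext ?_ ?_⟩
    · show m.1 ^ k = m.1
      conv_rhs => rw [← pow_one m.1]
      exact pow_eq_pow_iff_modEq.2 (hk1.of_dvd (orderOf_dvd_natCard m.1))
    · show m.2 ^ k = 1
      obtain ⟨j, rfl⟩ : 30 ∣ k := Nat.modEq_zero_iff_dvd.1 hk2
      have h30 : ∀ x : A5, x ^ 30 = 1 := by decide +kernel
      rw [pow_mul, h30, one_pow]

end Cfsg.Agent.JT.Setup.Torus
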