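import Mathlib
import Cfsg.Agent.Lib.JT.FiveGroup

/-!
Without `A₅` the order of the torus is prime to three: an element of order three of the torus would be
conjugate to `z` inside the normalizer of the group they generate.
-/

set_option autoImplicit false
set_option linter.unusedSectionVars false
set_option linter.style.haveILetI false

namespace Cfsg.Agent.JT.Setup.Torus

open Subgroup
open scoped Pointwise

universe u v

local notation "Z₂" => Multiplicative (ZMod 2)

variable {G : Type u} [Group G] [Fintype G] {K : Type v} [Group K] [Fintype K] {H : Setup G K}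
  {D : KData K} (W : H.Torus D)

theorem emb_zB_pow (k : ℕ) (m : W.A × (Z₂ × Z₂)) :
    W.emb ((W.zB ^ k) m) = W.z ^ k * W.emb m * (W.z ^ k)⁻¹ := by
  induction k generalizing m with
  | zero => simp
  | succ n ih => rw [pow_succ, MulAut.mul_apply, ih, W.emb_zB, pow_succ]; group

theorem zB_pow_apply (k : ℕ) (m : W.A × (Z₂ × Z₂)) :
    (W.zB ^ k) m = ((⇑W.zA)^[k] m.1, (⇑rho)^[k] m.2) := by
  induction k generalizing m with
  | zero => simp
  | succ n ih => rw [pow_succ, MulAut.mul_apply, ih]; rfl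

theorem emb_fst (a : W.A) : W.emb (a, 1) = (a : G) := by
  rw [W.emb_apply, map_one, mul_one]

/-- The elements of order three of the cyclic torus. -/
theorem exists_pow_of_cube {a : W.A} (ha : orderOf a = 3) {b : W.A} (hb3 : b ^ 3 = 1) :
    ∃ k : ℕ, b = a ^ k := by
  classical
  haveI := W.A_cyclic
  have hle := IsCyclic.card_pow_eq_one_le (α := W.A) (n := 3) (by norm_num)
  have hsub : (Finset.range 3).image (a ^ ·) ⊆ Finset.univ.filter fun x : W.A => x ^ 3 = 1 := by
    intro x hx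
    obtain ⟨i, -, rfl⟩ := Finset.mem_image.1 hx
    refine Finset.mem_filter.2 ⟨Finset.mem_univ _, ?_⟩
    rw [← pow_mul, mul_comm, pow_mul, ← ha, pow_orderOf_eq_one, one_pow]
  have hc : ((Finset.range 3).image (a ^ ·)).card = 3 := by
    rw [Finset.card_image_of_injOn, Finset.card_range]
    intro x hx y hy e
    exact pow_injOn_Iio_orderOf (x := a) (by simpa [ha] using hx) (by simpa [ha] using hy) e
  have := Finset.eq_of_subset_of_card_le hsub (hle.trans hc.ge)
  obtain ⟨k, -, hk⟩ := Finset.mem_image.1 (this.symm ▸ Finset.mem_filter.2 ⟨Finset.mem_univ b, hb3⟩)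
  exact ⟨k, hk.symm⟩

/-- The three-part of the centralizer of `t` lies in the torus. -/
theorem exists_conj_of_order_three {a : W.A} (ha : orderOf a = 3) {w : G} (hwC : w ∈ H.C)
    (hw : orderOf w = 3) : ∃ d : G, ∃ k : ℕ, w = d * (a : G) ^ k * d⁻¹ := by
  classical
  haveI := Fact.mk Nat.prime_three
  have h3 : 3 ∣ Nat.card W.A := ha ▸ orderOf_dvd_natCard a
  have hAC : W.A ≤ H.C := fun b hb => mem_centralizer_singleton_iff.2 (W.A_t b hb).eq
  have hfac : (Nat.card H.C).factorization 3 = (Nat.card W.A).factorization 3 := by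
    have hC : Nat.card H.C = D.Q.natAbs * ((D.Q - 1).natAbs * (D.Q + 1).natAbs) := by
      have h := congrArg Int.natAbs D.card
      simp only [Int.natAbs_mul, Int.natAbs_abs, Int.natAbs_natCast] at h
      rw [H.card_C, ← Int.natAbs_mul (D.Q - 1), show (D.Q - 1) * (D.Q + 1) = D.Q ^ 2 - 1 by ring, ← h]
      rfl
    obtain ⟨c, hc⟩ := h3
    have h4 := W.A_card
    have hQ : ¬ 3 ∣ D.Q.natAbs ∧ ¬ 3 ∣ (D.Q + 1).natAbs := by omega
    have hne : (D.Q - 1).natAbs ≠ 0 := by rw [← h4]; exact mul_ne_zero (by norm_num) Nat.card_pos.ne'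
    have hne' : D.Q.natAbs ≠ 0 ∧ (D.Q + 1).natAbs ≠ 0 := by
      have := D.Q_gt; omega
    rw [hC, Nat.factorization_mul hne'.1 (mul_ne_zero hne hne'.2), Nat.factorization_mul hne hne'.2,
      Finsupp.add_apply, Finsupp.add_apply, Nat.factorization_eq_zero_of_not_dvd hQ.1,
      Nat.factorization_eq_zero_of_not_dvd hQ.2, ← h4,
      Nat.factorization_mul (by norm_num) Nat.card_pos.ne', Finsupp.add_apply,
      Nat.factorization_eq_zero_of_not_dvd (show ¬ 3 ∣ 4 by norm_num)]
    simp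
  obtain ⟨R⟩ := (inferInstance : Nonempty (Sylow 3 W.A))
  let j : W.A →* H.C := Subgroup.inclusion hAC
  let R' : Sylow 3 H.C := Sylow.ofCard ((R : Subgroup W.A).map j) (by
    rw [Subgroup.card_map_of_injective (Subgroup.inclusion_injective hAC), R.card_eq_multiplicity,
      hfac])
  obtain ⟨P, hP⟩ := (IsPGroup.of_card (n := 1) (G := zpowers (⟨w, hwC⟩ : H.C)) (p := 3) (by
    rw [Nat.card_zpowers, Subgroup.orderOf_mk, hw, pow_one])).exists_le_sylow
  obtain ⟨d, hd⟩ := MulAction.exists_smul_eq H.C P R'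
  have hmem : d * (⟨w, hwC⟩ : H.C) * d⁻¹ ∈ (R' : Subgroup H.C) := by
    rw [← hd]
    exact ⟨_, hP (mem_zpowers _), rfl⟩
  obtain ⟨b, -, hb⟩ := hmem
  have hb' : (b : G) = (d : G) * w * (d : G)⁻¹ := congrArg Subtype.val hb
  have hb3 : b ^ 3 = 1 := Subtype.ext (by
    rw [Subgroup.coe_pow, hb', conj_pow, ← hw, pow_orderOf_eq_one, mul_one, mul_inv_cancel,
      Subgroup.coe_one])
  obtain ⟨k, hk⟩ := W.exists_pow_of_cube ha hb3
  refine ⟨(d : G)⁻¹, k, ?_⟩
  rw [← Subgroup.coe_pow, ← hk, hb']; group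

omit W in
theorem four_solve : ∀ i : Fin 3, i ≠ 0 → ∀ w : Z₂ × Z₂, ∃ u : Z₂ × Z₂, u * w * (⇑rho)^[i.val] u = 1 := by
  decide +kernel

/-- The order of the torus is prime to three. -/
theorem not_three_dvd (hL : H.Local) (hN : W.NoFive) : ¬ 3 ∣ Nat.card W.A := by
  classical
  intro h3
  haveI := Fact.mk Nat.prime_three
  obtain ⟨a, ha⟩ := exists_prime_orderOf_dvd_card' 3 h3
  have ha1 : a ≠ 1 := fun e => by simp [e] at ha
  have hao : orderOf (a : G) = 3 := by rw [Subgroup.orderOf_coe, ha]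
  have hfix : ∀ b : W.A, Commute W.z (b : G) := fun b =>
    mul_inv_eq_iff_eq_mul.1 (W.three h3 b b.2)
  have hza : Commute W.z (a : G) := hfix a
  have hA : ∀ b c : W.A, Commute (b : G) c := fun b c => by
    haveI := W.A_cyclic
    exact congrArg Subtype.val ((IsCyclic.commGroup (α := W.A)).mul_comm b c)
  -- `⟨z⟩` is conjugate to `⟨a⟩`
  obtain ⟨c, hc⟩ := isConj_iff.1 (hL.fused W.s W.s_two)
  have hzC : c⁻¹ * W.z * c ∈ H.C := by
    refine mem_centralizer_singleton_iff.2 ?_
    calc c⁻¹ * W.z * c * H.t = c⁻¹ * (W.z * (c * H.t * c⁻¹)) * c := by group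
      _ = c⁻¹ * (c * H.t * c⁻¹ * W.z) * c := by rw [hc, W.z_s.eq]
      _ = _ := by group
  obtain ⟨d, k, hk⟩ := W.exists_conj_of_order_three ha hzC (by
    rw [show c⁻¹ * W.z * c = MulAut.conj c⁻¹ W.z by simp, MulEquiv.orderOf_eq, W.z_three])
  set g₀ := c * d with hg₀
  have hzg : W.z = g₀ * (a : G) ^ k * g₀⁻¹ := by
    calc W.z = c * (c⁻¹ * W.z * c) * c⁻¹ := by group
      _ = _ := by rw [hk, hg₀]; group
  have hz1 : W.z ≠ 1 := fun e => by have := W.z_three; simp [e] at this
  have hk0 : (a : G) ^ k ≠ 1 := fun e => hz1 (by rw [hzg, e, mul_one, mul_inv_cancel])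
  obtain ⟨k', hk'⟩ : ∃ k' : ℕ, ((a : G) ^ k) ^ k' = a := by
    refine exists_pow_eq_self_of_coprime ?_
    rw [hao]
    refine ((Nat.Prime.coprime_iff_not_dvd Nat.prime_three).2 fun h => hk0 ?_).symm
    rwa [← orderOf_dvd_iff_pow_eq_one, hao]
  have hag : g₀ * (a : G) * g₀⁻¹ = W.z ^ k' := by rw [hzg, conj_pow, hk']
  -- the conjugate of `a` back in the centralizer of `a`
  set b := g₀⁻¹ * (a : G) * g₀ with hb
  have hab : Commute b (a : G) := by
    show _ = _
    calc b * a = g₀⁻¹ * ((a : G) * (g₀ * a * g₀⁻¹)) * g₀ := by rw [hb]; group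
      _ = g₀⁻¹ * ((g₀ * a * g₀⁻¹) * (a : G)) * g₀ := by rw [hag, (hza.pow_left k').symm.eq]
      _ = _ := by rw [hb]; group
  have hb3 : b ^ 3 = 1 := by
    rw [hb, show g₀⁻¹ * (a : G) * g₀ = g₀⁻¹ * a * g₀⁻¹⁻¹ by rw [inv_inv], conj_pow, ← hao,
      pow_orderOf_eq_one]
    group
  obtain ⟨⟨x, w⟩, i, hbi⟩ := W.cent_split hN ha1 hab
  rw [← pow_mod_orderOf W.z i, W.z_three] at hbi
  obtain ⟨i, hi'⟩ : ∃ i' : Fin 3, i'.val = i % 3 := ⟨⟨i % 3, Nat.mod_lt _ (by norm_num)⟩, rfl⟩
  rw [← hi'] at hbi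
  obtain ⟨m, hma, n, j, hmb⟩ : ∃ m : G, Commute m (a : G) ∧ ∃ n j : ℕ,
      m * b * m⁻¹ = (a : G) ^ n * W.z ^ j := by
    have hAa : ∀ y : W.A, y ^ 3 = 1 → ∃ n : ℕ, (y : G) = (a : G) ^ n := fun y hy => by
      obtain ⟨n, rfl⟩ := W.exists_pow_of_cube ha hy
      exact ⟨n, Subgroup.coe_pow _ _ _⟩
    by_cases hi : i = 0
    · subst hi
      simp only [Fin.val_zero, pow_zero, mul_one] at hbi
      have h3' : W.emb ((x, w) ^ 3) = W.emb 1 := by rw [map_pow, ← hbi, hb3, map_one]
      have hw : w = 1 := by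
        have := congrArg Prod.snd (W.emb_injective h3')
        revert this
        have : ∀ w : Z₂ × Z₂, w ^ 3 = 1 → w = 1 := by decide +kernel
        exact this w
      obtain ⟨n, hn⟩ := hAa x (congrArg Prod.fst (W.emb_injective h3'))
      exact ⟨1, Commute.one_left _, n, 0, by
        rw [one_mul, inv_one, mul_one, pow_zero, mul_one, hbi, hw, W.emb_fst, hn]⟩
    · obtain ⟨u, hu⟩ := four_solve i hi w
      refine ⟨W.four u, (W.four_comm_A a a.2 u).symm, ?_⟩
      have hconj : W.four u * b * (W.four u)⁻¹ = (x : G) * W.z ^ i.val := by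
        have e1 : W.four u = W.emb (1, u) := by rw [W.emb_apply]; simp
        have e2 : (W.four u)⁻¹ = W.four u := inv_eq_of_mul_eq_one_right (W.four_sq u)
        rw [e2, hbi, e1, ← mul_assoc, ← map_mul]
        calc W.emb ((1, u) * (x, w)) * W.z ^ i.val * W.emb (1, u)
            = W.emb ((1, u) * (x, w)) * (W.z ^ i.val * W.emb (1, u) * (W.z ^ i.val)⁻¹) *
              W.z ^ i.val := by group
          _ = _ := by
            rw [← W.emb_zB_pow, ← map_mul, W.zB_pow_apply]
            congr 1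
            rw [← W.emb_fst]
            congr 1
            refine Prod.ext ?_ hu
            show 1 * x * (⇑W.zA)^[i.val] 1 = x
            rw [Function.iterate_fixed (map_one W.zA), one_mul, mul_one]
      have hx3 : x ^ 3 = 1 := by
        have h := congrArg (· ^ 3) hconj
        simp only [conj_pow, hb3, mul_one, mul_inv_cancel] at h
        rw [(((hfix x).pow_left i.val).symm).mul_pow, ← pow_mul, mul_comm i.val, pow_mul,
          show W.z ^ 3 = 1 by rw [← W.z_three, pow_orderOf_eq_one], one_pow, mul_one] at h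
        exact Subtype.ext (by simpa using h.symm)
      obtain ⟨n, hn⟩ := hAa x hx3
      exact ⟨n, i.val, by rw [hconj, hn]⟩
  -- the swapping element
  set P := zpowers (a : G) ⊔ zpowers W.z
  set g := m * g₀⁻¹ with hg
  have hgz : g * W.z * g⁻¹ = (a : G) ^ k := by
    rw [hg, hzg]
    calc m * g₀⁻¹ * (g₀ * (a : G) ^ k * g₀⁻¹) * (m * g₀⁻¹)⁻¹ = m * (a : G) ^ k * m⁻¹ := by group
      _ = _ := by rw [(hma.pow_right k).eq, mul_inv_cancel_right]
  have hga : g * (a : G) * g⁻¹ = (a : G) ^ n * W.z ^ j := by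
    rw [← hmb, hg, hb]; group
  have hgP : g ∈ normalizer (P : Set G) := by
    refine mem_normalizer_iff_map_conj_eq.2 (eq_of_le_of_card_ge ?_
      (le_of_eq (Subgroup.card_map_of_injective (MulAut.conj g).injective).symm))
    rw [Subgroup.map_sup, MonoidHom.map_zpowers, MonoidHom.map_zpowers]
    refine sup_le (zpowers_le.2 ?_) (zpowers_le.2 ?_)
    · show g * (a : G) * g⁻¹ ∈ P
      rw [hga]
      exact mul_mem (mem_sup_left (pow_mem (mem_zpowers _) _)) (mem_sup_right (pow_mem (mem_zpowers _) _))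
    · show g * W.z * g⁻¹ ∈ P
      rw [hgz]
      exact mem_sup_left (pow_mem (mem_zpowers _) _)
  refine W.no_swap hL Nat.prime_three (by norm_num) hao W.z_three hza.symm (W.A_s a a.2) W.z_s.symm
    (inv_mem hgP) ?_
  rw [MonoidHom.map_zpowers]
  show zpowers (g⁻¹ * (a : G) * g⁻¹⁻¹) = _
  have h : g⁻¹ * (a : G) * g⁻¹⁻¹ = W.z ^ k' := by
    rw [← hk', ← conj_pow, ← hgz]; group
  rw [h]
  refine eq_of_le_of_card_ge (zpowers_le.2 (pow_mem (mem_zpowers _) _)) ?_
  rw [Nat.card_zpowers, Nat.card_zpowers, W.z_three, ← h, ← MulAut.conj_apply, MulEquiv.orderOf_eq, hao]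

end Cfsg.Agent.JT.Setup.Torus
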