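import Mathlib
import Cfsg.Agent.Lib.JT.TorusVal
import Cfsg.Agent.Lib.JT.FourFunsLocal

/-!
The group `(A × V) ⋊ ⟨z⟩`, its fusion and its inverting involutions.
-/

set_option autoImplicit false
set_option linter.unusedSectionVars false
set_option linter.style.haveILetI false

namespace Cfsg.Agent.JT

universe u v

local notation "Z₂" => Multiplicative (ZMod 2)
local notation "Z₃" => Multiplicative (ZMod 3)

/-- The homomorphism from a group of order three given by an element of cube one. -/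
noncomputable def pow3Hom {X : Type*} [Monoid X] (x : X) (h : x ^ 3 = 1) : Z₃ →* X where
  toFun a := x ^ (Multiplicative.toAdd a).val
  map_one' := by simp
  map_mul' a b := by
    rw [toAdd_mul, ZMod.val_add, ← pow_eq_pow_mod _ h, pow_add]

theorem pow3Hom_apply {X : Type*} [Monoid X] (x : X) (h : x ^ 3 = 1) (a : Z₃) :
    pow3Hom x h a = x ^ (Multiplicative.toAdd a).val := rfl

theorem z3_cube (r : Z₃) : r ^ 3 = 1 := by revert r; decide +kernel

theorem z3_inv (r : Z₃) (h : r = r⁻¹) : r = 1 := by revert r; decide +kernel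

theorem rho_cube_sum : ∀ r : Z₃, r ≠ 1 → ∀ w : Z₂ × Z₂,
    w * (⇑Setup.Torus.rho)^[(Multiplicative.toAdd r).val] w *
      (⇑Setup.Torus.rho)^[(Multiplicative.toAdd (r * r)).val] w = 1 := by
  decide +kernel

theorem z3_gen : ∀ k : ℕ, k < 3 → (Multiplicative.toAdd (Multiplicative.ofAdd (k : ZMod 3))).val = k := by
  decide +kernel

namespace Setup.Torus

variable {G : Type u} [Group G] [Fintype G] {K : Type v} [Group K] [Fintype K] {H : Setup G K}
  {D : KData K} (W : H.Torus D)

theorem z_cube : W.z ^ 3 = 1 := by rw [← W.z_three, pow_orderOf_eq_one]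

theorem zB_cube : W.zB ^ 3 = 1 := MulEquiv.ext fun m => W.emb_injective (by
  rw [W.emb_zB_pow, W.z_cube]; simp)

/-- The action on `A × V`. -/
noncomputable def zAct : Z₃ →* MulAut (W.A × (Z₂ × Z₂)) := pow3Hom W.zB W.zB_cube

/-- The group `(A × V) ⋊ ⟨z⟩`. -/
abbrev M4 : Type u := (W.A × (Z₂ × Z₂)) ⋊[W.zAct] Z₃

noncomputable instance fintypeM4 : Fintype W.M4 := Fintype.ofEquiv _ SemidirectProduct.equivProd.symm

theorem card_M4 : Nat.card W.M4 = 12 * Nat.card W.A := by
  rw [Nat.card_congr SemidirectProduct.equivProd, Nat.card_prod, W.card_B,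
    show Nat.card Z₃ = 3 by simp]
  ring

/-- The embedding. -/
noncomputable def emb4 : W.M4 →* G :=
  SemidirectProduct.lift W.emb (pow3Hom W.z W.z_cube) fun r => MonoidHom.ext fun n =>
    W.emb_zB_pow _ n

theorem emb4_apply (x : W.M4) :
    W.emb4 x = W.emb x.left * W.z ^ (Multiplicative.toAdd x.right).val := rfl

theorem emb4_inl (n : W.A × (Z₂ × Z₂)) : W.emb4 (SemidirectProduct.inl n) = W.emb n := by
  simp [emb4_apply]

theorem emb4_injective : Function.Injective W.emb4 := by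
  rw [injective_iff_map_eq_one]
  intro x h
  rw [W.emb4_apply, mul_eq_one_iff_eq_inv] at h
  have h1 : W.emb x.left⁻¹ = W.z ^ (Multiplicative.toAdd x.right).val := by rw [map_inv, h, inv_inv]
  have h2 := W.z_pow_range h1
  have h3 : (Multiplicative.toAdd x.right).val = 0 := by
    have h4 := orderOf_dvd_of_pow_eq_one h2
    rw [W.z_three] at h4
    exact Nat.eq_zero_of_dvd_of_lt h4 (ZMod.val_lt _)
  rw [h3, pow_zero, inv_one] at h
  refine SemidirectProduct.ext ?_ ?_
  · exact W.emb_injective (h.trans (map_one W.emb).symm)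
  · exact Multiplicative.toAdd.injective ((ZMod.val_eq_zero _).1 h3)

theorem emb4_conj (x : W.M4) :
    W.emb4 ⟨W.sB x.left, x.right⟩ = W.s * W.emb4 x * W.s⁻¹ := by
  have h := (W.z_s.pow_left (Multiplicative.toAdd x.right).val).inv_right
  rw [W.emb4_apply, W.emb4_apply, W.emb_sB, mul_assoc, ← h.eq]
  group

/-- The action of `s`. -/
noncomputable def sM : W.M4 ≃* W.M4 where
  toFun x := ⟨W.sB x.left, x.right⟩
  invFun x := ⟨W.sB.symm x.left, x.right⟩
  left_inv x := by ext <;> simp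
  right_inv x := by ext <;> simp
  map_mul' x y := W.emb4_injective (by
    rw [map_mul, W.emb4_conj, W.emb4_conj, W.emb4_conj, map_mul]; group)

theorem emb4_sM (x : W.M4) : W.emb4 (W.sM x) = W.s * W.emb4 x * W.s⁻¹ := W.emb4_conj x

/-- The representatives. -/
noncomputable def rep2 : Fin 2 → G := ![1, W.s]

/-- Their automorphisms. -/
noncomputable def act2 : Fin 2 → (W.M4 ≃* W.M4) := ![MulEquiv.refl _, W.sM]

theorem l_iterate {l : W.A →* ℂˣ} (hl : ∀ a, l (W.zA a) = l a) (k : ℕ) (a : W.A) :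
    l ((⇑W.zA)^[k] a) = l a := by
  induction k generalizing a with
  | zero => rfl
  | succ n ih => rw [Function.iterate_succ_apply, ih, hl]

/-- The extension of `l`. -/
noncomputable def lam {l : W.A →* ℂˣ} (hl : ∀ a, l (W.zA a) = l a) : W.M4 →* ℂˣ :=
  SemidirectProduct.lift (l.comp (MonoidHom.fst _ _)) 1 fun r => MonoidHom.ext fun n => by
    show l ((W.zB ^ (Multiplicative.toAdd r).val) n).1 = _
    rw [W.zB_pow_apply, W.l_iterate hl]
    simp

theorem lam_apply {l : W.A →* ℂˣ} (hl : ∀ a, l (W.zA a) = l a) (x : W.M4) :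
    W.lam hl x = l x.left.1 := by
  show l x.left.1 * (1 : Z₃ →* ℂˣ) x.right = _
  simp

theorem lam_sM {l : W.A →* ℂˣ} (hl : ∀ a, l (W.zA a) = l a) (x : W.M4) :
    W.lam hl (W.sM x) = (W.lam hl x)⁻¹ := by
  rw [W.lam_apply, W.lam_apply, ← map_inv]; rfl

/-- The support. -/
def supp4 {l : W.A →* ℂˣ} (hl : ∀ a, l (W.zA a) = l a) : Set W.M4 := {x | W.lam hl x ≠ 1}

theorem fst_ne_of_supp {l : W.A →* ℂˣ} (hl : ∀ a, l (W.zA a) = l a) {x : W.M4} (hx : x ∈ W.supp4 hl) :
    x.left.1 ≠ 1 := fun h => hx (by rw [W.lam_apply, h, map_one])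

/-- The cube lies in `A × V` and keeps a nontrivial torus part. -/
theorem exists_cube (h3 : ¬ 3 ∣ Nat.card W.A) {l : W.A →* ℂˣ} (hl : ∀ a, l (W.zA a) = l a) {x : W.M4}
    (hx : x ∈ W.supp4 hl) : ∃ b : W.A × (Z₂ × Z₂), b.1 ≠ 1 ∧ x ^ 3 = SemidirectProduct.inl b := by
  refine ⟨(x ^ 3).left, fun h => hx ?_, SemidirectProduct.ext rfl ?_⟩
  · have e1 : W.lam hl x ^ 3 = 1 := by rw [← map_pow, W.lam_apply, h, map_one]
    have e2 : W.lam hl x ^ Nat.card W.A = 1 := by
      rw [W.lam_apply, ← map_pow, pow_card_eq_one', map_one]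
    have e3 := pow_gcd_eq_one.2 ⟨e1, e2⟩
    rwa [(Nat.Prime.coprime_iff_not_dvd Nat.prime_three).2 h3, pow_one] at e3
  · rw [SemidirectProduct.right_inl, ← SemidirectProduct.rightHom_eq_right, map_pow]
    exact z3_cube _

/-- Outside `A × V` the cube lies in the torus. -/
theorem cube_outside {x : W.M4} (hx : x.right ≠ 1) : ∃ a : W.A, W.emb4 x ^ 3 = (a : G) := by
  refine ⟨(x ^ 3).left.1, ?_⟩
  have hr : (x ^ 3).right = 1 := by
    rw [← SemidirectProduct.rightHom_eq_right, map_pow]; exact z3_cube _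
  have hw : (x ^ 3).left.2 = 1 := by
    rw [pow_succ, pow_two, SemidirectProduct.mul_left, SemidirectProduct.mul_left, Prod.snd_mul,
      Prod.snd_mul, SemidirectProduct.mul_right]
    show x.left.2 * ((W.zB ^ (Multiplicative.toAdd x.right).val) x.left).2 *
      ((W.zB ^ (Multiplicative.toAdd (x.right * x.right)).val) x.left).2 = 1
    rw [W.zB_pow_apply, W.zB_pow_apply]
    exact rho_cube_sum _ hx _
  rw [← map_pow, W.emb4_apply, hr, W.emb_apply, hw]
  simp

theorem odd_order_outside {x : W.M4} (hx : x.right ≠ 1) : Odd (orderOf (W.emb4 x)) := by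
  obtain ⟨a, ha⟩ := W.cube_outside hx
  refine ((show Odd 3 by decide).mul W.A_odd).of_dvd_nat (orderOf_dvd_of_pow_eq_one ?_)
  rw [pow_mul, ha, ← Subgroup.coe_pow, pow_card_eq_one', Subgroup.coe_one]

/-- A common power of the supported elements lands in the torus. -/
theorem exists_pow (h3 : ¬ 3 ∣ Nat.card W.A) {l : W.A →* ℂˣ} (hl : ∀ a, l (W.zA a) = l a) {x : W.M4}
    (hx : x ∈ W.supp4 hl) : ∃ a : W.A, a ≠ 1 ∧ W.emb4 x ^ (3 * (Nat.card W.A + 1)) = (a : G) := by
  obtain ⟨b, hb, he⟩ := W.exists_cube h3 hl hx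
  exact ⟨b.1, hb, by rw [pow_mul, ← map_pow, he, W.emb4_inl, W.pow_eq]⟩

theorem fusion4 (hL : H.Local) (hN : W.NoFive) {l : W.A →* ℂˣ} (hl : ∀ a, l (W.zA a) = l a) :
    Embed.Fusion W.emb4 W.rep2 W.act2 (W.supp4 hl) where
  act i m := by
    fin_cases i
    · simp [rep2, act2]
    · exact W.emb4_sM m
  stable i m hm := by
    fin_cases i
    · exact hm
    · show W.lam hl (W.sM m) ≠ 1
      rw [W.lam_sM, inv_ne_one]; exact hm
  inner m m' hm := by
    show W.lam hl (m' * m * m'⁻¹) ≠ 1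
    rwa [map_mul, map_mul, map_inv, mul_inv_cancel_comm]
  coset m hm g := by
    rintro ⟨m', hm', he⟩
    have h3 := W.not_three_dvd hL hN
    obtain ⟨a, ha, hae⟩ := W.exists_pow h3 hl hm
    obtain ⟨a', ha', hae'⟩ := W.exists_pow h3 hl hm'
    have hc : g * W.emb (a, 1) * g⁻¹ = W.emb (a', 1) := by
      rw [W.emb_fst, W.emb_fst, ← hae, ← hae', ← he, conj_pow]
    obtain ⟨i, y, hy⟩ := (W.fusion hL hN).coset (a, 1) ha g ⟨(a', 1), ha', hc⟩
    refine ⟨⟨i.val % 2, Nat.mod_lt _ (by norm_num)⟩,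
      ⟨1, Multiplicative.ofAdd ((i.val / 2 : ℕ) : ZMod 3)⟩ * SemidirectProduct.inl y, ?_⟩
    have hr : W.rep2 ⟨i.val % 2, Nat.mod_lt _ (by norm_num)⟩ = W.s ^ (i.val % 2) := by
      rcases Nat.mod_two_eq_zero_or_one i.val with h | h <;> simp [rep2, h]
    rw [hy, hr, map_mul, W.emb4_inl, W.emb4_apply, z3_gen _ (by omega), map_one, one_mul, ← mul_assoc,
      rep, (W.z_s.pow_pow _ _).eq]
  disjoint i j x h := by
    have key : W.emb4 x ≠ W.s := fun e => by
      have h2 : W.emb4 (x * x) = W.emb4 1 := by rw [map_mul, e, W.ss, map_one]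
      have hr : x.right = 1 := by
        have := congrArg SemidirectProduct.right (W.emb4_injective h2)
        rw [SemidirectProduct.mul_right, SemidirectProduct.one_right] at this
        exact z3_inv _ (eq_inv_of_mul_eq_one_left this)
      rw [W.emb4_apply, hr] at e
      simp only [toAdd_one, ZMod.val_zero, pow_zero, mul_one] at e
      have h4 : W.emb (x.left * x.left) = W.emb 1 := by rw [map_mul, e, W.ss, map_one]
      apply W.s_notMem
      rw [← e, W.emb_apply,
        W.odd_part x.left.1.2 (congrArg Subtype.val (congrArg Prod.fst (W.emb_injective h4))), one_mul]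
      exact W.four_mem _
    fin_cases i <;> fin_cases j <;> simp [rep2] at h ⊢
    · exact key h.symm
    · exact key (by rw [← h, inv_eq_of_mul_eq_one_left W.ss])

/-- No involution inverts a supported element outside `A × V`. -/
theorem pairCount_outside (hL : H.Local) (hN : W.NoFive) {l : W.A →* ℂˣ} (hl : ∀ a, l (W.zA a) = l a)
    {x : W.M4} (hx : x ∈ W.supp4 hl) (hr : x.right ≠ 1) : pairCount H.t (W.emb4 x) = 0 := by
  obtain ⟨a, ha, hae⟩ := W.exists_pow (W.not_three_dvd hL hN) hl hx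
  rw [pairCount, Nat.card_eq_zero]
  refine Or.inl ⟨fun ⟨y, hy1, hy2⟩ => ?_⟩
  rw [H.isConj_iff_two hL] at hy1 hy2
  have e1 := sq_of_two hy1
  have e2 := sq_of_two hy2
  have hyinv : y * W.emb4 x * y⁻¹ = (W.emb4 x)⁻¹ := by
    rw [inv_eq_of_mul_eq_one_left e1]
    exact eq_inv_of_mul_eq_one_left (by simpa [mul_assoc] using e2)
  have hya : y * (a : G) * y⁻¹ = (a : G)⁻¹ := by rw [← hae, ← conj_pow, hyinv, inv_pow]
  have hc : Commute (W.s * y) (a : G) := by
    show _ = _
    calc W.s * y * a = W.s * (y * a * y⁻¹) * y := by group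
      _ = W.s * (a : G)⁻¹ * W.s⁻¹ * (W.s * y) := by rw [hya]; group
      _ = _ := by rw [W.A_s _ (inv_mem a.2), inv_inv]
  obtain ⟨u, hu⟩ := W.inverter hN (m := (a, 1)) ha hc e1
  have hy : y = W.s * W.emb u := by rw [hu, ← mul_assoc, W.ss, one_mul]
  have h : W.emb4 (W.sM (SemidirectProduct.inl u * x * (SemidirectProduct.inl u)⁻¹)) = W.emb4 x⁻¹ := by
    rw [W.emb4_sM, map_mul, map_mul, map_inv, map_inv, W.emb4_inl, ← hyinv, hy]; group
  have h' := congrArg SemidirectProduct.right (W.emb4_injective h)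
  refine hr (z3_inv _ ?_)
  show x.right = x.right⁻¹
  rw [← SemidirectProduct.inv_right, ← h']
  show x.right = (SemidirectProduct.inl u * x * (SemidirectProduct.inl u)⁻¹ : W.M4).right
  simp

end Setup.Torus

end Cfsg.Agent.JT
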