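import Mathlib
import Cfsg.Agent.Lib.JT.FourFunsGroup

/-!
The functions induced from `(1 - l) ω ^ j` on `(A × V) ⋊ ⟨z⟩`: piece FOUR.
-/

set_option autoImplicit false
set_option linter.unusedSectionVars false
set_option linter.style.haveILetI false

namespace Cfsg.Agent.JT

open Cfsg.Agent.Characters Cfsg.Agent.CharTheory.IndBasic
open scoped ComplexConjugate

universe u v

local notation "Z₂" => Multiplicative (ZMod 2)
local notation "Z₃" => Multiplicative (ZMod 3)

theorem conj_unit_hom {M : Type*} [Group M] [Finite M] (f : M →* ℂˣ) (m : M) :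
    conj (f m : ℂ) = ((f m)⁻¹ : ℂˣ) := by
  have h : (f m : ℂ) ^ Nat.card M = 1 := by
    rw [← Units.val_pow_eq_pow_val, ← map_pow, pow_card_eq_one', map_one, Units.val_one]
  rw [Units.val_inv_eq_inv_val, Complex.inv_eq_conj (Complex.norm_eq_one_of_pow_eq_one h Nat.card_pos.ne')]

/-- A primitive cube root of unity. -/
noncomputable def omega : ℂˣ :=
  Units.mk0 (Complex.exp (2 * Real.pi * Complex.I / 3)) (Complex.exp_ne_zero _)

theorem omega_prim : IsPrimitiveRoot omega 3 := by
  rw [← IsPrimitiveRoot.coe_units_iff]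
  simpa [omega] using Complex.isPrimitiveRoot_exp 3 (by norm_num)

theorem omega_cube (j : Fin 3) : (omega ^ j.val) ^ 3 = 1 := by
  rw [← pow_mul, mul_comm, pow_mul, omega_prim.pow_eq_one, one_pow]

/-- The three characters of the group of order three. -/
noncomputable def cubeChar (j : Fin 3) : Z₃ →* ℂˣ := pow3Hom (omega ^ j.val) (omega_cube j)

theorem cubeChar_gen (j : Fin 3) : cubeChar j (Multiplicative.ofAdd 1) = omega ^ j.val := by
  rw [cubeChar, pow3Hom_apply, show (Multiplicative.toAdd (Multiplicative.ofAdd (1 : ZMod 3))).val = 1 from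
    by decide +kernel, pow_one]

theorem cubeChar_injective : Function.Injective cubeChar := fun i j h => by
  have := DFunLike.congr_fun h (Multiplicative.ofAdd 1)
  rw [cubeChar_gen, cubeChar_gen] at this
  exact Fin.ext (omega_prim.pow_inj i.2 j.2 this)

theorem cubeChar_zero : cubeChar 0 = 1 := by ext r; simp [cubeChar, pow3Hom_apply]

theorem cubeChar_neg (j : Fin 3) (r : Z₃) : cubeChar (-j) r = (cubeChar j r)⁻¹ := by
  refine eq_inv_of_mul_eq_one_left ?_
  simp only [cubeChar, pow3Hom_apply, ← pow_mul, ← pow_add, ← add_mul]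
  have h : (-j).val + j.val = 0 ∨ (-j).val + j.val = 3 := by revert j; decide
  rcases h with h | h <;> simp [h, pow_mul, omega_prim.pow_eq_one]

theorem cubeChar_sum (r : Z₃) (hr : r ≠ 1) :
    (cubeChar 0 r : ℂ) + cubeChar 1 r + cubeChar 2 r = 0 := by
  have h := (IsPrimitiveRoot.coe_units_iff.2 omega_prim).geom_sum_eq_zero (by norm_num)
  simp only [Finset.sum_range_succ, Finset.sum_range_zero, zero_add, pow_zero, pow_one] at h
  have h3 : (omega : ℂ) ^ 3 = 1 := (IsPrimitiveRoot.coe_units_iff.2 omega_prim).pow_eq_one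
  have : r = Multiplicative.ofAdd 1 ∨ r = Multiplicative.ofAdd 2 := by revert r; decide +kernel
  rcases this with rfl | rfl <;>
    simp only [cubeChar, pow3Hom_apply, Units.val_pow_eq_pow_val, toAdd_ofAdd]
  · rw [show (1 : ZMod 3).val = 1 from rfl]; simp; linear_combination h
  · rw [show (2 : ZMod 3).val = 2 from rfl]; simp; linear_combination h + (omega : ℂ) * h3

namespace Embed

variable {G : Type u} [Group G] [Fintype G] {M : Type v} [Group M] [Fintype M]
  {ι : M →* G} (hι : Function.Injective ι)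

include hι

theorem ext_apply (φ : M → ℂ) (m : M) :
    Cfsg.extendByZero ι.range (fun x => φ ((MonoidHom.ofInjective hι).symm x)) (ι m) = φ m := by
  rw [extendByZero_of_mem _ _ (MonoidHom.mem_range.2 ⟨m, rfl⟩)]
  exact congrArg φ ((MonoidHom.ofInjective hι).symm_apply_apply m)

/-- An automorphism realised in `G` does not change the induced function. -/
theorem indHom_comp_act (φ : M → ℂ) (c : M ≃* M) (r : G) (hc : ∀ m, ι (c m) = r * ι m * r⁻¹) (g : G) :
    indHom hι (fun m => φ (c m)) g = indHom hι φ g := by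
  rw [indHom, indHom, Cfsg.indFun, Cfsg.indFun]
  congr 1
  refine Fintype.sum_equiv (Equiv.mulRight r⁻¹) _ _ fun x => ?_
  rw [Equiv.coe_mulRight, show (x * r⁻¹)⁻¹ * g * (x * r⁻¹) = r * (x⁻¹ * g * x) * r⁻¹ by group]
  by_cases h : x⁻¹ * g * x ∈ ι.range
  · obtain ⟨m, hm⟩ := h
    rw [← hm, ← hc, ext_apply hι (fun m => φ (c m)), ext_apply hι φ]
  · rw [extendByZero_of_notMem _ _ h, extendByZero_of_notMem]
    rintro ⟨m, hm⟩
    refine h ⟨c.symm m, ?_⟩
    rw [← c.apply_symm_apply m, hc] at hm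
    exact mul_left_cancel (mul_right_cancel hm)

theorem indHom_conj (φ : M → ℂ) (g : G) :
    conj (indHom hι φ g) = indHom hι (fun m => conj (φ m)) g := by
  simp only [indHom, Cfsg.indFun, map_mul, map_sum, map_inv₀, map_natCast]
  congr 1
  refine Finset.sum_congr rfl fun x _ => ?_
  by_cases h : x⁻¹ * g * x ∈ ι.range
  · rw [extendByZero_of_mem _ _ h, extendByZero_of_mem _ _ h]
  · rw [extendByZero_of_notMem _ _ h, extendByZero_of_notMem _ _ h, map_zero]

end Embed

namespace Setup.Torus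

variable {G : Type u} [Group G] [Fintype G] {K : Type v} [Group K] [Fintype K] {H : Setup G K}
  {D : KData K} (W : H.Torus D)

/-- The character `ω ^ j` of the quotient. -/
noncomputable def chi (j : Fin 3) : W.M4 →* ℂˣ := (cubeChar j).comp SemidirectProduct.rightHom

/-- The function on `(A × V) ⋊ ⟨z⟩`. -/
noncomputable def phi4 {l : W.A →* ℂˣ} (hl : ∀ a, l (W.zA a) = l a) (j : Fin 3) : W.M4 → ℂ :=
  (fun x => (W.chi j x : ℂ)) - fun x => ((W.lam hl * W.chi j) x : ℂ)

/-- The induced function. -/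
noncomputable def fn4 {l : W.A →* ℂˣ} (hl : ∀ a, l (W.zA a) = l a) (j : Fin 3) : G → ℂ :=
  Embed.indHom W.emb4_injective (W.phi4 hl j)

variable {l : W.A →* ℂˣ} (hl : ∀ a, l (W.zA a) = l a)

theorem phi4_apply (j : Fin 3) (x : W.M4) :
    W.phi4 hl j x = (1 - (W.lam hl x : ℂ)) * (cubeChar j x.right : ℂ) := by
  simp [phi4, chi, sub_mul]

theorem phi4_inl (j : Fin 3) (n : W.A × (Z₂ × Z₂)) :
    W.phi4 hl j (SemidirectProduct.inl n) = W.phi l false n := by
  simp [phi4_apply, lam_apply, phi, mu]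

theorem phi4_supp (j : Fin 3) (x : W.M4) (hx : x ∉ W.supp4 hl) : W.phi4 hl j x = 0 := by
  rw [W.phi4_apply, show W.lam hl x = 1 from not_not.1 hx]; simp

theorem isGen_phi4 (j : Fin 3) : Cfsg.IsGeneralizedCharacter W.M4 (W.phi4 hl j) :=
  isGen_sub (isGen_of_isCharacter (isCharacter_linear (W.chi j)))
    (isGen_of_isCharacter (isCharacter_linear (W.lam hl * W.chi j)))

theorem chi_eq_iff (j k : Fin 3) : W.chi j = W.chi k ↔ j = k := by
  refine ⟨fun h => cubeChar_injective (MonoidHom.ext fun r => ?_), fun h => h ▸ rfl⟩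
  simpa [chi] using DFunLike.congr_fun h (SemidirectProduct.inr r)

theorem restr_l (hl1 : l ≠ 1) (μ : W.A →* ℂˣ) (hμ : μ ≠ 1) (α : W.M4 →* ℂˣ)
    (hα : ∀ a : W.A, α (SemidirectProduct.inl (a, 1)) = μ a) (j k : Fin 3) : α * W.chi j ≠ W.chi k := by
  intro h
  refine hμ (MonoidHom.ext fun a => ?_)
  simpa [chi, hα] using DFunLike.congr_fun h (SemidirectProduct.inl (a, 1))

theorem lam_inl (a : W.A) : W.lam hl (SemidirectProduct.inl (a, 1)) = l a := by
  rw [W.lam_apply]; rfl

theorem inner_fn4 (hL : H.Local) (hN : W.NoFive) (hl1 : l ≠ 1) (j k : Fin 3) :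
    Cfsg.classInner (W.fn4 hl j) (W.fn4 hl k) = if j = k then 3 else 0 := by
  classical
  rw [fn4, fn4, Embed.inner_indHom_indHom W.emb4_injective (W.fusion4 hL hN hl)
    (isGen_isClassFunction (W.isGen_phi4 hl k)) (W.phi4_supp hl j) (W.phi4_supp hl k),
    Fin.sum_univ_two]
  have hinv : ∀ x, W.phi4 hl k (W.sM x) = (W.chi k x : ℂ) - (((W.lam hl)⁻¹ * W.chi k) x : ℂ) := fun x => by
    simp only [phi4, Pi.sub_apply, MonoidHom.mul_apply, W.lam_sM, MonoidHom.inv_apply]
    rfl
  have e1 : (fun x => W.phi4 hl k (W.act2 1 x)) =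
      (fun x => (W.chi k x : ℂ)) - fun x => (((W.lam hl)⁻¹ * W.chi k) x : ℂ) := funext hinv
  rw [show (fun x => W.phi4 hl k (W.act2 0 x)) = W.phi4 hl k from rfl, e1]
  simp only [phi4, classInner_sub_left, classInner_sub_right, inner_lin]
  have hli : ∀ a, (W.lam hl)⁻¹ (SemidirectProduct.inl (a, 1)) = l⁻¹ a := fun a => by
    simp [W.lam_inl hl]
  have hl2 : l * l ≠ 1 := fun h => hl1 (MonoidHom.ext fun a => by
    have h1 : l a * l a = 1 := DFunLike.congr_fun h a
    have h2 : l a ^ Nat.card W.A = 1 := by rw [← map_pow, pow_card_eq_one', map_one]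
    obtain ⟨c, hc⟩ := W.A_odd
    rw [hc, pow_succ, pow_mul, sq, h1, one_pow, one_mul] at h2
    simpa using h2)
  have hll : ∀ a, (W.lam hl * W.lam hl) (SemidirectProduct.inl (a, 1)) = (l * l) a := fun a => by
    simp [W.lam_inl hl]
  have n1 := W.restr_l hl1 l hl1 (W.lam hl) (W.lam_inl hl)
  have n2 := W.restr_l hl1 l⁻¹ (fun h => hl1 (MonoidHom.ext fun a => by simpa using DFunLike.congr_fun h a)) (W.lam hl)⁻¹ hli
  have n3 : W.lam hl * W.chi j ≠ (W.lam hl)⁻¹ * W.chi k := fun h => W.restr_l hl1 (l * l) hl2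
    (W.lam hl * W.lam hl) hll j k (MonoidHom.ext fun x => by
      have h' := DFunLike.congr_fun h x
      simp only [MonoidHom.mul_apply, MonoidHom.inv_apply] at h' ⊢
      rw [mul_assoc, h', mul_inv_cancel_left])
  simp only [mul_right_inj, W.chi_eq_iff, n1 j k, Ne.symm (n1 k j), Ne.symm (n2 k j), n3, if_false]
  split_ifs <;> norm_num

theorem sum_M4 (f : W.M4 → ℂ) (hf : ∀ x, x.right ≠ 1 → f x = 0) :
    ∑ x, f x = ∑ n : W.A × (Z₂ × Z₂), f (SemidirectProduct.inl n) := by
  refine (Fintype.sum_of_injective SemidirectProduct.inl SemidirectProduct.inl_injective _ _ ?_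
    fun _ => rfl).symm
  intro x hx
  refine hf x fun h => hx ⟨x.left, ?_⟩
  exact SemidirectProduct.ext rfl h.symm

theorem inner_triv4 (hl1 : l ≠ 1) (j : Fin 3) :
    Cfsg.classInner (W.fn4 hl j) (fun _ => 1) = if j = 0 then 1 else 0 := by
  classical
  have h0 : W.chi 0 = 1 := by rw [chi, cubeChar_zero]; rfl
  have e : (fun _ => 1 : W.M4 → ℂ) = fun x => (W.chi 0 x : ℂ) := by funext x; simp [h0]
  rw [fn4, Embed.inner_indHom W.emb4_injective _ (fun _ _ => rfl)]
  have := classInner_def (W.phi4 hl j) (fun _ => 1)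
  rw [← this, e, phi4, classInner_sub_left, inner_lin, inner_lin,
    if_neg (W.restr_l hl1 l hl1 (W.lam hl) (W.lam_inl hl) j 0)]
  simp [W.chi_eq_iff]

theorem ind_odd_zero (hL : H.Local) (i : Fin 3) {g : G} (hg : Odd (orderOf g)) :
    H.ind (D.θ i) g = 0 := by
  refine ZStar.Induce.indFun_eq_zero (H.vanishOff (D.θ_even i)) _ fun x hx => ?_
  obtain ⟨k, hk, he⟩ := hx
  have h1 := H.pow_card hL k hk (hk.mul hg) (dvd_mul_right _ _)
  rw [← he, mul_comm (orderOf k), show x⁻¹ * g * x = x⁻¹ * g * x⁻¹⁻¹ by rw [inv_inv], conj_pow, pow_mul,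
    pow_orderOf_eq_one, one_pow] at h1
  simp only [mul_one, mul_inv_cancel] at h1
  simpa [← h1, orderOf_one] using H.ht

theorem inner_theta4 (hL : H.Local) (hl1 : l ≠ 1) (j i : Fin 3) :
    Cfsg.classInner (W.fn4 hl j) (H.ind (D.θ i)) = if i = 2 then 0 else 1 := by
  rw [fn4, Embed.inner_indHom W.emb4_injective _ (isGen_isClassFunction (H.isGen_ind (D.θ_gen i))),
    W.sum_M4 _ fun x hx => by rw [ind_odd_zero hL i (W.odd_order_outside hx), map_zero, mul_zero]]
  simp only [W.phi4_inl, W.emb4_inl]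
  rw [W.sum_phi hl1 false _ (fun w => (if w = 1 then 0 else 1) * (if i = 2 then 0 else 4))
      fun m hm => by rw [W.ind_on_torus hL i m hm]; split_ifs <;> simp [Complex.conj_ofNat],
    show ∑ w : Z₂ × Z₂, (mu false w : ℂ) * ((if w = 1 then 0 else 1) * (if i = 2 then 0 else 4)) =
    (∑ w : Z₂ × Z₂, (mu false w : ℂ) * (if w = 1 then 0 else 1)) * (if i = 2 then 0 else 4) by
    rw [Finset.sum_mul]; simp only [mul_assoc], sum_mu_ne, W.card_M4]
  have hA : (Nat.card W.A : ℂ) ≠ 0 := natCard_ne_zero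
  push_cast
  split_ifs <;> simp_all <;> field_simp <;> norm_num

theorem recip4 [Fintype (Cfsg.IrrCharacter G)] (hL : H.Local) (hN : W.NoFive) (hl1 : l ≠ 1) (j : Fin 3) :
    (Nat.card G : ℂ) * ∑ χ, (coef (W.fn4 hl j) χ : ℂ) * ((χ : G → ℂ) H.t) ^ 2 / (χ : G → ℂ) 1 =
      (Nat.card H.C : ℂ) ^ 2 * ((Nat.card W.A : ℂ) * (4 / 3)) := by
  rw [fn4, Embed.recip W.emb4_injective _ (W.isGen_phi4 hl j) W.tt, W.card_M4,
    W.sum_M4 _ fun x hx => by
      by_cases h : x ∈ W.supp4 hl
      · rw [W.pairCount_outside hL hN hl h hx, Nat.cast_zero, mul_zero]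
      · rw [W.phi4_supp hl j x h, zero_mul]]
  simp only [W.phi4_inl, W.emb4_inl]
  rw [W.sum_phi hl1 false (fun m => (pairCount H.t (W.emb m) : ℂ)) (fun _ => ((4 * Nat.card W.A : ℕ) : ℂ))
      fun m hm => by rw [W.pairCount_emb hL hN hm], ← Finset.sum_mul, sum_mu]
  have hA : (Nat.card W.A : ℂ) ≠ 0 := natCard_ne_zero
  push_cast
  field_simp
  ring

theorem fn4_one (j : Fin 3) : W.fn4 hl j 1 = 0 := by
  rw [fn4, Embed.indHom_one, W.phi4_supp hl j 1 (by simp [supp4]), mul_zero]

theorem fn4_t (j : Fin 3) : W.fn4 hl j H.t = 0 := by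
  refine Embed.indHom_zero _ _ _ fun m hm x h => hm (W.phi4_supp hl j m fun hs => hs ?_)
  have h2 : W.emb4 (m * m) = W.emb4 1 := by
    rw [map_mul, ← h, map_one, show x⁻¹ * H.t * x * (x⁻¹ * H.t * x) = x⁻¹ * (H.t * H.t) * x by group,
      W.tt]
    simp
  have h3 : W.lam hl m * W.lam hl m = 1 := by rw [← map_mul, W.emb4_injective h2, map_one]
  have h4 : W.lam hl m ^ Nat.card W.A = 1 := by rw [W.lam_apply, ← map_pow, pow_card_eq_one', map_one]
  obtain ⟨c, hc⟩ := W.A_odd
  rw [hc, pow_succ, pow_mul, sq, h3, one_pow, one_mul] at h4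
  exact h4

theorem inner_true4 (hL : H.Local) (hN : W.NoFive) (j : Fin 3) :
    Cfsg.classInner (W.fn4 hl j) (W.fn l true) = 0 := by
  classical
  rw [classInner_conj_symm, fn, Embed.inner_indHom W.emb_injective _ (ψ := W.fn4 hl j)
    (isGen_isClassFunction (Embed.isGen_indHom _ (W.isGen_phi4 hl j)))]
  have hval : ∀ n : W.A × (Z₂ × Z₂), W.phi l true n * conj (W.fn4 hl j (W.emb n)) =
      (1 - (l n.1 : ℂ)) * conj ((1 - (l n.1 : ℂ)) + (1 - ((l n.1)⁻¹ : ℂˣ))) * (mu true n.2 : ℂ) := by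
    intro n
    by_cases hn : SemidirectProduct.inl n ∈ W.supp4 hl
    · rw [fn4, ← W.emb4_inl, Embed.indHom_apply W.emb4_injective (W.fusion4 hL hN hl)
        (isGen_isClassFunction (W.isGen_phi4 hl j)) (W.phi4_supp hl j) hn, Fin.sum_univ_two]
      have e0 : W.phi4 hl j (W.act2 0 (SemidirectProduct.inl n)) = 1 - (l n.1 : ℂ) := by
        simp [act2, phi4_apply, lam_apply]
      have e1 : W.phi4 hl j (W.act2 1 (SemidirectProduct.inl n)) = 1 - ((l n.1)⁻¹ : ℂˣ) := by
        rw [W.phi4_apply, show W.act2 1 = W.sM from rfl, W.lam_sM, W.lam_apply]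
        simp [sM]
      rw [e0, e1, phi]; ring
    · have h1 : l n.1 = 1 := by simpa [supp4, W.lam_apply] using hn
      simp [phi, h1]
  rw [Finset.sum_congr rfl fun n _ => hval n, Fintype.sum_prod_type]
  simp only [← Finset.mul_sum, sum_mu]
  simp

theorem conj_fn4 (j : Fin 3) (g : G) : conj (W.fn4 hl j g) = W.fn4 hl (-j) g := by
  rw [fn4, fn4, Embed.indHom_conj, ← Embed.indHom_comp_act W.emb4_injective (W.phi4 hl (-j)) W.sM W.s
    W.emb4_sM g]
  congr 2
  funext x
  rw [W.phi4_apply, W.phi4_apply, W.lam_sM, map_mul, map_sub, map_one, conj_unit_hom, conj_unit_hom,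
    show (W.sM x).right = x.right from rfl, cubeChar_neg]

theorem sum_fn4 (g : G) : W.fn l false g = W.fn4 hl 0 g + W.fn4 hl 1 g + W.fn4 hl 2 g := by
  classical
  simp only [fn, fn4, Embed.indHom, Cfsg.indFun, Embed.card_range W.emb_injective,
    Embed.card_range W.emb4_injective, W.card_B, W.card_M4, ← mul_add, ← Finset.sum_add_distrib]
  have hA : (Nat.card W.A : ℂ) ≠ 0 := natCard_ne_zero
  push_cast
  rw [Finset.mul_sum, Finset.mul_sum]
  refine Finset.sum_congr rfl fun x _ => ?_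
  generalize x⁻¹ * g * x = y
  by_cases hy : y ∈ W.emb4.range
  · obtain ⟨m, rfl⟩ := hy
    rw [Embed.ext_apply W.emb4_injective, Embed.ext_apply W.emb4_injective,
      Embed.ext_apply W.emb4_injective, W.phi4_apply, W.phi4_apply, W.phi4_apply, ← mul_add, ← mul_add]
    by_cases hr : m.right = 1
    · have hm : m = SemidirectProduct.inl m.left := SemidirectProduct.ext rfl hr
      have hval : W.emb4 m = W.emb m.left := by conv_lhs => rw [hm, W.emb4_inl]
      rw [hval, Embed.ext_apply W.emb_injective, hr, W.lam_apply]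
      simp only [map_one, Units.val_one, phi, mu, MonoidHom.one_apply, mul_one]
      field_simp
      ring
    · rw [cubeChar_sum _ hr, mul_zero, mul_zero, extendByZero_of_notMem, mul_zero]
      rintro ⟨n, hn⟩
      exact hr (by rw [← W.emb4_injective ((W.emb4_inl n).trans hn)]; rfl)
  · rw [extendByZero_of_notMem _ _ hy, extendByZero_of_notMem _ _ hy, extendByZero_of_notMem _ _ hy,
      extendByZero_of_notMem]
    · ring
    · rintro ⟨n, rfl⟩
      exact hy ⟨_, W.emb4_inl n⟩

/-- The functions of the case `A₄` exist. -/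
theorem four_exists [Fintype (Cfsg.IrrCharacter G)] : W.FourExists := fun hL hN l hl1 hl =>
  ⟨W.fn4 hl,
    { gen := fun j => Embed.isGen_indHom _ (W.isGen_phi4 hl j)
      inner := W.inner_fn4 hl hL hN hl1
      inner_true := W.inner_true4 hl hL hN
      triv := W.inner_triv4 hl hl1
      theta := W.inner_theta4 hl hL hl1
      one := W.fn4_one hl
      at_t := W.fn4_t hl
      «conj» := W.conj_fn4 hl
      sum := W.sum_fn4 hl
      recip := W.recip4 hl hL hN hl1 }⟩

end Setup.Torus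

end Cfsg.Agent.JT
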