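import Mathlib
import Cfsg.Agent.Lib.JT.NonInvA
import Cfsg.Agent.Lib.JT.NonInvB
import Cfsg.Agent.Lib.JT.FourFuns

/-!
A character of the torus fixed by `z`, without `A₅`: shape B is impossible, and on shape A the first
option holds.
-/

set_option autoImplicit false
set_option linter.unusedSectionVars false
set_option linter.style.haveILetI false

namespace Cfsg.Agent.JT.Setup

open Cfsg.Agent.Characters Lattice
open scoped ComplexConjugate

universe u v

theorem perm_fix_two :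
    ∀ π : Equiv.Perm (Fin 3), π 2 = 2 → π = 1 ∨ π = Equiv.swap 0 1 := by decide +kernel

theorem outside_self {ι : Type*} [DecidableEq ι] (σ : Equiv.Perm ι) (hσ : ∀ x, σ (σ x) = x)
    {c : ι → ℤ} {z w : ι} (hzw : z ≠ w) (hz : c z = 1 ∨ c z = -1) (hw : c w = 1 ∨ c w = -1)
    (h0z : σ z ≠ z → σ z ≠ w → c (σ z) = 0) (h0w : σ w ≠ z → σ w ≠ w → c (σ w) = 0) :
    c z * c (σ z) + c w * c (σ w) ≠ -1 := by
  by_cases h1 : σ z = z
  · have h2 : σ w ≠ z := fun h => hzw (by rw [← h1, ← h, hσ])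
    rw [h1]
    by_cases h3 : σ w = w
    · rw [h3]; rcases hz with e | e <;> rcases hw with e' | e' <;> rw [e, e'] <;> norm_num
    · rw [h0w h2 h3]; rcases hz with e | e <;> rw [e] <;> norm_num
  · by_cases h2 : σ z = w
    · rw [h2, ← h2, hσ, h2]; rcases hz with e | e <;> rcases hw with e' | e' <;> rw [e, e'] <;> norm_num
    · rw [h0z h1 h2]
      by_cases h3 : σ w = w
      · rw [h3]; rcases hw with e | e <;> rw [e] <;> norm_num
      · have h4 : σ w ≠ z := fun h => h2 (by rw [← h, hσ])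
        rw [h0w h4 h3]; norm_num

theorem combosInvB' :
    ∀ a ∈ solB 1 1 0 3,
      (a = [0, 0, 1, 0, 0, 0] ∨ 3 - dot a a < dot a a) ∧
      ((a = [0, 0, 1, 0, 0, 0] ∧ [a[1]!, a[0]!, a[2]!, a[4]!, a[3]!, a[5]!] = a) ∨
        3 - dot a a < dot a [a[1]!, a[0]!, a[2]!, a[4]!, a[3]!, a[5]!]) := by
  decide +kernel

theorem combosInvB :
    ∀ a ∈ solB 1 1 0 3, ∀ b : List ℤ,
      (b = a ∨ b = [a[1]!, a[0]!, a[2]!, a[4]!, a[3]!, a[5]!]) →
      (a = [0, 0, 1, 0, 0, 0] ∧ b = a) ∨ 3 - dot a a < dot a b := by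
  intro a ha b hb
  obtain ⟨h1, h2⟩ := combosInvB' a ha
  rcases hb with hb | hb <;> subst hb
  · exact h1.imp (fun h => ⟨h, rfl⟩) id
  · exact h2

theorem combosInvA_norm :
    (∀ a ∈ solA (-1) (-1) 0 3, dot a a = 2) ∧
    (∀ b ∈ solA 1 1 0 3, dot b b = 2) ∧
    ∀ f ∈ solA 0 0 (-1) 2, dot f f = 1 := by
  decide +kernel

theorem combosInvA_pos :
    ∀ b ∈ solA 1 1 0 3, ∀ b' ∈ solA 1 1 0 3, b'[0]! = b[0]! → 0 ≤ dot b b' := by
  decide +kernel

set_option synthInstance.maxSize 4000 in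
set_option synthInstance.maxHeartbeats 100000 in
theorem combosInvA_main :
    ∀ b ∈ solA 1 1 0 3, ∀ b' ∈ solA 1 1 0 3, b'[0]! = b[0]! → dot b b' = 0 →
      ∀ a ∈ solA (-1) (-1) 0 3,
        -1 ≤ dot a b → -1 ≤ dot a b' → dot a b ≤ 1 → dot a b' ≤ 1 →
          (dot a b = -1 ∧ dot a b' = -1) ∨
          ∀ f ∈ solA 0 0 (-1) 2, dot a f = 0 →
            (a, [f[0]! + b[0]! + b'[0]!, f[1]! + b[1]! + b'[1]!, f[2]! + b[2]! + b'[2]!,
              f[3]! + b[3]! + b'[3]!, f[4]! + b[4]! + b'[4]!, f[5]! + b[5]! + b'[5]!,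
              f[6]! + b[6]! + b'[6]!]) ∈ optOnePat ∧
            ((a = [-1, 0, 0, 0, 0, 1, 0] ∧ f = [0, 0, 0, 0, 0, 0, -1]) ∨
              (a = [-1, 0, 0, 0, 0, 0, 1] ∧ f = [0, 0, 0, 0, 0, -1, 0])) := by
  decide +kernel

set_option synthInstance.maxSize 4000 in
set_option synthInstance.maxHeartbeats 100000 in
theorem combosInvA_af :
    ∀ a ∈ solA (-1) (-1) 0 3, ∀ f ∈ solA 0 0 (-1) 2,
      dot a f = 0 ∨ (dot a f = -1 ∧
        ((a = [-1, 0, 0, 0, 0, 1, 0] ∧ f = [0, 0, 0, 0, 0, -1, 0]) ∨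
          (a = [-1, 0, 0, 0, 0, 0, 1] ∧ f = [0, 0, 0, 0, 0, 0, -1]))) := by
  decide +kernel

variable {G : Type u} [Group G] [Fintype G] [Fintype (Cfsg.IrrCharacter G)]
  [DecidableEq (Cfsg.IrrCharacter G)] {K : Type v} [Group K] [Fintype K] [DecidableEq K]
  {H : Setup G K} {D : KData K} (W : H.Torus D)
  {e : Cfsg.IrrCharacter G → ℤ}

/-- The function of norm two and the torus function with a common outside constituent. -/
theorem sq_collapse {R d uR v zd zu : ℤ} (hd : d ≠ 0) (hR : R ≠ 0) (hz : zd ≠ 0)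
    (h1 : -R + d + zd = 0) (h2 : -uR + v + zu = 0) (h3 : 1 - d + zd = 0) (h4 : 1 - v + zu = 0)
    (hr : -((uR : ℚ) ^ 2 / R) + (v : ℚ) ^ 2 / d + (zu : ℚ) ^ 2 / zd = 0) : v = d := by
  have e1 : zd = d - 1 := by linarith
  have e2 : zu = v - 1 := by linarith
  have e3 : R = 2 * d - 1 := by linarith
  have e4 : uR = 2 * v - 1 := by linarith
  subst e1 e2 e3 e4
  have a1 : (d : ℚ) ≠ 0 := Int.cast_ne_zero.2 hd
  have a2 : ((2 * d - 1 : ℤ) : ℚ) ≠ 0 := Int.cast_ne_zero.2 hR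
  have a3 : ((d - 1 : ℤ) : ℚ) ≠ 0 := Int.cast_ne_zero.2 hz
  push_cast at a2 a3 hr
  field_simp at hr
  have : ((v : ℚ) - d) ^ 2 = 0 := by linear_combination hr
  have := sub_eq_zero.1 ((pow_eq_zero_iff two_ne_zero).1 this)
  exact_mod_cast this

variable (hL : H.Local) (hN : W.NoFive)
include hL hN

/-- Shape B has no character of the torus fixed by `z`. -/
theorem no_inv_B {f : Fin 6 → Cfsg.IrrCharacter G} (S : H.Shp D tableB f e)
    {l : W.A →* ℂˣ} (hl : l ≠ 1) (hfix : ∀ a, l (W.zA a) = l a) : False := by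
  obtain ⟨F, hF⟩ := W.four_exists hL hN l hl hfix
  have hn : Cfsg.classInner (F 1) (F 1) = ((3 : ℤ) : ℂ) := by rw [hF.inner]; norm_num
  have hx : Cfsg.classInner (F 1) (F 2) = ((0 : ℤ) : ℂ) := by
    rw [hF.inner, if_neg (by decide)]; norm_num
  have ht : Cfsg.classInner (F 1) (fun _ => 1) = ((0 : ℤ) : ℂ) := by
    rw [hF.triv, if_neg (by decide)]; norm_num
  have hθ : ∀ i, Cfsg.classInner (F 1) (H.ind (D.θ i)) = ((if i = 2 then 0 else 1 : ℤ) : ℂ) := fun i => by
    rw [hF.theta]; split_ifs <;> norm_num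
  obtain ⟨c0, m1⟩ := H.pp_mem_B D S (hF.gen 1) hn ht (hθ 0) (hθ 1) (hθ 2) (by norm_num)
  simp only [if_neg (show (0 : Fin 3) ≠ 2 by decide), if_neg (show (1 : Fin 3) ≠ 2 by decide),
    if_true] at m1
  rw [show solB (1 - 0) (1 - 0) (0 - 0) (3 - 0 * 0) = solB 1 1 0 3 from rfl] at m1
  obtain ⟨π, hπ2, hπ⟩ := D.θ_conj
  set σ : ℂ ≃+* ℂ := starRingAut with hσ
  have hσπ : ∀ i k, σ (D.θ i k) = D.θ (π i) k := hπ
  have hco : ∀ χ, coef (F 2) (autPerm σ χ) = coef (F 1) χ := fun χ =>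
    coef_aut σ (hF.gen 1) (hF.gen 2) (fun g => hF.conj 1 g) χ
  have hinv : ∀ χ : Cfsg.IrrCharacter G, autPerm σ (autPerm σ χ) = χ := fun χ =>
    Subtype.ext (funext fun g => by simp [autPerm_coe, hσ])
  have himg : ∀ j, ∃ j', (∀ i, tableB (π i) j' = tableB i j) ∧
      pp f e (F 2) j' = pp f e (F 1) j := fun j => by
    obtain ⟨j', hj', h | h⟩ := H.aut_image D S (by decide) σ hσπ j
    · exact ⟨j', h.1, by rw [pp, pp, h.2.1, ← hj', hco]⟩
    · exfalso
      clear hj'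
      revert h
      revert j j'
      rcases perm_fix_two π hπ2 with rfl | rfl <;> decide
  have hb : List.ofFn (pp f e (F 2)) = List.ofFn (pp f e (F 1)) ∨
      List.ofFn (pp f e (F 2)) = [(List.ofFn (pp f e (F 1)))[1]!, (List.ofFn (pp f e (F 1)))[0]!,
        (List.ofFn (pp f e (F 1)))[2]!, (List.ofFn (pp f e (F 1)))[4]!,
        (List.ofFn (pp f e (F 1)))[3]!, (List.ofFn (pp f e (F 1)))[5]!] := by
    rcases perm_fix_two π hπ2 with rfl | rfl
    · refine Or.inl (congrArg List.ofFn (funext fun j => ?_))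
      obtain ⟨j', h1, h2⟩ := himg j
      have : j' = j := tableB_inj j' j fun i => h1 i
      rwa [this] at h2
    · right
      have key : ∀ j j' : Fin 6, (∀ i, tableB (Equiv.swap 0 1 i) j' = tableB i j) →
          j' = ![1, 0, 2, 4, 3, 5] j := by decide
      have h : ∀ j, pp f e (F 2) (![1, 0, 2, 4, 3, 5] j) = pp f e (F 1) j := fun j => by
        obtain ⟨j', h1, h2⟩ := himg j
        rwa [key j j' h1] at h2
      simp [List.ofFn_succ, ← h 0, ← h 1, ← h 2, ← h 3, ← h 4, ← h 5]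
  have hin := H.vec_inner D S (hF.gen 1) (hF.gen 2) hx
  have hnn := H.vec_inner D S (hF.gen 1) (hF.gen 1) hn
  rw [c0, zero_mul, zero_add] at hin
  rw [c0, mul_zero, zero_add] at hnn
  have hrest : |∑ x ∈ outside (trivIrr G) f, coef (F 1) x * coef (F 2) x| ≤
      ∑ x ∈ outside (trivIrr G) f, coef (F 1) x * coef (F 1) x := by
    refine abs_cross_le ?_
    have hn2 : Cfsg.classInner (F 2) (F 2) = ((3 : ℤ) : ℂ) := by rw [hF.inner]; norm_num
    have := H.vec_inner D S (hF.gen 2) (hF.gen 2) hn2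
    linarith [Finset.sum_nonneg (s := Finset.univ) fun j _ => mul_self_nonneg (pp f e (F 2) j),
      mul_self_nonneg (coef (F 2) (trivIrr G))]
  rcases combosInvB _ m1 _ hb with ⟨ha, hba⟩ | hlt
  · have h1 : ∑ j, pp f e (F 1) j * pp f e (F 1) j = 1 := by rw [← dot_ofFn_six, ha]; rfl
    have h2 : ∑ j, pp f e (F 1) j * pp f e (F 2) j = 1 := by rw [← dot_ofFn_six, hba, ha]; rfl
    obtain ⟨z, hz, w, hw, hzw, hzu, hwu, h0⟩ := rest_two (s := outside (trivIrr G) f)
      (c := coef (F 1)) (by linarith)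
    have hsum := rest_pair (M := ℤ) (c := coef (F 1)) hz hw hzw h0 (coef (F 2))
    simp only [Int.cast_eq, Int.cast_id] at hsum
    have hc' : ∀ x, coef (F 2) x = coef (F 1) (autPerm σ x) := fun x => by
      rw [← hco (autPerm σ x), hinv]
    rw [hsum, hc', hc'] at hin
    have hout : ∀ x ∈ outside (trivIrr G) f, autPerm σ x ∈ outside (trivIrr G) f := by
      intro x hx
      rw [mem_outside] at hx ⊢
      refine ⟨fun h => hx.1 ?_, fun j h => ?_⟩
      · rw [← hinv x, h]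
        exact Subtype.ext (funext fun g => by rw [autPerm_coe, trivIrr_coe, map_one])
      · obtain ⟨j', hj', -⟩ := H.aut_image D S (by decide) σ hσπ j
        exact hx.2 j' (by rw [← hinv x, h, hj'])
    exact outside_self (autPerm σ) hinv hzw hzu hwu (fun a b => h0 _ (hout _ hz) a b)
      (fun a b => h0 _ (hout _ hw) a b) (by linarith)
  · rw [dot_ofFn_six, dot_ofFn_six] at hlt
    have := neg_abs_le (∑ x ∈ outside (trivIrr G) f, coef (F 1) x * coef (F 2) x)
    linarith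

/-- On shape A a character fixed by `z` gives the first option. -/
theorem inv_A [IsSimpleGroup G] {f : Fin 7 → Cfsg.IrrCharacter G} (S : H.Shp D tableA f e)
    {l : W.A →* ℂˣ} (hl : l ≠ 1) (hfix : ∀ a, l (W.zA a) = l a) :
    patA W f e l ∈ optOnePat ∧ ∃ F, W.FourFuns l F ∧
      ((List.ofFn (pp f e (W.fn l true)) = [-1, 0, 0, 0, 0, 1, 0] ∧
          List.ofFn (pp f e (F 0)) = [0, 0, 0, 0, 0, 0, -1]) ∨
        (List.ofFn (pp f e (W.fn l true)) = [-1, 0, 0, 0, 0, 0, 1] ∧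
          List.ofFn (pp f e (F 0)) = [0, 0, 0, 0, 0, -1, 0])) := by
  obtain ⟨F, hF⟩ := W.four_exists hL hN l hl hfix
  have hg := W.isGen_fn l true
  have hn : ∀ j, Cfsg.classInner (F j) (F j) = ((3 : ℤ) : ℂ) := fun j => by rw [hF.inner]; norm_num
  have hμ : Cfsg.classInner (W.fn l true) (W.fn l true) = ((3 : ℤ) : ℂ) := by
    rw [W.inner_fn hL hN hl true true fun h => absurd h (by decide)]; norm_num
  have htμ : Cfsg.classInner (W.fn l true) (fun _ => 1) = ((0 : ℤ) : ℂ) := by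
    rw [W.inner_triv hl true]; norm_num
  have hθμ : ∀ i, Cfsg.classInner (W.fn l true) (H.ind (D.θ i)) = ((if i = 2 then 0 else -1 : ℤ) : ℂ) :=
    fun i => by rw [W.inner_theta hL hl true i]; split_ifs <;> simp_all
  have ht : ∀ j, Cfsg.classInner (F j) (fun _ => 1) = ((if j = 0 then 1 else 0 : ℤ) : ℂ) := fun j => by
    rw [hF.triv]; split_ifs <;> norm_num
  have hθ : ∀ j i, Cfsg.classInner (F j) (H.ind (D.θ i)) = ((if i = 2 then 0 else 1 : ℤ) : ℂ) :=
    fun j i => by rw [hF.theta]; split_ifs <;> norm_num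
  obtain ⟨cμ, ma⟩ := H.pp_mem_A D S hg hμ htμ (hθμ 0) (hθμ 1) (hθμ 2) (by norm_num)
  obtain ⟨c0, mf⟩ := H.pp_mem_A D S (hF.gen 0) (hn 0) (ht 0) (hθ 0 0) (hθ 0 1) (hθ 0 2)
    (by split_ifs <;> norm_num)
  obtain ⟨c1, mb⟩ := H.pp_mem_A D S (hF.gen 1) (hn 1) (ht 1) (hθ 1 0) (hθ 1 1) (hθ 1 2)
    (by split_ifs <;> norm_num)
  obtain ⟨c2, mb'⟩ := H.pp_mem_A D S (hF.gen 2) (hn 2) (ht 2) (hθ 2 0) (hθ 2 1) (hθ 2 2)
    (by split_ifs <;> norm_num)
  simp only [if_neg (show (0 : Fin 3) ≠ 2 by decide), if_neg (show (1 : Fin 3) ≠ 2 by decide),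
    if_neg (show (2 : Fin 3) ≠ 0 by decide), if_neg (show (1 : Fin 3) ≠ 0 by decide),
    if_pos (show (0 : Fin 3) = 0 from rfl), if_pos (show (2 : Fin 3) = 2 from rfl), if_true]
    at ma mf mb mb' c0 c1 c2
  rw [show solA (-1 - 0) (-1 - 0) (0 - 0) (3 - 0 * 0) = solA (-1) (-1) 0 3 from rfl] at ma
  rw [show solA (1 - 1) (1 - 1) (0 - 1) (3 - 1 * 1) = solA 0 0 (-1) 2 from rfl] at mf
  rw [show solA (1 - 0) (1 - 0) (0 - 0) (3 - 0 * 0) = solA 1 1 0 3 from rfl] at mb mb'
  obtain ⟨Caa, Cbb, Cff⟩ := combosInvA_norm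
  obtain ⟨π, hπ2, hπ⟩ := D.θ_conj
  set σ : ℂ ≃+* ℂ := starRingAut with hσ
  have hco : ∀ χ, coef (F 2) (autPerm σ χ) = coef (F 1) χ := fun χ =>
    coef_aut σ (hF.gen 1) (hF.gen 2) (fun g => hF.conj 1 g) χ
  have hR : pp f e (F 2) 0 = pp f e (F 1) 0 := by
    obtain ⟨j', hj', h | h⟩ := H.aut_image D S (by decide) σ hπ 0
    · have key : ∀ j' : Fin 7, (∀ i, tableA (π i) j' = tableA i 0) → j' = 0 := by
        rcases perm_fix_two π hπ2 with rfl | rfl <;> decide
      rw [key j' h.1] at hj' h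
      rw [pp, pp, ← hco (f 0), hj']
    · exfalso
      clear hj'
      revert h
      revert j'
      rcases perm_fix_two π hπ2 with rfl | rfl <;> decide
  obtain ⟨Y, hY⟩ := H.exists_one D S hg hμ (by rw [cμ, ← dot_ofFn, Caa _ ma]; norm_num)
  obtain ⟨Z, hZ⟩ := H.exists_one D S (hF.gen 1) (hn 1) (by rw [c1, ← dot_ofFn, Cbb _ mb]; norm_num)
  obtain ⟨Z', hZ'⟩ := H.exists_one D S (hF.gen 2) (hn 2) (by rw [c2, ← dot_ofFn, Cbb _ mb']; norm_num)
  obtain ⟨Y0, hY0⟩ := H.exists_one D S (hF.gen 0) (hn 0) (by rw [c0, ← dot_ofFn, Cff _ mf]; norm_num)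
  have cross : ∀ {A B : G → ℂ} {za zb : Cfsg.IrrCharacter G}, One A f za → One B f zb →
      (∑ x ∈ outside (trivIrr G) f, coef A x * coef B x = 0 ∨
        (za = zb ∧ ∑ x ∈ outside (trivIrr G) f, coef A x * coef B x = coef A za * coef B za)) := by
    intro A B za zb ha hb
    rw [ha.sum_int]
    by_cases h : za = zb
    · exact Or.inr ⟨h, rfl⟩
    · left; rw [hb.only za ha.mem h, mul_zero]
  have hσout : autPerm σ Z = Z' := by
    by_contra hne
    have hmem : autPerm σ Z ∈ outside (trivIrr G) f := by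
      rw [mem_outside]
      refine ⟨fun h => (mem_outside.1 hZ.mem).1 ((autPerm σ).injective (h.trans ?_)), fun j h => ?_⟩
      · exact Subtype.ext (funext fun g => by rw [autPerm_coe, trivIrr_coe, map_one])
      · obtain ⟨j', hj', -⟩ := H.aut_image D S (by decide) σ hπ j
        refine (mem_outside.1 hZ.mem).2 j' ?_
        have h2 : autPerm σ (autPerm σ Z) = Z :=
          Subtype.ext (funext fun g => by simp [autPerm_coe, hσ])
        rw [← h2, h, hj']
    have := hZ'.only _ hmem hne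
    rw [hco] at this
    rcases hZ.unit with e' | e' <;> omega
  have hcZ : coef (F 2) Z' = coef (F 1) Z := by rw [← hσout, hco]
  have x12 := H.vec_inner D S (hF.gen 1) (hF.gen 2) (z := 0) (by rw [hF.inner, if_neg (by decide)]; norm_num)
  have xa1 := H.vec_inner D S hg (hF.gen 1) (z := 0) (by
    rw [classInner_conj_symm, hF.inner_true]; simp)
  have xa2 := H.vec_inner D S hg (hF.gen 2) (z := 0) (by
    rw [classInner_conj_symm, hF.inner_true]; simp)
  have xaf := H.vec_inner D S hg (hF.gen 0) (z := 0) (by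
    rw [classInner_conj_symm, hF.inner_true]; simp)
  rw [c1, c2, ← dot_ofFn] at x12
  rw [cμ, c1, ← dot_ofFn] at xa1
  rw [cμ, c2, ← dot_ofFn] at xa2
  rw [cμ, c0, ← dot_ofFn] at xaf
  simp only [zero_mul, mul_zero, zero_add] at x12 xa1 xa2 xaf
  have hb0 : (List.ofFn (pp f e (F 2)))[0]! = (List.ofFn (pp f e (F 1)))[0]! := by
    simp [List.ofFn_succ, hR]
  have hpos := combosInvA_pos _ mb _ mb' hb0
  obtain ⟨h12, hZne⟩ : dot (List.ofFn (pp f e (F 1))) (List.ofFn (pp f e (F 2))) = 0 ∧ Z ≠ Z' := by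
    rcases cross hZ hZ' with h | ⟨heq, h⟩
    · refine ⟨by linarith, fun heq => ?_⟩
      rw [hZ.sum_int, heq, hcZ] at h
      rcases hZ.unit with e' | e' <;> rcases hZ'.unit with e'' | e'' <;> simp_all
    · exfalso
      rw [h, heq, hcZ] at x12
      rw [heq] at x12
      have : coef (F 1) Z' * coef (F 1) Z' = 1 := by
        rw [← heq]; rcases hZ.unit with e' | e' <;> rw [e'] <;> norm_num
      linarith
  have hopts := combosInvA_main _ mb _ mb' hb0 h12 _ ma
  have bnd : ∀ {A B : G → ℂ} {za zb : Cfsg.IrrCharacter G}, One A f za → One B f zb →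
      |∑ x ∈ outside (trivIrr G) f, coef A x * coef B x| ≤ 1 := fun {A B za zb} ha hb => by
    rcases cross ha hb with h | ⟨heq, h⟩ <;> rw [h]
    · norm_num
    · rw [← heq] at hb
      rcases ha.unit with e' | e' <;> rcases hb.unit with e'' | e'' <;> rw [e', e''] <;> norm_num
  obtain ⟨b1, b1'⟩ := abs_le.1 (bnd hY hZ)
  obtain ⟨b2, b2'⟩ := abs_le.1 (bnd hY hZ')
  rcases hopts (by linarith) (by linarith) (by linarith) (by linarith) with ⟨e1, e2⟩ | hopt
  · exfalso
    rcases cross hY hZ with h | ⟨ea, -⟩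
    · linarith
    rcases cross hY hZ' with h | ⟨eb, -⟩
    · linarith
    exact hZne (ea.symm.trans eb)
  rcases combosInvA_af _ ma _ mf with haf | ⟨haf, hbad⟩
  · obtain ⟨hp, hdata⟩ := hopt _ mf haf
    refine ⟨?_, F, hF, hdata⟩
    have hsum : ∀ j, pp f e (W.fn l false) j =
        pp f e (F 0) j + pp f e (F 1) j + pp f e (F 2) j := fun j => by
      have h := coef_spec (W.isGen_fn l false) (f j)
      rw [show W.fn l false = F 0 + F 1 + F 2 from funext fun g => hF.sum g, classInner_add_left,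
        classInner_add_left, coef_spec (hF.gen 0), coef_spec (hF.gen 1), coef_spec (hF.gen 2)] at h
      have h' : coef (W.fn l false) (f j) = coef (F 0) (f j) + coef (F 1) (f j) + coef (F 2) (f j) := by
        rw [show W.fn l false = F 0 + F 1 + F 2 from funext fun g => hF.sum g]
        exact_mod_cast h.symm
      rw [pp, pp, pp, pp, h']; ring
    rw [patA, show pp f e (W.fn l false) = fun j => pp f e (F 0) j + pp f e (F 1) j + pp f e (F 2) j
      from funext hsum]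
    simpa [List.ofFn_succ] using hp
  · exfalso
    rcases cross hY hY0 with h | ⟨heq, h⟩
    · linarith
    subst heq
    rw [h] at xaf
    have hcc : coef (F 0) Y = coef (W.fn l true) Y := by
      rcases hY.unit with e' | e' <;> rcases hY0.unit with e'' | e'' <;> rw [e', e''] at xaf ⊢ <;>
        omega
    have eμ := H.vec_one D S hg (W.fn_one l true)
    have tμ := H.vec_t D S hg (W.fn_t l true)
    have e0 := H.vec_one D S (hF.gen 0) (hF.one 0)
    have t0 := H.vec_t D S (hF.gen 0) (hF.at_t 0)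
    have rμ := H.vec_recip D S hg W (c := 0) (by
      rw [H.torus_recip D hL W hN hl true]; norm_num)
    rw [cμ, hY.sum_int fun x => (deg x : ℤ)] at eμ
    rw [cμ, hY.sum_int H.T] at tμ
    rw [c0, hY0.sum_int fun x => (deg x : ℤ), hcc] at e0
    rw [c0, hY0.sum_int H.T, hcc] at t0
    rw [cμ, hY.sum fun x => (H.T x : ℚ) ^ 2 / (deg x : ℚ), One.term H hY, mul_zero] at rμ
    have rμ' := (mul_eq_zero.1 rμ).resolve_left (H.gq_pos D).ne'
    have hzne : coef (W.fn l true) Y * (deg Y : ℤ) ≠ 0 := One.zd_ne hY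
    have ne0 := H.dd_ne D S 0
    rcases hbad with ⟨ha, hf⟩ | ⟨ha, hf⟩
    · have hlt := H.uu_lt D S 5
      simp [List.ofFn_succ] at ha hf
      obtain ⟨a0, a1, a2, a3, a4, a5, a6⟩ := ha
      obtain ⟨f0, f1, f2, f3, f4, f5, f6⟩ := hf
      simp [Fin.sum_univ_succ, zu, zd, a0, a1, a2, a3, a4, a5, a6, f0, f1, f2, f3, f4, f5, f6] at eμ tμ e0 t0 rμ'
      have hv := sq_collapse (R := H.dd f e 0) (d := H.dd f e 5) (uR := H.uu f e 0) (v := H.uu f e 5)
        (zd := coef (W.fn l true) Y * (deg Y : ℤ)) (zu := coef (W.fn l true) Y * H.T Y)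
        (H.dd_ne D S 5) ne0 hzne (by linarith) (by linarith) (by linarith) (by linarith)
        (by push_cast; linarith)
      rw [hv] at hlt
      exact lt_irrefl _ hlt
    · have hlt := H.uu_lt D S 6
      simp [List.ofFn_succ] at ha hf
      obtain ⟨a0, a1, a2, a3, a4, a5, a6⟩ := ha
      obtain ⟨f0, f1, f2, f3, f4, f5, f6⟩ := hf
      simp [Fin.sum_univ_succ, zu, zd, a0, a1, a2, a3, a4, a5, a6, f0, f1, f2, f3, f4, f5, f6] at eμ tμ e0 t0 rμ'
      have hv := sq_collapse (R := H.dd f e 0) (d := H.dd f e 6) (uR := H.uu f e 0) (v := H.uu f e 6)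
        (zd := coef (W.fn l true) Y * (deg Y : ℤ)) (zu := coef (W.fn l true) Y * H.T Y)
        (H.dd_ne D S 6) ne0 hzne (by linarith) (by linarith) (by linarith) (by linarith)
        (by push_cast; linarith)
      rw [hv] at hlt
      exact lt_irrefl _ hlt

end Cfsg.Agent.JT.Setup
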