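import Mathlib
import Cfsg.Agent.Lib.JT.Inv

/-!
The values at `t` on the shape are exactly those of the principal block.
-/

set_option autoImplicit false
set_option linter.unusedSectionVars false
set_option linter.style.haveILetI false

namespace Cfsg.Agent.JT.Setup

open Cfsg.Agent.Characters
open Cfsg.Agent.JT.Lattice
open scoped ComplexConjugate

universe u v

/-- The difference of the two torus functions on a column. -/
def colDiff {k : ℕ} (tbl : Fin 3 → Fin k → ℤ) (j : Fin k) : ℤ := tbl 0 j + tbl 1 j - tbl 2 j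

theorem optA_diff : ∀ p ∈ optOnePat ++ optTwoPat, ∀ j : Fin 7,
    p.2[j.1]! - p.1[j.1]! = colDiff tableA j := by decide +kernel

theorem optB_diff : ∀ p ∈ optBPat, ∀ j : Fin 6,
    p.2[j.1]! - p.1[j.1]! = colDiff tableB j := by decide +kernel

theorem tableA_odd : ∀ j, (tableA 0 j + tableA 1 j + tableA 2 j) % 2 = 1 := by decide +kernel

theorem tableB_col : ∀ j j' : Fin 6,
    (∀ i, tableB i j' = tableB i j ∨ tableB i j' = -tableB i j) → j' = j := by decide +kernel

theorem ofFn_get {k : ℕ} (p : Fin k → ℤ) (j : Fin k) : (List.ofFn p)[j.1]! = p j := by simp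

variable {G : Type u} [Group G] [Fintype G] [Fintype (Cfsg.IrrCharacter G)]
  [DecidableEq (Cfsg.IrrCharacter G)] {K : Type v} [Group K] [Fintype K] [DecidableEq K]
  {H : Setup G K} {D : KData K} (W : H.Torus D)
  {e : Cfsg.IrrCharacter G → ℤ}

theorem card_A_dvd : (Nat.card W.A : ℤ) ∣ D.x - 1 := by
  have h : 4 * (Nat.card W.A : ℤ) = ((D.Q - 1).natAbs : ℤ) := by exact_mod_cast W.A_card
  have hQ := D.Q_eq
  rcases Int.natAbs_eq (D.Q - 1) with e' | e'
  · exact ⟨2, by omega⟩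
  · exact ⟨-2, by omega⟩

theorem card_A_eq : (Nat.card W.A : ℤ) = |D.x - 1| / 2 := by
  have h : 4 * (Nat.card W.A : ℤ) = ((D.Q - 1).natAbs : ℤ) := by exact_mod_cast W.A_card
  have hQ := D.Q_eq
  rcases Int.natAbs_eq (D.Q - 1) with e' | e' <;> rcases abs_cases (D.x - 1) with ⟨a, b⟩ | ⟨a, b⟩ <;>
    rw [a] <;> omega

variable (hL : H.Local)
include hL

/-- Exactness from a constant difference of the torus functions and no part in the functions of
degree `|Q - 1|`. -/
theorem ff_exact {k : ℕ} {tbl : Fin 3 → Fin k → ℤ} {f : Fin k → Cfsg.IrrCharacter G}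
    (S : H.Shp D tbl f e) (hcol : ∀ j, ∃ i, tbl i j ≠ 0) (hψ : ∀ j l, H.mψ D l (f j) = 0)
    (hd : ∀ l : W.A →* ℂˣ, l ≠ 1 → ∀ j,
      pp f e (W.fn l false) j - pp f e (W.fn l true) j = colDiff tbl j) (j : Fin k) :
    H.uu f e j = D.x * (tbl 0 j + tbl 1 j) - D.Q * tbl 2 j := by
  haveI := W.finite_dual
  haveI := Fintype.ofFinite (W.A →* ℂˣ)
  obtain ⟨l0, hl0⟩ : ∃ l : W.A →* ℂˣ, l ≠ 1 := by
    haveI : Nontrivial W.A := Finite.one_lt_card_iff_nontrivial.1 (by
      have := W.A_card; have := D.Q_gt; omega)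
    obtain ⟨a, ha⟩ := exists_ne (1 : W.A)
    haveI := W.A_cyclic
    letI := IsCyclic.commGroup (α := W.A)
    obtain ⟨φ, hφ⟩ := CommGroup.exists_apply_ne_one_of_hasEnoughRootsOfUnity W.A ℂ ha
    exact ⟨φ, fun h => hφ (by rw [h]; rfl)⟩
  have hsq : ∀ j, e (f j) * e (f j) = 1 := fun j => by
    rcases S.unit (f j) with e' | e' <;> rw [e'] <;> norm_num
  suffices h : ∀ j, H.ff D f e j = 0 by
    rw [H.uu_eq D hL S hψ, h j]; ring
  refine H.ff_zero D hL S W hcol fun j => ?_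
  have hd' : ∀ l : W.A →* ℂˣ, l ≠ 1 →
      coef (W.fn l false) (f j) - coef (W.fn l true) (f j) = e (f j) * colDiff tbl j := fun l hl => by
    rw [← hd l hl j, pp, pp, mul_sub, ← mul_assoc, ← mul_assoc, hsq, one_mul, one_mul]
  obtain ⟨kq, hkq⟩ : (Nat.card W.A : ℤ) ∣ H.T (f j) - e (f j) * colDiff tbl j := by
    obtain ⟨k1, hk1⟩ := W.sum_coef hL false (f j)
    obtain ⟨k2, hk2⟩ := W.sum_coef hL true (f j)
    simp only [if_true, Bool.false_eq_true, if_false] at hk1 hk2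
    have hzero : ∀ b, coef (W.fn (1 : W.A →* ℂˣ) b) (f j) = 0 := fun b => by
      have h := coef_spec (W.isGen_fn 1 b) (f j)
      have h0 : Cfsg.classInner (W.fn 1 b) (f j : G → ℂ) = 0 := by
        rw [W.fn_at_one, classInner_zero_left]
      rw [h0] at h
      exact_mod_cast h.symm
    have hs : ∑ l, coef (W.fn l false) (f j) - ∑ l, coef (W.fn l true) (f j) =
        ((Nat.card W.A : ℤ) - 1) * (e (f j) * colDiff tbl j) := by
      rw [← Finset.sum_sub_distrib, ← Finset.add_sum_erase _ _ (Finset.mem_univ (1 : W.A →* ℂˣ)),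
        hzero, hzero, Finset.sum_congr rfl fun l hl => hd' l (Finset.ne_of_mem_erase hl),
        Finset.sum_const, Finset.card_erase_of_mem (Finset.mem_univ _), Finset.card_univ,
        ← Nat.card_eq_fintype_card, BlocksChars.FrobNormalizer.card_dual W.A_comm, nsmul_eq_mul,
        Nat.cast_sub Nat.card_pos]
      simp
    exact ⟨(k1 - k2) - e (f j) * colDiff tbl j, by linarith⟩
  obtain ⟨kx, hkx⟩ := card_A_dvd W
  have hu := H.uu_eq D hL S hψ j
  rw [uu] at hu
  have hT : H.T (f j) = e (f j) * (D.x * (tbl 0 j + tbl 1 j) - D.Q * tbl 2 j +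
      2 * D.x * H.ff D f e j) := by
    rw [← hu, ← mul_assoc, hsq, one_mul]
  have hQ := D.Q_eq
  refine ⟨e (f j) * kq - kx * (tbl 0 j + tbl 1 j) + 2 * kx * tbl 2 j - 2 * kx * H.ff D f e j, ?_⟩
  have hk : kq * (Nat.card W.A : ℤ) * e (f j) =
      D.x * (tbl 0 j + tbl 1 j) - D.Q * tbl 2 j + 2 * D.x * H.ff D f e j - colDiff tbl j := by
    rw [mul_comm kq, ← hkq, hT]
    linear_combination (D.x * (tbl 0 j + tbl 1 j) - D.Q * tbl 2 j + 2 * D.x * H.ff D f e j -
      colDiff tbl j) * hsq j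
  simp only [colDiff] at hk
  linear_combination (-1 : ℤ) * hk + tbl 2 j * hQ + (-(tbl 0 j + tbl 1 j) + 2 * tbl 2 j -
    2 * H.ff D f e j) * hkx

variable (hN : W.NoFive)
include hN

theorem diff_A [IsSimpleGroup G] {f : Fin 7 → Cfsg.IrrCharacter G} (S : H.Shp D tableA f e)
    (hA : AlignA H f e) {l : W.A →* ℂˣ} (hl : l ≠ 1) (j : Fin 7) :
    pp f e (W.fn l false) j - pp f e (W.fn l true) j = colDiff tableA j := by
  have hm : patA W f e l ∈ optOnePat ++ optTwoPat := by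
    by_cases hz : ∃ a, l (W.zA a) ≠ l a
    · exact pat_A W hL hN S hA hl hz
    · push Not at hz
      exact List.mem_append_left _ (inv_A W hL hN S hl hz).1
  rw [← optA_diff _ hm j, patA, ofFn_get, ofFn_get]

theorem diff_B [IsSimpleGroup G] {f : Fin 6 → Cfsg.IrrCharacter G} (S : H.Shp D tableB f e)
    {l : W.A →* ℂˣ} (hl : l ≠ 1) (j : Fin 6) :
    pp f e (W.fn l false) j - pp f e (W.fn l true) j = colDiff tableB j := by
  have hm : patB W f e l ∈ optBPat := by
    by_cases hz : ∃ a, l (W.zA a) ≠ l a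
    · exact pat_B W hL hN S hl hz
    · push Not at hz
      exact (no_inv_B W hL hN S hl hz).elim
  rw [← optB_diff _ hm j, patB, ofFn_get, ofFn_get]

omit hN in
theorem psi_A {f : Fin 7 → Cfsg.IrrCharacter G} (S : H.Shp D tableA f e) (j : Fin 7) (l : Fin D.N) :
    H.mψ D l (f j) = 0 := by
  refine H.mψ_odd D hL ?_ l
  rw [S.val' 0 j, S.val' 1 j, S.val' 2 j, ← mul_add, ← mul_add]
  refine Odd.mul ?_ (Int.odd_iff.2 (tableA_odd j))
  rcases S.unit (f j) with e' | e' <;> rw [e'] <;> decide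

omit hN in
theorem psi_B {f : Fin 6 → Cfsg.IrrCharacter G} (S : H.Shp D tableB f e) (j : Fin 6) (l : Fin D.N) :
    H.mψ D l (f j) = 0 := by
  by_contra hne
  obtain ⟨-, χ', hne', hm⟩ := H.mψ_twin D hL l hne
  obtain ⟨i0, hi0⟩ : ∃ i, tableB i j ≠ 0 := by clear * - j; revert j; decide
  have hz : ∀ i, tableB i j = 0 → H.m D i χ' = 0 := fun i hi => by
    have h0 : H.m D i (f j) = 0 := by rw [S.val', hi, mul_zero]
    rcases hm i with h | h <;> rw [h, h0] <;> norm_num
  have hnt : χ' ≠ trivIrr G := fun h => by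
    obtain ⟨i, hi⟩ : ∃ i, tableB i j = 0 := by clear * - j; revert j; decide
    have := hz i hi
    rw [h, H.m_triv] at this
    exact one_ne_zero this
  obtain ⟨j', hj'⟩ : ∃ j', χ' = f j' := by
    by_contra h
    push Not at h
    have h0 := S.zero i0 χ' hnt h
    rcases hm i0 with h' | h' <;> rw [h0, S.val'] at h' <;>
      rcases S.unit (f j) with e' | e' <;> rw [e'] at h' <;> omega
  refine hne' ?_
  rw [hj', tableB_col j j' fun i => ?_]
  have h := hm i
  rw [hj', S.val', S.val'] at h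
  rcases S.unit (f j) with e' | e' <;> rcases S.unit (f j') with e'' | e'' <;> rw [e', e''] at h <;>
    omega

theorem exact_A [IsSimpleGroup G] {f : Fin 7 → Cfsg.IrrCharacter G} (S : H.Shp D tableA f e)
    (hA : AlignA H f e) :
    H.uu f e 0 = 1 ∧ H.uu f e 1 = D.x ∧ H.uu f e 2 = D.x ∧ H.uu f e 3 = D.x ∧ H.uu f e 4 = D.x ∧
      H.uu f e 5 = -D.Q ∧ H.uu f e 6 = -D.Q := by
  have h := ff_exact W hL S (by decide) (psi_A hL S) fun l hl => diff_A W hL hN S hA hl
  have hQ := D.Q_eq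
  refine ⟨?_, ?_, ?_, ?_, ?_, ?_, ?_⟩ <;> rw [h] <;> simp [tableA] <;> linarith

theorem exact_B [IsSimpleGroup G] {f : Fin 6 → Cfsg.IrrCharacter G} (S : H.Shp D tableB f e) :
    H.uu f e 0 = 1 - D.x ∧ H.uu f e 1 = 1 - D.x ∧ H.uu f e 2 = 2 * D.x ∧ H.uu f e 3 = D.x ∧
      H.uu f e 4 = D.x ∧ H.uu f e 5 = -D.Q := by
  have h := ff_exact W hL S (by decide) (psi_B hL S) fun l hl => diff_B W hL hN S hl
  have hQ := D.Q_eq
  refine ⟨?_, ?_, ?_, ?_, ?_, ?_⟩ <;> rw [h] <;> simp [tableB] <;> linarith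

end Cfsg.Agent.JT.Setup
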