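import Mathlib
import Cfsg.Agent.Lib.JT.Cong
import Cfsg.Agent.Lib.Characters.Integrality
import Cfsg.Agent.Lib.Perm.UniqueP.Realise

/-!
The values at `a t` from the torus functions, and an integrality from the square of a function in the
group algebra.
-/

set_option autoImplicit false
set_option linter.unusedSectionVars false
set_option linter.style.haveILetI false

namespace Cfsg.Agent.JT

open Cfsg.Agent.Characters
open scoped ComplexConjugate

universe u v

local notation "Z₂" => Multiplicative (ZMod 2)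

section Conv

variable {G : Type u} [Group G] [Fintype G] [Fintype (Cfsg.IrrCharacter G)]

theorem conv_gen {F : G → ℂ} (hF : Cfsg.IsGeneralizedCharacter G F) (y : G) :
    ∑ x : G, F (y * x) * conj (F x) =
      (Nat.card G : ℂ) * ∑ χ, (coef F χ : ℂ) ^ 2 * (χ : G → ℂ) y / (deg χ : ℂ) := by
  classical
  have hexp : ∀ x, F (y * x) * conj (F x) = ∑ χ : Cfsg.IrrCharacter G, ∑ ψ : Cfsg.IrrCharacter G,
      (coef F χ : ℂ) * (coef F ψ : ℂ) * ((χ : G → ℂ) (y * x) * conj ((ψ : G → ℂ) x)) := by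
    intro x
    rw [value_sum hF (y * x), value_sum hF x, map_sum, Finset.sum_mul_sum]
    refine Finset.sum_congr rfl fun χ _ => Finset.sum_congr rfl fun ψ _ => ?_
    rw [map_mul, map_intCast]; ring
  simp only [hexp]
  rw [Finset.sum_comm, Finset.mul_sum]
  refine Finset.sum_congr rfl fun χ _ => ?_
  rw [Finset.sum_comm, Finset.sum_eq_single χ (fun ψ _ hne => ?_)
    fun h => absurd (Finset.mem_univ _) h]
  · rw [← Finset.mul_sum, sum_mul_conj_shift χ.2, (deg_spec χ).1]; ring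
  · rw [← Finset.mul_sum, Perm.UniqueP.sum_shift_eq_zero χ.2 ψ.2
      (fun h => hne (Subtype.ext h.symm)) y, mul_zero]

theorem conv_integral {F : G → ℂ} (hF : Cfsg.IsGeneralizedCharacter G F) (y : G) {q : ℚ}
    (hq : (Nat.card G : ℂ) * ∑ χ, (coef F χ : ℂ) ^ 2 * (χ : G → ℂ) y / (deg χ : ℂ) = (q : ℂ)) :
    ∃ n : ℤ, q = n := by
  have hint : ∀ x, IsIntegral ℤ (F x) := fun x => by
    rw [value_sum hF x]
    exact IsIntegral.sum _ fun χ _ =>
      isIntegral_algebraMap.mul (char_value_isIntegral (irr_isCharacter χ) x)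
  have h : IsIntegral ℤ (q : ℂ) := by
    rw [← hq, ← conv_gen hF y]
    refine IsIntegral.sum _ fun x _ => (hint _).mul ?_
    exact (hint x).map (starRingEnd ℂ).toIntAlgHom
  obtain ⟨n, hn⟩ := exists_int_of_isIntegral_ratCast h
  exact ⟨n, by exact_mod_cast hn⟩

end Conv

namespace Setup.Torus

variable {G : Type u} [Group G] [Fintype G] [Fintype (Cfsg.IrrCharacter G)] {K : Type v} [Group K]
  [Fintype K] {H : Setup G K} {D : KData K} (W : H.Torus D)

/-- The value at `a t` from a constant difference of the two torus functions. -/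
theorem val_at {χ : Cfsg.IrrCharacter G} {d : ℤ}
    (hd : ∀ l : W.A →* ℂˣ, l ≠ 1 → coef (W.fn l false) χ - coef (W.fn l true) χ = d)
    {a₀ : W.A} (ha₀ : a₀ ≠ 1) : (χ : G → ℂ) ((a₀ : G) * H.t) = (d : ℂ) := by
  classical
  haveI := W.finite_dual
  haveI := Fintype.ofFinite (W.A →* ℂˣ)
  set r : ℂ := (Nat.card W.A : ℂ) with hr
  have hr0 : r ≠ 0 := natCard_ne_zero
  let ψ : W.A → ℂ := fun a => conj ((χ : G → ℂ) ((a : G) * H.t))
  let σ : W.A → W.A := fun a => W.zA.symm (W.zA.symm a)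
  let h : W.A → ℂ := fun a => ψ a + ψ (σ a)
  obtain ⟨et, het⟩ := W.four_surj (g := H.t) (Or.inr (Or.inl rfl))
  have h1t : W.four (Multiplicative.ofAdd 1, 1) = H.t := by
    simp [four, MonoidHom.noncommCoprod_apply, zhom_gen]
  have hc1 : ∀ a : W.A, conj ((χ : G → ℂ) (W.emb (a, (Multiplicative.ofAdd 1, 1)))) = ψ a := by
    intro a
    rw [W.emb_apply, h1t]
  have htv : W.four (Multiplicative.ofAdd 1, Multiplicative.ofAdd 1) = H.t * W.v := by
    simp [four, MonoidHom.noncommCoprod_apply, zhom_gen]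
  have hc2 : ∀ a : W.A, conj ((χ : G → ℂ)
      (W.emb (a, (Multiplicative.ofAdd 1, Multiplicative.ofAdd 1)))) = ψ (σ a) := by
    intro a
    have e1 : W.emb (a, (Multiplicative.ofAdd 1, Multiplicative.ofAdd 1)) =
        W.z * W.z * ((σ a : G) * H.t) * (W.z * W.z)⁻¹ := by
      rw [W.emb_apply, htv]
      have hv : W.z * W.z * H.t * (W.z * W.z)⁻¹ = H.t * W.v := by
        rw [show W.z * W.z * H.t * (W.z * W.z)⁻¹ = W.z * (W.z * H.t * W.z⁻¹) * W.z⁻¹ by group,
          W.z_t, W.z_v]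
      rw [← hv]
      show (a : G) * _ = W.z * W.z * ((W.z⁻¹ * (W.z⁻¹ * (a : G) * W.z) * W.z) * H.t) * _
      group
    rw [e1, irr_isClassFunction χ]
  have key : ∀ l : W.A →* ℂˣ, l ≠ 1 →
      ∑ a, (1 - (l a : ℂ)) * h a = 2 * r * (d : ℂ) := by
    intro l hl
    have hfn : ∀ b, (coef (W.fn l b) χ : ℂ) = (4 * r)⁻¹ *
        ∑ m, W.phi l b m * conj ((χ : G → ℂ) (W.emb m)) := fun b => by
      rw [← coef_spec (W.isGen_fn l b), fn,
        Embed.inner_indHom W.emb_injective _ (irr_isClassFunction χ), W.card_B]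
      push_cast; rfl
    have hd' : (coef (W.fn l false) χ : ℂ) - (coef (W.fn l true) χ : ℂ) = (d : ℂ) := by
      rw [← Int.cast_sub, hd l hl]
    rw [hfn, hfn, ← mul_sub, ← Finset.sum_sub_distrib] at hd'
    have hterm : ∑ m, (W.phi l false m * conj ((χ : G → ℂ) (W.emb m)) -
        W.phi l true m * conj ((χ : G → ℂ) (W.emb m))) = 2 * ∑ a, (1 - (l a : ℂ)) * h a := by
      rw [Fintype.sum_prod_type, Finset.mul_sum]
      refine Finset.sum_congr rfl fun a _ => ?_
      have hu : (Finset.univ : Finset (Z₂ × Z₂)) = {(1, 1), (Multiplicative.ofAdd 1, 1),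
        (1, Multiplicative.ofAdd 1), (Multiplicative.ofAdd 1, Multiplicative.ofAdd 1)} := by
        decide +kernel
      rw [hu, Finset.sum_insert (by decide +kernel), Finset.sum_insert (by decide +kernel),
        Finset.sum_pair (by decide +kernel)]
      simp only [h]
      rw [← hc1 a, ← hc2 a]
      simp [phi, mu, sgn, z2_ne]
      ring
    rw [hterm] at hd'
    field_simp at hd'
    linear_combination hd' / 2
  have hz3 : ∀ a, σ (σ (σ a)) = a := by
    intro a
    apply Subtype.ext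
    show W.z⁻¹ * (W.z⁻¹ * (W.z⁻¹ * (W.z⁻¹ * (W.z⁻¹ * (W.z⁻¹ * (a : G) * W.z) * W.z) * W.z) * W.z) *
      W.z) * W.z = a
    rw [show W.z⁻¹ * (W.z⁻¹ * (W.z⁻¹ * (W.z⁻¹ * (W.z⁻¹ * (W.z⁻¹ * (a : G) * W.z) * W.z) * W.z) *
      W.z) * W.z) * W.z = (W.z ^ 3 * W.z ^ 3)⁻¹ * (a : G) * (W.z ^ 3 * W.z ^ 3) by
      simp [pow_succ]; group, ← W.z_three, pow_orderOf_eq_one]
    simp
  have hh : ∀ a : W.A, a ≠ 1 → h a = 2 * (d : ℂ) := by
    intro a ha
    have hS : ∑ l : W.A →* ℂˣ, (l a⁻¹ : ℂ) * ∑ x, (l x : ℂ) * h x = r * h a := by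
      simp only [Finset.mul_sum]
      rw [Finset.sum_comm, Finset.sum_eq_single a (fun x _ hx => ?_)
        fun hn => absurd (Finset.mem_univ _) hn]
      · rw [Finset.sum_congr rfl fun l _ => by
          rw [← mul_assoc, ← Units.val_mul, ← map_mul, inv_mul_cancel, map_one, Units.val_one,
            one_mul], Finset.sum_const, Finset.card_univ, nsmul_eq_mul, ← Nat.card_eq_fintype_card,
          BlocksChars.FrobNormalizer.card_dual W.A_comm]
      · simp only [← mul_assoc, ← Units.val_mul, ← map_mul]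
        rw [← Finset.sum_mul, BlocksChars.FrobNormalizer.sum_dual_apply W.A_comm, if_neg, zero_mul]
        exact fun e => hx (inv_mul_eq_one.1 e).symm
    have hl : ∀ l : W.A →* ℂˣ, l ≠ 1 →
        ∑ x, (l x : ℂ) * h x = ∑ x, h x - 2 * r * (d : ℂ) := fun l hl => by
      rw [← key l hl]
      simp only [sub_mul, one_mul, Finset.sum_sub_distrib]; ring
    have hsum := BlocksChars.FrobNormalizer.sum_dual_apply W.A_comm a⁻¹
    rw [if_neg (fun e => ha (inv_eq_one.1 e)), ← Finset.add_sum_erase _ _ (Finset.mem_univ 1)] at hsum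
    have h2 : ∑ l ∈ Finset.univ.erase (1 : W.A →* ℂˣ), (l a⁻¹ : ℂ) * ∑ x, (l x : ℂ) * h x =
        (∑ l ∈ Finset.univ.erase (1 : W.A →* ℂˣ), (l a⁻¹ : ℂ)) * (∑ x, h x - 2 * r * (d : ℂ)) := by
      rw [Finset.sum_mul]
      exact Finset.sum_congr rfl fun l hl' => by rw [hl l (Finset.ne_of_mem_erase hl')]
    rw [← Finset.add_sum_erase _ _ (Finset.mem_univ (1 : W.A →* ℂˣ)), h2] at hS
    simp only [MonoidHom.one_apply, Units.val_one, one_mul] at hS hsum
    refine mul_left_cancel₀ hr0 ?_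
    linear_combination (∑ x, h x - 2 * r * (d : ℂ)) * hsum - hS
  have hσ : ∀ a : W.A, a ≠ 1 → σ a ≠ 1 := fun a ha e => ha <| by
    have h1 := congrArg (fun b => W.zA (W.zA b)) e
    simpa [σ] using h1
  have e1 := hh a₀ ha₀
  have e2 := hh _ (hσ _ ha₀)
  have e3 := hh _ (hσ _ (hσ _ ha₀))
  simp only [h] at e1 e2 e3
  rw [hz3] at e3
  have e4 : ψ a₀ = (d : ℂ) := by linear_combination (e1 - e2 + e3) / 2
  have e5 := congrArg (starRingEnd ℂ) e4
  simpa [ψ] using e5

end Setup.Torus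

end Cfsg.Agent.JT
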