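import Mathlib
import Cfsg.Agent.Lib.JT.Exact
import Cfsg.Agent.Lib.JT.Integral
import Cfsg.Agent.Lib.JT.ArithOptTwo

/-!
Shape A: the order is that of a Ree group.
-/

set_option autoImplicit false
set_option linter.unusedSectionVars false
set_option linter.style.haveILetI false

namespace Cfsg.Agent.JT.Setup

open Cfsg.Agent.Characters
open Cfsg.Agent.JT.Lattice
open scoped ComplexConjugate

universe u v

theorem alg_Di {Q : ℤ} {R Di zd zu : ℤ} (hR : R ≠ 0) (hDi : Di ≠ 0) (hzd : zd ≠ 0)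
    (h1 : -R + Di + zd = 0) (h2 : -1 + -Q + zu = 0)
    (hr : -((1 : ℚ) / R) + (Q : ℚ) ^ 2 / Di + (zu : ℚ) ^ 2 / zd = 0) : Di = -Q * R := by
  have hzu : zu = 1 + Q := by linarith
  have hR' : R = Di + zd := by linarith
  have a : (Di : ℚ) + (zd : ℚ) ≠ 0 := by rw [← Int.cast_add, ← hR']; exact Int.cast_ne_zero.2 hR
  have key := Arith.proportional (u := (-Q : ℚ)) (v := (1 + Q : ℚ)) (Int.cast_ne_zero.2 hDi)
    (Int.cast_ne_zero.2 hzd) a (by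
      rw [hzu, hR'] at hr
      push_cast at hr
      rw [show (-(Q : ℚ) + (1 + Q)) ^ 2 = 1 by ring, show (-(Q : ℚ)) ^ 2 = (Q : ℚ) ^ 2 by ring]
      linarith)
  have key' : -Q * zd = (1 + Q) * Di := by exact_mod_cast key
  rw [hR']; linear_combination -key'

theorem alg_inv {Q x R Di Dk zd : ℤ} {g : ℚ} (hQ : Q = 2 * x - 1) (hx : x ≠ 1) (hx0 : x ≠ 0)
    (hg : g ≠ 0) (hR : 1 < |R|) (hDk : Dk ≠ 0) (hzd : zd ≠ 0)
    (hDi : Di = -Q * R) (hsum : R + Di + Dk = -1) (hz : zd = Dk - 1)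
    (e3 : g * (1 + 1 / (R : ℚ) + (Q : ℚ) ^ 2 / Di + (Q : ℚ) ^ 2 / Dk) =
      16 * (x : ℚ) ^ 3 * ((x : ℚ) - 1))
    (f0 : g * (1 - (Q : ℚ) ^ 2 / Dk + (-1 - Q : ℚ) ^ 2 / zd) =
      4 * ((x : ℚ) * ((x : ℚ) - 1)) ^ 2 * (4 / 3)) : False := by
  have hRne : R ≠ 0 := fun h => by rw [h] at hR; norm_num at hR
  have hR0 : (R : ℚ) ≠ 0 := Int.cast_ne_zero.2 hRne
  have hD0 : (Dk : ℚ) ≠ 0 := Int.cast_ne_zero.2 hDk
  have hz0 : (Dk : ℚ) - 1 ≠ 0 := by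
    rw [← Int.cast_one, ← Int.cast_sub, ← hz]; exact Int.cast_ne_zero.2 hzd
  have hQq : (Q : ℚ) = 2 * x - 1 := by rw [hQ]; push_cast; ring
  have hDkq : (Dk : ℚ) = ((Q : ℚ) - 1) * R - 1 := by
    have : Dk = (Q - 1) * R - 1 := by rw [hDi] at hsum; linarith
    rw [this]; push_cast; ring
  have hxq : (x : ℚ) - 1 ≠ 0 := sub_ne_zero.2 (by exact_mod_cast hx)
  have hQ0 : (Q : ℚ) ≠ 0 := Int.cast_ne_zero.2 (by omega)
  rw [hDi] at e3
  rw [hz] at f0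
  push_cast at e3 f0
  field_simp at e3 f0
  have a3 : g * ((R : ℚ) + 1) ^ 2 = 8 * (x : ℚ) ^ 3 * R * Dk := by
    refine mul_left_cancel₀ (mul_ne_zero two_ne_zero hxq) ?_
    rw [hDkq, hQq] at e3 ⊢
    linear_combination e3
  have a0 : 3 * (g * ((R : ℚ) + 1) ^ 2) = 4 * (x : ℚ) ^ 2 * Dk * ((Dk : ℚ) - 1) := by
    refine mul_left_cancel₀ (mul_ne_zero (mul_ne_zero two_ne_zero hxq) (mul_ne_zero two_ne_zero hxq)) ?_
    rw [hDkq, hQq] at f0 ⊢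
    linear_combination f0
  have a : (6 : ℚ) * x * R = (Dk : ℚ) - 1 := by
    refine mul_left_cancel₀ (mul_ne_zero (mul_ne_zero (four_ne_zero : (4 : ℚ) ≠ 0)
      (pow_ne_zero 2 (Int.cast_ne_zero.2 hx0))) hD0) ?_
    linear_combination a0 - 3 * a3
  have b : (R : ℚ) * (2 * x + 1) = -1 := by rw [hDkq, hQq] at a; linarith
  have b' : R * (2 * x + 1) = -1 := by exact_mod_cast b
  have h1 : R.natAbs ∣ 1 := by
    simpa using Int.natAbs_dvd_natAbs.2 (⟨2 * x + 1, b'.symm⟩ : R ∣ -1)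
  have h2 := Nat.dvd_one.1 h1
  rw [← Int.natCast_natAbs, h2] at hR
  norm_num at hR

theorem alg_one {Q x R P P' Di Dk zd : ℤ} {g : ℚ} (hQ : Q = 2 * x - 1)
    (hR : R ≠ 0) (hx0 : x ≠ 0) (hQ0 : Q ≠ 0)
    (hDi : Di = -Q * R) (hz : zd = 2 * x * R)
    (e1 : g * (1 + 1 / (R : ℚ) + (x : ℚ) ^ 2 / P + (x : ℚ) ^ 2 / P') =
      8 * (x : ℚ) ^ 2 * Q * ((x : ℚ) + 1))
    (e3 : g * (1 + 1 / (R : ℚ) + (Q : ℚ) ^ 2 / Di + (Q : ℚ) ^ 2 / Dk) =
      16 * (x : ℚ) ^ 3 * ((x : ℚ) - 1))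
    (f1 : g * (1 + 2 * ((x : ℚ) ^ 2 / P + (x : ℚ) ^ 2 / P') - (Q : ℚ) ^ 2 / Dk +
      (-6 * x : ℚ) ^ 2 / zd) = 4 * ((x : ℚ) * ((x : ℚ) - 1)) ^ 2 * 4) :
    g = -Q * (2 * x) * R := by
  have hR0 : (R : ℚ) ≠ 0 := Int.cast_ne_zero.2 hR
  have hx' : (x : ℚ) ≠ 0 := Int.cast_ne_zero.2 hx0
  have hQ' : (Q : ℚ) ≠ 0 := Int.cast_ne_zero.2 hQ0
  have hQq : (Q : ℚ) = 2 * x - 1 := by rw [hQ]; push_cast; ring
  have h1 : (-6 * x : ℚ) ^ 2 / zd = 18 * x / R := by rw [hz]; push_cast; field_simp; ring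
  have h2 : (Q : ℚ) ^ 2 / Di = -(Q / R) := by rw [hDi]; push_cast; field_simp
  rw [h1] at f1
  rw [h2] at e3
  have h : g * (16 * x) = -32 * (x : ℚ) ^ 2 * Q * R := by
    have h' : g * (18 * x / R - 1 / R - Q / R) = -32 * (x : ℚ) ^ 2 * Q := by
      rw [hQq] at e1 e3 f1 ⊢
      linear_combination f1 - 2 * e1 + e3
    field_simp at h'
    rw [hQq] at h' ⊢
    linear_combination h'
  refine mul_left_cancel₀ (mul_ne_zero (by norm_num : (16 : ℚ) ≠ 0) hx') ?_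
  linear_combination h

theorem alg_two {Q x R P P' D D' zd : ℤ} {g : ℚ} (hQ : Q = 2 * x - 1) (hx0 : x ≠ 0) (hP' : P' ≠ 0)
    (hz : zd = 2 * P')
    (e1 : g * (1 + 1 / (R : ℚ) + (x : ℚ) ^ 2 / P + (x : ℚ) ^ 2 / P') =
      8 * (x : ℚ) ^ 2 * Q * ((x : ℚ) + 1))
    (e3 : g * (1 + 1 / (R : ℚ) + (Q : ℚ) ^ 2 / D + (Q : ℚ) ^ 2 / D') =
      16 * (x : ℚ) ^ 3 * ((x : ℚ) - 1))
    (f1 : g * (1 + 1 / (R : ℚ) + 2 * ((x : ℚ) ^ 2 / P) - (Q : ℚ) ^ 2 / D - (Q : ℚ) ^ 2 / D' +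
      (-6 * x : ℚ) ^ 2 / zd) = 4 * ((x : ℚ) * ((x : ℚ) - 1)) ^ 2 * 4) :
    g = -2 * Q * P' := by
  have hx' : (x : ℚ) ≠ 0 := Int.cast_ne_zero.2 hx0
  have hP0 : (P' : ℚ) ≠ 0 := Int.cast_ne_zero.2 hP'
  have hQq : (Q : ℚ) = 2 * x - 1 := by rw [hQ]; push_cast; ring
  have h1 : (-6 * x : ℚ) ^ 2 / zd = 18 * ((x : ℚ) ^ 2 / P') := by
    rw [hz]; push_cast; field_simp; ring
  rw [h1] at f1
  have h : g * (16 * ((x : ℚ) ^ 2 / P')) = -32 * (x : ℚ) ^ 2 * Q := by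
    rw [hQq] at e1 e3 f1 ⊢
    linear_combination f1 - 2 * e1 + e3
  field_simp at h
  refine mul_left_cancel₀ (by norm_num : (16 : ℚ) ≠ 0) ?_
  linear_combination h

theorem alg_ne {Q x R P : ℤ} {g : ℚ} (hQ0 : Q ≠ 0) (hR : R ≠ 0) (hP : P ≠ 0)
    (hx : x ≤ -5 ∨ 7 ≤ x) (hsum : R + 2 * P = -1) (hg : g = -2 * Q * P)
    (e1 : g * (1 + 1 / (R : ℚ) + (x : ℚ) ^ 2 / P + (x : ℚ) ^ 2 / P) =
      8 * (x : ℚ) ^ 2 * Q * ((x : ℚ) + 1)) : False := by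
  have hR0 : (R : ℚ) ≠ 0 := Int.cast_ne_zero.2 hR
  have hP0 : (P : ℚ) ≠ 0 := Int.cast_ne_zero.2 hP
  have hRq : (R : ℚ) = -1 - 2 * P := by
    have : R = -1 - 2 * P := by linarith
    rw [this]; push_cast; ring
  rw [hg] at e1
  field_simp at e1
  have h : (P : ℚ) ^ 2 = (x : ℚ) ^ 2 * (2 * x + 3) * R := by
    refine mul_left_cancel₀ (four_ne_zero : (4 : ℚ) ≠ 0) ?_
    rw [hRq] at e1 ⊢
    linear_combination e1
  have h' : P ^ 2 = x ^ 2 * (2 * x + 3) * R := by exact_mod_cast h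
  set k := x ^ 2 * (2 * x + 3) with hk
  have hsq : (P + k) ^ 2 = k ^ 2 - k := by
    rw [show R = -1 - 2 * P by linarith] at h'
    linear_combination h'
  have hx2 : 25 ≤ x ^ 2 := by rcases hx with h | h <;> nlinarith
  have h1 : 0 ≤ |P + k| := abs_nonneg _
  rw [← sq_abs (P + k)] at hsq
  rcases lt_trichotomy k 0 with hk0 | hk0 | hk0
  · have a1 : -k < |P + k| := by nlinarith
    nlinarith
  · rcases mul_eq_zero.1 (hk ▸ hk0) with e | e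
    · nlinarith
    · omega
  · have hk2 : 2 ≤ k := by
      rw [hk]; rcases hx with h | h <;> nlinarith
    have a1 : k - 1 < |P + k| := by nlinarith
    nlinarith

theorem recip_pair {R P P' : ℤ} {g u b : ℚ} (hR : R ≠ 0) (hP : P ≠ 0) (hP' : P' ≠ 0)
    (hsum : R + P + P' = -1) (h : g * (1 + 1 / (R : ℚ) + u ^ 2 / P + u ^ 2 / P') = b) :
    g * ((R + 1 : ℚ) / R - u ^ 2 * (R + 1) / (P * P')) = b := by
  have hR0 : (R : ℚ) ≠ 0 := Int.cast_ne_zero.2 hR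
  have hP0 : (P : ℚ) ≠ 0 := Int.cast_ne_zero.2 hP
  have hP0' : (P' : ℚ) ≠ 0 := Int.cast_ne_zero.2 hP'
  have hs : (R : ℚ) + 1 = -((P : ℚ) + P') := by
    have : ((R + P + P' : ℤ) : ℚ) = -1 := by rw [hsum]; norm_num
    push_cast at this; linarith
  rw [← h, add_div, div_self hR0]
  congr 1
  rw [hs]
  field_simp
  ring

variable {G : Type u} [Group G] [Fintype G] [Fintype (Cfsg.IrrCharacter G)]
  [DecidableEq (Cfsg.IrrCharacter G)] {K : Type v} [Group K] [Fintype K] [DecidableEq K]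
  {H : Setup G K} {D : KData K} (W : H.Torus D)
  {e : Cfsg.IrrCharacter G → ℤ}
variable (hL : H.Local) (hN : W.NoFive)
include hL hN

/-- The facts used on the exact shape A. -/
theorem facts_A [IsSimpleGroup G] {f : Fin 7 → Cfsg.IrrCharacter G} (S : H.Shp D tableA f e)
    (hA : AlignA H f e) :
    1 < |H.dd f e 0| ∧ H.dd f e 0 + H.dd f e 1 + H.dd f e 2 = -1 ∧
      H.dd f e 0 + H.dd f e 5 + H.dd f e 6 = -1 ∧
      H.gq D * (1 + 1 / (H.dd f e 0 : ℚ) + (D.x : ℚ) ^ 2 / H.dd f e 1 + (D.x : ℚ) ^ 2 / H.dd f e 2) =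
        8 * (D.x : ℚ) ^ 2 * (D.Q : ℚ) * ((D.x : ℚ) + 1) ∧
      H.gq D * (1 + 1 / (H.dd f e 0 : ℚ) + (D.Q : ℚ) ^ 2 / H.dd f e 5 + (D.Q : ℚ) ^ 2 / H.dd f e 6) =
        16 * (D.x : ℚ) ^ 3 * ((D.x : ℚ) - 1) := by
  obtain ⟨u0, u1, u2, -, -, u5, u6⟩ := exact_A W hL hN S hA
  have h0 := H.uu_lt D S 0
  rw [u0, abs_one] at h0
  have d0 := H.dd_sum D hL S 0
  have d2 := H.dd_sum D hL S 2
  have e0 := H.theta_recip D hL S 0
  have e2 := H.theta_recip D hL S 2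
  simp [Fin.sum_univ_seven, tableA, u0, u1, u2, u5, u6] at d0 d2 e0 e2
  refine ⟨h0, d0, d2, ?_, ?_⟩
  · rw [← e0]; ring
  · rw [← e2]; ring

/-- No character of the torus is fixed by `z`. -/
theorem no_inv_A [IsSimpleGroup G] {f : Fin 7 → Cfsg.IrrCharacter G} (S : H.Shp D tableA f e)
    (hA : AlignA H f e) {l : W.A →* ℂˣ} (hl : l ≠ 1) (hfix : ∀ a, l (W.zA a) = l a) : False := by
  obtain ⟨-, F, hF, hdata⟩ := inv_A W hL hN S hl hfix
  obtain ⟨hR, -, d2, -, e3⟩ := facts_A W hL hN S hA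
  obtain ⟨u0, -, -, -, -, u5, u6⟩ := exact_A W hL hN S hA
  obtain ⟨i, i', hii, hμ, hf⟩ : ∃ i i' : Fin 7, ((i = 5 ∧ i' = 6) ∨ (i = 6 ∧ i' = 5)) ∧
      (∀ j, pp f e (W.fn l true) j = if j = 0 then -1 else if j = i then 1 else 0) ∧
      ∀ j, pp f e (F 0) j = if j = i' then -1 else 0 := by
    rcases hdata with ⟨h1, h2⟩ | ⟨h1, h2⟩
    · exact ⟨5, 6, Or.inl ⟨rfl, rfl⟩, congrFun (List.ofFn_inj.1 (h1.trans (by decide))),
        congrFun (List.ofFn_inj.1 (h2.trans (by decide)))⟩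
    · exact ⟨6, 5, Or.inr ⟨rfl, rfl⟩, congrFun (List.ofFn_inj.1 (h1.trans (by decide))),
        congrFun (List.ofFn_inj.1 (h2.trans (by decide)))⟩
  have hg := W.isGen_fn l true
  have cμ : coef (W.fn l true) (trivIrr G) = 0 :=
    coef_triv hg (by rw [W.inner_triv hl true]; norm_num)
  have c0 : coef (F 0) (trivIrr G) = 1 :=
    coef_triv (hF.gen 0) (by rw [hF.triv, if_pos rfl]; norm_num)
  have nμ : Cfsg.classInner (W.fn l true) (W.fn l true) = ((3 : ℤ) : ℂ) := by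
    rw [W.inner_fn hL hN hl true true fun h => absurd h (by decide)]; norm_num
  have n0 : Cfsg.classInner (F 0) (F 0) = ((3 : ℤ) : ℂ) := by rw [hF.inner]; norm_num
  obtain ⟨Y, hY⟩ := H.exists_one D S hg nμ (by
    rcases hii with ⟨rfl, rfl⟩ | ⟨rfl, rfl⟩ <;>
      simp only [cμ, Fin.sum_univ_seven, hμ] <;> simp [Fin.ext_iff])
  obtain ⟨Z, hZ⟩ := H.exists_one D S (hF.gen 0) n0 (by
    rcases hii with ⟨rfl, rfl⟩ | ⟨rfl, rfl⟩ <;>
      simp only [c0, Fin.sum_univ_seven, hf] <;> simp [Fin.ext_iff])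
  have eμ := H.vec_one D S hg (W.fn_one l true)
  have tμ := H.vec_t D S hg (W.fn_t l true)
  have e0 := H.vec_one D S (hF.gen 0) (hF.one 0)
  have t0 := H.vec_t D S (hF.gen 0) (hF.at_t 0)
  have rμ := H.vec_recip D S hg W (c := 0) (by
    rw [H.torus_recip D hL W hN hl true]; norm_num)
  have r0 := H.vec_recip D S (hF.gen 0) W (c := 4 / 3) (by rw [hF.recip 0]; norm_num)
  rw [hY.sum_int fun x => (deg x : ℤ)] at eμ
  rw [hY.sum_int H.T] at tμ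
  rw [hZ.sum_int fun x => (deg x : ℤ)] at e0
  rw [hZ.sum_int H.T] at t0
  rw [hY.sum fun x => (H.T x : ℚ) ^ 2 / (deg x : ℚ), One.term H hY, mul_zero] at rμ
  rw [hZ.sum fun x => (H.T x : ℚ) ^ 2 / (deg x : ℚ), One.term H hZ] at r0
  have rμ' := (mul_eq_zero.1 rμ).resolve_left (H.gq_pos D).ne'
  simp only [show coef (W.fn l true) Y * (deg Y : ℤ) = zd (W.fn l true) Y from rfl,
    show coef (W.fn l true) Y * H.T Y = H.zu (W.fn l true) Y from rfl,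
    show coef (F 0) Z * (deg Z : ℤ) = zd (F 0) Z from rfl,
    show coef (F 0) Z * H.T Z = H.zu (F 0) Z from rfl] at eμ tμ e0 t0
  simp only [Fin.sum_univ_seven, hμ, hf, cμ, c0] at eμ tμ e0 t0 rμ' r0
  have hR0 := H.dd_ne D S 0
  rcases hii with ⟨rfl, rfl⟩ | ⟨rfl, rfl⟩ <;>
    simp [Fin.ext_iff, u0, u5, u6] at eμ tμ e0 t0 rμ' r0
  · have hDi := alg_Di (Q := D.Q) hR0 (H.dd_ne D S 5) (One.zd_ne hY) (by linarith) (by linarith)
      (zu := H.zu (W.fn l true) Y) (by rw [one_div]; linarith)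
    have hzu : H.zu (F 0) Z = -1 - D.Q := by linarith
    rw [hzu] at r0
    exact alg_inv (zd := zd (F 0) Z) D.Q_eq (D.x_facts.2.2.1) D.x_facts.2.1 (H.gq_pos D).ne' hR
      (H.dd_ne D S 6) (One.zd_ne hZ) hDi d2 (by linarith) e3 (by push_cast at r0 ⊢; linear_combination r0)
  · have hDi := alg_Di (Q := D.Q) hR0 (H.dd_ne D S 6) (One.zd_ne hY) (by linarith) (by linarith)
      (zu := H.zu (W.fn l true) Y) (by rw [one_div]; linarith)
    have hzu : H.zu (F 0) Z = -1 - D.Q := by linarith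
    rw [hzu] at r0
    exact alg_inv (zd := zd (F 0) Z) D.Q_eq (D.x_facts.2.2.1) D.x_facts.2.1 (H.gq_pos D).ne' hR
      (H.dd_ne D S 5) (One.zd_ne hZ) hDi (by linarith) (by linarith) (by linear_combination e3)
      (by push_cast at r0 ⊢; linear_combination r0)

/-- The first option: the parameters of a Ree group. -/
theorem one_A [IsSimpleGroup G] {f : Fin 7 → Cfsg.IrrCharacter G} (S : H.Shp D tableA f e)
    (hA : AlignA H f e) {l : W.A →* ℂˣ} (hl : l ≠ 1) (hz : ∃ a, l (W.zA a) ≠ l a)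
    (hp : patA W f e l ∈ optOnePat) :
    ∃ m : ℕ, 1 ≤ m ∧ D.Q = -(3 ^ (2 * m + 1) : ℤ) ∧
      H.gq D = 2 * D.x * D.Q * (D.Q ^ 2 + D.Q + 1) ∧
      H.dd f e 0 = -(D.Q ^ 2 + D.Q + 1) ∧
      (H.dd f e 5 = -D.Q * H.dd f e 0 ∨ H.dd f e 6 = -D.Q * H.dd f e 0) := by
  obtain ⟨hR, d0, d2, e1, e3⟩ := facts_A W hL hN S hA
  obtain ⟨u0, u1, u2, u3, u4, u5, u6⟩ := exact_A W hL hN S hA
  obtain ⟨a3, a4, -, -⟩ := hA
  obtain ⟨i, i', hii, hμ, hone⟩ : ∃ i i' : Fin 7, ((i = 5 ∧ i' = 6) ∨ (i = 6 ∧ i' = 5)) ∧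
      (∀ j, pp f e (W.fn l true) j = if j = 0 then -1 else if j = i then 1 else 0) ∧
      ∀ j, pp f e (W.fn l false) j = if j = i' then -1 else if j = 0 ∨ j = i then 0 else 1 := by
    simp only [optOnePat, List.mem_cons, List.not_mem_nil, or_false, patA, Prod.mk.injEq] at hp
    rcases hp with ⟨h1, h2⟩ | ⟨h1, h2⟩
    · exact ⟨5, 6, Or.inl ⟨rfl, rfl⟩, congrFun (List.ofFn_inj.1 (h1.trans (by decide))),
        congrFun (List.ofFn_inj.1 (h2.trans (by decide)))⟩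
    · exact ⟨6, 5, Or.inr ⟨rfl, rfl⟩, congrFun (List.ofFn_inj.1 (h1.trans (by decide))),
        congrFun (List.ofFn_inj.1 (h2.trans (by decide)))⟩
  obtain ⟨hgen, n1, nμ, -, t1, tμ0, -, -⟩ := H.torus_vec D hL W hN hl hz
  have cμ := coef_triv (hgen true) tμ0
  have c1 := coef_triv (hgen false) t1
  obtain ⟨Y, hY⟩ := H.exists_one D S (hgen true) nμ (by
    rcases hii with ⟨rfl, rfl⟩ | ⟨rfl, rfl⟩ <;>
      simp only [cμ, Fin.sum_univ_seven, hμ] <;> simp [Fin.ext_iff])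
  obtain ⟨Z, hZ⟩ := H.exists_one D S (hgen false) n1 (by
    rcases hii with ⟨rfl, rfl⟩ | ⟨rfl, rfl⟩ <;>
      simp only [c1, Fin.sum_univ_seven, hone] <;> simp [Fin.ext_iff])
  have eμ := H.vec_one D S (hgen true) (W.fn_one l true)
  have tμ := H.vec_t D S (hgen true) (W.fn_t l true)
  have ef := H.vec_one D S (hgen false) (W.fn_one l false)
  have tf := H.vec_t D S (hgen false) (W.fn_t l false)
  have rμ := H.vec_recip D S (hgen true) W (c := 0) (by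
    rw [H.torus_recip D hL W hN hl true]; norm_num)
  have rf := H.vec_recip D S (hgen false) W (c := 4) (by
    rw [H.torus_recip D hL W hN hl false]; norm_num)
  rw [hY.sum_int fun x => (deg x : ℤ)] at eμ
  rw [hY.sum_int H.T] at tμ
  rw [hZ.sum_int fun x => (deg x : ℤ)] at ef
  rw [hZ.sum_int H.T] at tf
  rw [hY.sum fun x => (H.T x : ℚ) ^ 2 / (deg x : ℚ), One.term H hY, mul_zero] at rμ
  rw [hZ.sum fun x => (H.T x : ℚ) ^ 2 / (deg x : ℚ), One.term H hZ] at rf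
  have rμ' := (mul_eq_zero.1 rμ).resolve_left (H.gq_pos D).ne'
  simp only [show coef (W.fn l true) Y * (deg Y : ℤ) = zd (W.fn l true) Y from rfl,
    show coef (W.fn l true) Y * H.T Y = H.zu (W.fn l true) Y from rfl,
    show coef (W.fn l false) Z * (deg Z : ℤ) = zd (W.fn l false) Z from rfl,
    show coef (W.fn l false) Z * H.T Z = H.zu (W.fn l false) Z from rfl] at eμ tμ ef tf
  simp only [Fin.sum_univ_seven, hμ, hone, cμ, c1] at eμ tμ ef tf rμ' rf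
  have hR0 := H.dd_ne D S 0
  have hQx := D.Q_eq
  have hmod := H.dd_mod D S W hL 0
  rw [u0] at hmod
  have hxf := D.x_facts
  have hpar : Arith.Par D.Q D.x := ⟨D.Q_eq, D.x_mod, D.Q_pow, D.Q_gt⟩
  rcases hii with ⟨rfl, rfl⟩ | ⟨rfl, rfl⟩ <;>
    simp [Fin.ext_iff, u0, u1, u2, u3, u4, u5, u6, a3, a4] at eμ tμ ef tf rμ' rf
  · have hDi := alg_Di (Q := D.Q) hR0 (H.dd_ne D S 5) (One.zd_ne hY) (by linarith) (by linarith)
      (zu := H.zu (W.fn l true) Y) (by rw [one_div]; linarith)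
    have hzu : H.zu (W.fn l false) Z = -6 * D.x := by linarith
    rw [hzu] at rf
    have hgq := alg_one (zd := zd (W.fn l false) Z) hQx hR0 hxf.2.1 hxf.1 hDi
      (by rw [hDi] at d2; linear_combination ef - 2 * d0 + d2 + H.dd f e 0 * hQx) e1 e3
      (by push_cast at rf ⊢; linear_combination rf)
    obtain ⟨m, hm, hQm, hRe, hg⟩ := Arith.optOne (R := H.dd f e 0) (P := H.dd f e 1) (P' := H.dd f e 2)
      (D := H.dd f e 6) (D' := H.dd f e 5) ⟨hpar, hR0, H.dd_ne D S 1, H.dd_ne D S 2, H.dd_ne D S 6,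
        d0, by linarith, hDi, by omega, hgq,
        recip_pair hR0 (H.dd_ne D S 1) (H.dd_ne D S 2) d0 e1,
        recip_pair hR0 (H.dd_ne D S 6) (H.dd_ne D S 5) (by linarith) (by linear_combination e3)⟩
    exact ⟨m, hm, hQm, hg, hRe, Or.inl hDi⟩
  · have hDi := alg_Di (Q := D.Q) hR0 (H.dd_ne D S 6) (One.zd_ne hY) (by linarith) (by linarith)
      (zu := H.zu (W.fn l true) Y) (by rw [one_div]; linarith)
    have hzu : H.zu (W.fn l false) Z = -6 * D.x := by linarith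
    rw [hzu] at rf
    have hgq := alg_one (zd := zd (W.fn l false) Z) (Dk := H.dd f e 5) hQx hR0 hxf.2.1 hxf.1 hDi
      (by rw [hDi] at d2; linear_combination ef - 2 * d0 + d2 + H.dd f e 0 * hQx) e1
      (by linear_combination e3)
      (by push_cast at rf ⊢; linear_combination rf)
    obtain ⟨m, hm, hQm, hRe, hg⟩ := Arith.optOne (R := H.dd f e 0) (P := H.dd f e 1) (P' := H.dd f e 2)
      (D := H.dd f e 5) (D' := H.dd f e 6) ⟨hpar, hR0, H.dd_ne D S 1, H.dd_ne D S 2, H.dd_ne D S 5,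
        d0, by linarith, hDi, by omega, hgq,
        recip_pair hR0 (H.dd_ne D S 1) (H.dd_ne D S 2) d0 e1,
        recip_pair hR0 (H.dd_ne D S 5) (H.dd_ne D S 6) (by linarith) (by linear_combination e3)⟩
    exact ⟨m, hm, hQm, hg, hRe, Or.inr hDi⟩

end Cfsg.Agent.JT.Setup
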