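import Mathlib
import Cfsg.Agent.Lib.JT.FinalA

/-!
Shape A, second option, and the conclusion on shape A.
-/

set_option autoImplicit false
set_option linter.unusedSectionVars false
set_option linter.style.haveILetI false

namespace Cfsg.Agent.JT.Setup

open Cfsg.Agent.Characters
open Cfsg.Agent.JT.Lattice
open scoped ComplexConjugate

universe u v

/-- The labels `(o, o', q, q')` of the second option. -/
def twoPerms : List (Fin 7 × Fin 7 × Fin 7 × Fin 7) :=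
  [(2, 1, 4, 3), (2, 1, 3, 4), (1, 2, 4, 3), (1, 2, 3, 4)]

/-- The first function of the second option. -/
def twoMu (t : Fin 7 × Fin 7 × Fin 7 × Fin 7) (j : Fin 7) : ℤ :=
  if j = t.1 ∨ j = t.2.2.1 then -1 else 0

/-- The second function of the second option. -/
def twoOne (t : Fin 7 × Fin 7 × Fin 7 × Fin 7) (j : Fin 7) : ℤ :=
  if j = 5 ∨ j = 6 then -1 else if j = 0 ∨ j = t.2.1 ∨ j = t.2.2.2 then 1 else 0

theorem optTwo_perm : ∀ p ∈ optTwoPat, ∃ t ∈ twoPerms,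
    p = (List.ofFn (twoMu t), List.ofFn (twoOne t)) := by decide +kernel

theorem twoPerms_vals : ∀ t ∈ twoPerms,
    twoOne t 0 + 3 * twoMu t 0 = 1 ∧ twoOne t t.2.1 + 3 * twoMu t t.2.1 = 1 := by decide +kernel

theorem alg_integral {Q x R P P' s n : ℤ} {g a : ℚ} (hR : R ≠ 0) (hP : P ≠ 0) (hP' : P' ≠ 0)
    (hsum : R + P + P' = -1) (hs : s * s = 1) (ha : a = s * (2 * (x - 1)))
    (hg : g = -2 * Q * P')
    (h : g * ((Q : ℚ) ^ 2 * a) * (1 + 1 / (R : ℚ) + 1 / (P : ℚ) + 1 / (P' : ℚ)) = n) :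
    ∃ k : ℕ, R * P ∣ (2 * (x - 1)) ^ k * Q ^ 3 * (R + 1) * (P * P' - R) := by
  have hR0 : (R : ℚ) ≠ 0 := Int.cast_ne_zero.2 hR
  have hP0 : (P : ℚ) ≠ 0 := Int.cast_ne_zero.2 hP
  have hP0' : (P' : ℚ) ≠ 0 := Int.cast_ne_zero.2 hP'
  have hsum' : (R : ℚ) + P + P' = -1 := by exact_mod_cast hsum
  have hs' : (s : ℚ) * s = 1 := by exact_mod_cast hs
  subst hg ha
  field_simp at h
  have key : (R : ℚ) * P * (-(s : ℚ) * n * (x - 1)) =
      (2 * (x - 1)) ^ 2 * (Q : ℚ) ^ 3 * (R + 1) * (P * P' - R) := by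
    linear_combination (s : ℚ) * ((x : ℚ) - 1) * h +
      4 * (Q : ℚ) ^ 3 * ((x : ℚ) - 1) ^ 2 * R * hsum' +
      4 * (Q : ℚ) ^ 3 * ((x : ℚ) - 1) ^ 2 * (R * P * P' + P * P' + R * P' + R * P) * hs'
  exact ⟨2, -s * n * (x - 1), by exact_mod_cast key.symm⟩

variable {G : Type u} [Group G] [Fintype G] [Fintype (Cfsg.IrrCharacter G)]
  [DecidableEq (Cfsg.IrrCharacter G)] {K : Type v} [Group K] [Fintype K] [DecidableEq K]
  {H : Setup G K} {D : KData K} (W : H.Torus D)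
  {e : Cfsg.IrrCharacter G → ℤ}
variable (hL : H.Local) (hN : W.NoFive)
include hL hN

/-- The second option. -/
theorem two_A [IsSimpleGroup G] {f : Fin 7 → Cfsg.IrrCharacter G} (S : H.Shp D tableA f e)
    (hA : AlignA H f e) {l : W.A →* ℂˣ} (hl : l ≠ 1) (hp : patA W f e l ∈ optTwoPat) :
    ∃ t : Fin 7 × Fin 7 × Fin 7 × Fin 7, (t = (2, 1, 4, 3) ∨ t = (1, 2, 3, 4)) ∧
      patA W f e l = (List.ofFn (twoMu t), List.ofFn (twoOne t)) ∧
      H.gq D = -2 * D.Q * H.dd f e t.1 ∧ H.dd f e 1 ≠ H.dd f e 2 := by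
  obtain ⟨hR, d0, d2, e1, e3⟩ := facts_A W hL hN S hA
  obtain ⟨u0, u1, u2, u3, u4, u5, u6⟩ := exact_A W hL hN S hA
  obtain ⟨a3, a4, -, -⟩ := hA
  have hz : ∃ a, l (W.zA a) ≠ l a := by
    by_contra h
    push Not at h
    exact no_inv_A W hL hN S ⟨a3, a4, by rw [u3, u1], by rw [u4, u2]⟩ hl h
  obtain ⟨⟨o, o', q, q'⟩, ht, hpat⟩ := optTwo_perm _ hp
  have hμ : ∀ j, pp f e (W.fn l true) j = if j = o ∨ j = q then -1 else 0 :=
    congrFun (List.ofFn_inj.1 (congrArg Prod.fst hpat))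
  have hone : ∀ j, pp f e (W.fn l false) j =
      if j = 5 ∨ j = 6 then -1 else if j = 0 ∨ j = o' ∨ j = q' then 1 else 0 :=
    congrFun (List.ofFn_inj.1 (congrArg Prod.snd hpat))
  obtain ⟨hgen, n1, nμ, -, t1, tμ0, -, -⟩ := H.torus_vec D hL W hN hl hz
  have cμ := coef_triv (hgen true) tμ0
  have c1 := coef_triv (hgen false) t1
  simp only [twoPerms, List.mem_cons, Prod.mk.injEq, List.not_mem_nil, or_false] at ht
  obtain ⟨Y, hY⟩ := H.exists_one D S (hgen true) nμ (by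
    rcases ht with ⟨rfl, rfl, rfl, rfl⟩ | ⟨rfl, rfl, rfl, rfl⟩ | ⟨rfl, rfl, rfl, rfl⟩ |
      ⟨rfl, rfl, rfl, rfl⟩ <;> simp only [cμ, Fin.sum_univ_seven, hμ] <;> simp [Fin.ext_iff])
  obtain ⟨Z, hZ⟩ := H.exists_one D S (hgen false) n1 (by
    rcases ht with ⟨rfl, rfl, rfl, rfl⟩ | ⟨rfl, rfl, rfl, rfl⟩ | ⟨rfl, rfl, rfl, rfl⟩ |
      ⟨rfl, rfl, rfl, rfl⟩ <;> simp only [c1, Fin.sum_univ_seven, hone] <;> simp [Fin.ext_iff])
  have eμ := H.vec_one D S (hgen true) (W.fn_one l true)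
  have tμ := H.vec_t D S (hgen true) (W.fn_t l true)
  have ef := H.vec_one D S (hgen false) (W.fn_one l false)
  have tf := H.vec_t D S (hgen false) (W.fn_t l false)
  have rμ := H.vec_recip D S (hgen true) W (c := 0) (by
    rw [H.torus_recip D hL W hN hl true]; norm_num)
  have rf := H.vec_recip D S (hgen false) W (c := 4) (by
    rw [H.torus_recip D hL W hN hl false]; norm_num)
  rw [hY.sum_int fun x => (deg x : ℤ)] at eμ
  rw [hY.sum_int H.T] at tμ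
  rw [hZ.sum_int fun x => (deg x : ℤ)] at ef
  rw [hZ.sum_int H.T] at tf
  rw [hY.sum fun x => (H.T x : ℚ) ^ 2 / (deg x : ℚ), One.term H hY, mul_zero] at rμ
  rw [hZ.sum fun x => (H.T x : ℚ) ^ 2 / (deg x : ℚ), One.term H hZ] at rf
  have rμ' := (mul_eq_zero.1 rμ).resolve_left (H.gq_pos D).ne'
  simp only [show coef (W.fn l true) Y * (deg Y : ℤ) = zd (W.fn l true) Y from rfl,
    show coef (W.fn l true) Y * H.T Y = H.zu (W.fn l true) Y from rfl,
    show coef (W.fn l false) Z * (deg Z : ℤ) = zd (W.fn l false) Z from rfl,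
    show coef (W.fn l false) Z * H.T Z = H.zu (W.fn l false) Z from rfl] at eμ tμ ef tf
  simp only [Fin.sum_univ_seven, hμ, hone, cμ, c1] at eμ tμ ef tf rμ' rf
  have hx0 := D.x_facts.2.1
  have key : -H.dd f e o - H.dd f e q + zd (W.fn l true) Y = 0 ∧
      -2 * D.x + H.zu (W.fn l true) Y = 0 ∧
      -((D.x : ℚ) ^ 2 / H.dd f e o) - (D.x : ℚ) ^ 2 / H.dd f e q +
        (H.zu (W.fn l true) Y : ℚ) ^ 2 / zd (W.fn l true) Y = 0 ∧
      1 + H.dd f e 0 + H.dd f e o' + H.dd f e q' - H.dd f e 5 - H.dd f e 6 +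
        zd (W.fn l false) Z = 0 ∧
      2 + 2 * D.x + 2 * D.Q + H.zu (W.fn l false) Z = 0 ∧
      H.gq D * (1 + 1 / (H.dd f e 0 : ℚ) + (D.x : ℚ) ^ 2 / H.dd f e o' +
        (D.x : ℚ) ^ 2 / H.dd f e q' - (D.Q : ℚ) ^ 2 / H.dd f e 5 - (D.Q : ℚ) ^ 2 / H.dd f e 6 +
        (H.zu (W.fn l false) Z : ℚ) ^ 2 / zd (W.fn l false) Z) =
          4 * ((D.x : ℚ) * ((D.x : ℚ) - 1)) ^ 2 * 4 ∧
      H.dd f e 0 + H.dd f e o + H.dd f e o' = -1 ∧ H.dd f e 0 + H.dd f e q + H.dd f e q' = -1 ∧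
      H.gq D * (1 + 1 / (H.dd f e 0 : ℚ) + (D.x : ℚ) ^ 2 / H.dd f e o' + (D.x : ℚ) ^ 2 / H.dd f e o) =
        8 * (D.x : ℚ) ^ 2 * (D.Q : ℚ) * ((D.x : ℚ) + 1) := by
    rcases ht with ⟨rfl, rfl, rfl, rfl⟩ | ⟨rfl, rfl, rfl, rfl⟩ | ⟨rfl, rfl, rfl, rfl⟩ |
      ⟨rfl, rfl, rfl, rfl⟩ <;>
      simp [Fin.ext_iff, u0, u1, u2, u3, u4, u5, u6] at eμ tμ ef tf rμ' rf <;>
      refine ⟨by linarith, by linarith, by linarith, by linarith, by linarith, ?_, by linarith,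
        by linarith, ?_⟩ <;>
      first | linear_combination rf | linear_combination e1
  obtain ⟨k1, k2, k3, k4, k5, k6, k7, k8, k9⟩ := key
  have ho := H.dd_ne D S o
  have hq := H.dd_ne D S q
  have hzd : zd (W.fn l true) Y = H.dd f e o + H.dd f e q := by linarith
  have hzn := One.zd_ne hY
  rw [hzd] at hzn k3
  rw [show H.zu (W.fn l true) Y = 2 * D.x by linarith] at k3
  push_cast at k3
  have hqo : H.dd f e q = H.dd f e o := by
    have h := Arith.proportional (u := (D.x : ℚ)) (v := (D.x : ℚ)) (Int.cast_ne_zero.2 ho)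
      (Int.cast_ne_zero.2 hq) (by rw [← Int.cast_add]; exact Int.cast_ne_zero.2 hzn)
      (by rw [← two_mul]; linarith)
    exact_mod_cast mul_left_cancel₀ (Int.cast_ne_zero.2 hx0) h
  have hq' : H.dd f e q' = H.dd f e o' := by linarith
  have hzu : H.zu (W.fn l false) Z = -6 * D.x := by have := D.Q_eq; linarith
  rw [hzu, hq'] at k6
  push_cast at k6
  have hgq : H.gq D = -2 * D.Q * H.dd f e o :=
    alg_two (zd := zd (W.fn l false) Z) D.Q_eq hx0 ho (by linarith) k9 e3 (by linear_combination k6)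
  have hne : H.dd f e 1 ≠ H.dd f e 2 := by
    intro h12
    have ho1 : H.dd f e o = H.dd f e 1 := by
      rcases ht with ⟨rfl, -⟩ | ⟨rfl, -⟩ | ⟨rfl, -⟩ | ⟨rfl, -⟩ <;> first | rfl | exact h12.symm
    refine alg_ne (g := H.gq D) (P := H.dd f e 1) (R := H.dd f e 0) D.x_facts.1 (H.dd_ne D S 0) (H.dd_ne D S 1) D.x_facts.2.2.2.2
      (by linarith) (by rw [← ho1]; exact hgq) ?_
    rw [← h12] at e1
    exact e1
  rcases ht with ⟨rfl, rfl, rfl, rfl⟩ | ⟨rfl, rfl, rfl, rfl⟩ | ⟨rfl, rfl, rfl, rfl⟩ |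
    ⟨rfl, rfl, rfl, rfl⟩
  · exact ⟨_, Or.inl rfl, hpat, hgq, hne⟩
  · exact absurd (a3.symm.trans hqo) hne
  · exact absurd (hqo.symm.trans a4) hne
  · exact ⟨_, Or.inr rfl, hpat, hgq, hne⟩

/-- Shape A gives the parameters of a Ree group. -/
theorem final_A [IsSimpleGroup G] {f : Fin 7 → Cfsg.IrrCharacter G} (S : H.Shp D tableA f e)
    (hA : AlignA H f e) :
    ∃ m : ℕ, 1 ≤ m ∧ D.Q = -(3 ^ (2 * m + 1) : ℤ) ∧
      H.gq D = 2 * D.x * D.Q * (D.Q ^ 2 + D.Q + 1) ∧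
      H.dd f e 0 = -(D.Q ^ 2 + D.Q + 1) ∧
      (H.dd f e 5 = -D.Q * H.dd f e 0 ∨ H.dd f e 6 = -D.Q * H.dd f e 0) := by
  have hmoved : ∀ l : W.A →* ℂˣ, l ≠ 1 → ∃ a, l (W.zA a) ≠ l a := fun l hl => by
    by_contra h
    push Not at h
    exact no_inv_A W hL hN S hA hl h
  by_cases hone : ∃ l : W.A →* ℂˣ, l ≠ 1 ∧ patA W f e l ∈ optOnePat
  · obtain ⟨l, hl, hp⟩ := hone
    exact one_A W hL hN S hA hl (hmoved l hl) hp
  exfalso
  push Not at hone
  have htwo : ∀ l : W.A →* ℂˣ, l ≠ 1 → patA W f e l ∈ optTwoPat := fun l hl =>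
    (List.mem_append.1 (pat_A W hL hN S hA hl (hmoved l hl))).resolve_left (hone l hl)
  haveI : Nontrivial W.A := Finite.one_lt_card_iff_nontrivial.1 (by
    have := W.A_card; have := D.Q_gt; omega)
  obtain ⟨a₀, ha₀⟩ := exists_ne (1 : W.A)
  obtain ⟨l₀, hl₀⟩ : ∃ l : W.A →* ℂˣ, l ≠ 1 := by
    obtain ⟨φ, hφ⟩ := BlocksChars.FrobNormalizer.exists_dual_ne_one W.A_comm ha₀
    exact ⟨φ, fun h => hφ (by rw [h]; rfl)⟩
  obtain ⟨t, ht, -, hg, hne⟩ := two_A W hL hN S hA hl₀ (htwo l₀ hl₀)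
  have hQ0 : (D.Q : ℚ) ≠ 0 := Int.cast_ne_zero.2 D.x_facts.1
  have hsame : ∀ l : W.A →* ℂˣ, l ≠ 1 →
      patA W f e l = (List.ofFn (twoMu t), List.ofFn (twoOne t)) := fun l hl => by
    obtain ⟨t', ht', hp', hg', -⟩ := two_A W hL hN S hA hl (htwo l hl)
    have heq : H.dd f e t.1 = H.dd f e t'.1 := by
      rw [hg] at hg'
      exact_mod_cast mul_left_cancel₀ (mul_ne_zero (by norm_num : (-2 : ℚ) ≠ 0) hQ0) hg'
    suffices t' = t by rw [hp', this]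
    rcases ht with rfl | rfl <;> rcases ht' with rfl | rfl <;>
      first | rfl | exact absurd heq hne | exact absurd heq.symm hne
  obtain ⟨hR, d0, d2, e1, e3⟩ := facts_A W hL hN S hA
  obtain ⟨u0, u1, u2, u3, u4, u5, u6⟩ := exact_A W hL hN S hA
  haveI := W.finite_dual
  haveI := Fintype.ofFinite (W.A →* ℂˣ)
  have hsq : ∀ j, e (f j) * e (f j) = 1 := fun j => by
    rcases S.unit (f j) with e' | e' <;> rw [e'] <;> norm_num
  have hcd : ∀ l : W.A →* ℂˣ, l ≠ 1 → ∀ j, coef (W.fn l false) (f j) - coef (W.fn l true) (f j) =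
      e (f j) * colDiff tableA j := fun l hl j => by
    rw [← diff_A W hL hN S hA hl j, pp, pp, mul_sub, ← mul_assoc, ← mul_assoc, hsq, one_mul, one_mul]
  have hdvd : ∀ j, twoOne t j + 3 * twoMu t j = 1 → (Nat.card W.A : ℤ) ∣ H.dd f e j - 1 := by
    intro j hj
    have hc : ∀ l : W.A →* ℂˣ, l ≠ 1 →
        coef (W.fn l false) (f j) + 3 * coef (W.fn l true) (f j) = e (f j) := fun l hl => by
      have h1 := congrFun (List.ofFn_inj.1 (congrArg Prod.fst (hsame l hl))) j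
      have h2 := congrFun (List.ofFn_inj.1 (congrArg Prod.snd (hsame l hl))) j
      simp only [pp] at h1 h2
      rw [← h1, ← h2] at hj
      linear_combination (e (f j)) * hj -
        (coef (W.fn l false) (f j) + 3 * coef (W.fn l true) (f j)) * hsq j
    obtain ⟨c, hc'⟩ := (W.congr_torus hL (f j) (e (f j)) (e (f j) * colDiff tableA j) hc
      fun l hl => hcd l hl j).1
    refine ⟨e (f j) * c, ?_⟩
    rw [dd]
    linear_combination (e (f j)) * hc' + hsq j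
  obtain ⟨hv0, hv1⟩ := twoPerms_vals t (by rcases ht with rfl | rfl <;> decide)
  -- the values at `a₀ t`
  have hval : ∀ j, ((f j : Cfsg.IrrCharacter G) : G → ℂ) ((a₀ : G) * H.t) =
      ((e (f j) * colDiff tableA j : ℤ) : ℂ) :=
    fun j => W.val_at (fun l hl => hcd l hl j) ha₀
  obtain ⟨n, hn⟩ := conv_integral (H.isGen_ind (D.θ_gen 0)) ((a₀ : G) * H.t)
    (q := (Nat.card G : ℚ) *
      (1 + 1 / (H.dd f e 0 : ℚ) + 1 / (H.dd f e 1 : ℚ) + 1 / (H.dd f e 2 : ℚ))) (by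
    rw [Rat.cast_mul, Rat.cast_natCast]
    congr 1
    have hx := S.expand (fun χ => H.m D 0 χ * H.m D 0 χ) (M := ℂ)
      fun χ => (χ : G → ℂ) ((a₀ : G) * H.t) / (deg χ : ℂ)
    rw [Finset.sum_eq_zero (s := outside (trivIrr G) f) fun x hx => by
      rw [S.zero 0 x (mem_outside.1 hx).1 (mem_outside.1 hx).2]; simp] at hx
    rw [show ∑ χ : Cfsg.IrrCharacter G, (coef (H.ind (D.θ 0)) χ : ℂ) ^ 2 *
        (χ : G → ℂ) ((a₀ : G) * H.t) / (deg χ : ℂ) =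
      ∑ χ : Cfsg.IrrCharacter G, ((H.m D 0 χ * H.m D 0 χ : ℤ) : ℂ) *
        ((χ : G → ℂ) ((a₀ : G) * H.t) / (deg χ : ℂ)) from
      Finset.sum_congr rfl fun χ _ => by simp only [m]; push_cast; ring, hx]
    have hterm : ∀ j, ((e (f j) * (H.m D 0 (f j) * H.m D 0 (f j)) : ℤ) : ℂ) *
        ((e (f j) : ℂ) * ((f j : G → ℂ) ((a₀ : G) * H.t) / (deg (f j) : ℂ))) =
        (tableA 0 j : ℂ) ^ 2 * (colDiff tableA j : ℂ) / (H.dd f e j : ℂ) := fun j => by
      rw [hval, S.val', dd]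
      rcases S.unit (f j) with e' | e' <;> rw [e'] <;> push_cast <;> ring
    simp only [hterm, S.one, trivIrr_coe, deg_triv (G := G)]
    simp [Fin.sum_univ_seven, tableA, colDiff]
    ring)
  have hQx := D.Q_eq
  obtain ⟨s, hs, hsa⟩ : ∃ s : ℤ, s * s = 1 ∧
      (((D.Q - 1).natAbs : ℕ) : ℚ) = (s : ℚ) * (2 * ((D.x : ℚ) - 1)) := by
    rcases Int.natAbs_eq (D.Q - 1) with e' | e'
    · refine ⟨1, rfl, ?_⟩
      have : ((D.Q - 1).natAbs : ℤ) = 1 * (2 * (D.x - 1)) := by omega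
      rw [← Int.cast_natCast, this]; push_cast; ring
    · refine ⟨-1, rfl, ?_⟩
      have : ((D.Q - 1).natAbs : ℤ) = -1 * (2 * (D.x - 1)) := by omega
      rw [← Int.cast_natCast, this]; push_cast; ring
  rw [H.gq_mul D] at hn
  have hpar : Arith.Par D.Q D.x := ⟨D.Q_eq, D.x_mod, D.Q_pow, D.Q_gt⟩
  have hm0 := H.dd_mod D S W hL 0
  have hm1 := H.dd_mod D S W hL 1
  have hm2 := H.dd_mod D S W hL 2
  rw [u0] at hm0
  rw [u1] at hm1
  rw [u2] at hm2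
  have hR1 : H.dd f e 0 ≠ -1 := fun h => by rw [h] at hR; norm_num at hR
  have hr := card_A_eq W
  have hR0 := H.dd_ne D S 0
  rcases ht with rfl | rfl
  · refine Arith.optTwo (g := H.gq D) (R := H.dd f e 0) (P := H.dd f e 1) (P' := H.dd f e 2)
      ⟨hpar, H.ord D, hR0, hR1, H.dd_ne D S 1, H.dd_ne D S 2, d0, by omega, by omega, by omega,
        hr ▸ hdvd 0 hv0, hr ▸ hdvd 1 hv1, hg,
        recip_pair hR0 (H.dd_ne D S 1) (H.dd_ne D S 2) d0 e1,
        alg_integral hR0 (H.dd_ne D S 1) (H.dd_ne D S 2) d0 hs hsa hg hn⟩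
  · refine Arith.optTwo (g := H.gq D) (R := H.dd f e 0) (P := H.dd f e 2) (P' := H.dd f e 1)
      ⟨hpar, H.ord D, hR0, hR1, H.dd_ne D S 2, H.dd_ne D S 1, by linarith, by omega, by omega, by omega,
        hr ▸ hdvd 0 hv0, hr ▸ hdvd 2 hv1, hg,
        recip_pair hR0 (H.dd_ne D S 2) (H.dd_ne D S 1) (by linarith) (by linear_combination e1),
        alg_integral (Q := D.Q) (x := D.x) (g := H.gq D) (n := n) hR0 (H.dd_ne D S 2) (H.dd_ne D S 1)
          (by linarith) hs hsa hg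
          (by rw [← hn]; ring)⟩

end Cfsg.Agent.JT.Setup
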