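import Mathlib
import Cfsg.Agent.Lib.JT.ArithDefs
import Cfsg.Agent.Lib.JT.ArithOptOne

/-!
Shape B: with `u = x - 1`, `A = Q² + Q + d`, `B = Q² + d - 1` one has `d Y = u A` and
`g Q = 2x A B`; the subcase `g = -2Qp` is impossible.
-/

set_option autoImplicit false

namespace Cfsg.Agent.JT.Arith

/-- What is left of shape B. -/
structure BData (Q x Y : ℤ) (g : ℚ) (d : ℤ) : Prop where
  d_odd : d % 2 = 1
  d_dvd : 8 * d ∣ (Q ^ 2 - 1) * Q
  Y_eq : d * Y = (x - 1) * (Q ^ 2 + Q + d)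
  g_eq : g * Q = 2 * x * ((Q ^ 2 + Q + d) * (Q ^ 2 + d - 1) : ℤ)
  A_pos : 0 < Q ^ 2 + Q + d
  B_gt : |d| < Q ^ 2 + d - 1

/-- The reduced third equation: `N (Y - u)² = 4 x² Q u Y (1 + 2Y)`. -/
theorem ShapeB.eq_three {Q x : ℤ} {g : ℚ} {Y X p : ℤ} (h : ShapeB Q x g Y X p) :
    g * ((Y : ℚ) - (x - 1)) ^ 2 = 8 * x ^ 3 * (x - 1) * Y * (1 + 2 * Y) := by
  have e3 := h.e3
  have hY : (Y : ℚ) ≠ 0 := by exact_mod_cast h.Y_ne
  have hp3 : (-1 - 2 * Y : ℚ) ≠ 0 := by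
    exact_mod_cast (show (-1 - 2 * Y : ℤ) ≠ 0 by omega)
  have hQx : (Q : ℚ) = 2 * x - 1 := by exact_mod_cast h.par.Q_eq
  have hc : (-2 : ℚ) * (g * ((Y : ℚ) - (x - 1)) ^ 2 - 8 * x ^ 3 * (x - 1) * Y * (1 + 2 * Y)) =
      Y * (-1 - 2 * Y) * (g * (1 + 2 * (x - 1 : ℚ) ^ 2 / Y + (Q : ℚ) ^ 2 / (-1 - 2 * Y)) -
        16 * x ^ 3 * (x - 1)) := by
    field_simp; rw [hQx]; ring
  rw [e3, sub_self, mul_zero] at hc
  exact sub_eq_zero.mp ((mul_eq_zero.mp hc).resolve_left (by norm_num))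

/-- `w ∣ Q` if `w² ∣ Q² + c Q w`. -/
theorem dvd_of_sq_dvd {Q w c : ℤ} (hQ : Q ≠ 0) (h : w ^ 2 ∣ Q ^ 2 + c * Q * w) : w ∣ Q := by
  obtain ⟨w2, Q2, hco, hw, hQq⟩ :=
    Int.exists_gcd_one (Int.gcd_pos_of_ne_zero_right w hQ)
  set q : ℤ := (Int.gcd w Q : ℤ)
  have hq : q ≠ 0 := fun h0 => hQ (by rw [hQq, h0, mul_zero])
  have h2 : w2 ^ 2 ∣ Q2 ^ 2 + c * Q2 * w2 := by
    refine (mul_dvd_mul_iff_left (pow_ne_zero 2 hq)).mp ?_
    rw [hw, hQq] at h
    rw [show q ^ 2 * w2 ^ 2 = (w2 * q) ^ 2 by ring, show q ^ 2 * (Q2 ^ 2 + c * Q2 * w2) =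
      (Q2 * q) ^ 2 + c * (Q2 * q) * (w2 * q) by ring]
    exact h
  have h3 : w2 ∣ Q2 ^ 2 := by
    have := dvd_sub ((dvd_pow_self w2 two_ne_zero).trans h2) (dvd_mul_left w2 (c * Q2))
    simpa using this
  have hu : IsUnit w2 :=
    ((Int.isCoprime_iff_gcd_eq_one.mpr hco).pow_right (n := 2)).isUnit_of_dvd' dvd_rfl h3
  rw [hw, hQq]
  exact mul_dvd_mul hu.dvd dvd_rfl

/-- The parametrisation of shape B. -/
theorem ShapeB.bdata {Q x : ℤ} {g : ℚ} {Y X p : ℤ} (h : ShapeB Q x g Y X p) :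
    ∃ d, BData Q x Y g d := by
  obtain ⟨hx0, hx1, hxm1, hQ0, -, -, hxs⟩ := h.par.facts
  have hx4 := h.par.x_mod
  have hQx := h.par.Q_eq
  have hYm := h.Y_mod
  have e3 := h.eq_three
  obtain ⟨N, hN⟩ := h.ord.index
  have hNeq : N * (Y - (x - 1)) ^ 2 = 4 * x ^ 2 * Q * (x - 1) * Y * (1 + 2 * Y) := by
    have h1 : (2 * x : ℚ) * (N * ((Y : ℚ) - (x - 1)) ^ 2 -
        4 * x ^ 2 * Q * (x - 1) * Y * (1 + 2 * Y)) = 0 := by
      linear_combination (-((Y : ℚ) - (x - 1)) ^ 2) * hN + (Q : ℚ) * e3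
    have h2 : (2 * x : ℚ) ≠ 0 := by exact_mod_cast mul_ne_zero two_ne_zero hx0
    exact_mod_cast sub_eq_zero.mp ((mul_eq_zero.mp h1).resolve_left h2)
  obtain ⟨Y', hY'⟩ : ∃ Y', Y = 2 * Y' := ⟨Y / 2, by omega⟩
  obtain ⟨u', hu'⟩ : ∃ u', x - 1 = 2 * u' := ⟨(x - 1) / 2, by omega⟩
  have hu'odd : u' % 2 = 1 := by omega
  have hY'odd : Y' % 2 = 1 := by omega
  have hdiff : (Y' - u') % 4 = 2 := by omega
  obtain ⟨y, v, hyv, hy, hv⟩ :=
    Int.exists_gcd_one (Int.gcd_pos_of_ne_zero_right Y' (show u' ≠ 0 by omega))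
  set hh : ℤ := (Int.gcd Y' u' : ℤ)
  have hh0 : hh ≠ 0 := fun h0 => by rw [h0, mul_zero] at hv; omega
  have hvodd : v % 2 = 1 := by
    have : (v * hh) % 2 = 1 := by rw [← hv]; exact hu'odd
    rw [Int.mul_emod] at this
    rcases Int.emod_two_eq_zero_or_one v with h' | h'
    · rw [h'] at this; simp at this
    · exact h'
  have hyodd : y % 2 = 1 := by
    have : (y * hh) % 2 = 1 := by rw [← hy]; exact hY'odd
    rw [Int.mul_emod] at this
    rcases Int.emod_two_eq_zero_or_one y with h' | h'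
    · rw [h'] at this; simp at this
    · exact h'
  obtain ⟨w, hw⟩ : ∃ w, y - v = 2 * w := ⟨(y - v) / 2, by omega⟩
  have hw0 : w ≠ 0 := by
    rintro rfl
    have : Y' = u' := by rw [hy, hv, show y = v by linarith]
    omega
  have hN' : N * w ^ 2 = x ^ 2 * Q * (v * y * (1 + 4 * Y')) := by
    apply mul_left_cancel₀ (mul_ne_zero (show (16 : ℤ) ≠ 0 by norm_num) (pow_ne_zero 2 hh0))
    have hdiffw : Y - (x - 1) = 4 * hh * w := by
      rw [hY', hu', hy, hv]; linear_combination 2 * hh * hw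
    rw [hdiffw] at hNeq
    rw [hu', hY'] at hNeq
    calc 16 * hh ^ 2 * (N * w ^ 2) = N * (4 * hh * w) ^ 2 := by ring
      _ = _ := hNeq
      _ = _ := by rw [hv, hy]; ring
  have hcvy : IsCoprime (v * y) w := by
    obtain ⟨a, b, hab⟩ := Int.isCoprime_iff_gcd_eq_one.mpr hyv
    exact IsCoprime.mul_left ⟨a + b, 2 * a, by linear_combination hab - a * hw⟩
      ⟨a + b, -2 * b, by linear_combination hab + b * hw⟩
  have hw2 : w ^ 2 ∣ x ^ 2 * (Q * (1 + 4 * Y')) := by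
    refine (hcvy.pow_right (n := 2)).symm.dvd_of_dvd_mul_left ⟨N, ?_⟩
    linear_combination -hN'
  -- `w ∣ Q x`
  obtain ⟨w1, x1, hco, hwm, hxm⟩ :=
    Int.exists_gcd_one (Int.gcd_pos_of_ne_zero_left x hw0)
  set m : ℤ := (Int.gcd w x : ℤ)
  have hm0 : m ≠ 0 := fun h0 => hw0 (by rw [hwm, h0, mul_zero])
  have h14 : 1 + 4 * Y' = Q + 8 * hh * w := by
    rw [hQx, hy]; linear_combination 4 * hh * hw - 2 * hu' - 4 * hv
  have hw1 : w1 ∣ Q := by
    refine dvd_of_sq_dvd (c := 8 * hh * m) hQ0 ?_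
    have h5 : (w1 * m) ^ 2 ∣ (x1 * m) ^ 2 * (Q * (1 + 4 * Y')) := by rw [← hwm, ← hxm]; exact hw2
    rw [mul_pow, mul_pow, show x1 ^ 2 * m ^ 2 * (Q * (1 + 4 * Y')) =
      (x1 ^ 2 * (Q * (1 + 4 * Y'))) * m ^ 2 by ring,
      mul_dvd_mul_iff_right (pow_ne_zero 2 hm0)] at h5
    have h6 := ((Int.isCoprime_iff_gcd_eq_one.mpr hco).pow (m := 2) (n := 2)).dvd_of_dvd_mul_left h5
    rw [h14, hwm] at h6
    rw [show Q ^ 2 + 8 * hh * m * Q * w1 = Q * (Q + 8 * hh * (w1 * m)) by ring]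
    exact h6
  obtain ⟨c, hc⟩ : w ∣ Q * x := by
    rw [hwm, hxm]; exact mul_dvd_mul hw1 (dvd_mul_left m x1)
  have hc0 : c ≠ 0 := by
    rintro rfl; exact mul_ne_zero hQ0 hx0 (by simpa using hc)
  have hd0 : v * c ≠ 0 := mul_ne_zero (by omega) hc0
  have hYu : (v * c) * (Y - (x - 1)) = 2 * (x - 1) * Q * x := by
    rw [hY', hu', hy, hv]; linear_combination (2 * hh * v * c) * hw - (4 * hh * v) * hc
  have hYd : (v * c) * Y = (x - 1) * (Q ^ 2 + Q + v * c) := by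
    rw [hQx] at hYu ⊢; linear_combination hYu
  have hQ2 : Q ^ 2 - 1 = 8 * (v * hh) * x := by
    rw [hQx]; linear_combination 4 * x * hu' + 8 * x * hv
  have h1Y : (v * c) * (1 + 2 * Y) = Q * (Q ^ 2 + v * c - 1) := by
    rw [hQx] at hYd ⊢; linear_combination 2 * hYd
  have hgq : g * Q = 2 * x * ((Q ^ 2 + Q + v * c) * (Q ^ 2 + v * c - 1) : ℤ) := by
    have hk : ((x : ℚ) - 1) ^ 2 * x ^ 2 * Q * (4 * (g * Q) -
        8 * x * (((Q : ℚ) ^ 2 + Q + v * c) * ((Q : ℚ) ^ 2 + v * c - 1))) = 0 := by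
      have a1 : ((v : ℚ) * c) * Y = (x - 1) * ((Q : ℚ) ^ 2 + Q + v * c) := by exact_mod_cast hYd
      have a2 : ((v : ℚ) * c) * (1 + 2 * Y) = Q * ((Q : ℚ) ^ 2 + v * c - 1) := by
        exact_mod_cast h1Y
      have a3 : ((v : ℚ) * c) * ((Y : ℚ) - (x - 1)) = 2 * (x - 1) * Q * x := by
        exact_mod_cast hYu
      have a4 : g * (((v : ℚ) * c) * ((Y : ℚ) - (x - 1))) ^ 2 =
          8 * x ^ 3 * (x - 1) * (((v : ℚ) * c) * Y) * (((v : ℚ) * c) * (1 + 2 * Y)) := by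
        linear_combination ((v : ℚ) * c) ^ 2 * e3
      rw [a1, a2, a3] at a4
      linear_combination a4
    have h2 : ((x : ℚ) - 1) ^ 2 * x ^ 2 * Q ≠ 0 := by
      exact_mod_cast mul_ne_zero (mul_ne_zero (pow_ne_zero 2 (sub_ne_zero.mpr hx1))
        (pow_ne_zero 2 hx0)) hQ0
    have := (mul_eq_zero.mp hk).resolve_left h2
    push_cast; linarith
  have hB : |v * c| < Q ^ 2 + v * c - 1 := by
    have h1 := mul_lt_mul_of_pos_left h.p3_gt (abs_pos.mpr hd0)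
    rw [← abs_mul, ← abs_mul (v * c) (1 + 2 * Y), h1Y, abs_mul, abs_mul Q,
      mul_comm |v * c| |Q|] at h1
    have h2 := lt_of_mul_lt_mul_left h1 (abs_nonneg _)
    have : 25 ≤ Q ^ 2 := by
      have := h.par.Q_gt
      rw [← Int.natAbs_sq]; push_cast
      nlinarith [show (6 : ℤ) ≤ |Q| by rw [Int.abs_eq_natAbs]; omega]
    cases abs_cases (v * c) <;> cases abs_cases (Q ^ 2 + v * c - 1) <;> omega
  have hA : 0 < Q ^ 2 + Q + v * c := by
    have hQs : 0 < (x : ℚ) * Q := by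
      have : 0 < x * Q := by
        rw [hQx]; rcases hxs with h' | h'
        · exact mul_pos_of_neg_of_neg (by omega) (by omega)
        · exact mul_pos (by omega) (by omega)
      exact_mod_cast this
    by_contra hA
    have hB' : (0 : ℚ) ≤ ((Q ^ 2 + v * c - 1 : ℤ) : ℚ) := by
      exact_mod_cast (abs_nonneg _).trans hB.le
    have hA' : ((Q ^ 2 + Q + v * c : ℤ) : ℚ) ≤ 0 := by exact_mod_cast not_lt.mp hA
    have h1 := mul_nonpos_of_nonpos_of_nonneg hA' hB'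
    have h2 : 0 < g * (Q : ℚ) ^ 2 := by
      have : (Q : ℚ) ≠ 0 := by exact_mod_cast hQ0
      have := h.ord.pos
      positivity
    have h3 : g * (Q : ℚ) ^ 2 = 2 * ((x : ℚ) * Q) *
        (((Q ^ 2 + Q + v * c : ℤ) : ℚ) * ((Q ^ 2 + v * c - 1 : ℤ) : ℚ)) := by
      rw [Int.cast_mul] at hgq
      linear_combination (Q : ℚ) * hgq
    nlinarith [mul_nonpos_of_nonneg_of_nonpos hQs.le h1]
  have hodd : (v * c) % 2 = 1 := by
    have h1 : (v * c) * (hh * w) = (v * hh) * (Q * x) := by linear_combination (-(v * hh)) * hc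
    have h2 : ((v * hh) * (Q * x)) % 2 = 1 := by
      rw [← hv, Int.mul_emod, hu'odd, Int.mul_emod Q x, show Q % 2 = 1 by omega,
        show x % 2 = 1 by omega]
      rfl
    rw [← h1, Int.mul_emod] at h2
    rcases Int.emod_two_eq_zero_or_one (v * c) with h' | h'
    · rw [h'] at h2; simp at h2
    · exact h'
  exact ⟨v * c, hodd, ⟨hh * w, by rw [hQ2]; linear_combination (8 * v * hh) * hc⟩, hYd, hgq, hA, hB⟩

/-- Shape B with `g = -2Qp` is impossible. -/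
theorem shapeB2 {Q x : ℤ} {g : ℚ} {Y X p : ℤ} (h : ShapeB Q x g Y X p)
    (hg : g = -2 * Q * p) : False := by
  obtain ⟨hx0, hx1, hxm1, hQ0, -, -, hxs⟩ := h.par.facts
  have hx4 := h.par.x_mod
  have hQx := h.par.Q_eq
  obtain ⟨d, hd⟩ := h.bdata
  set A := Q ^ 2 + Q + d with hA
  set B := Q ^ 2 + d - 1 with hB
  have hAB : p * Q ^ 2 = -(x * (A * B)) := by
    have := hd.g_eq
    rw [hg] at this
    have h1 : (-2 * Q * p * Q : ℤ) = 2 * x * (A * B) := by exact_mod_cast this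
    linarith
  have hQodd : Q % 2 = 1 := by omega
  have hQsq : 49 ≤ Q ^ 2 := by
    rw [hQx]; rcases hxs with h' | h' <;> nlinarith
  obtain ⟨π, n, hπ, hn, hπn⟩ := h.par.Q_pow
  have hπ' : Prime (π : ℤ) := Nat.prime_iff_prime_int.mp hπ
  have hQπ : Q ^ 2 = (π : ℤ) ^ (2 * n) := by
    rw [← Int.natAbs_sq, hπn]; push_cast; ring
  have hdvd : Q ^ 2 ∣ A * B := by
    have h1 : IsCoprime (Q ^ 2) x := IsCoprime.pow_left ⟨-1, 2, by rw [hQx]; ring⟩
    exact h1.dvd_of_dvd_mul_left ⟨-p, by linarith⟩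
  have hx_cop : IsCoprime Q x := ⟨-1, 2, by rw [hQx]; ring⟩
  have hsplit : Q ^ 2 ∣ A ∨ Q ^ 2 ∣ B := by
    by_cases hdA : (π : ℤ) ∣ A
    · left
      rw [hQπ] at hdvd ⊢
      refine ((hπ'.coprime_iff_not_dvd.mpr fun hdB => ?_).pow_left).dvd_of_dvd_mul_right hdvd
      have h2x : (π : ℤ) ∣ 2 * x := by
        have := dvd_sub hdA hdB
        rwa [show A - B = 2 * x by rw [hA, hB, hQx]; ring] at this
      have hπQ : (π : ℤ) ∣ Q ^ 2 := by
        rw [hQπ]; exact dvd_pow_self _ (by have := hn.pos; omega)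
      have hc : IsCoprime (Q ^ 2) (2 * x) :=
        IsCoprime.pow_left (IsCoprime.mul_right ⟨1, -(Q / 2), by omega⟩ hx_cop)
      exact hπ'.not_isUnit (hc.isUnit_of_dvd' hπQ h2x)
    · right
      rw [hQπ] at hdvd ⊢
      exact ((hπ'.coprime_iff_not_dvd.mpr hdA).pow_left).dvd_of_dvd_mul_left hdvd
  have hX := h.sum
  have hYd := hd.Y_eq
  have hQ1 : Q ^ 2 - 1 ≠ 0 := by omega
  rcases hsplit with hs | hs
  · -- `d = -Q`
    obtain ⟨i, hi⟩ := hs
    obtain ⟨e, he⟩ : ∃ e, d = Q * e := ⟨i * Q - Q - 1, by rw [hA] at hi; linear_combination hi⟩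
    have hei : e = i * Q - Q - 1 := by
      apply mul_left_cancel₀ hQ0
      rw [← he]; rw [hA] at hi; linear_combination hi
    obtain ⟨f, hf⟩ : 8 * e ∣ Q ^ 2 - 1 := by
      refine (mul_dvd_mul_iff_right hQ0).mp ?_
      have := hd.d_dvd; rw [he] at this
      rw [show 8 * e * Q = 8 * (Q * e) by ring]; exact this
    have heodd : e % 2 = 1 := by
      have := hd.d_odd; rw [he, Int.mul_emod, hQodd] at this; omega
    set i' := i - 1
    have hei' : e = i' * Q - 1 := by rw [hei]; ring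
    set l := 8 * f * i' - Q with hl
    have h8f : 8 * f = 1 + l * Q := by
      rw [hl]; rw [hei'] at hf; linear_combination hf
    have hil : i' - l = Q * (1 - i' * l) := by
      apply mul_left_cancel₀ hQ0
      rw [hei'] at hf
      linear_combination -hf - (i' * Q - 1) * h8f
    have hl0 : l ≠ 0 := by
      intro h0; rw [h0, zero_mul, add_zero] at h8f; omega
    by_cases hi0 : i' = 0
    · -- `p ≡ x` modulo `8` fails
      have he1 : e = -1 := by rw [hei', hi0]; ring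
      have hdQ : d = -Q := by rw [he, he1]; ring
      have hp : p = -x * (Q ^ 2 - Q - 1) := by
        apply mul_left_cancel₀ (pow_ne_zero 2 hQ0)
        rw [hA, hB, hdQ] at hAB; linear_combination hAB
      obtain ⟨k, rfl⟩ : ∃ k, x = 4 * k + 3 := ⟨x / 4, by omega⟩
      have hp' : p = 8 * (-(4 * k + 3) * (8 * k ^ 2 + 9 * k + 2)) - 3 * (4 * k + 3) := by
        rw [hp, hQx]; ring
      have := h.p_mod
      omega
    · by_cases hone : i' * l = 1
      · rcases Int.eq_one_or_neg_one_of_mul_eq_one hone with h' | h' <;> rw [h'] at hei' <;> omega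
      · have h1 := congrArg abs hil
        rw [abs_mul] at h1
        have h2 : |i' - l| ≤ |i' * l| + 1 := by
          refine (abs_sub _ _).trans ?_
          rw [abs_mul]
          nlinarith [Int.one_le_abs hi0, Int.one_le_abs hl0]
        have hQ6 : 6 ≤ |Q| := by
          rw [Int.abs_eq_natAbs]; have := h.par.Q_gt; omega
        have h3 : |i' * l| ≤ |1 - i' * l| + 1 := by
          cases abs_cases (i' * l) <;> cases abs_cases (1 - i' * l) <;> omega
        have h4 : 1 ≤ |1 - i' * l| := Int.one_le_abs (by omega)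
        nlinarith
  · -- `d = 1`
    obtain ⟨i, hi⟩ := hs
    have hdi : d = 1 + (i - 1) * Q ^ 2 := by rw [hB] at hi; linear_combination hi
    have hd8 : 8 * d ∣ Q ^ 2 - 1 := by
      have hc8 : IsCoprime (8 * d) Q := by
        refine IsCoprime.mul_left ?_ ⟨1, -((i - 1) * Q), by rw [hdi]; ring⟩
        have : IsCoprime Q 2 := ⟨1, -(Q / 2), by omega⟩
        simpa using (this.pow_right (n := 3)).symm
      exact hc8.dvd_of_dvd_mul_right hd.d_dvd
    have hle : 8 * |d| ≤ Q ^ 2 - 1 := by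
      have := Int.le_of_dvd (by omega) ((abs_dvd _ _).mpr hd8)
      rwa [abs_mul] at this
    have hi1 : i = 1 := by
      by_contra hne
      have : Q ^ 2 ≤ |(i - 1) * Q ^ 2| := by
        rw [abs_mul, abs_of_nonneg (sq_nonneg Q)]
        exact le_mul_of_one_le_left (sq_nonneg Q) (Int.one_le_abs (by omega))
      cases abs_cases d <;> cases abs_cases ((i - 1) * Q ^ 2) <;> omega
    have hd1 : d = 1 := by rw [hdi, hi1]; ring
    subst hd1
    have hY : Y = (x - 1) * A := by linarith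
    have hp : p = -(x * A) := by
      apply mul_left_cancel₀ (pow_ne_zero 2 hQ0)
      rw [hB] at hAB; linear_combination hAB
    have hX' : X = 2 * x * Q := by
      rw [hY, hp, hA] at hX; rw [hQx] at hX ⊢; linear_combination hX
    have e1 := h.e1
    rw [hg, hY, hp, hX'] at e1
    push_cast at e1
    have hA0 : (A : ℚ) ≠ 0 := by exact_mod_cast (show A ≠ 0 from hd.A_pos.ne')
    have hxq : (x : ℚ) ≠ 0 := by exact_mod_cast hx0
    have hx1q : (x : ℚ) - 1 ≠ 0 := sub_ne_zero.mpr (by exact_mod_cast hx1)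
    have hQq : (Q : ℚ) ≠ 0 := by exact_mod_cast hQ0
    have hQxq : (Q : ℚ) = 2 * x - 1 := by exact_mod_cast hQx
    have hAq : (A : ℚ) = (Q : ℚ) ^ 2 + Q + 1 := by rw [hA]; push_cast; ring
    have hk : (2 * x : ℚ) * ((Q - 1) ^ 2 * (Q + 1)) =
        -2 * Q * -(x * A) * (1 + (x - 1) ^ 2 / ((x - 1) * A) + (2 * x) ^ 2 / (2 * x * Q) +
          x ^ 2 / -(x * A)) - 8 * x ^ 2 * Q * (x + 1) := by
      field_simp; rw [hAq, hQxq]; ring
    rw [e1, sub_self] at hk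
    have : (2 * x : ℤ) * ((Q - 1) ^ 2 * (Q + 1)) = 0 := by exact_mod_cast hk
    have hne : (2 * x : ℤ) * ((Q - 1) ^ 2 * (Q + 1)) ≠ 0 :=
      mul_ne_zero (by omega) (mul_ne_zero (pow_ne_zero 2 (by omega)) (by omega))
    exact hne this

end Cfsg.Agent.JT.Arith
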