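import Mathlib

/-!
The quadratic forms left by shape B, `d ∈ {-1, 1, 3, 5}`: no zero `(j + 1, j - 1)` with `|j| ≥ 2`.
-/

set_option autoImplicit false

namespace Cfsg.Agent.JT.Arith

/-- Leading coefficient. -/
def qTwo (d x : ℤ) : ℤ :=
  2 * d * x * (((2 * x - 1) ^ 2 + (2 * x - 1) + d) * ((2 * x - 1) ^ 2 + d - 1)) *
    ((6 - d) * (2 * x - 1) ^ 2 - (d - 1) * (2 * (2 * x - 1) + d))

/-- Middle coefficient. -/
def qOne (d x : ℤ) : ℤ :=
  (2 * x - 1) ^ 2 * ((d + (x - 1) * ((2 * x - 1) ^ 2 + (2 * x - 1) + d)) *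
    ((6 - d) * (2 * x - 1) ^ 2 - (d - 1) * (2 * (2 * x - 1) + d)) -
      3 * d * x * (((2 * x - 1) ^ 2 + (2 * x - 1) + d) * ((2 * x - 1) ^ 2 + d - 1)))

/-- Constant coefficient. -/
def qZero (d x : ℤ) : ℤ :=
  -2 * (2 * x - 1) ^ 4 * (d + (x - 1) * ((2 * x - 1) ^ 2 + (2 * x - 1) + d))

/-- The form. -/
def qForm (d x n m : ℤ) : ℤ := qTwo d x * n ^ 2 + qOne d x * (n * m) + qZero d x * m ^ 2

/-- A positive zero of a form with positive and negative ends lies to the right of a negative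
value. -/
theorem lt_of_form_neg {a b c n m p q : ℤ} (ha : 0 < a) (hc : c < 0) (hn : 0 < n) (hm : 0 < m)
    (hp : 0 < p) (hq : 0 < q) (h0 : a * n ^ 2 + b * (n * m) + c * m ^ 2 = 0)
    (hv : a * p ^ 2 + b * (p * q) + c * q ^ 2 < 0) : p * m < n * q := by
  have hK : 0 < a * n * p - c * m * q := by
    have := mul_pos (mul_pos ha hn) hp
    have := mul_neg_of_neg_of_pos (mul_neg_of_neg_of_pos hc hm) hq
    linarith
  have hid : (n * q - p * m) * (a * n * p - c * m * q) =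
      -(a * p ^ 2 + b * (p * q) + c * q ^ 2) * (n * m) := by
    linear_combination (p * q) * h0
  by_contra h
  have h1 := mul_nonpos_of_nonpos_of_nonneg (show n * q - p * m ≤ 0 by linarith) hK.le
  have h2 := mul_pos (show 0 < -(a * p ^ 2 + b * (p * q) + c * q ^ 2) by linarith) (mul_pos hn hm)
  linarith

/-- A positive zero of such a form lies to the left of a positive value. -/
theorem lt_of_form_pos {a b c n m p q : ℤ} (ha : 0 < a) (hc : c < 0) (hn : 0 < n) (hm : 0 < m)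
    (hp : 0 < p) (hq : 0 < q) (h0 : a * n ^ 2 + b * (n * m) + c * m ^ 2 = 0)
    (hv : 0 < a * p ^ 2 + b * (p * q) + c * q ^ 2) : n * q < p * m := by
  have hK : 0 < a * n * p - c * m * q := by
    have := mul_pos (mul_pos ha hn) hp
    have := mul_neg_of_neg_of_pos (mul_neg_of_neg_of_pos hc hm) hq
    linarith
  have hid : (n * q - p * m) * (a * n * p - c * m * q) =
      -(a * p ^ 2 + b * (p * q) + c * q ^ 2) * (n * m) := by
    linear_combination (p * q) * h0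
  by_contra h
  have h1 := mul_nonneg (show 0 ≤ n * q - p * m by linarith) hK.le
  have h2 := mul_pos hv (mul_pos hn hm)
  linarith

/-- No `j` with `2 ≤ |j|` in the range forced by the coefficients. -/
def noRoot (d x : ℤ) : Bool :=
  let a := qTwo d x
  let b := qOne d x
  let c := qZero d x
  let l := (a + b + c).natAbs
  let M := ((2 * (a - c)).natAbs + (a - b + c).natAbs) / l
  l != 0 && (List.range (2 * M + 1)).all fun i =>
    let j : ℤ := (i : ℤ) - M
    j.natAbs < 2 || qForm d x (j + 1) (j - 1) != 0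

theorem noRoot_three : ([-5, 7] : List ℤ).all (noRoot 3) = true := by decide +kernel

theorem noRoot_five : ((List.range 60).map fun k : ℕ => 4 * (k : ℤ) - 189).all (noRoot 5) = true := by
  decide +kernel

theorem noRoot_spec {d x j : ℤ} (h : noRoot d x = true) (hj : 2 ≤ j.natAbs) :
    qForm d x (j + 1) (j - 1) ≠ 0 := by
  simp only [noRoot, Bool.and_eq_true, bne_iff_ne, ne_eq, List.all_eq_true, List.mem_range,
    Bool.or_eq_true, decide_eq_true_eq] at h
  obtain ⟨hl, hall⟩ := h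
  set a := qTwo d x
  set b := qOne d x
  set c := qZero d x
  set M := ((2 * (a - c)).natAbs + (a - b + c).natAbs) / (a + b + c).natAbs with hM
  intro h0
  have hjM : j.natAbs ≤ M := by
    rw [hM, Nat.le_div_iff_mul_le (Nat.pos_of_ne_zero hl)]
    have h1 : (a + b + c) * (j * j) = -(2 * (a - c) * j + (a - b + c)) := by
      rw [qForm] at h0; linear_combination h0
    have h2 := congrArg Int.natAbs h1
    simp only [Int.natAbs_neg, Int.natAbs_mul] at h2
    have h3 := Int.natAbs_add_le (2 * (a - c) * j) (a - b + c)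
    rw [← h2, Int.natAbs_mul] at h3
    rw [mul_comm]
    refine Nat.le_of_mul_le_mul_right (c := j.natAbs) ?_ (by omega)
    calc (a + b + c).natAbs * j.natAbs * j.natAbs
        = (a + b + c).natAbs * (j.natAbs * j.natAbs) := by ring
      _ ≤ (2 * (a - c)).natAbs * j.natAbs + (a - b + c).natAbs * j.natAbs :=
          h3.trans (Nat.add_le_add_left (Nat.le_mul_of_pos_right _ (by omega)) _)
      _ = _ := by ring
  obtain ⟨i, hi⟩ : ∃ i : ℕ, (i : ℤ) = j + M :=
    ⟨(j + M).toNat, Int.toNat_of_nonneg (by omega)⟩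
  rcases hall i (by omega) with h' | h'
  · omega
  · exact h' (by rw [show (i : ℤ) - M = j by omega]; exact h0)

/-- The signs of `x f` at an end of an interval, `x ≥ x₀` or `x ≤ x₁`. -/
theorem signs_one {x : ℤ} (hx : x ≤ -5 ∨ 7 ≤ x) :
    0 < x * qTwo 1 x ∧ x * qZero 1 x < 0 ∧
      x * qTwo 1 x * 1 ^ 2 + x * qOne 1 x * (1 * 3) + x * qZero 1 x * 3 ^ 2 < 0 ∧
      0 < x * qTwo 1 x * 1 ^ 2 + x * qOne 1 x * (1 * 2) + x * qZero 1 x * 2 ^ 2 := by
  rcases hx with h | h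
  · obtain ⟨y, hy, rfl⟩ : ∃ y, 0 ≤ y ∧ x = -5 - y := ⟨-5 - x, by omega, by ring⟩
    refine ⟨?_, ?_, ?_, ?_⟩ <;> simp only [qTwo, qOne, qZero] <;>
      first
      | (ring_nf; positivity)
      | (rw [← neg_pos]; ring_nf; positivity)
  · obtain ⟨y, hy, rfl⟩ : ∃ y, 0 ≤ y ∧ x = 7 + y := ⟨x - 7, by omega, by ring⟩
    refine ⟨?_, ?_, ?_, ?_⟩ <;> simp only [qTwo, qOne, qZero] <;>
      first
      | (ring_nf; positivity)
      | (rw [← neg_pos]; ring_nf; positivity)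

theorem signs_three {x : ℤ} (hx : x ≤ -9 ∨ 11 ≤ x) :
    0 < x * qTwo 3 x ∧ x * qZero 3 x < 0 ∧
      x * qTwo 3 x * 1 ^ 2 + x * qOne 3 x * (1 * 2) + x * qZero 3 x * 2 ^ 2 < 0 ∧
      0 < x * qTwo 3 x * 3 ^ 2 + x * qOne 3 x * (3 * 5) + x * qZero 3 x * 5 ^ 2 := by
  rcases hx with h | h
  · obtain ⟨y, hy, rfl⟩ : ∃ y, 0 ≤ y ∧ x = -9 - y := ⟨-9 - x, by omega, by ring⟩
    refine ⟨?_, ?_, ?_, ?_⟩ <;> simp only [qTwo, qOne, qZero] <;>
      first
      | (ring_nf; positivity)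
      | (rw [← neg_pos]; ring_nf; positivity)
  · obtain ⟨y, hy, rfl⟩ : ∃ y, 0 ≤ y ∧ x = 11 + y := ⟨x - 11, by omega, by ring⟩
    refine ⟨?_, ?_, ?_, ?_⟩ <;> simp only [qTwo, qOne, qZero] <;>
      first
      | (ring_nf; positivity)
      | (rw [← neg_pos]; ring_nf; positivity)

theorem signs_five {x : ℤ} (hx : x ≤ -193 ∨ 51 ≤ x) :
    0 < x * qTwo 5 x ∧ x * qZero 5 x < 0 ∧
      x * qTwo 5 x * 3 ^ 2 + x * qOne 5 x * (3 * 2) + x * qZero 5 x * 2 ^ 2 < 0 ∧
      0 < x * qTwo 5 x * 5 ^ 2 + x * qOne 5 x * (5 * 3) + x * qZero 5 x * 3 ^ 2 := by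
  rcases hx with h | h
  · obtain ⟨y, hy, rfl⟩ : ∃ y, 0 ≤ y ∧ x = -193 - y := ⟨-193 - x, by omega, by ring⟩
    refine ⟨?_, ?_, ?_, ?_⟩ <;> simp only [qTwo, qOne, qZero] <;>
      first
      | (ring_nf; positivity)
      | (rw [← neg_pos]; ring_nf; positivity)
  · obtain ⟨y, hy, rfl⟩ : ∃ y, 0 ≤ y ∧ x = 51 + y := ⟨x - 51, by omega, by ring⟩
    refine ⟨?_, ?_, ?_, ?_⟩ <;> simp only [qTwo, qOne, qZero] <;>
      first
      | (ring_nf; positivity)
      | (rw [← neg_pos]; ring_nf; positivity)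

/-- For `d = -1` the form is definite. -/
theorem form_negOne {x : ℤ} (hx : x ≤ -5 ∨ 7 ≤ x) :
    qTwo (-1) x ≠ 0 ∧ qOne (-1) x ^ 2 < 4 * qTwo (-1) x * qZero (-1) x := by
  rcases hx with h | h
  · obtain ⟨y, hy, rfl⟩ : ∃ y, 0 ≤ y ∧ x = -5 - y := ⟨-5 - x, by omega, by ring⟩
    have h2 : qOne (-1) (-5 - y) ^ 2 < 4 * qTwo (-1) (-5 - y) * qZero (-1) (-5 - y) := by
      simp only [qTwo, qOne, qZero]; rw [← sub_pos]; ring_nf; positivity
    exact ⟨fun h0 => by rw [h0] at h2; nlinarith [sq_nonneg (qOne (-1) (-5 - y))], h2⟩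
  · obtain ⟨y, hy, rfl⟩ : ∃ y, 0 ≤ y ∧ x = 7 + y := ⟨x - 7, by omega, by ring⟩
    have h2 : qOne (-1) (7 + y) ^ 2 < 4 * qTwo (-1) (7 + y) * qZero (-1) (7 + y) := by
      simp only [qTwo, qOne, qZero]; rw [← sub_pos]; ring_nf; positivity
    exact ⟨fun h0 => by rw [h0] at h2; nlinarith [sq_nonneg (qOne (-1) (7 + y))], h2⟩

/-- The four forms have no zero at `(j + 1, j - 1)`. -/
theorem qForm_ne_zero {d x j : ℤ} (hd : d = -1 ∨ d = 1 ∨ d = 3 ∨ d = 5) (hx4 : x % 4 = 3)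
    (hx : x ≤ -5 ∨ 7 ≤ x) (hj : 2 ≤ j.natAbs) : qForm d x (j + 1) (j - 1) ≠ 0 := by
  intro h0
  obtain ⟨n, m, hn, hm, h0', hnm⟩ : ∃ n m : ℤ, 0 < n ∧ 0 < m ∧
      x * qTwo d x * n ^ 2 + x * qOne d x * (n * m) + x * qZero d x * m ^ 2 = 0 ∧
      (n = j + 1 ∧ m = j - 1 ∨ n = -(j + 1) ∧ m = -(j - 1)) := by
    rw [qForm] at h0
    rcases le_or_gt 2 j with h | h
    · exact ⟨j + 1, j - 1, by omega, by omega, by linear_combination x * h0, .inl ⟨rfl, rfl⟩⟩
    · exact ⟨-(j + 1), -(j - 1), by omega, by omega, by linear_combination x * h0, .inr ⟨rfl, rfl⟩⟩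
  rcases hd with rfl | rfl | rfl | rfl
  · obtain ⟨h1, h2⟩ := form_negOne hx
    rw [qForm] at h0
    have hid : (2 * qTwo (-1) x * (j + 1) + qOne (-1) x * (j - 1)) ^ 2 +
        (4 * qTwo (-1) x * qZero (-1) x - qOne (-1) x ^ 2) * (j - 1) ^ 2 = 0 := by
      linear_combination (4 * qTwo (-1) x) * h0
    have h3 : 0 < (j - 1) ^ 2 := pow_two_pos_of_ne_zero (by omega)
    nlinarith [mul_pos (show 0 < 4 * qTwo (-1) x * qZero (-1) x - qOne (-1) x ^ 2 by linarith) h3]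
  · obtain ⟨h1, h2, h3, h4⟩ := signs_one hx
    have := lt_of_form_neg h1 h2 hn hm one_pos three_pos h0' h3
    have := lt_of_form_pos h1 h2 hn hm one_pos two_pos h0' h4
    omega
  · by_cases hbig : x ≤ -9 ∨ 11 ≤ x
    · obtain ⟨h1, h2, h3, h4⟩ := signs_three hbig
      have := lt_of_form_neg h1 h2 hn hm one_pos two_pos h0' h3
      have := lt_of_form_pos h1 h2 hn hm three_pos (by norm_num : (0 : ℤ) < 5) h0' h4
      omega
    · refine noRoot_spec (List.all_eq_true.mp noRoot_three x ?_) hj h0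
      simp only [List.mem_cons, List.not_mem_nil, or_false]
      omega
  · by_cases hbig : x ≤ -193 ∨ 51 ≤ x
    · obtain ⟨h1, h2, h3, h4⟩ := signs_five hbig
      have := lt_of_form_neg h1 h2 hn hm three_pos two_pos h0' h3
      have := lt_of_form_pos h1 h2 hn hm (by norm_num : (0 : ℤ) < 5) three_pos h0' h4
      omega
    · refine noRoot_spec (List.all_eq_true.mp noRoot_five x ?_) hj h0
      simp only [List.mem_map, List.mem_range]
      exact ⟨((x + 189) / 4).toNat, by omega, by omega⟩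

end Cfsg.Agent.JT.Arith
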