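import Mathlib
import Cfsg.Agent.Lib.JT.ArithShapeB
import Cfsg.Agent.Lib.JT.ArithShapeBOneAux

/-!
Shape B with `g (1 + j) = -Q X (1 - j)`: impossible.
-/

set_option autoImplicit false

namespace Cfsg.Agent.JT.Arith

/-- The equations of the case, with `n / m = (j + 1) / (j - 1) > 0`. -/
theorem ShapeB.one_eqs {Q x : ℤ} {g : ℚ} {Y X p d n m : ℤ} (h : ShapeB Q x g Y X p)
    (hd : BData Q x Y g d) (hn : 0 < n) (hm : 0 < m) (hg : g * n = Q * X * m) :
    Q ^ 2 * m * X = 2 * x * ((Q ^ 2 + Q + d) * (Q ^ 2 + d - 1)) * n ∧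
      (Q ^ 2 + Q + d) * (Q ^ 2 + d - 1) * x * n =
        p * (((6 - d) * Q ^ 2 - (d - 1) * (2 * Q + d)) * n - 2 * Q ^ 2 * m) := by
  obtain ⟨hx0, hx1, -, hQ0, -, -, -⟩ := h.par.facts
  have hQx : (Q : ℚ) = 2 * x - 1 := by exact_mod_cast h.par.Q_eq
  set A := Q ^ 2 + Q + d with hA
  set B := Q ^ 2 + d - 1 with hB
  have hQ : (Q : ℚ) ≠ 0 := by exact_mod_cast hQ0
  have hxq : (x : ℚ) ≠ 0 := by exact_mod_cast hx0
  have hx1q : (x : ℚ) - 1 ≠ 0 := sub_ne_zero.mpr (by exact_mod_cast hx1)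
  have hAq : (A : ℚ) ≠ 0 := by exact_mod_cast hd.A_pos.ne'
  have hBq : (B : ℚ) ≠ 0 := by
    have : 0 < B := (abs_nonneg d).trans_lt hd.B_gt
    exact_mod_cast this.ne'
  have hdq : (d : ℚ) ≠ 0 := by
    have := hd.d_odd
    exact_mod_cast (show d ≠ 0 by omega)
  have hnq : (n : ℚ) ≠ 0 := by exact_mod_cast hn.ne'
  have hmq : (m : ℚ) ≠ 0 := by exact_mod_cast hm.ne'
  have hpq : (p : ℚ) ≠ 0 := by exact_mod_cast h.p_ne
  have hgAB : g = 2 * x * (A * B : ℚ) / Q := by
    rw [eq_div_iff hQ, hd.g_eq, Int.cast_mul]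
  have hXq : (X : ℚ) = 2 * x * (A * B : ℚ) * n / (Q ^ 2 * m) := by
    rw [eq_div_iff (by positivity)]
    rw [hgAB] at hg; field_simp at hg
    linear_combination -hg
  have hX : Q ^ 2 * m * X = 2 * x * (A * B) * n := by
    have : (Q : ℚ) ^ 2 * m * X = 2 * x * (A * B) * n := by rw [hXq]; field_simp
    exact_mod_cast this
  have hYq : (Y : ℚ) = (x - 1) * A / d := by
    rw [eq_div_iff hdq]; rw [mul_comm]; exact_mod_cast hd.Y_eq
  have e1 := h.e1
  rw [hgAB, hYq, hXq] at e1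
  have hAe : (A : ℚ) = (Q : ℚ) ^ 2 + Q + d := by rw [hA]; push_cast; ring
  have hBe : (B : ℚ) = (Q : ℚ) ^ 2 + d - 1 := by rw [hB]; push_cast; ring
  have hk : (A : ℚ) * B * x * n -
      p * (((6 - d) * (Q : ℚ) ^ 2 - (d - 1) * (2 * Q + d)) * n - 2 * (Q : ℚ) ^ 2 * m) =
      (p * n * Q / (2 * x ^ 2)) * (2 * x * (A * B : ℚ) / Q *
        (1 + (x - 1 : ℚ) ^ 2 / ((x - 1) * A / d) + (2 * x : ℚ) ^ 2 /
          (2 * x * (A * B : ℚ) * n / (Q ^ 2 * m)) + (x : ℚ) ^ 2 / p) -
        8 * x ^ 2 * Q * (x + 1)) := by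
    field_simp; rw [hAe, hBe, hQx]; ring
  rw [e1, sub_self, mul_zero, sub_eq_zero] at hk
  exact ⟨hX, by exact_mod_cast hk⟩

set_option maxHeartbeats 1000000 in
/-- Shape B with `g (1 + j) = -Q X (1 - j)` is impossible. -/
theorem shapeB1 {Q x : ℤ} {g : ℚ} {Y X p j : ℤ} (h : ShapeB Q x g Y X p)
    (hj0 : j ≠ 0) (hj1 : j ≠ 1) (hg : g * (1 + j) = -Q * X * (1 - j)) : False := by
  obtain ⟨hx0, hx1, hxm1, hQ0, -, -, hxs⟩ := h.par.facts
  have hQx := h.par.Q_eq
  have hjm : j ≠ -1 := by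
    rintro rfl
    have h1 : ((Q * X : ℤ) : ℚ) = 0 := by push_cast at hg ⊢; linarith
    exact mul_ne_zero hQ0 h.X_ne (by exact_mod_cast h1)
  have hj2 : 2 ≤ j.natAbs := by omega
  obtain ⟨d, hd⟩ := h.bdata
  obtain ⟨n, m, hn, hm, hgnm, hnm, h3⟩ : ∃ n m : ℤ, 0 < n ∧ 0 < m ∧ g * n = Q * X * m ∧
      (n = j + 1 ∧ m = j - 1 ∨ n = -(j + 1) ∧ m = -(j - 1)) ∧ m ≤ 3 * n := by
    rcases le_or_gt 2 j with h' | h'
    · exact ⟨j + 1, j - 1, by omega, by omega, by push_cast; linear_combination hg,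
        .inl ⟨rfl, rfl⟩, by omega⟩
    · exact ⟨-(j + 1), -(j - 1), by omega, by omega, by push_cast; linear_combination -hg,
        .inr ⟨rfl, rfl⟩, by omega⟩
  obtain ⟨hX, hE⟩ := h.one_eqs hd hn hm hgnm
  have hYd := hd.Y_eq
  have hdodd := hd.d_odd
  have hA := hd.A_pos
  have hBd := hd.B_gt
  have hsum := h.sum
  set A := Q ^ 2 + Q + d with hAdef
  set B := Q ^ 2 + d - 1 with hBdef
  set L := (6 - d) * Q ^ 2 - (d - 1) * (2 * Q + d) with hL
  have hB : 0 < B := (abs_nonneg d).trans_lt hBd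
  have hQ2 : 81 ≤ Q ^ 2 := by
    rw [hQx]; rcases hxs with h' | h' <;> nlinarith
  have hx2 : 0 < x ^ 2 := pow_two_pos_of_ne_zero hx0
  have hABn : 0 < A * B * x ^ 2 * n := by positivity
  have hE2 : A * B * x ^ 2 * n = (x * p) * (L * n - 2 * Q ^ 2 * m) := by
    linear_combination x * hE
  have hxX : Q ^ 2 * m * (x * X) = 2 * x ^ 2 * (A * B) * n := by linear_combination x * hX
  have hxu : 0 < x * (x - 1) := by
    rcases hxs with h' | h'
    · exact mul_pos_of_neg_of_neg (by omega) (by omega)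
    · exact mul_pos (by omega) (by omega)
  rcases lt_or_ge d 7 with hd7 | hd7
  swap
  · -- `d ≥ 7`
    have hLneg : L < 0 := by
      have h1 : 0 ≤ ((d - 6) * Q + (d - 1)) ^ 2 := sq_nonneg _
      have h2 : 0 < (d - 1) * (d * (d - 6) - (d - 1)) := by
        refine mul_pos (by omega) ?_
        nlinarith
      have h4 : (d - 6) * L < 0 := by rw [hL]; nlinarith
      by_contra h5
      nlinarith [mul_nonneg (show 0 ≤ d - 6 by omega) (not_lt.mp h5)]
    have hxY : 0 < x * Y := by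
      have : d * (x * Y) = (x * (x - 1)) * A := by linear_combination x * hYd
      have := mul_pos hxu hA
      by_contra h5
      nlinarith [mul_nonpos_of_nonneg_of_nonpos (show 0 ≤ d by omega) (not_lt.mp h5)]
    have hY1 : 0 < x * (1 + Y) := by
      rcases hxs with h' | h'
      · refine mul_pos_of_neg_of_neg (by omega) ?_
        have := h.Y_gt
        have : Y < 0 := by
          by_contra h5
          nlinarith [mul_nonpos_of_nonpos_of_nonneg (show x ≤ 0 by omega) (not_lt.mp h5)]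
        cases abs_cases Y <;> cases abs_cases (x - 1) <;> omega
      · refine mul_pos (by omega) ?_
        by_contra h5
        nlinarith [mul_nonpos_of_nonneg_of_nonpos (show 0 ≤ x by omega) (show Y ≤ 0 by omega)]
    have hxp : x * p = -(x * (1 + Y)) - x * X := by linear_combination x * hsum
    have hxX0 : 0 < x * X := by
      have h1 : 0 < 2 * x ^ 2 * (A * B) * n := by positivity
      rw [← hxX] at h1
      exact pos_of_mul_pos_right h1 (by positivity)
    have hW : 2 * Q ^ 2 * m ≤ -(L * n - 2 * Q ^ 2 * m) := by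
      have := mul_neg_of_neg_of_pos hLneg hn
      linarith
    have h1 := mul_le_mul (show x * X ≤ -(x * p) by linarith) hW (by positivity) (by linarith)
    nlinarith
  by_cases hdn : d ≤ -3
  · -- `d ≤ -3`
    obtain ⟨e, rfl⟩ : ∃ e, d = -e := ⟨-d, by ring⟩
    have he : 2 * e < Q ^ 2 - 1 := by
      rw [hBdef, abs_neg, abs_of_pos (show 0 < e by omega)] at hBd; omega
    have he3 : 3 ≤ e := by omega
    have heB : 3 * (Q ^ 2 - 4) ≤ e * B := by
      have : e * B - 3 * (Q ^ 2 - 4) = (e - 3) * (Q ^ 2 - e - 4) := by rw [hBdef]; ring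
      nlinarith [mul_nonneg (show 0 ≤ e - 3 by omega) (show 0 ≤ Q ^ 2 - e - 4 by omega)]
    set a := |Q| with ha
    have ha2 : a ^ 2 = Q ^ 2 := sq_abs Q
    have ha9 : 9 ≤ a := by
      rw [ha, hQx]; rcases hxs with h' | h' <;> cases abs_cases (2 * x - 1) <;> omega
    have hQa : -a ≤ Q := neg_abs_le Q
    have hQa' : Q ≤ a := le_abs_self Q
    have hL6 : 6 * Q ^ 2 ≤ L := by
      have h1 : (e + 1) * (e - 2 * Q) ≤ (e + 1) * (e + 2 * a) :=
        mul_le_mul_of_nonneg_left (by linarith) (by omega)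
      have h2 : (e + 1) * (e + 2 * a) ≤ e * Q ^ 2 := by
        have k1 := mul_nonneg (show 0 ≤ e by omega) (show 0 ≤ Q ^ 2 - 1 - 2 * e by omega)
        have k2 := mul_nonneg (show 0 ≤ e - 2 by omega) (show 0 ≤ a by omega)
        have k4 := mul_nonneg (show 0 ≤ a by omega) (show 0 ≤ a - 9 by omega)
        have k3 : 0 ≤ e * (a ^ 2 - 6 * a - 1) := mul_nonneg (by omega) (by linarith)
        rw [← ha2] at k1 ⊢
        linarith
      rw [hL]; linarith
    have hW : 0 ≤ L * n - 2 * Q ^ 2 * m := by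
      have h1 := mul_le_mul_of_nonneg_right hL6 hn.le
      have h2 := mul_le_mul_of_nonneg_left h3 (show 0 ≤ 2 * Q ^ 2 by positivity)
      linarith
    set a' := |x| with ha'
    have ha5 : 5 ≤ a' := by
      rw [ha']; rcases hxs with h' | h' <;> cases abs_cases x <;> omega
    have hax : -a' ≤ x := neg_abs_le x
    have hx2a : x ^ 2 = a' ^ 2 := (sq_abs x).symm
    have hK : 3 * a' * Q ^ 2 ≤ Q ^ 2 * (x ^ 2 + x) - 8 * x ^ 2 := by
      have h1 : Q ^ 2 * (a' ^ 2 - a') ≤ Q ^ 2 * (x ^ 2 + x) :=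
        mul_le_mul_of_nonneg_left (by linarith) (sq_nonneg Q)
      have h2 := mul_le_mul_of_nonneg_right hQ2
        (show 0 ≤ a' * (a' - 4) from mul_nonneg (by omega) (by omega))
      have h3 : 0 ≤ a' * (73 * a' - 324) := mul_nonneg (by omega) (by omega)
      rw [hx2a] at h1 ⊢
      linarith
    have hxp : 0 < -(x * p) := by
      have hid : 3 * (e * Q ^ 2 * m * -(x * p)) =
          3 * e * Q ^ 2 * m * x + 6 * x ^ 2 * A * (e * B) * n - 3 * Q ^ 2 * m * (x * (x - 1)) * A := by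
        linear_combination (-(3 * e * Q ^ 2 * m * x)) * hsum + (3 * e) * hxX -
          (3 * Q ^ 2 * m * x) * hYd
      have h4 : 6 * x ^ 2 * A * (3 * (Q ^ 2 - 4)) * m ≤ 3 * (6 * x ^ 2 * A * (e * B) * n) := by
        have := mul_le_mul_of_nonneg_left (mul_le_mul heB h3 hm.le (by positivity))
          (show 0 ≤ 6 * x ^ 2 * A by positivity)
        linarith
      have h5 := mul_le_mul_of_nonneg_left hK (show 0 ≤ 9 * m * A by positivity)
      have h6 : e < 3 * A := by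
        rw [hAdef]
        nlinarith [mul_nonneg (show 0 ≤ a by omega) (show 0 ≤ a - 9 by omega)]
      have h7 := mul_lt_mul_of_pos_right h6 (show 0 < 9 * Q ^ 2 * m * a' by positivity)
      have h8 := mul_le_mul_of_nonneg_left hax (show 0 ≤ 9 * e * Q ^ 2 * m by positivity)
      have h9 : 0 < 9 * (e * Q ^ 2 * m) * -(x * p) := by linarith
      exact pos_of_mul_pos_right h9 (by positivity)
    linarith [mul_nonneg hxp.le hW]
  -- `d ∈ {-1, 1, 3, 5}`
  have hd4 : d = -1 ∨ d = 1 ∨ d = 3 ∨ d = 5 := by omega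
  have hF : qForm d x n m = 0 := by
    have hdp : d * (Q ^ 2 * m) * p = -(Q ^ 2 * (d + (x - 1) * A) * m) - 2 * d * x * (A * B) * n := by
      linear_combination (d * Q ^ 2 * m) * hsum - (Q ^ 2 * m) * hYd - d * hX
    have h1 : d * (Q ^ 2 * m) * (A * B * x * n) +
        (Q ^ 2 * (d + (x - 1) * A) * m + 2 * d * x * (A * B) * n) *
          (L * n - 2 * Q ^ 2 * m) = 0 := by
      linear_combination (d * (Q ^ 2 * m)) * hE + (L * n - 2 * Q ^ 2 * m) * hdp
    rw [hAdef, hBdef, hL, hQx] at h1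
    simp only [qForm, qTwo, qOne, qZero]
    linear_combination h1
  refine qForm_ne_zero hd4 h.par.x_mod hxs hj2 ?_
  rcases hnm with ⟨rfl, rfl⟩ | ⟨rfl, rfl⟩
  · exact hF
  · simp only [qForm] at hF ⊢; linear_combination hF

end Cfsg.Agent.JT.Arith
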