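import Mathlib
import Cfsg.Agent.Lib.JT.FinalA
import Cfsg.Agent.Lib.JT.ArithShapeB
import Cfsg.Agent.Lib.JT.ArithShapeBOne

/-!
Shape B is impossible.
-/

set_option autoImplicit false
set_option linter.unusedSectionVars false
set_option linter.style.haveILetI false

namespace Cfsg.Agent.JT.Setup

open Cfsg.Agent.Characters
open Cfsg.Agent.JT.Lattice
open scoped ComplexConjugate

universe u v

theorem alg_B_two {Q x Y X p d5 zd : ℤ} {g : ℚ} (hQ : Q = 2 * x - 1) (hx0 : x ≠ 0) (hp : p ≠ 0)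
    (hz : zd = 2 * p)
    (e1 : g * (1 + (x - 1 : ℚ) ^ 2 / Y + (2 * x : ℚ) ^ 2 / X + (x : ℚ) ^ 2 / p) =
      8 * (x : ℚ) ^ 2 * Q * ((x : ℚ) + 1))
    (e3 : g * (1 + 2 * (x - 1 : ℚ) ^ 2 / Y + (Q : ℚ) ^ 2 / d5) = 16 * (x : ℚ) ^ 3 * ((x : ℚ) - 1))
    (f1 : g * (1 + 2 * ((2 * x : ℚ) ^ 2 / X) - (Q : ℚ) ^ 2 / d5 + (-6 * x : ℚ) ^ 2 / zd) =
      4 * ((x : ℚ) * ((x : ℚ) - 1)) ^ 2 * 4) :
    g = -2 * Q * p := by
  have hx' : (x : ℚ) ≠ 0 := Int.cast_ne_zero.2 hx0
  have hp' : (p : ℚ) ≠ 0 := Int.cast_ne_zero.2 hp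
  have hQq : (Q : ℚ) = 2 * x - 1 := by rw [hQ]; push_cast; ring
  have h1 : (-6 * x : ℚ) ^ 2 / zd = 18 * ((x : ℚ) ^ 2 / p) := by rw [hz]; push_cast; field_simp; ring
  rw [h1] at f1
  have h : g * (16 * ((x : ℚ) ^ 2 / p)) = -32 * (x : ℚ) ^ 2 * Q := by
    rw [hQq] at e1 e3 f1 ⊢
    linear_combination f1 - 2 * e1 + e3
  field_simp at h
  refine mul_left_cancel₀ (by norm_num : (16 : ℚ) ≠ 0) ?_
  linear_combination h

theorem alg_B_one {Q x Y X p d5 j zdz zdw : ℤ} {g : ℚ} (hQ : Q = 2 * x - 1) (hx0 : x ≠ 0)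
    (hX : X ≠ 0) (hj0 : j ≠ 0) (hj : j ≠ 1) (hz : zdz = j * X) (hw : zdw = (1 - j) * X)
    (e1 : g * (1 + (x - 1 : ℚ) ^ 2 / Y + (2 * x : ℚ) ^ 2 / X + (x : ℚ) ^ 2 / p) =
      8 * (x : ℚ) ^ 2 * Q * ((x : ℚ) + 1))
    (e3 : g * (1 + 2 * (x - 1 : ℚ) ^ 2 / Y + (Q : ℚ) ^ 2 / d5) = 16 * (x : ℚ) ^ 3 * ((x : ℚ) - 1))
    (f1 : g * (1 + (2 * x : ℚ) ^ 2 / X + 2 * ((x : ℚ) ^ 2 / p) - (Q : ℚ) ^ 2 / d5 +
      (2 * x * j : ℚ) ^ 2 / zdz + (-2 * x * (3 + j) : ℚ) ^ 2 / zdw) =
      4 * ((x : ℚ) * ((x : ℚ) - 1)) ^ 2 * 4) :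
    g * (1 + j) = -Q * X * (1 - j) := by
  have hx' : (x : ℚ) ≠ 0 := Int.cast_ne_zero.2 hx0
  have hX' : (X : ℚ) ≠ 0 := Int.cast_ne_zero.2 hX
  have hj0' : (j : ℚ) ≠ 0 := Int.cast_ne_zero.2 hj0
  have hj' : (1 : ℚ) - j ≠ 0 := sub_ne_zero.2 (by exact_mod_cast hj.symm)
  have hQq : (Q : ℚ) = 2 * x - 1 := by rw [hQ]; push_cast; ring
  have h1 : (2 * x * j : ℚ) ^ 2 / zdz = 4 * (x : ℚ) ^ 2 * j / X := by
    rw [hz]; push_cast; field_simp; ring
  have h2 : (-2 * x * (3 + j) : ℚ) ^ 2 / zdw = 4 * (x : ℚ) ^ 2 * (3 + j) ^ 2 / ((1 - j) * X) := by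
    rw [hw]; push_cast; ring
  rw [h1, h2] at f1
  have h : g * (4 * (x : ℚ) ^ 2 * j / X + 4 * (x : ℚ) ^ 2 * (3 + j) ^ 2 / ((1 - j) * X) -
      (2 * x : ℚ) ^ 2 / X) = -32 * (x : ℚ) ^ 2 * Q := by
    rw [hQq] at e1 e3 f1 ⊢
    linear_combination f1 - 2 * e1 + e3
  field_simp at h
  refine mul_left_cancel₀ (mul_ne_zero (by norm_num : (32 : ℚ) ≠ 0) (pow_ne_zero 2 hx')) ?_
  linear_combination (x : ℚ) ^ 2 * h

variable {G : Type u} [Group G] [Fintype G] [Fintype (Cfsg.IrrCharacter G)]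
  [DecidableEq (Cfsg.IrrCharacter G)] {K : Type v} [Group K] [Fintype K] [DecidableEq K]
  {H : Setup G K} {D : KData K} (W : H.Torus D)
  {e : Cfsg.IrrCharacter G → ℤ}
variable (hL : H.Local) (hN : W.NoFive)
include hL hN

/-- Shape B is impossible. -/
theorem final_B [IsSimpleGroup G] {f : Fin 6 → Cfsg.IrrCharacter G} (S : H.Shp D tableB f e) :
    False := by
  obtain ⟨u0, u1, u2, u3, u4, u5⟩ := exact_B W hL hN S
  obtain ⟨a0, a4, -, -⟩ := H.alignB D hL S
  have d0 := H.dd_sum D hL S 0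
  have d2 := H.dd_sum D hL S 2
  have e1 := H.theta_recip D hL S 0
  have e3 := H.theta_recip D hL S 2
  simp [Fin.sum_univ_six, tableB, u0, u1, u2, u3, u4, u5, a0] at d0 d2 e1 e3
  have hd5 : H.dd f e 5 = -1 - 2 * H.dd f e 1 := by linarith
  have hd5q : (H.dd f e 5 : ℚ) = -1 - 2 * (H.dd f e 1 : ℚ) := by rw [hd5]; push_cast; ring
  have hY := H.dd_mod D S W hL 1
  have hX := H.dd_mod D S W hL 2
  have hp := H.dd_mod D S W hL 3
  rw [u1] at hY
  rw [u2] at hX
  rw [u3] at hp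
  have hlt := H.uu_lt D S 1
  rw [u1, ← abs_neg, neg_sub] at hlt
  have hlt5 := H.uu_lt D S 5
  rw [u5, abs_neg, hd5, ← abs_neg (-1 - 2 * _)] at hlt5
  have e1' : H.gq D * (1 + ((D.x : ℚ) - 1) ^ 2 / H.dd f e 1 + (2 * (D.x : ℚ)) ^ 2 / H.dd f e 2 +
      (D.x : ℚ) ^ 2 / H.dd f e 3) = 8 * (D.x : ℚ) ^ 2 * D.Q * ((D.x : ℚ) + 1) := by
    rw [← e1]; ring
  have e3' : H.gq D * (1 + 2 * ((D.x : ℚ) - 1) ^ 2 / H.dd f e 1 + (D.Q : ℚ) ^ 2 / H.dd f e 5) =
      16 * (D.x : ℚ) ^ 3 * ((D.x : ℚ) - 1) := by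
    rw [← e3]; ring
  have hB : Arith.ShapeB D.Q D.x (H.gq D) (H.dd f e 1) (H.dd f e 2) (H.dd f e 3) :=
    ⟨⟨D.Q_eq, D.x_mod, D.Q_pow, D.Q_gt⟩, H.ord D, H.dd_ne D S 1, H.dd_ne D S 2, H.dd_ne D S 3,
      by linarith, by omega, by omega, by omega, hlt,
      lt_of_lt_of_eq hlt5 (congrArg abs (by ring)), e1',
      by rw [← hd5q]; exact e3'⟩
  haveI : Nontrivial W.A := Finite.one_lt_card_iff_nontrivial.1 (by
    have := W.A_card; have := D.Q_gt; omega)
  obtain ⟨a₀, ha₀⟩ := exists_ne (1 : W.A)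
  obtain ⟨l, hl⟩ : ∃ l : W.A →* ℂˣ, l ≠ 1 := by
    obtain ⟨φ, hφ⟩ := BlocksChars.FrobNormalizer.exists_dual_ne_one W.A_comm ha₀
    exact ⟨φ, fun h => hφ (by rw [h]; rfl)⟩
  have hz : ∃ a, l (W.zA a) ≠ l a := by
    by_contra h
    push Not at h
    exact no_inv_B W hL hN S hl h
  have hpat := pat_B W hL hN S hl hz
  simp only [optBPat, List.mem_cons, List.not_mem_nil, or_false, patB, Prod.mk.injEq] at hpat
  obtain ⟨hgen, n1, nμ, nμ1, t1, tμ0, -, -⟩ := H.torus_vec D hL W hN hl hz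
  have cμ := coef_triv (hgen true) tμ0
  have c1 := coef_triv (hgen false) t1
  have eμ := H.vec_one D S (hgen true) (W.fn_one l true)
  have tμ := H.vec_t D S (hgen true) (W.fn_t l true)
  have ef := H.vec_one D S (hgen false) (W.fn_one l false)
  have tf := H.vec_t D S (hgen false) (W.fn_t l false)
  have rμ := H.vec_recip D S (hgen true) W (c := 0) (by
    rw [H.torus_recip D hL W hN hl true]; norm_num)
  have rf := H.vec_recip D S (hgen false) W (c := 4) (by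
    rw [H.torus_recip D hL W hN hl false]; norm_num)
  rw [mul_zero] at rμ
  have rμ' := (mul_eq_zero.1 rμ).resolve_left (H.gq_pos D).ne'
  have nnμ := H.vec_inner D S (hgen true) (hgen true) nμ
  have nn1 := H.vec_inner D S (hgen false) (hgen false) n1
  have hin := H.vec_inner D S (hgen true) (hgen false) nμ1
  rcases hpat with ⟨hA1, hA2⟩ | ⟨hA1, hA2⟩
  · have hμ : ∀ j, pp f e (W.fn l true) j = (![0, 0, -1, 0, 0, 0] : Fin 6 → ℤ) j :=
      congrFun (List.ofFn_inj.1 (hA1.trans (by decide)))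
    have hone : ∀ j, pp f e (W.fn l false) j = (![0, 0, 1, 1, 1, -1] : Fin 6 → ℤ) j :=
      congrFun (List.ofFn_inj.1 (hA2.trans (by decide)))
    simp [Fin.sum_univ_six, hμ, hone, cμ, c1, u2, u3, u4, u5, a4] at eμ tμ ef tf rμ' rf nnμ nn1 hin
    obtain ⟨z, hzs, w, hws, hzw, hzu, hwu, h0⟩ := rest_two (s := outside (trivIrr G) f)
      (c := coef (W.fn l true)) (by linarith)
    obtain ⟨z', hzs', w', hws', hzw', hzu', hwu', h0'⟩ := rest_two (s := outside (trivIrr G) f)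
      (c := coef (W.fn l false)) (by linarith)
    have hsum : coef (W.fn l true) z * coef (W.fn l false) z +
        coef (W.fn l true) w * coef (W.fn l false) w = 1 := by
      have h := rest_pair (M := ℤ) hzs hws hzw h0 (coef (W.fn l false))
      simp only [Int.cast_eq] at h
      linarith
    -- reduce to `z` common
    obtain ⟨z, w, hzs, hws, hzw, hzu, hwu, h0, hcz⟩ : ∃ z w, z ∈ outside (trivIrr G) f ∧
        w ∈ outside (trivIrr G) f ∧ z ≠ w ∧
        (coef (W.fn l true) z = 1 ∨ coef (W.fn l true) z = -1) ∧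
        (coef (W.fn l true) w = 1 ∨ coef (W.fn l true) w = -1) ∧
        (∀ x ∈ outside (trivIrr G) f, x ≠ z → x ≠ w → coef (W.fn l true) x = 0) ∧
        coef (W.fn l false) z = coef (W.fn l true) z := by
      have hb : ∀ x ∈ outside (trivIrr G) f, coef (W.fn l false) x = 0 ∨
          coef (W.fn l false) x = 1 ∨ coef (W.fn l false) x = -1 := by
        intro x hx
        by_cases h1 : x = z'
        · exact Or.inr (h1 ▸ hzu')
        · by_cases h2 : x = w'
          · exact Or.inr (h2 ▸ hwu')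
          · exact Or.inl (h0' x hx h1 h2)
      rcases hb z hzs with e | e | e <;> rcases hb w hws with e' | e' | e' <;>
        rcases hzu with k | k <;> rcases hwu with k' | k' <;> rw [e, e', k, k'] at hsum <;>
        first
          | omega
          | exact ⟨z, w, hzs, hws, hzw, by omega, by omega, h0, by omega⟩
          | exact ⟨w, z, hws, hzs, hzw.symm, by omega, by omega, fun x hx a b => h0 x hx b a, by omega⟩
    clear hsum
    obtain ⟨w₁, hws₁, hzw₁, hwu₁, h0₁⟩ : ∃ w₁ ∈ outside (trivIrr G) f, z ≠ w₁ ∧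
        (coef (W.fn l false) w₁ = 1 ∨ coef (W.fn l false) w₁ = -1) ∧
        ∀ x ∈ outside (trivIrr G) f, x ≠ z → x ≠ w₁ → coef (W.fn l false) x = 0 := by
      by_cases h1 : z = z'
      · subst h1; exact ⟨w', hws', hzw', hwu', h0'⟩
      · by_cases h2 : z = w'
        · subst h2; exact ⟨z', hzs', hzw'.symm, hzu', fun x hx a b => h0' x hx b a⟩
        · have := h0' z hzs h1 h2
          omega
    rw [show ∑ x ∈ outside (trivIrr G) f, coef (W.fn l true) x * (deg x : ℤ) =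
        coef (W.fn l true) z * (deg z : ℤ) + coef (W.fn l true) w * (deg w : ℤ) by
      simpa using rest_pair (M := ℤ) hzs hws hzw h0 fun x => (deg x : ℤ)] at eμ
    rw [show ∑ x ∈ outside (trivIrr G) f, coef (W.fn l true) x * H.T x =
        coef (W.fn l true) z * H.T z + coef (W.fn l true) w * H.T w by
      simpa using rest_pair (M := ℤ) hzs hws hzw h0 H.T] at tμ
    rw [show ∑ x ∈ outside (trivIrr G) f, coef (W.fn l false) x * (deg x : ℤ) =
        coef (W.fn l false) z * (deg z : ℤ) + coef (W.fn l false) w₁ * (deg w₁ : ℤ) by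
      simpa using rest_pair (M := ℤ) hzs hws₁ hzw₁ h0₁ fun x => (deg x : ℤ), hcz] at ef
    rw [show ∑ x ∈ outside (trivIrr G) f, coef (W.fn l false) x * H.T x =
        coef (W.fn l false) z * H.T z + coef (W.fn l false) w₁ * H.T w₁ by
      simpa using rest_pair (M := ℤ) hzs hws₁ hzw₁ h0₁ H.T, hcz] at tf
    rw [rest_pair hzs hws hzw h0 fun x => (H.T x : ℚ) ^ 2 / (deg x : ℚ)] at rμ'
    rw [rest_pair hzs hws₁ hzw₁ h0₁ fun x => (H.T x : ℚ) ^ 2 / (deg x : ℚ), hcz] at rf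
    -- `z` is outside the functions of degree `|Q - 1|`
    have hψ : ∀ i, H.mψ D i z = 0 := by
      intro i
      by_contra hne
      have h := gram_sum (hgen true) (H.isGen_ind (D.ψ_gen i)) (z := 0) (by
        rw [W.inner_psi hL]; norm_num)
      rw [show ∑ χ, coef (W.fn l true) χ * coef (H.ind (D.ψ i)) χ =
        ∑ χ, coef (W.fn l true) χ * H.mψ D i χ from rfl, S.expand_int (coef (W.fn l true)) (H.mψ D i),
        cμ, Finset.sum_eq_zero (s := Finset.univ) fun j _ => by rw [psi_B hL S j i, mul_zero, mul_zero],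
        show ∑ x ∈ outside (trivIrr G) f, coef (W.fn l true) x * H.mψ D i x =
          coef (W.fn l true) z * H.mψ D i z + coef (W.fn l true) w * H.mψ D i w by
          simpa using rest_pair (M := ℤ) hzs hws hzw h0 (H.mψ D i)] at h
      have hwn : H.mψ D i w ≠ 0 := fun e => by
        rw [e] at h
        rcases hzu with k | k <;> rw [k] at h <;> omega
      have t1 := (H.mψ_twin D hL i hne).1
      have t2 := (H.mψ_twin D hL i hwn).1
      have hQ := D.Q_eq
      have hxm := D.x_mod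
      have hab : ∀ T : ℤ, |T| = ((D.Q - 1).natAbs : ℤ) → T = D.Q - 1 ∨ T = -(D.Q - 1) := fun T hT => by
        rcases abs_choice T with k | k <;> rw [k] at hT <;>
          rcases Int.natAbs_eq (D.Q - 1) with k' | k' <;> omega
      rcases hab _ t1 with k | k <;> rcases hab _ t2 with k' | k' <;>
        rcases hzu with m | m <;> rcases hwu with m' | m' <;> rw [k, k', m, m'] at tμ <;> omega
    obtain ⟨hz1, hz2⟩ := mem_outside.1 hzs
    obtain ⟨j, hj⟩ : ∃ j, coef (W.fn l true) z * H.T z = 2 * D.x * j := by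
      refine ⟨coef (W.fn l true) z * H.mΦ D z, ?_⟩
      rw [H.T_eq D hL hψ, S.zero 0 z hz1 hz2, S.zero 1 z hz1 hz2, S.zero 2 z hz1 hz2]
      ring
    have hterm : ∀ {F : G → ℂ} {y : Cfsg.IrrCharacter G}, (coef F y = 1 ∨ coef F y = -1) →
        (coef F y : ℚ) * ((H.T y : ℚ) ^ 2 / (deg y : ℚ)) =
          ((coef F y * H.T y : ℤ) : ℚ) ^ 2 / ((coef F y * (deg y : ℤ) : ℤ) : ℚ) := by
      intro F y h
      rcases h with k | k <;> rw [k] <;> push_cast <;> ring
    rw [hterm hzu, hterm hwu] at rμ'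
    rw [hterm hzu, hterm hwu₁] at rf
    have nz : ∀ {F : G → ℂ} {y : Cfsg.IrrCharacter G}, (coef F y = 1 ∨ coef F y = -1) →
        coef F y * (deg y : ℤ) ≠ 0 := by
      intro F y h
      have := (deg_spec y).2.1
      rcases h with k | k <;> rw [k] <;> omega
    have hzn := nz hzu
    have hwn := nz hwu
    generalize hdz : coef (W.fn l true) z * (deg z : ℤ) = dz at *
    generalize hdw : coef (W.fn l true) w * (deg w : ℤ) = dw at *
    generalize hdw1 : coef (W.fn l false) w₁ * (deg w₁ : ℤ) = dv at *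
    rw [hj] at tμ tf rμ' rf
    rw [show coef (W.fn l true) w * H.T w = 2 * D.x * (1 - j) by linarith] at rμ'
    rw [show coef (W.fn l false) w₁ * H.T w₁ = -2 * D.x * (3 + j) by
      have := D.Q_eq; linarith] at rf
    have hXn := H.dd_ne D S 2
    have hX' : H.dd f e 2 = dz + dw := by linarith
    have hx2 : (2 : ℤ) * D.x ≠ 0 := mul_ne_zero two_ne_zero D.x_facts.2.1
    have hprop := Arith.proportional (a := (dz : ℚ)) (b := (dw : ℚ)) (u := (2 * D.x * j : ℚ))
      (v := (2 * D.x * (1 - j) : ℚ)) (Int.cast_ne_zero.2 hzn) (Int.cast_ne_zero.2 hwn)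
      (by rw [← Int.cast_add, ← hX']; exact Int.cast_ne_zero.2 hXn) (by
        rw [hX'] at rμ'
        push_cast at rμ'
        rw [show (2 * D.x * j : ℚ) + 2 * D.x * (1 - j) = 2 * D.x by ring]
        linarith)
    have hprop' : j * dw = (1 - j) * dz :=
      mul_left_cancel₀ hx2 (by
        have : (2 * D.x * j) * dw = (2 * D.x * (1 - j)) * dz := by exact_mod_cast hprop
        linarith)
    have hjz : dz = j * H.dd f e 2 := by rw [hX']; linear_combination -hprop'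
    have hjw : dw = (1 - j) * H.dd f e 2 := by rw [hX']; linear_combination hprop'
    have hj0 : j ≠ 0 := fun h => hzn (by rw [hjz, h, zero_mul])
    have hj1 : j ≠ 1 := fun h => hwn (by rw [hjw, h, sub_self, zero_mul])
    refine Arith.shapeB1 hB hj0 hj1 (alg_B_one (zdz := dz) (zdw := dv) (d5 := H.dd f e 5) D.Q_eq
      D.x_facts.2.1 hXn hj0 hj1 hjz ?_ e1' e3' ?_)
    · rw [hjz] at ef; linarith
    · push_cast at rf ⊢; linear_combination rf
  · have hμ : ∀ j, pp f e (W.fn l true) j = (![0, 0, 0, -1, -1, 0] : Fin 6 → ℤ) j :=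
      congrFun (List.ofFn_inj.1 (hA1.trans (by decide)))
    have hone : ∀ j, pp f e (W.fn l false) j = (![0, 0, 2, 0, 0, -1] : Fin 6 → ℤ) j :=
      congrFun (List.ofFn_inj.1 (hA2.trans (by decide)))
    obtain ⟨Z, hZ⟩ := H.exists_one D S (hgen false) n1 (by
      simp [c1, Fin.sum_univ_six, hone])
    simp [Fin.sum_univ_six, hone, c1, u2, u5] at ef tf rf
    rw [hZ.sum_int fun x => (deg x : ℤ)] at ef
    rw [hZ.sum_int H.T] at tf
    rw [hZ.sum fun x => (H.T x : ℚ) ^ 2 / (deg x : ℚ), One.term H hZ] at rf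
    simp only [show coef (W.fn l false) Z * (deg Z : ℤ) = zd (W.fn l false) Z from rfl,
      show coef (W.fn l false) Z * H.T Z = H.zu (W.fn l false) Z from rfl] at ef tf
    have hzu : H.zu (W.fn l false) Z = -6 * D.x := by have := D.Q_eq; linarith
    rw [hzu] at rf
    refine Arith.shapeB2 hB (alg_B_two (zd := zd (W.fn l false) Z) (d5 := H.dd f e 5) D.Q_eq
      D.x_facts.2.1 (H.dd_ne D S 3) (by linarith) e1' e3' ?_)
    push_cast at rf ⊢; linear_combination rf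

end Cfsg.Agent.JT.Setup
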