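import Mathlib
import Cfsg.Agent.Lib.J1Order.Alt

/-!
# The five irreducible characters of `A₅`

They are integral combinations of the functions of `Lib/J1Order/Alt`; their values lie in `ℤ + ℤ z`.
-/

set_option autoImplicit false
set_option linter.all false
set_option maxRecDepth 100000

namespace Cfsg.Agent.JT.FiveA5

open Cfsg.Agent.Characters
open Cfsg.Agent.J1Order.Alt (A5 rep cls z ζ val ψ ψi)
open scoped ComplexConjugate

/-- The values, by class. -/
def tbl : Fin 5 → Fin 5 → ℤ × ℤ :=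
  ![![(1, 0), (1, 0), (1, 0), (1, 0), (1, 0)],
    ![(3, 0), (-1, 0), (0, 0), (1, 1), (0, -1)],
    ![(3, 0), (-1, 0), (0, 0), (0, -1), (1, 1)],
    ![(4, 0), (0, 0), (1, 0), (-1, 0), (-1, 0)],
    ![(5, 0), (1, 0), (-1, 0), (0, 0), (0, 0)]]

/-- The characters. -/
noncomputable def ch (j : Fin 5) (x : A5) : ℂ := val (tbl j (cls x)).1 (tbl j (cls x)).2

theorem cls_rep : ∀ x : A5, ∀ i : Fin 5, cls (x * rep i * x⁻¹) = i := by decide +kernel

theorem cls_conj (x y : A5) : cls (x * y * x⁻¹) = cls y := by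
  obtain ⟨a, ha⟩ := J1Order.Alt.exists_conj_rep y
  generalize cls y = c at ha
  subst ha
  rw [show x * (a * rep c * a⁻¹) * x⁻¹ = x * a * rep c * (x * a)⁻¹ by group, cls_rep]

theorem ch_isClassFunction (j : Fin 5) : Cfsg.IsClassFunction A5 (ch j) := fun g x => by
  simp only [ch, cls_conj]

theorem tbl_psi : ∀ g : A5, tbl 1 (cls g) = ((ψi 1 g).1 - 1, (ψi 1 g).2) ∧
    tbl 2 (cls g) = ((ψi 2 g).1 - 1, (ψi 2 g).2) ∧ tbl 3 (cls g) = ψi 0 g ∧
    tbl 4 (cls g) = (1 - (ψi 3 g).1, -(ψi 3 g).2) := by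
  decide +kernel

theorem isGen_ch (j : Fin 5) : Cfsg.IsGeneralizedCharacter A5 (ch j) := by
  have h1 : Cfsg.IsGeneralizedCharacter A5 (fun _ => (1 : ℂ)) :=
    isGen_of_isCharacter isCharacter_one
  have hψ := J1Order.Alt.isGen_ψ
  fin_cases j
  · convert h1 using 1
    funext g
    generalize hc : cls g = c
    fin_cases c <;> simp [ch, hc, tbl, val]
  · convert isGen_sub (hψ 1) h1 using 1
    funext g; simp [ch, ψ, val, (tbl_psi g).1]; ring
  · convert isGen_sub (hψ 2) h1 using 1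
    funext g; simp [ch, ψ, val, (tbl_psi g).2.1]; ring
  · convert hψ 0 using 1
    funext g; simp [ch, ψ, val, (tbl_psi g).2.2.1]
  · convert isGen_sub h1 (hψ 3) using 1
    funext g; simp [ch, ψ, val, (tbl_psi g).2.2.2]; ring

theorem ch_conj (j : Fin 5) (x : A5) : conj (ch j x) = ch j x := J1Order.Alt.val_conj _ _

theorem gram_int : ∀ j k : Fin 5,
    ∑ g : A5, ((tbl j (cls g)).1 * (tbl k (cls g)).1 + (tbl j (cls g)).2 * (tbl k (cls g)).2) =
      (if j = k then 60 else 0) ∧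
    ∑ g : A5, ((tbl j (cls g)).1 * (tbl k (cls g)).2 + (tbl j (cls g)).2 * (tbl k (cls g)).1 -
      (tbl j (cls g)).2 * (tbl k (cls g)).2) = 0 := by
  decide +kernel

theorem sum_val {ι : Type*} (s : Finset ι) (a b : ι → ℤ) :
    ∑ x ∈ s, val (a x) (b x) = val (∑ x ∈ s, a x) (∑ x ∈ s, b x) := by
  simp only [val, Int.cast_sum, Finset.sum_mul, Finset.sum_add_distrib]

theorem card_A5 : Nat.card A5 = 60 := by
  rw [Nat.card_eq_fintype_card]; decide +kernel

theorem gram (j k : Fin 5) : Cfsg.classInner (ch j) (ch k) = if j = k then 1 else 0 := by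
  rw [classInner_def, Finset.sum_congr rfl fun g _ => show ch j g * conj (ch k g) = _ by
    rw [ch_conj, ch, ch, J1Order.Alt.val_mul], sum_val, (gram_int j k).1, (gram_int j k).2, card_A5]
  split_ifs <;> simp [val]

theorem sum_int : ∀ j : Fin 5, ∑ g : A5, (tbl j (cls g)).1 = (if j = 0 then 60 else 0) ∧
    ∑ g : A5, (tbl j (cls g)).2 = 0 := by
  decide +kernel

theorem sum_ch (j : Fin 5) : ∑ g : A5, ch j g = if j = 0 then 60 else 0 := by
  simp only [ch, sum_val, (sum_int j).1, (sum_int j).2]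
  split_ifs <;> simp [val]

/-- The sums over the involutions. -/
theorem sum_invol_int : ∀ j : Fin 5,
    ∑ g : A5, (if cls g = 1 then (tbl j (cls g)).1 else 0) = 15 * ![1, -1, -1, 0, 1] j ∧
    ∑ g : A5, (if cls g = 1 then (tbl j (cls g)).2 else 0) = 0 := by
  decide +kernel

theorem sum_invol (j : Fin 5) :
    ∑ g : A5, (if cls g = 1 then ch j g else 0) = 15 * ((![1, -1, -1, 0, 1] : Fin 5 → ℤ) j : ℂ) := by
  have h : ∀ g : A5, (if cls g = 1 then ch j g else 0) =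
      val (if cls g = 1 then (tbl j (cls g)).1 else 0) (if cls g = 1 then (tbl j (cls g)).2 else 0) := by
    intro g; split_ifs <;> simp [ch, val]
  simp only [h, sum_val, (sum_invol_int j).1, (sum_invol_int j).2]
  simp [val]

/-- The number of `w` with `w² = (w x)² = 1`. -/
def invCount : Fin 5 → ℕ := ![16, 4, 3, 5, 5]

theorem invCount_eq : ∀ x : A5,
    (Finset.univ.filter fun w : A5 => w * w = 1 ∧ w * x * (w * x) = 1).card = invCount (cls x) := by
  decide +kernel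

theorem pair_int : ∀ j : Fin 5,
    15 * ∑ g : A5, (tbl j (cls g)).1 * (invCount (cls g) : ℤ) = 60 * ![64, 12, 12, 1, 20] j ∧
    ∑ g : A5, (tbl j (cls g)).2 * (invCount (cls g) : ℤ) = 0 := by
  decide +kernel

theorem sum_pairs (j : Fin 5) :
    15 * ∑ g : A5, ch j g * (invCount (cls g) : ℂ) = 60 * ((![64, 12, 12, 1, 20] : Fin 5 → ℤ) j : ℂ) := by
  have h : ∀ g : A5, ch j g * (invCount (cls g) : ℂ) =
      val ((tbl j (cls g)).1 * (invCount (cls g) : ℤ)) ((tbl j (cls g)).2 * (invCount (cls g) : ℤ)) := by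
    intro g; simp only [ch, val]; push_cast; ring
  have e : (15 : ℂ) * ((∑ g : A5, (tbl j (cls g)).1 * (invCount (cls g) : ℤ) : ℤ) : ℂ) =
      60 * ((![64, 12, 12, 1, 20] : Fin 5 → ℤ) j : ℂ) := by exact_mod_cast (pair_int j).1
  simp only [h, sum_val, (pair_int j).2]
  simp only [val, Int.cast_zero, zero_mul, add_zero]
  exact e

theorem galois_int : ∀ j c : Fin 5, tbl (Equiv.swap 1 2 j) c = ((tbl j c).1 - (tbl j c).2, -(tbl j c).2) := by
  decide +kernel

theorem galois (σ : ℂ ≃+* ℂ) (hσ : ∀ w : ℂ, w ^ 5 = 1 → σ w = w ^ 2) (j : Fin 5) (x : A5) :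
    σ (ch j x) = ch (Equiv.swap 1 2 j) x := by
  have hζ : σ ζ = ζ ^ 2 := hσ _ J1Order.Alt.ζ_prim.pow_eq_one
  have hz : σ z = -1 - z := by
    rw [z, map_add, map_pow, hζ]
    linear_combination ζ ^ 3 * J1Order.Alt.ζ_prim.pow_eq_one + J1Order.Alt.ζ_sum
  simp only [ch, galois_int, val, map_add, map_mul, map_intCast, hz]
  push_cast
  ring

theorem comb_int : ∀ c : Fin 5,
    (tbl 0 c).1 + (tbl 3 c).1 + 2 * (tbl 4 c).1 = ![15, 3, 0, 0, 0] c ∧
    (tbl 0 c).2 + (tbl 3 c).2 + 2 * (tbl 4 c).2 = 0 ∧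
    (tbl 1 c).1 + (tbl 2 c).1 + (tbl 3 c).1 + (tbl 4 c).1 = ![15, -1, 0, 0, 0] c ∧
    (tbl 1 c).2 + (tbl 2 c).2 + (tbl 3 c).2 + (tbl 4 c).2 = 0 := by
  decide +kernel

theorem ch_false (x : A5) :
    ch 0 x + ch 3 x + 2 * ch 4 x = ((![15, 3, 0, 0, 0] : Fin 5 → ℤ) (cls x) : ℂ) := by
  obtain ⟨h1, h2, -, -⟩ := comb_int (cls x)
  simp only [ch, val]
  rw [← h1]
  have h2' := congrArg (Int.cast : ℤ → ℂ) h2
  push_cast at h2' ⊢
  linear_combination z * h2'

theorem ch_true (x : A5) :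
    ch 1 x + ch 2 x + ch 3 x + ch 4 x = ((![15, -1, 0, 0, 0] : Fin 5 → ℤ) (cls x) : ℂ) := by
  obtain ⟨-, -, h1, h2⟩ := comb_int (cls x)
  simp only [ch, val]
  rw [← h1]
  have h2' := congrArg (Int.cast : ℤ → ℂ) h2
  push_cast at h2' ⊢
  linear_combination z * h2'

end Cfsg.Agent.JT.FiveA5
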