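import Mathlib
import Cfsg.Agent.Lib.JT.FunsDefs
import Cfsg.Agent.Lib.JT.FiveGroup
import Cfsg.Agent.Lib.JT.FiveA5
import Cfsg.Agent.Lib.JT.TorusVal

/-!
# The functions induced from `(1 - l) χ` on the centralizer `A × A₅`
-/

set_option autoImplicit false
set_option linter.unusedSectionVars false
set_option linter.style.haveILetI false
set_option maxRecDepth 20000

namespace Cfsg.Agent.JT.Setup.Torus

open Cfsg.Agent.Characters
open Cfsg.Agent.JT.FiveA5 (ch invCount)
open Cfsg.Agent.J1Order.Alt (cls rep exists_conj_rep)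
open scoped ComplexConjugate

universe u v

local notation "Z₂" => Multiplicative (ZMod 2)
local notation "A5" => alternatingGroup (Fin 5)

theorem a5_cls_one : ∀ x : A5, x * x = 1 → x ≠ 1 → cls x = 1 := by decide +kernel

theorem a5_of_cls_one : ∀ x : A5, cls x = 1 → x * x = 1 ∧ x ≠ 1 := by decide +kernel

theorem a5_pow : ∀ x : A5, cls x ≠ 1 → x ^ 15 = 1 := by decide +kernel

set_option synthInstance.maxSize 4000 in
theorem a5_four : ∀ a : A5, a * a = 1 → a ≠ 1 → ∀ b : A5, b * b = 1 → b ≠ 1 → a ≠ b → a * b = b * a →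
    ∀ c : A5, c * c = 1 → a * c = c * a → c = 1 ∨ c = a ∨ c = b ∨ c = a * b := by
  decide +kernel

theorem a5_conj_invol {x y : A5} (hx : cls x = 1) (hy : cls y = 1) : ∃ w : A5, w * x * w⁻¹ = y := by
  obtain ⟨a, ha⟩ := exists_conj_rep x
  obtain ⟨b, hb⟩ := exists_conj_rep y
  rw [hx] at ha
  rw [hy] at hb
  exact ⟨b * a⁻¹, by rw [hb, ha]; group⟩

theorem a5_class_sum (k : Fin 5 → ℂ) :
    ∑ x : A5, k (cls x) = k 0 + 15 * k 1 + 20 * k 2 + 12 * k 3 + 12 * k 4 := by
  classical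
  have hc : ∀ c : Fin 5, (Finset.univ.filter fun x : A5 => cls x = c).card = ![1, 15, 20, 12, 12] c := by
    decide +kernel
  rw [← Finset.sum_fiberwise Finset.univ cls,
    Finset.sum_congr rfl fun c _ => Finset.sum_congr rfl fun x hx => by rw [(Finset.mem_filter.1 hx).2]]
  simp only [Finset.sum_const, nsmul_eq_mul, hc, Fin.sum_univ_five]
  simp

variable {G : Type u} [Group G] [Fintype G] {K : Type v} [Group K] [Fintype K] {H : Setup G K}
  {D : KData K} (W : H.Torus D)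

namespace FiveData

variable {W} (d : W.FiveData)

/-- Inversion on the torus factor. -/
noncomputable def inv5 : (W.A × A5) ≃* (W.A × A5) where
  toFun m := (m.1⁻¹, m.2)
  invFun m := (m.1⁻¹, m.2)
  left_inv m := by simp
  right_inv m := by simp
  map_mul' m m' := by
    haveI := W.A_cyclic
    refine Prod.ext ?_ rfl
    show (m.1 * m'.1)⁻¹ = m.1⁻¹ * m'.1⁻¹
    rw [mul_inv_rev, (IsCyclic.commGroup (α := W.A)).mul_comm]

/-- The function on `A × A₅`. -/
noncomputable def phi5 (l : W.A →* ℂˣ) (j : Fin 5) : W.A × A5 → ℂ :=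
  fun m => (1 - (l m.1 : ℂ)) * ch j m.2

theorem isGen_phi5 (l : W.A →* ℂˣ) (j : Fin 5) :
    Cfsg.IsGeneralizedCharacter (W.A × A5) (phi5 l j) := by
  have h1 := isGen_sub (isGen_of_isCharacter (isCharacter_linear (1 : W.A × A5 →* ℂˣ)))
    (isGen_of_isCharacter (isCharacter_linear (l.comp (MonoidHom.fst W.A A5))))
  have h2 := isGen_comp (MonoidHom.snd W.A A5) (FiveA5.isGen_ch j)
  convert isGen_mul h1 h2 using 1
  funext m
  simp [phi5]

theorem phi5_one (l : W.A →* ℂˣ) (j : Fin 5) {m : W.A × A5} (hm : m.1 = 1) : phi5 l j m = 0 := by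
  simp [phi5, hm]

/-- The induced function. -/
noncomputable def F5 (l : W.A →* ℂˣ) (j : Fin 5) : G → ℂ := Embed.indHom d.inj (phi5 l j)

theorem isGen_F5 (l : W.A →* ℂˣ) (j : Fin 5) : Cfsg.IsGeneralizedCharacter G (d.F5 l j) :=
  Embed.isGen_indHom _ (isGen_phi5 l j)

include d

theorem card_M : Nat.card (W.A × A5) = 60 * Nat.card W.A := by
  rw [Nat.card_prod, FiveA5.card_A5, mul_comm]

theorem ι_snd_sq {x : A5} (h : x * x = 1) : d.ι (1, x) * d.ι (1, x) = 1 := by
  rw [← map_mul, Prod.mk_mul_mk, one_mul, h]; exact map_one _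

theorem four_cls {w : Z₂ × Z₂} (hw : w ≠ 1) {x : A5} (hx : d.ι (1, x) = W.four w) : cls x = 1 := by
  refine a5_cls_one x ?_ fun e => hw (W.four_injective ?_)
  · have h : d.ι ((1, x) * (1, x)) = d.ι 1 := by rw [map_mul, hx, W.four_sq, map_one]
    exact congrArg Prod.snd (d.inj h)
  · rw [map_one, ← hx, e]; exact map_one _

theorem ι_pow (m : W.A × A5) : ∃ k : ℕ, (∀ m' : W.A × A5, d.ι m' ^ k = (m'.1 : G)) ∧
    d.ι m ^ k = (m.1 : G) := by
  obtain ⟨k, hk⟩ := d.power
  refine ⟨k, fun m' => ?_, ?_⟩ <;> rw [← map_pow, hk, d.fst]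

theorem eq_one_of_fixed {a : W.A} (h : a⁻¹ = a) : a = 1 := by
  refine Subtype.ext (W.odd_part a.2 ?_)
  exact congrArg Subtype.val (show a * a = 1 by nth_rw 1 [← h]; exact inv_mul_cancel a)

theorem s_range {a : W.A} (ha : a ≠ 1) (m : W.A × A5) : d.ι m ≠ W.s := by
  intro h
  haveI := W.A_cyclic
  letI := IsCyclic.commGroup (α := W.A)
  have h1 : W.s * d.ι (a, 1) * W.s⁻¹ = d.ι (a, 1) := by
    rw [← h, ← map_mul, ← map_inv, ← map_mul]
    congr 1
    refine Prod.ext ?_ ?_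
    · show m.1 * a * m.1⁻¹ = a
      rw [mul_comm m.1 a, mul_inv_cancel_right]
    · show m.2 * 1 * m.2⁻¹ = 1
      simp
  rw [d.sc] at h1
  exact ha (d.eq_one_of_fixed (congrArg Prod.fst (d.inj h1)))

theorem exists_t : ∃ xt : A5, cls xt = 1 ∧ d.ι (1, xt) = H.t ∧ ∃ et, et ≠ 1 ∧ W.four et = H.t := by
  obtain ⟨et, het⟩ := W.four_surj (g := H.t) (Or.inr (Or.inl rfl))
  have h1 : et ≠ 1 := fun e => by
    rw [e, map_one] at het
    simpa [← het, orderOf_one] using H.ht
  obtain ⟨xt, hxt⟩ := d.four et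
  exact ⟨xt, d.four_cls h1 hxt, hxt.trans het, et, h1, het⟩

theorem exists_v : ∃ xv : A5, cls xv = 1 ∧ d.ι (1, xv) = W.v := by
  obtain ⟨ev, hev⟩ := W.four_surj (g := W.v) (Or.inr (Or.inr (Or.inl rfl)))
  have h1 : ev ≠ 1 := fun e => by
    rw [e, map_one] at hev
    simpa [← hev, orderOf_one] using W.v_two
  obtain ⟨xv, hxv⟩ := d.four ev
  exact ⟨xv, d.four_cls h1 hxv, hxv.trans hev⟩

theorem invol_form {a : W.A} (ha : a ≠ 1) {g : G} (hg : Commute g (a : G)) (h2 : g * g = 1) :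
    ∃ x : A5, x * x = 1 ∧ d.ι (1, x) = g := by
  obtain ⟨⟨b, x⟩, hbx⟩ := d.cent a ha g hg
  have h : d.ι ((b, x) * (b, x)) = d.ι 1 := by rw [map_mul, hbx, h2, map_one]
  have hb : b = 1 := Subtype.ext (W.odd_part b.2 (congrArg Subtype.val (congrArg Prod.fst (d.inj h))))
  subst hb
  exact ⟨x, congrArg Prod.snd (d.inj h), hbx⟩

variable (hL : H.Local)
include hL

/-- An element of `C(t)` moves `v` to no `t v`. -/
theorem no_tv {g : G} (hg : g * H.t * g⁻¹ = H.t) (h : g * W.v * g⁻¹ = H.t * W.v) : False := by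
  obtain ⟨k, hk⟩ := W.v_K
  have hgC : g ∈ H.C := Subgroup.mem_centralizer_singleton_iff.2 (mul_inv_eq_iff_eq_mul.1 hg)
  have hv : W.v ∈ H.C := Subgroup.mem_centralizer_singleton_iff.2 W.tv.symm.eq
  have e1 : (H.e ⟨W.v, hv⟩).1 = 1 := by
    rw [show (⟨W.v, hv⟩ : H.C) = H.e.symm (1, k) from Subtype.ext hk.symm, MulEquiv.apply_symm_apply]
  have e2 := congrArg (fun y : H.C => (H.e y).1)
    (show (⟨g, hgC⟩ : H.C) * ⟨W.v, hv⟩ * (⟨g, hgC⟩ : H.C)⁻¹ =
      ⟨H.t, Subgroup.mem_centralizer_singleton_iff.2 rfl⟩ * ⟨W.v, hv⟩ from Subtype.ext h)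
  simp only [map_mul, map_inv, Prod.fst_mul, Prod.fst_inv, e1, mul_one, mul_inv_cancel] at e2
  have e3 : H.e ⟨H.t, Subgroup.mem_centralizer_singleton_iff.2 rfl⟩ = (Multiplicative.ofAdd 1, 1) := by
    rw [← MulEquiv.apply_symm_apply H.e (Multiplicative.ofAdd 1, 1)]
    exact congrArg H.e (Subtype.ext hL.emb_t.symm)
  rw [e3] at e2
  exact z2_ne e2.symm

/-- The fusion of the elements with nontrivial torus part. -/
theorem fusion5 {a₀ : W.A} (ha₀ : a₀ ≠ 1) :
    Embed.Fusion d.ι ![1, W.s] ![MulEquiv.refl _, inv5] {m | m.1 ≠ 1} where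
  act i m := by
    fin_cases i
    · simp
    · simpa [inv5] using (d.sc m).symm
  stable i m hm := by
    fin_cases i
    · simpa using hm
    · simpa [inv5] using hm
  inner m m' hm := by
    haveI := W.A_cyclic
    show (m' * m * m'⁻¹).1 ≠ 1
    rwa [Prod.fst_mul, Prod.fst_mul, Prod.fst_inv,
      (IsCyclic.commGroup (α := W.A)).mul_comm m'.1 m.1, mul_inv_cancel_right]
  coset m hm g := by
    rintro ⟨m', hm', he⟩
    obtain ⟨k, hk, -⟩ := d.ι_pow m
    have hpow : g * (m.1 : G) * g⁻¹ = m'.1 := by rw [← hk m, ← hk m', ← he, conj_pow]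
    obtain ⟨xt, hxt, hxte, -⟩ := d.exists_t
    obtain ⟨xv, hxv, hxve⟩ := d.exists_v
    have hcA : ∀ u : G, Commute u (m.1 : G) → Commute (g * u * g⁻¹) (m'.1 : G) := fun u hu => by
      rw [← hpow]; exact hu.map (MulAut.conj g).toMonoidHom
    have htt := W.tt
    obtain ⟨x, hx2, hx⟩ := d.invol_form hm' (g := g * H.t * g⁻¹) (hcA _ (W.A_t _ m.1.2).symm) (by
      rw [show g * H.t * g⁻¹ * (g * H.t * g⁻¹) = g * (H.t * H.t) * g⁻¹ by group, htt]; simp)
    have hx1 : x ≠ 1 := fun e => by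
      rw [e] at hx
      have : H.t = 1 := conj_eq_one_iff.1 (hx.symm.trans (map_one _))
      simpa [this, orderOf_one] using H.ht
    obtain ⟨y, hy⟩ := a5_conj_invol (a5_cls_one x hx2 hx1) hxt
    set g1 := d.ι (1, y) * g with hg1
    have hg1t : g1 * H.t * g1⁻¹ = H.t := by
      rw [hg1, show d.ι (1, y) * g * H.t * (d.ι (1, y) * g)⁻¹ =
        d.ι (1, y) * (g * H.t * g⁻¹) * (d.ι (1, y))⁻¹ by group, ← hx, ← map_inv, ← map_mul, ← map_mul]
      conv_rhs => rw [← hxte]
      congr 1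
      exact Prod.ext (by simp) (by simpa using hy)
    have hg1v : g1 * W.v * g1⁻¹ = W.v := by
      obtain ⟨x', hx'2, hx'⟩ := d.invol_form hm' (g := g1 * W.v * g1⁻¹) (by
        have h1 : Commute (g * W.v * g⁻¹) (m'.1 : G) := hcA _ (W.A_v _ m.1.2).symm
        have h2 : Commute (d.ι (1, y)) (m'.1 : G) := by
          rw [← d.fst m'.1]
          exact (show Commute ((1 : W.A), y) (m'.1, (1 : A5)) from
            Prod.ext (by simp) (by simp)).map d.ι
        rw [hg1, show d.ι (1, y) * g * W.v * (d.ι (1, y) * g)⁻¹ =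
          d.ι (1, y) * (g * W.v * g⁻¹) * (d.ι (1, y))⁻¹ by group]
        exact (h2.mul_left h1).mul_left h2.inv_left) (by
        rw [show g1 * W.v * g1⁻¹ * (g1 * W.v * g1⁻¹) = g1 * (W.v * W.v) * g1⁻¹ by group, W.vv]; simp)
      have hne : xt ≠ xv := fun e => W.v_ne_t (by rw [← hxte, ← hxve, e])
      have hcomm : xt * xv = xv * xt := by
        have := W.tv.eq
        rw [← hxte, ← hxve, ← map_mul, ← map_mul] at this
        exact congrArg Prod.snd (d.inj this)
      have hcx : xt * x' = x' * xt := by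
        have h : H.t * (g1 * W.v * g1⁻¹) = g1 * W.v * g1⁻¹ * H.t := by
          have := (W.tv).map (MulAut.conj g1).toMonoidHom
          have h' : Commute (g1 * H.t * g1⁻¹) (g1 * W.v * g1⁻¹) := this
          rw [hg1t] at h'
          exact h'.eq
        rw [← hxte, ← hx', ← map_mul, ← map_mul] at h
        exact congrArg Prod.snd (d.inj h)
      obtain ⟨ht2, ht1⟩ := a5_of_cls_one xt hxt
      obtain ⟨hv2, hv1⟩ := a5_of_cls_one xv hxv
      rcases a5_four xt ht2 ht1 xv hv2 hv1 hne hcomm x' hx'2 hcx with h | h | h | h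
      · exfalso
        rw [h] at hx'
        have : W.v = 1 := conj_eq_one_iff.1 (hx'.symm.trans (map_one _))
        simpa [this, orderOf_one] using W.v_two
      · exfalso
        rw [h, hxte] at hx'
        exact W.v_ne_t (mul_left_cancel (mul_right_cancel (hx'.symm.trans hg1t.symm)))
      · rw [← hx', h, hxve]
      · exfalso
        refine no_tv d hL hg1t ?_
        rw [← hx', h, ← hxte, ← hxve, ← map_mul]
        simp
    obtain ⟨b, hb, w, hw, h⟩ := W.cent_V g1 (mul_inv_eq_iff_eq_mul.1 hg1t) (mul_inv_eq_iff_eq_mul.1 hg1v)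
    obtain ⟨w', rfl⟩ := W.four_surj hw
    obtain ⟨xw, hxw⟩ := d.four w'
    have hbw : b * W.four w' = d.ι (⟨b, hb⟩, xw) := by
      show ((⟨b, hb⟩ : W.A) : G) * W.four w' = _
      rw [← hxw, ← d.fst ⟨b, hb⟩, ← map_mul]; simp
    have hgg : g = (d.ι (1, y))⁻¹ * g1 := by rw [hg1, inv_mul_cancel_left]
    rcases h with h | h
    · refine ⟨0, (1, y)⁻¹ * (⟨b, hb⟩, xw), ?_⟩
      rw [hgg, h, hbw, map_mul, map_inv]
      simp
    · set q := ((1 : W.A), y)⁻¹ * (⟨b, hb⟩, xw) with hq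
      have hs : d.ι q * W.s = W.s * d.ι (inv5 q) := by
        have h := d.sc (inv5 q)
        rw [show ((inv5 q).1⁻¹, (inv5 q).2) = q from Prod.ext (inv_inv q.1) rfl, mul_inv_eq_iff_eq_mul] at h
        exact h.symm
      refine ⟨1, inv5 q, ?_⟩
      rw [hgg, h, hbw]
      show _ = W.s * d.ι (inv5 q)
      rw [← hs, hq, map_mul, map_inv, mul_assoc]
  disjoint i j x h := by
    fin_cases i <;> fin_cases j <;> simp at h ⊢
    · exact d.s_range ha₀ x h.symm
    · exact d.s_range ha₀ x⁻¹ (by rw [map_inv, ← h, inv_inv])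

variable [Fintype (Cfsg.IrrCharacter G)]

omit hL

theorem exists_ne_of_lin {l : W.A →* ℂˣ} (hl : l ≠ 1) : ∃ a : W.A, a ≠ 1 := by
  by_contra h
  push Not at h
  exact hl (MonoidHom.ext fun a => by rw [h a, map_one, map_one])

include hL in
theorem inner_F5 {l l' : W.A →* ℂˣ} (hl : l ≠ 1) (hl' : l' ≠ 1) [Decidable (l = l')] [Decidable (l = l'⁻¹)]
    (j k : Fin 5) :
    Cfsg.classInner (d.F5 l j) (d.F5 l' k) =
      if j = k then 2 + (if l = l' then 1 else 0) + (if l = l'⁻¹ then 1 else 0) else 0 := by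
  classical
  obtain ⟨a₀, ha₀⟩ := d.exists_ne_of_lin hl
  rw [F5, F5, Embed.inner_indHom_indHom d.inj (d.fusion5 hL ha₀) (isGen_isClassFunction (isGen_phi5 l' k))
    (fun m hm => phi5_one l j (not_not.1 hm)) (fun m hm => phi5_one l' k (not_not.1 hm))]
  rw [Fin.sum_univ_two]
  have h : ∀ k' : W.A →* ℂˣ, k' ≠ 1 → ∀ [Decidable (l = k')],
      Cfsg.classInner (phi5 l j) (phi5 k' k) =
      (1 + if l = k' then 1 else 0) * if j = k then 1 else 0 := fun k' hk' _ => by
    rw [show phi5 l j = fun m : W.A × A5 => (1 - (l m.1 : ℂ)) * ch j m.2 from rfl,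
      show phi5 k' k = fun m : W.A × A5 => (1 - (k' m.1 : ℂ)) * ch k m.2 from rfl,
      inner_prod (fun a : W.A => 1 - (l a : ℂ)) (fun a : W.A => 1 - (k' a : ℂ)) (ch j) (ch k),
      inner_one_sub l k' hl hk', FiveA5.gram]
  have e0 : (fun m => phi5 l' k ((![MulEquiv.refl _, inv5] : Fin 2 → _) 0 m)) = phi5 l' k := by
    funext m; simp
  have e1 : (fun m => phi5 l' k ((![MulEquiv.refl _, inv5] : Fin 2 → _) 1 m)) = phi5 l'⁻¹ k := by
    funext m; simp [phi5, inv5]
  rw [e0, e1, h l' hl', h l'⁻¹ (fun e => hl' (MonoidHom.ext fun a => by simpa using DFunLike.congr_fun e a))]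
  split_ifs <;> ring

theorem sum_phi5 {l : W.A →* ℂˣ} (hl : l ≠ 1) (j : Fin 5) (ψ : W.A × A5 → ℂ) (c : A5 → ℂ)
    (hψ : ∀ m : W.A × A5, m.1 ≠ 1 → ψ m = c m.2) :
    ∑ m, phi5 l j m * ψ m = (Nat.card W.A : ℂ) * ∑ x, ch j x * c x := by
  rw [← W.sum_lin_one_sub hl, Finset.sum_mul_sum, Fintype.sum_prod_type]
  refine Finset.sum_congr rfl fun a _ => Finset.sum_congr rfl fun x _ => ?_
  by_cases ha : a = 1
  · simp [phi5, ha]
  · rw [hψ (a, x) ha, phi5]; ring

theorem inner_triv5 {l : W.A →* ℂˣ} (hl : l ≠ 1) (j : Fin 5) :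
    Cfsg.classInner (d.F5 l j) (fun _ => 1) = if j = 0 then 1 else 0 := by
  rw [F5, Embed.inner_indHom d.inj _ (fun _ _ => rfl), d.card_M]
  simp only [map_one]
  rw [d.sum_phi5 hl j (fun _ => 1) (fun _ => 1) fun _ _ => rfl]
  simp only [mul_one, FiveA5.sum_ch]
  have hA : (Nat.card W.A : ℂ) ≠ 0 := natCard_ne_zero
  push_cast
  split_ifs <;> field_simp <;> ring

include hL in
theorem ind_zero_of_odd (i : Fin 3) {g : G} {n : ℕ} (hn : Odd n) (hg : g ^ n = 1) :
    H.ind (D.θ i) g = 0 := by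
  refine ZStar.Induce.indFun_eq_zero (H.vanishOff (D.θ_even i)) _ fun x hx => ?_
  obtain ⟨k, hk, he⟩ := hx
  have h1 := H.pow_card hL k hk (hk.mul hn) (dvd_mul_right _ _)
  rw [← he, mul_comm (orderOf k), show x⁻¹ * g * x = x⁻¹ * g * x⁻¹⁻¹ by rw [inv_inv],
    conj_pow, pow_mul, hg, one_pow] at h1
  simp only [mul_one, mul_inv_cancel] at h1
  simpa [← h1, orderOf_one] using H.ht

include hL in
theorem ind_value (i : Fin 3) (m : W.A × A5) (hm : m.1 ≠ 1) :
    H.ind (D.θ i) (d.ι m) = if cls m.2 = 1 then (if i = 2 then 0 else 4) else 0 := by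
  obtain ⟨a, x⟩ := m
  split_ifs with hx hi hi
  all_goals
    first
    | (obtain ⟨xt, hxt, hxte, et, het1, het⟩ := d.exists_t
       obtain ⟨y, hy⟩ := a5_conj_invol hx hxt
       have hcl : Cfsg.IsClassFunction G (H.ind (D.θ i)) := isGen_isClassFunction (H.isGen_ind (D.θ_gen i))
       rw [← hcl (d.ι (a, x)) (d.ι (1, y)), ← map_inv, ← map_mul, ← map_mul,
         show ((1 : W.A), y) * (a, x) * ((1 : W.A), y)⁻¹ = (a, 1) * ((1 : W.A), xt) from
           Prod.ext (by simp) (by simpa using hy),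
         map_mul, d.fst, hxte, ← het, ← W.emb_apply (a, et), W.ind_on_torus hL i (a, et) hm]
       simp [het1, hi])
    | (refine ind_zero_of_odd d hL i (W.A_odd.mul (by decide : Odd 15)) ?_
       rw [← map_pow]
       refine (congrArg d.ι (Prod.ext ?_ ?_)).trans (map_one d.ι)
       · show a ^ _ = 1
         rw [pow_mul, pow_card_eq_one', one_pow]
       · show x ^ _ = 1
         rw [mul_comm, pow_mul, a5_pow x hx, one_pow])

include hL in
theorem inner_theta5 {l : W.A →* ℂˣ} (hl : l ≠ 1) (j : Fin 5) (i : Fin 3) :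
    Cfsg.classInner (d.F5 l j) (H.ind (D.θ i)) = (fiveSign j : ℂ) * if i = 2 then 0 else 1 := by
  rw [F5, Embed.inner_indHom d.inj _ (isGen_isClassFunction (H.isGen_ind (D.θ_gen i))), d.card_M,
    d.sum_phi5 hl j _ (fun x => (if cls x = 1 then 1 else 0) * (if i = 2 then 0 else 4)) fun m hm => by
      rw [d.ind_value hL i m hm]; split_ifs <;> simp [Complex.conj_ofNat]]
  have hA : (Nat.card W.A : ℂ) ≠ 0 := natCard_ne_zero
  rw [show ∑ x : A5, ch j x * ((if cls x = 1 then 1 else 0) * (if i = 2 then 0 else 4)) =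
    (∑ x : A5, if cls x = 1 then ch j x else 0) * (if i = 2 then 0 else 4) by
    rw [Finset.sum_mul]; exact Finset.sum_congr rfl fun x _ => by split_ifs <;> ring, FiveA5.sum_invol]
  rw [show (![1, -1, -1, 0, 1] : Fin 5 → ℤ) = fiveSign from rfl]
  push_cast
  split_ifs <;> field_simp <;> ring

theorem F5_one (l : W.A →* ℂˣ) (j : Fin 5) : d.F5 l j 1 = 0 := by
  rw [F5, Embed.indHom_one]; simp [phi5]

theorem F5_t (l : W.A →* ℂˣ) (j : Fin 5) : d.F5 l j H.t = 0 := by
  refine Embed.indHom_zero _ _ _ fun m hm x h => hm (phi5_one l j ?_)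
  have h2 : d.ι (m * m) = d.ι 1 := by
    rw [map_mul, ← h, map_one, show x⁻¹ * H.t * x * (x⁻¹ * H.t * x) = x⁻¹ * (H.t * H.t) * x by group, W.tt]
    simp
  exact Subtype.ext (W.odd_part m.1.2 (congrArg Subtype.val (congrArg Prod.fst (d.inj h2))))

/-- Equality of two generalized characters from their inner products. -/
theorem ext_of_inner {f f' : G → ℂ} (hf : Cfsg.IsGeneralizedCharacter G f)
    (hf' : Cfsg.IsGeneralizedCharacter G f')
    (h : ∀ χ : Cfsg.IrrCharacter G, Cfsg.classInner f (χ : G → ℂ) = Cfsg.classInner f' (χ : G → ℂ)) :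
    f = f' := by
  funext g
  rw [value_sum hf g, value_sum hf' g]
  refine Finset.sum_congr rfl fun χ _ => ?_
  rw [← coef_spec hf χ, ← coef_spec hf' χ, h χ]

/-- A class function on the torus products. -/
theorem sums_eq (b : Bool) (cmb : A5 → ℂ)
    (hcmb : ∀ x, cmb x = ((![15, (if b then -1 else 3), 0, 0, 0] : Fin 5 → ℤ) (cls x) : ℂ))
    (l : W.A →* ℂˣ) (χ : Cfsg.IrrCharacter G) :
    (Nat.card (W.A × A5) : ℂ)⁻¹ * ∑ m : W.A × A5, (1 - (l m.1 : ℂ)) * cmb m.2 * conj ((χ : G → ℂ) (d.ι m)) =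
      (Nat.card (W.A × (Z₂ × Z₂)) : ℂ)⁻¹ *
        ∑ m, W.phi l b m * conj ((χ : G → ℂ) (W.emb m)) := by
  classical
  have hχ := irr_isClassFunction χ
  have hA : (Nat.card W.A : ℂ) ≠ 0 := natCard_ne_zero
  have hper : ∀ a : W.A, 4 * ∑ x : A5, cmb x * conj ((χ : G → ℂ) (d.ι (a, x))) =
      60 * ∑ w : Z₂ × Z₂, (mu b w : ℂ) * conj ((χ : G → ℂ) (W.emb (a, w))) := by
    intro a
    set u : Fin 5 → ℂ := fun c => conj ((χ : G → ℂ) (d.ι (a, J1Order.Alt.rep c))) with hu
    have hval : ∀ x : A5, conj ((χ : G → ℂ) (d.ι (a, x))) = u (cls x) := by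
      intro x
      obtain ⟨y, hy⟩ := exists_conj_rep x
      show _ = conj _
      congr 1
      rw [← hχ (d.ι (a, J1Order.Alt.rep (cls x))) (d.ι (1, y)), ← map_inv, ← map_mul, ← map_mul]
      refine congrArg (fun m : W.A × A5 => (χ : G → ℂ) (d.ι m)) (Prod.ext ?_ ?_)
      · simp
      · simpa using hy
    have hw : ∀ w : Z₂ × Z₂, conj ((χ : G → ℂ) (W.emb (a, w))) = if w = 1 then u 0 else u 1 := by
      intro w
      obtain ⟨x, hx⟩ := d.four w
      have he : W.emb (a, w) = d.ι (a, x) := by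
        rw [W.emb_apply, ← hx, ← d.fst a, ← map_mul]; simp
      rw [he, hval x]
      split_ifs with h
      · subst h
        rw [map_one] at hx
        rw [show x = 1 from congrArg Prod.snd (d.inj (hx.trans (map_one _).symm))]
        rfl
      · rw [d.four_cls h hx]
    simp only [hcmb, hval, hw]
    rw [a5_class_sum (fun c => (((![15, (if b then -1 else 3), 0, 0, 0] : Fin 5 → ℤ) c : ℤ) : ℂ) * u c)]
    have hsplit : ∀ w : Z₂ × Z₂, (mu b w : ℂ) * (if w = 1 then u 0 else u 1) =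
        (mu b w : ℂ) * u 0 + ((mu b w : ℂ) * if w = 1 then 0 else 1) * (u 1 - u 0) := by
      intro w; split_ifs <;> ring
    simp only [hsplit, Finset.sum_add_distrib, ← Finset.sum_mul, sum_mu_ne, sum_mu]
    cases b <;> simp <;> ring
  rw [d.card_M, W.card_B, Fintype.sum_prod_type, Fintype.sum_prod_type]
  simp only [phi, mul_assoc, ← Finset.mul_sum]
  rw [Finset.mul_sum, Finset.mul_sum]
  refine Finset.sum_congr rfl fun a _ => ?_
  have h := hper a
  push_cast
  field_simp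
  linear_combination (1 - (l a : ℂ)) * h

theorem fn_false5 (l : W.A →* ℂˣ) (g : G) :
    W.fn l false g = d.F5 l 0 g + d.F5 l 3 g + 2 * d.F5 l 4 g := by
  have hgen := isGen_add (isGen_add (d.isGen_F5 l 0) (d.isGen_F5 l 3)) (isGen_intSmul (d.isGen_F5 l 4) 2)
  have key : W.fn l false = d.F5 l 0 + d.F5 l 3 + ((2 : ℤ) : ℂ) • d.F5 l 4 := by
    refine d.ext_of_inner (W.isGen_fn l false) hgen fun χ => ?_
    have hχ := irr_isClassFunction χ
    rw [classInner_add_left, classInner_add_left, classInner_smul_left, fn, F5, F5, F5,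
      Embed.inner_indHom _ _ hχ, Embed.inner_indHom _ _ hχ, Embed.inner_indHom _ _ hχ,
      Embed.inner_indHom _ _ hχ, ← d.sums_eq false (fun x => ch 0 x + ch 3 x + 2 * ch 4 x)
        (fun x => by rw [FiveA5.ch_false]; simp) l χ]
    simp only [phi5, Int.cast_ofNat, mul_add, add_mul, Finset.sum_add_distrib, Finset.mul_sum]
    congr 1
    exact Finset.sum_congr rfl fun m _ => by ring
  simpa using congrFun key g

theorem fn_true5 (l : W.A →* ℂˣ) (g : G) :
    W.fn l true g = d.F5 l 1 g + d.F5 l 2 g + d.F5 l 3 g + d.F5 l 4 g := by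
  have hgen := isGen_add (isGen_add (isGen_add (d.isGen_F5 l 1) (d.isGen_F5 l 2)) (d.isGen_F5 l 3))
    (d.isGen_F5 l 4)
  have key : W.fn l true = d.F5 l 1 + d.F5 l 2 + d.F5 l 3 + d.F5 l 4 := by
    refine d.ext_of_inner (W.isGen_fn l true) hgen fun χ => ?_
    have hχ := irr_isClassFunction χ
    rw [classInner_add_left, classInner_add_left, classInner_add_left, fn, F5, F5, F5, F5,
      Embed.inner_indHom _ _ hχ, Embed.inner_indHom _ _ hχ, Embed.inner_indHom _ _ hχ,
      Embed.inner_indHom _ _ hχ, Embed.inner_indHom _ _ hχ,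
      ← d.sums_eq true (fun x => ch 1 x + ch 2 x + ch 3 x + ch 4 x)
        (fun x => by rw [FiveA5.ch_true]; simp) l χ]
    simp only [phi5, mul_add, add_mul, Finset.sum_add_distrib]
  simpa using congrFun key g

include hL in
theorem pairCount5 {m : W.A × A5} (hm : m.1 ≠ 1) :
    pairCount H.t (d.ι m) = Nat.card W.A * invCount (cls m.2) := by
  classical
  obtain ⟨a, x⟩ := m
  haveI := W.A_cyclic
  letI := IsCyclic.commGroup (α := W.A)
  have hsc : ∀ p : W.A × A5, W.s * d.ι p * (W.s * d.ι p) = d.ι (1, p.2 * p.2) := fun p => by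
    calc W.s * d.ι p * (W.s * d.ι p) = W.s * d.ι p * W.s⁻¹ * d.ι p := by
          rw [inv_eq_of_mul_eq_one_left W.ss]; group
      _ = d.ι (1, p.2 * p.2) := by
          rw [d.sc, ← map_mul]
          congr 1
          exact Prod.ext (inv_mul_cancel p.1) rfl
  have hinv : ∀ p : W.A × A5, p.2 * p.2 = 1 → orderOf (W.s * d.ι p) = 2 := fun p hp =>
    orderOf_eq_prime (by rw [sq, hsc, hp]; exact map_one _) fun h => d.s_range hm p⁻¹ (by
      rw [map_inv]; exact (eq_inv_of_mul_eq_one_left h).symm)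
  have hcard : Nat.card {p : W.A × A5 // p.2 * p.2 = 1 ∧ p.2 * x * (p.2 * x) = 1} =
      Nat.card W.A * invCount (cls x) := by
    rw [← FiveA5.invCount_eq x, ← Fintype.card_subtype, ← Nat.card_eq_fintype_card, ← Nat.card_prod]
    exact Nat.card_congr
      { toFun := fun p => (p.1.1, ⟨p.1.2, p.2⟩)
        invFun := fun p => ⟨(p.1, p.2.1), p.2.2⟩
        left_inv := fun _ => rfl
        right_inv := fun _ => rfl }
  rw [← hcard, pairCount]
  symm
  refine Nat.card_congr (Equiv.ofBijective (fun p => (⟨W.s * d.ι p.1, hL.fused _ (hinv _ p.2.1),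
    hL.fused _ (by rw [mul_assoc, ← map_mul]; exact hinv _ p.2.2)⟩ :
      {y : G // IsConj H.t y ∧ IsConj H.t (y * d.ι (a, x))})) ⟨fun p q h => ?_, fun y => ?_⟩)
  · exact Subtype.ext (d.inj (mul_left_cancel (congrArg Subtype.val h)))
  · obtain ⟨y, hy1, hy2⟩ := y
    rw [H.isConj_iff_two hL] at hy1 hy2
    have e1 := sq_of_two hy1
    have e2 := sq_of_two hy2
    have hyinv : y * d.ι (a, x) * y⁻¹ = (d.ι (a, x))⁻¹ := by
      rw [inv_eq_of_mul_eq_one_left e1]
      exact eq_inv_of_mul_eq_one_left (by simpa [mul_assoc] using e2)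
    obtain ⟨k, hk, hka⟩ := d.ι_pow (a, x)
    have ha : y * (a : G) * y⁻¹ = (a : G)⁻¹ := by
      show y * ((a, x) : W.A × A5).1 * y⁻¹ = ((((a, x) : W.A × A5).1 : W.A) : G)⁻¹
      rw [← hka, ← conj_pow, hyinv, inv_pow]
    have hc : Commute (W.s * y) (a : G) := by
      show _ = _
      calc W.s * y * a = W.s * (y * a * y⁻¹) * y := by group
        _ = W.s * (a : G)⁻¹ * W.s⁻¹ * (W.s * y) := by rw [ha]; group
        _ = _ := by rw [W.A_s _ (inv_mem a.2), inv_inv]
    obtain ⟨p, hp⟩ := d.cent a hm _ hc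
    have hy : W.s * d.ι p = y := by rw [hp, ← mul_assoc, W.ss, one_mul]
    have h1 : p.2 * p.2 = 1 := by
      have := hsc p
      rw [hy, e1] at this
      exact congrArg Prod.snd (d.inj (this.symm.trans (map_one _).symm))
    have h2 : p.2 * x * (p.2 * x) = 1 := by
      have := hsc (p * (a, x))
      have h' : W.s * d.ι (p * (a, x)) = y * d.ι (a, x) := by rw [map_mul, ← mul_assoc, hy]
      rw [h', e2] at this
      exact congrArg Prod.snd (d.inj (this.symm.trans (map_one _).symm))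
    exact ⟨⟨p, h1, h2⟩, Subtype.ext hy⟩

include hL in
theorem recip5 {l : W.A →* ℂˣ} (hl : l ≠ 1) (j : Fin 5) :
    (Nat.card G : ℂ) * ∑ χ, (coef (d.F5 l j) χ : ℂ) * ((χ : G → ℂ) H.t) ^ 2 / (χ : G → ℂ) 1 =
      (Nat.card H.C : ℂ) ^ 2 * ((Nat.card W.A : ℂ) * fiveRecip j) := by
  rw [F5, Embed.recip d.inj _ (isGen_phi5 l j) W.tt, d.card_M,
    d.sum_phi5 hl j (fun m => (pairCount H.t (d.ι m) : ℂ))
      (fun x => ((Nat.card W.A * invCount (cls x) : ℕ) : ℂ)) fun m hm => by rw [d.pairCount5 hL hm]]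
  have hA : (Nat.card W.A : ℂ) ≠ 0 := natCard_ne_zero
  have hs := FiveA5.sum_pairs j
  have hrw : ∑ x : A5, ch j x * ((Nat.card W.A * invCount (cls x) : ℕ) : ℂ) =
      (Nat.card W.A : ℂ) * ∑ x : A5, ch j x * (invCount (cls x) : ℂ) := by
    rw [Finset.mul_sum]
    exact Finset.sum_congr rfl fun x _ => by push_cast; ring
  have hrecip : (15 : ℂ) * fiveRecip j = ((![64, 12, 12, 1, 20] : Fin 5 → ℤ) j : ℂ) := by
    fin_cases j <;> simp [fiveRecip] <;> norm_num
  rw [hrw]
  push_cast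
  field_simp
  linear_combination hs / 15 + (-4 : ℂ) * hrecip

theorem galois5 (σ : ℂ ≃+* ℂ) (hσ : ∀ w : ℂ, w ^ 5 = 1 → σ w = w ^ 2) (l : W.A →* ℂˣ) (j : Fin 5) (g : G) :
    σ (d.F5 l j g) = d.F5 ((Units.map σ.toRingHom.toMonoidHom).comp l) (Equiv.swap 1 2 j) g := by
  classical
  simp only [F5, Embed.indHom, Cfsg.indFun, map_mul, map_inv₀, map_natCast, map_sum]
  congr 1
  refine Finset.sum_congr rfl fun x _ => ?_
  by_cases hx : x⁻¹ * g * x ∈ d.ι.range
  · rw [CharTheory.IndBasic.extendByZero_of_mem _ _ hx, CharTheory.IndBasic.extendByZero_of_mem _ _ hx]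
    simp [phi5, FiveA5.galois σ hσ]
  · rw [CharTheory.IndBasic.extendByZero_of_notMem _ _ hx, CharTheory.IndBasic.extendByZero_of_notMem _ _ hx,
      map_zero]

end FiveData

/-- The functions attached to `A × A₅`. -/
theorem five_exists [Fintype (Cfsg.IrrCharacter G)] : W.FiveExists := by
  intro hL hF
  obtain ⟨d⟩ := W.exists_fiveData hL hF
  exact ⟨d.zA, d.F5,
    { gen := d.isGen_F5
      inner := fun l l' hl hl' _ _ j k => d.inner_F5 hL hl hl' j k
      triv := fun l hl j => d.inner_triv5 hl j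
      theta := fun l hl j i => d.inner_theta5 hL hl j i
      one := d.F5_one
      at_t := d.F5_t
      fn_false := d.fn_false5
      fn_true := d.fn_true5
      recip := fun l hl j => d.recip5 hL hl j
      galois := d.galois5 }⟩

end Cfsg.Agent.JT.Setup.Torus
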