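import Mathlib
import Cfsg.Agent.Lib.GL2.PSLProducts
import Cfsg.Agent.Lib.GL2.PSLClassSizes
import Cfsg.Agent.Lib.GL2.CuspidalTorusValues
import Cfsg.Agent.BlocksChars.SL2Degrees

/-!
# The torus of the centralizer of an involution of `PSL₂(q)`, seen in `SL₂(q)`

`OnTorus g`: `4 - (tr g)²` is a nonzero square.  The elements of `PSL₂(q)` of even order, and the
elements other than `1` commuting with an involution, come from such `g`; they are split or elliptic
according as `-1` is a square or not.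
-/

set_option autoImplicit false
set_option linter.unusedSectionVars false

open Matrix
open scoped MatrixGroups

namespace Cfsg.Agent.JT.KD

open Cfsg.Agent.GL2 Cfsg.Agent.GL2.Borel Cfsg.Agent.GL2.PrincipalSL Cfsg.Agent.GL2.ClassifySL
open Cfsg.Agent.GL2.CountsSL Cfsg.Agent.GL2.PSLProducts Cfsg.Agent.BlocksChars.SL2Degrees
open Cfsg.Agent.Characters

universe u

variable {F : Type u} [Field F]

/-- `4 - (tr g)²` is a nonzero square. -/
def OnTorus (g : SL(2, F)) : Prop :=
  ∃ b : F, b ≠ 0 ∧ 4 - (g : Matrix (Fin 2) (Fin 2) F).trace ^ 2 = b ^ 2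

theorem OnTorus.trace_ne {g : SL(2, F)} (h : OnTorus g) :
    (g : Matrix (Fin 2) (Fin 2) F).trace ^ 2 ≠ 4 := by
  obtain ⟨b, hb, e⟩ := h
  intro h4
  rw [h4, sub_self] at e
  exact pow_ne_zero 2 hb e.symm

variable [Fintype F] [DecidableEq F]

theorem negOne_mem_center : (negOne : SL(2, F)) ∈ Subgroup.center SL(2, F) :=
  Subgroup.mem_center_iff.2 fun g => (negOne_comm g).symm

theorem OnTorus.neg {g : SL(2, F)} (h : OnTorus g) : OnTorus (negOne * g) := by
  obtain ⟨b, hb, e⟩ := h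
  refine ⟨b, hb, ?_⟩
  rw [Matrix.SpecialLinearGroup.coe_mul, coe_negOne, neg_mul, one_mul, trace_neg, neg_sq]
  exact e

theorem negOne_eq : Classical.TorusNormalizer.negOne F = (negOne : SL(2, F)) :=
  Subtype.ext (by rw [coe_negOne, Classical.TorusNormalizer.coe_negOne])

theorem toPSL_eq_one {g : SL(2, F)} : toPSL g = 1 ↔ g = 1 ∨ g = negOne := by
  rw [QuotientGroup.eq_one_iff]
  refine ⟨center_cases, ?_⟩
  rintro (rfl | rfl)
  · exact one_mem _
  · exact negOne_mem_center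

theorem negOne_ne_one (h2 : (2 : F) ≠ 0) : (negOne : SL(2, F)) ≠ 1 := fun e => by
  have := congrFun (congrFun (congrArg Subtype.val e) 0) 0
  simp [negOne] at this
  exact h2 (by linear_combination -this)

/-- Value of a character at `-g`. -/
theorem value_neg {χ : SL(2, F) → ℂ} (hχ : Cfsg.IsIrrCharacter SL(2, F) χ) (g : SL(2, F)) :
    χ (negOne * g) = χ negOne * χ g / χ 1 :=
  by rw [negOne_comm g, (center_mul hχ negOne_comm g).1, mul_comm (χ g)]

theorem exists_split (h2 : (2 : F) ≠ 0) (hs : IsSquare (-1 : F)) {g : SL(2, F)} (hg : OnTorus g) :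
    ∃ p : Fˣ, p ≠ p⁻¹ ∧ IsConj (mkS p 0) g := by
  have hne := hg.trace_ne
  obtain ⟨b, hb, e⟩ := hg
  obtain ⟨i, hi⟩ := hs
  set t := (g : Matrix (Fin 2) (Fin 2) F).trace with ht
  have hi0 : i ≠ 0 := fun h => by rw [h, mul_zero] at hi; exact one_ne_zero (neg_eq_zero.1 hi)
  have hpq : (t + i * b) / 2 * ((t - i * b) / 2) = 1 := by
    field_simp
    linear_combination b ^ 2 * hi - e
  let p : Fˣ := Units.mkOfMulEqOne _ _ hpq
  have hp : (p : F) = (t + i * b) / 2 := rfl
  have hp' : ((p⁻¹ : Fˣ) : F) = (t - i * b) / 2 := by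
    rw [Units.val_inv_eq_inv_val, hp]
    exact inv_eq_of_mul_eq_one_right hpq
  refine ⟨p, fun h => ?_, ?_⟩
  · have := congrArg (Units.val : Fˣ → F) h
    rw [hp', hp] at this
    have h0 : i * b = 0 := by
      have h' := congrArg (· * 2) this
      simp only [div_mul_cancel₀ _ h2] at h'
      have h2ib : 2 * (i * b) = 0 := by linear_combination h'
      exact (mul_eq_zero.1 h2ib).resolve_left h2
    exact mul_ne_zero hi0 hb h0
  · have htr : ((mkS p 0 : SL(2, F)) : Matrix (Fin 2) (Fin 2) F).trace = t := by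
      rw [coe_mkS, trace_fin_two]
      simp only [of_apply, cons_val', cons_val_zero, cons_val_one, empty_val', cons_val_fin_one]
      rw [hp', hp]
      field_simp
      ring
    exact isConj_of_trace htr (by rw [htr]; exact hne)

theorem no_eigen (hs : ¬ IsSquare (-1 : F)) {g : SL(2, F)} (hg : OnTorus g) (c : F)
    (v : Fin 2 → F) (hv : v ≠ 0) : (g : Matrix (Fin 2) (Fin 2) F) *ᵥ v ≠ c • v := by
  obtain ⟨b, hb, e⟩ := hg
  intro h
  have hd : ((g : Matrix (Fin 2) (Fin 2) F) - c • 1).det = 0 :=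
    Matrix.exists_mulVec_eq_zero_iff.1 ⟨v, hv, by
      rw [sub_mulVec, h, smul_mulVec, one_mulVec, sub_self]⟩
  have hg1 := Matrix.SpecialLinearGroup.det_coe g
  rw [det_fin_two] at hd hg1
  rw [trace_fin_two] at e
  simp at hd
  refine hs ⟨((g : Matrix (Fin 2) (Fin 2) F) 0 0 + (g : Matrix (Fin 2) (Fin 2) F) 1 1 - 2 * c) / b, ?_⟩
  field_simp
  linear_combination e - 4 * hd + 4 * hg1

/-- A non-scalar element commuting with an element of square `-1`. -/
theorem of_commute (h2 : (2 : F) ≠ 0) {g w : SL(2, F)} (hw : w * w = negOne)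
    (hc : g * w = w * g) (hg : ¬ Classes.IsScalar (g : Matrix (Fin 2) (Fin 2) F)) : OnTorus g := by
  have hww : (w : Matrix (Fin 2) (Fin 2) F) * w = -1 := by
    rw [← Matrix.SpecialLinearGroup.coe_mul, hw, coe_negOne]
  have hns : ¬ Classes.IsScalar (w : Matrix (Fin 2) (Fin 2) F) := by
    rintro ⟨c, hc'⟩
    have hd := Matrix.SpecialLinearGroup.det_coe w
    rw [hc'] at hd hww
    simp at hd
    have := congrFun (congrFun hww 0) 0
    simp at this
    rcases hd with rfl | rfl <;> exact h2 (by linear_combination this)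
  have htr : (w : Matrix (Fin 2) (Fin 2) F).trace = 0 := by
    have h := cayley w
    rw [hww] at h
    have h0 : (w : Matrix (Fin 2) (Fin 2) F).trace • (w : Matrix (Fin 2) (Fin 2) F) = 0 := by
      have := congrArg (· + 1) h
      simpa using this.symm
    rcases smul_eq_zero.1 h0 with h' | h'
    · exact h'
    · rw [h', trace_zero]
  obtain ⟨a, b, hab⟩ := (Classes.commute_iff hns (g : Matrix (Fin 2) (Fin 2) F)).1 (by
    rw [← Matrix.SpecialLinearGroup.coe_mul, hc, Matrix.SpecialLinearGroup.coe_mul])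
  have hdet := Matrix.SpecialLinearGroup.det_coe g
  rw [hab, show (a • (1 : Matrix (Fin 2) (Fin 2) F) + b • (w : Matrix (Fin 2) (Fin 2) F)) =
    (a, b).1 • (1 : Matrix (Fin 2) (Fin 2) F) + (a, b).2 • (w : Matrix (Fin 2) (Fin 2) F) from rfl,
    Classes.det_comb, Classes.normForm, htr, Matrix.SpecialLinearGroup.det_coe w] at hdet
  refine ⟨2 * b, mul_ne_zero h2 fun hb => hg ⟨a, ?_⟩, ?_⟩
  · rw [hab, hb, zero_smul, add_zero]
  · rw [hab, trace_add, trace_smul, trace_smul, htr, trace_one, Fintype.card_fin]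
    simp only [smul_eq_mul, Nat.cast_ofNat] at hdet ⊢
    linear_combination -4 * hdet

theorem lift_invol (h2 : (2 : F) ≠ 0) {w : SL(2, F)} (hw : orderOf (toPSL w) = 2) :
    w * w = negOne := by
  have h1 : toPSL (w * w) = 1 := by
    rw [show toPSL (w * w) = toPSL w ^ 2 by rw [sq]; rfl, ← orderOf_dvd_iff_pow_eq_one, hw]
  refine ((toPSL_eq_one.1 h1).resolve_left fun e => ?_)
  have hne : toPSL w ≠ 1 := fun e' => by rw [e', orderOf_one] at hw; omega
  rcases CuspidalTorus.eq_one_or_negOne h2 e with rfl | h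
  · exact hne rfl
  · exact hne (toPSL_eq_one.2 (Or.inr (by rw [h]; exact negOne_eq)))

/-- Elements of even order. -/
theorem of_even (h2 : (2 : F) ≠ 0) {g : SL(2, F)} (hg : Even (orderOf (toPSL g))) : OnTorus g := by
  obtain ⟨j, hj⟩ := hg
  have hpos := orderOf_pos (toPSL g)
  have hne : toPSL g ≠ 1 := fun e => by rw [e, orderOf_one] at hj; omega
  refine of_commute h2 (lift_invol h2 (w := g ^ j) ?_) ((Commute.self_pow g j).eq)
    fun hs => hne ((toPSL_eq_one_iff g).2 hs)
  rw [show toPSL (g ^ j) = toPSL g ^ j from rfl, orderOf_pow_of_dvd (by omega) ⟨2, by omega⟩, hj]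
  exact Nat.div_eq_of_eq_mul_left (by omega) (by omega)

/-- Elements commuting with an involution. -/
theorem of_comm_invol (h2 : (2 : F) ≠ 0) {g : SL(2, F)} (hne : toPSL g ≠ 1)
    {k : Matrix.ProjectiveSpecialLinearGroup (Fin 2) F} (hk : orderOf k = 2)
    (hc : Commute k (toPSL g)) : OnTorus g := by
  obtain ⟨w, rfl⟩ := QuotientGroup.mk_surjective k
  have hns : ¬ Classes.IsScalar (g : Matrix (Fin 2) (Fin 2) F) := fun hs => hne ((toPSL_eq_one_iff g).2 hs)
  have hw := lift_invol h2 (w := w) hk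
  have h1 : toPSL (g * w * g⁻¹ * w⁻¹) = 1 := by
    show toPSL g * toPSL w * (toPSL g)⁻¹ * (toPSL w)⁻¹ = 1
    rw [hc.symm.eq]; group
  rcases toPSL_eq_one.1 h1 with e | e
  · refine of_commute h2 hw ?_ hns
    calc g * w = g * w * g⁻¹ * w⁻¹ * (w * g) := by group
      _ = w * g := by rw [e, one_mul]
  rcases (orderOf (toPSL g)).even_or_odd with he | ho
  · exact of_even h2 he
  exfalso
  -- an odd power of `g` is central
  have hz : ∀ m : ℕ, g ^ m * w * (g ^ m)⁻¹ = negOne ^ m * w := by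
    intro m
    induction m with
    | zero => simp
    | succ m ih =>
      calc g ^ (m + 1) * w * (g ^ (m + 1))⁻¹ = g * (g ^ m * w * (g ^ m)⁻¹) * g⁻¹ := by
            rw [pow_succ']; group
        _ = (g * negOne ^ m) * w * g⁻¹ := by rw [ih]; group
        _ = (negOne ^ m * g) * w * g⁻¹ := by
            rw [((Commute.pow_left (negOne_comm g : Commute negOne g) m)).eq]
        _ = negOne ^ m * (g * w * g⁻¹ * w⁻¹) * w := by group
        _ = negOne ^ (m + 1) * w := by rw [e, pow_succ]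
  have hcz : g ^ orderOf (toPSL g) ∈ Subgroup.center SL(2, F) := by
    rw [← QuotientGroup.eq_one_iff, QuotientGroup.mk_pow]
    exact pow_orderOf_eq_one _
  have h3 := hz (orderOf (toPSL g))
  rw [← (Subgroup.mem_center_iff.1 hcz w), mul_inv_cancel_right] at h3
  obtain ⟨m, hm⟩ := ho
  rw [hm, pow_succ, pow_mul, sq, negOne_mul_self, one_pow, one_mul] at h3
  exact negOne_ne_one h2 (mul_eq_right.1 h3.symm)

theorem mkS_pow (p : Fˣ) (m : ℕ) : (mkS p 0 : SL(2, F)) ^ m = mkS (p ^ m) 0 := by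
  induction m with
  | zero => ext i j; fin_cases i <;> fin_cases j <;> simp
  | succ m ih =>
    rw [pow_succ, ih]
    ext i j
    fin_cases i <;> fin_cases j <;>
      simp [Matrix.SpecialLinearGroup.coe_mul, Matrix.mul_apply, Fin.sum_univ_two, pow_succ, mul_comm]

theorem mkS_eq_one_iff (p : Fˣ) : (mkS p 0 : SL(2, F)) = 1 ↔ p = 1 := by
  constructor
  · intro e
    have := congrFun (congrFun (congrArg Subtype.val e) 0) 0
    simp at this
    exact this
  · rintro rfl
    ext i j; fin_cases i <;> fin_cases j <;> simp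

theorem pow_torus_split (h2 : (2 : F) ≠ 0) (hs : IsSquare (-1 : F)) {g : SL(2, F)} (hg : OnTorus g) :
    g ^ (Fintype.card F - 1) = 1 := by
  obtain ⟨p, -, hc⟩ := exists_split h2 hs hg
  obtain ⟨x, rfl⟩ := isConj_iff.1 hc
  rw [conj_pow, conj_eq_one_iff, mkS_pow, mkS_eq_one_iff, ← Fintype.card_units, pow_card_eq_one]

theorem pow_torus_elliptic (hs : ¬ IsSquare (-1 : F)) {g : SL(2, F)} (hg : OnTorus g) :
    g ^ (Fintype.card F + 1) = 1 := by
  refine pow_card_succ_of_no_root g fun r hr => ?_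
  obtain ⟨b, hb, e⟩ := hg
  refine hs ⟨(2 * r - (g : Matrix (Fin 2) (Fin 2) F).trace) / b, ?_⟩
  field_simp
  linear_combination e - 4 * hr

/-- The parity of the order in `PSL₂`. -/
theorem pow_half_iff (h2 : (2 : F) ≠ 0) {n : ℕ} (hn : n % 4 = 2) {g : SL(2, F)}
    (hg : g ^ (2 * n) = 1) : g ^ n = 1 ↔ Odd (orderOf (toPSL g)) := by
  obtain ⟨r, hr, rfl⟩ : ∃ r, Odd r ∧ n = 2 * r := ⟨n / 2, Nat.odd_iff.2 (by omega), by omega⟩
  constructor
  · intro h
    have h1 : (g ^ r) * (g ^ r) = 1 := by rw [← pow_add, ← two_mul, h]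
    have h3 : toPSL g ^ r = 1 := by
      show toPSL (g ^ r) = 1
      refine toPSL_eq_one.2 ((CuspidalTorus.eq_one_or_negOne h2 h1).imp id fun e => ?_)
      rw [e]; exact negOne_eq
    exact hr.of_dvd_nat (orderOf_dvd_of_pow_eq_one h3)
  · intro ho
    set m := orderOf (toPSL g)
    have hm : g ^ (2 * m) = 1 := by
      rcases toPSL_eq_one.1 (show toPSL (g ^ m) = 1 from pow_orderOf_eq_one (toPSL g)) with e | e
      · rw [pow_mul', e, one_pow]
      · rw [pow_mul', e, sq, negOne_mul_self]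
    rw [← orderOf_dvd_iff_pow_eq_one] at hm hg ⊢
    have hd := Nat.dvd_gcd hm hg
    rw [Nat.gcd_mul_left] at hd
    refine hd.trans (Nat.mul_dvd_mul_left 2 ?_)
    have hco : Nat.Coprime m 2 := Nat.coprime_two_right.2 ho
    exact hco.coprime_dvd_left (Nat.gcd_dvd_left _ _) |>.dvd_of_dvd_mul_left (Nat.gcd_dvd_right _ _)

/-- An element of square `-1`. -/
theorem exists_sq_negOne : ∃ w : SL(2, F), w * w = negOne ∧
    ¬ Classes.IsScalar (w : Matrix (Fin 2) (Fin 2) F) := by
  refine ⟨⟨!![0, 1; -1, 0], by simp [det_fin_two]⟩, Subtype.ext ?_, ?_⟩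
  · show (!![0, 1; -1, 0] : Matrix (Fin 2) (Fin 2) F) * !![0, 1; -1, 0] = _
    rw [coe_negOne]
    ext i j
    fin_cases i <;> fin_cases j <;> simp [Matrix.mul_apply, Fin.sum_univ_two]
  · simp [Classes.isScalar_iff]

/-! ### Values -/

variable {χ : SL(2, F) → ℂ}

theorem half_torus (hodd : Odd (Fintype.card F)) (hs : IsSquare (-1 : F))
    (hχ : Cfsg.IsIrrCharacter SL(2, F) χ) (hk : Kind 3 χ) {g : SL(2, F)} (hg : OnTorus g) :
    (g ^ ((Fintype.card F - 1) / 2) = 1 → χ g = 1) ∧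
      (g ^ ((Fintype.card F - 1) / 2) ≠ 1 → χ g = -1) := by
  have h2 := GL2.Counts.two_ne_zero_of_odd hodd
  obtain ⟨p, hp, hc⟩ := exists_split h2 hs hg
  have hv := CuspidalTorusValues.half_diag hodd hχ ((kind_cases hχ).2.2.2 hk) hp
  rw [ClassifyGL.classFun_eq_of_isConj (char_isClassFunction (isCharacter_of_isIrr hχ)) hc]
  obtain ⟨x, rfl⟩ := isConj_iff.1 hc
  have hiff : (x * mkS p 0 * x⁻¹) ^ ((Fintype.card F - 1) / 2) = 1 ↔ IsSquare (p : F) := by
    have hring : ringChar F ≠ 2 := fun h => h2 (by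
      rw [show (2 : F) = ((2 : ℕ) : F) by norm_num, ← h, ringChar.Nat.cast_ringChar])
    rw [conj_pow, conj_eq_one_iff, mkS_pow, mkS_eq_one_iff,
      FiniteField.isSquare_iff hring p.ne_zero, ← Units.val_eq_one, Units.val_pow_eq_pow_val,
      show Fintype.card F / 2 = (Fintype.card F - 1) / 2 by rw [Nat.odd_iff] at hodd; omega]
  exact ⟨fun h => hv.1 (hiff.1 h), fun h => hv.2 (mt hiff.2 h)⟩

theorem cusp_torus (hodd : Odd (Fintype.card F)) (hs : ¬ IsSquare (-1 : F))
    (hχ : Cfsg.IsIrrCharacter SL(2, F) χ) (hk : Kind 5 χ) {g : SL(2, F)} (hg : OnTorus g) :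
    (g ^ ((Fintype.card F + 1) / 2) = 1 → χ g = -1) ∧
      (g ^ ((Fintype.card F + 1) / 2) ≠ 1 → χ g = 1) := by
  refine CuspidalTorusValues.cusp_half_values hodd hχ (hk.1.2 rfl) ?_ g (no_eigen hs hg)
  rw [hk.2]
  simp [deg2, GL2.CountsSL.cast_sub_one]

theorem three_negOne (hodd : Odd (Fintype.card F)) (h5 : 5 < Fintype.card F)
    (hs : ¬ IsSquare (-1 : F)) (hχ : Cfsg.IsIrrCharacter SL(2, F) χ) (hk : Kind 3 χ) :
    χ negOne = -χ 1 := by
  classical
  obtain ⟨s, hs0⟩ : ∃ s : F, s ∉ ({0, 1, -1} : Finset F) := by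
    refine not_forall.1 fun h => ?_
    have h3 := Finset.card_le_card (s := (Finset.univ : Finset F)) fun s _ => h s
    have := (Finset.card_le_three (a := (0 : F)) (b := 1) (c := -1))
    rw [Finset.card_univ] at h3
    omega
  simp only [Finset.mem_insert, Finset.mem_singleton, not_or] at hs0
  let p : Fˣ := Units.mk0 (s * s) (mul_ne_zero hs0.1 hs0.1)
  have hp2 : (p : F) * p ≠ 1 := by
    intro h
    rcases mul_self_eq_one_iff.1 h with h' | h'
    · rcases mul_self_eq_one_iff.1 h' with h'' | h''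
      · exact hs0.2.1 h''
      · exact hs0.2.2 h''
    · exact hs ⟨s, h'.symm⟩
  have hp : p ≠ p⁻¹ := fun h => hp2 (by rw [← Units.val_mul]; nth_rw 2 [h]; simp)
  have hm : -p ≠ (-p)⁻¹ := fun h => hp2 (by
    have : ((-p : Fˣ) : F) * (-p : Fˣ) = 1 := by rw [← Units.val_mul]; nth_rw 2 [h]; simp
    simpa using this)
  have h1 := (CuspidalTorusValues.half_diag hodd hχ ((kind_cases hχ).2.2.2 hk) hp).1 ⟨s, rfl⟩
  have h3 := (CuspidalTorusValues.half_diag hodd hχ ((kind_cases hχ).2.2.2 hk) hm).2 (by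
    rintro ⟨r, hr⟩
    refine hs ⟨r / s, ?_⟩
    have hp' : -(s * s) = r * r := by simpa [p] using hr
    field_simp [hs0.1]
    linear_combination hp')
  rw [show mkS (-p) 0 = negOne * mkS p 0 from Subtype.ext (by
    rw [Matrix.SpecialLinearGroup.coe_mul, coe_negOne, neg_mul, one_mul]
    ext i j; fin_cases i <;> fin_cases j <;> simp [inv_neg]), value_neg hχ, h1, mul_one,
    div_eq_iff (irr_one_ne_zero hχ)] at h3
  rw [h3, neg_one_mul]

theorem five_negOne (hodd : Odd (Fintype.card F)) (h5 : 5 < Fintype.card F)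
    (hn : Odd ((Fintype.card F + 1) / 2)) (hχ : Cfsg.IsIrrCharacter SL(2, F) χ) (hk : Kind 5 χ) :
    χ negOne = -χ 1 := by
  have h2 := GL2.Counts.two_ne_zero_of_odd hodd
  obtain ⟨t, -, ht⟩ := PSLClassSizes.exists_elliptic_trace (F := F) (by omega)
  let g : SL(2, F) := ⟨Classes.companion t 1, Classes.det_companion t 1⟩
  have htr : (g : Matrix (Fin 2) (Fin 2) F).trace = t := Classes.trace_companion t 1
  have hne : ∀ (h : SL(2, F)), (h : Matrix (Fin 2) (Fin 2) F).trace ^ 2 = t ^ 2 →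
      ∀ (c : F) (v : Fin 2 → F), v ≠ 0 → (h : Matrix (Fin 2) (Fin 2) F) *ᵥ v ≠ c • v := by
    intro h hh c v hv e
    have hd : ((h : Matrix (Fin 2) (Fin 2) F) - c • 1).det = 0 :=
      Matrix.exists_mulVec_eq_zero_iff.1 ⟨v, hv, by rw [sub_mulVec, e, smul_mulVec, one_mulVec, sub_self]⟩
    have h1 := Matrix.SpecialLinearGroup.det_coe h
    rw [det_fin_two] at hd h1
    rw [trace_fin_two] at hh
    simp at hd
    rcases sq_eq_sq_iff_eq_or_eq_neg.1 hh with hh | hh
    · exact ht c (by rw [← hh]; linear_combination hd - h1)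
    · exact ht (-c) (by rw [show t = -((h : Matrix (Fin 2) (Fin 2) F) 0 0 + (h : Matrix (Fin 2) (Fin 2) F) 1 1) by
        rw [hh, neg_neg]]; linear_combination hd - h1)
  have hdeg : 2 * χ 1 = (Fintype.card F : ℂ) - 1 := by
    rw [hk.2]; simp [deg2, GL2.CountsSL.cast_sub_one]
  have hv1 := CuspidalTorusValues.cusp_half_values hodd hχ (hk.1.2 rfl) hdeg g (hne g (by rw [htr]))
  have hv2 := CuspidalTorusValues.cusp_half_values hodd hχ (hk.1.2 rfl) hdeg (negOne * g)
    (hne _ (by rw [Matrix.SpecialLinearGroup.coe_mul, coe_negOne, neg_mul, one_mul, trace_neg, neg_sq, htr]))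
  set m := (Fintype.card F + 1) / 2 with hm
  have hg2 : g ^ m * g ^ m = 1 := by
    rw [← pow_add, show m + m = Fintype.card F + 1 by rw [Nat.odd_iff] at hodd; omega]
    exact pow_card_succ_of_no_root g (fun r => by rw [htr]; exact ht r)
  have hpow : (negOne * g) ^ m = negOne * g ^ m := by
    obtain ⟨j, hj⟩ := hn
    rw [Commute.mul_pow (negOne_comm g) m, hj, pow_succ negOne, pow_mul, sq, negOne_mul_self,
      one_pow, one_mul]
  have hflip : χ (negOne * g) = -χ g ∧ χ g ≠ 0 := by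
    by_cases h1 : g ^ m = 1
    · rw [hv1.1 h1, hv2.2 (by rw [hpow, h1, mul_one]; exact negOne_ne_one h2)]
      norm_num
    · have hz : g ^ m = negOne := by
        rcases CuspidalTorus.eq_one_or_negOne h2 hg2 with e | e
        · exact absurd e h1
        · rw [e]; exact negOne_eq
      rw [hv1.2 h1, hv2.1 (by rw [hpow, hz, negOne_mul_self])]
      norm_num
  obtain ⟨h1, h0⟩ := hflip
  rw [value_neg hχ, div_eq_iff (irr_one_ne_zero hχ)] at h1
  exact mul_right_cancel₀ h0 (by linear_combination h1)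

theorem StS_split (h2 : (2 : F) ≠ 0) (hs : IsSquare (-1 : F)) {g : SL(2, F)} (hg : OnTorus g) :
    (StS : SL(2, F) → ℂ) g = 1 := by
  obtain ⟨p, hp, hc⟩ := exists_split h2 hs hg
  rw [ClassifyGL.classFun_eq_of_isConj (char_isClassFunction (isCharacter_of_isIrr isIrr_StS)) hc]
  show pindS 1 (mkS p 0) - 1 = 1
  rw [pindS_mkS_ne 1 hp, MulChar.one_apply_coe, MulChar.one_apply_coe]
  norm_num

theorem StS_elliptic (hs : ¬ IsSquare (-1 : F)) {g : SL(2, F)} (hg : OnTorus g) :
    (StS : SL(2, F) → ℂ) g = -1 := by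
  show pindS 1 g - 1 = -1
  rw [pindS_eq_zero 1 (no_eigen hs hg), zero_sub]

theorem cusp_split (h2 : (2 : F) ≠ 0) (hs : IsSquare (-1 : F)) (hχ : Cfsg.IsIrrCharacter SL(2, F) χ)
    (hk : Kind 4 χ) {g : SL(2, F)} (hg : OnTorus g) : χ g = 0 := by
  obtain ⟨p, hp, hc⟩ := exists_split h2 hs hg
  have hcl := char_isClassFunction (isCharacter_of_isIrr hχ)
  rw [ClassifyGL.classFun_eq_of_isConj hcl hc]
  exact ValuesSL.cusp_diag hcl (hk.1.2 rfl) hp 0

theorem pind_elliptic (hs : ¬ IsSquare (-1 : F)) (hχ : Cfsg.IsIrrCharacter SL(2, F) χ)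
    (hk : Kind 2 χ) {g : SL(2, F)} (hg : OnTorus g) : χ g = 0 := by
  obtain ⟨α, -, rfl⟩ := (kind_cases hχ).2.2.1 hk
  exact pindS_eq_zero α (no_eigen hs hg)

end Cfsg.Agent.JT.KD
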