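import Mathlib
import Cfsg.Agent.Lib.JT.KDataElements
import Cfsg.Agent.Lib.Characters.Galois
import Cfsg.Agent.BlockCharsA.AlgAut

/-!
# The two halves: their difference is irrational

The characters of degree `(q ± 1)/2` come in pairs with sum rational and difference squaring to
`±q` at a transvection; so some automorphism of `ℂ` moves each of them.
-/

set_option autoImplicit false
set_option linter.unusedSectionVars false

open Matrix
open scoped MatrixGroups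

namespace Cfsg.Agent.JT.KD

open Cfsg.Agent.GL2 Cfsg.Agent.GL2.Borel Cfsg.Agent.GL2.Principal Cfsg.Agent.GL2.PrincipalSL
open Cfsg.Agent.GL2.ClassifySL Cfsg.Agent.GL2.CountsSL Cfsg.Agent.BlocksChars.SL2Degrees
open Cfsg.Agent.Characters

universe u

/-- An irrational character value is moved by an automorphism of `ℂ`. -/
theorem exists_moved {G : Type u} [Group G] [Finite G] {χ : G → ℂ} (hχ : Cfsg.IsCharacter G χ)
    {g : G} (hirr : ∀ x : ℚ, χ g ≠ (x : ℂ)) : ∃ σ : ℂ ≃+* ℂ, σ (χ g) ≠ χ g := by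
  classical
  set M := Nat.card G with hMdef
  have hM : 0 < M := Nat.card_pos
  haveI : NeZero M := ⟨hM.ne'⟩
  set ζ := Complex.exp (2 * Real.pi * Complex.I / M) with hζdef
  have hζ : IsPrimitiveRoot ζ M := Complex.isPrimitiveRoot_exp M hM.ne'
  obtain ⟨n, ρ, rfl⟩ := hχ
  obtain ⟨P, hP⟩ := exists_poly_values ρ g hM pow_card_eq_one' hζ
  have h1 := hP 1
  rw [pow_one, pow_one] at h1
  by_contra hfix
  push Not at hfix
  obtain ⟨x, hx⟩ := (exists_rat_sum_prod_primitiveRoots hM P).1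
  have hall : ∀ μ ∈ primitiveRoots M ℂ, Polynomial.aeval μ P = ρ.character g := by
    intro μ hμ
    obtain ⟨k, hk, hco, rfl⟩ := (hζ.isPrimitiveRoot_iff (ξ := μ) (k := M)).1
      ((mem_primitiveRoots hM).1 hμ)
    obtain ⟨σ, hσ⟩ := BlockCharsA.AlgAut.exists_aut hζ (ZMod.unitOfCoprime k hco)
    rw [ZMod.coe_unitOfCoprime, ZMod.val_natCast, Nat.mod_eq_of_lt hk] at hσ
    have e : σ (Polynomial.aeval ζ P) = Polynomial.aeval (σ ζ) P :=
      (Polynomial.aeval_algHom_apply (σ.toRingHom.toRatAlgHom) ζ P).symm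
    rw [← hσ, ← e, ← h1, hfix σ]
  rw [Finset.sum_congr rfl hall, Finset.sum_const, nsmul_eq_mul] at hx
  refine hirr (x / (primitiveRoots M ℂ).card) ?_
  have hc : ((primitiveRoots M ℂ).card : ℂ) ≠ 0 := by
    exact_mod_cast (Finset.card_pos.2 ⟨ζ, (mem_primitiveRoots hM).2 hζ⟩).ne'
  rw [Rat.cast_div, Rat.cast_natCast, eq_div_iff hc, ← hx, mul_comm]

variable {F : Type u} [Field F] [Fintype F] [DecidableEq F]

theorem half_irrational {χ χ' : SL(2, F) → ℂ} {ψ : GL (Fin 2) F → ℂ}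
    (hodd : Odd (Fintype.card F)) (hψ : Cfsg.IsIrrCharacter (GL (Fin 2) F) ψ)
    (hχ : Cfsg.IsIrrCharacter SL(2, F) χ) (hχ' : Cfsg.IsIrrCharacter SL(2, F) χ') (hne : χ ≠ χ')
    (he : res ψ = χ + χ') {s : ℚ} (hs : ψ (mkB 1 1 1) = (s : ℂ)) {Q : ℤ} (hQ : Q % 8 = 5)
    (hQq : (-1 : ℂ) ^ ((Fintype.card F - 1) / 2) * (Fintype.card F : ℂ) = (Q : ℂ)) (x : ℚ) :
    χ (mkS 1 1) ≠ (x : ℂ) := by
  intro hx
  obtain ⟨hsum, hdiff⟩ := ValuesSL.split_values hodd hψ hχ hχ' hne he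
  rw [hs] at hsum
  have h' : χ' (mkS 1 1) = ((s - x : ℚ) : ℂ) := by push_cast; linear_combination hsum - hx
  rw [hx, h', hQq] at hdiff
  have hsq : IsSquare (Q : ℚ) := ⟨x - (s - x), by
    have : ((Q : ℚ) : ℂ) = (((x - (s - x)) * (x - (s - x)) : ℚ) : ℂ) := by
      push_cast at hdiff ⊢
      linear_combination -hdiff
    exact_mod_cast this⟩
  obtain ⟨r, hr⟩ := Rat.isSquare_intCast_iff.1 hsq
  rw [hr, Int.mul_emod] at hQ
  have h1 := Int.emod_nonneg r (show (8 : ℤ) ≠ 0 by norm_num)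
  have h8 := Int.emod_lt_of_pos r (show (0 : ℤ) < 8 by norm_num)
  generalize r % 8 = e at hQ h1 h8
  interval_cases e <;> norm_num at hQ

theorem three_moved (hodd : Odd (Fintype.card F)) {χ : SL(2, F) → ℂ}
    (hχ : Cfsg.IsIrrCharacter SL(2, F) χ) (hk : Kind 3 χ) {Q : ℤ} (hQ : Q % 8 = 5)
    (hQq : (-1 : ℂ) ^ ((Fintype.card F - 1) / 2) * (Fintype.card F : ℂ) = (Q : ℂ)) :
    ∃ σ : ℂ ≃+* ℂ, σ (χ (mkS 1 1)) ≠ χ (mkS 1 1) := by
  obtain ⟨α, χ', hα, hα1, hχ', hne, he⟩ := (kind_cases hχ).2.2.2 hk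
  have hres : res (pind α 1) = χ + χ' := by rw [res_pind, inv_one, mul_one, he]
  refine exists_moved (isCharacter_of_isIrr hχ) (half_irrational hodd (isIrr_pind hα1) hχ hχ'
    hne.symm hres (s := 1) ?_ hQ hQq)
  rw [Rat.cast_one]
  have h := congrFun hres (mkS 1 1)
  rw [res, Function.comp_apply, toGL_mkS, inv_one] at h
  have h' := pindS_uni_one α
  rw [he] at h'
  rw [h, h']

theorem five_moved (hodd : Odd (Fintype.card F)) {χ : SL(2, F) → ℂ}
    (hχ : Cfsg.IsIrrCharacter SL(2, F) χ) (hk : Kind 5 χ) {Q : ℤ} (hQ : Q % 8 = 5)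
    (hQq : (-1 : ℂ) ^ ((Fintype.card F - 1) / 2) * (Fintype.card F : ℂ) = (Q : ℂ)) :
    ∃ σ : ℂ ≃+* ℂ, σ (χ (mkS 1 1)) ≠ χ (mkS 1 1) := by
  obtain ⟨ψ, hψ, hψc, h | ⟨-, χ', hχ', hne, h⟩⟩ := cusp_data hχ (hk.1.2 rfl)
  · exfalso
    have hq := Fintype.one_lt_card (α := F)
    have h2 := hk.2
    rw [← h] at h2
    simp [res, (ClassifyGL.families.2.2.2.2 ψ hψ hψc).1, deg2, ClassifySL.cast_card_units,
      GL2.CountsSL.cast_sub_one] at h2
    have : (Fintype.card F : ℂ) = ((1 : ℕ) : ℂ) := by push_cast; linear_combination h2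
    have := Nat.cast_injective (R := ℂ) this
    omega
  · refine exists_moved (isCharacter_of_isIrr hχ) (half_irrational hodd hψ hχ hχ'
      hne.symm h (s := -1) ?_ hQ hQq)
    rw [(ClassifyGL.families.2.2.2.2 ψ hψ hψc).2]
    norm_num

end Cfsg.Agent.JT.KD
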