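import Mathlib
import Cfsg.Agent.Lib.JT.KDataHalf

/-!
# The two congruences `q ≡ 5` and `q ≡ 3 (mod 8)`, put together

`Side F` records, for `Q = δ q ≡ 5 (mod 8)`, which kinds of characters of `SL₂(q)` have the degrees
`δ (Q + 1) / 2`, `δ (Q + 1)`, `|Q - 1|`, and their values on the torus.
-/

set_option autoImplicit false
set_option linter.unusedSectionVars false

open Matrix
open scoped MatrixGroups

namespace Cfsg.Agent.JT.KD

open Cfsg.Agent.GL2 Cfsg.Agent.GL2.Borel Cfsg.Agent.GL2.PrincipalSL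
open Cfsg.Agent.GL2.CountsSL Cfsg.Agent.BlocksChars.SL2Degrees
open Cfsg.Agent.Characters

universe u

/-- The data depending on the congruence of `q`. -/
structure Side (F : Type u) [Field F] [Fintype F] [DecidableEq F] where
  Q : ℤ
  δ : ℤ
  n : ℕ
  kη : Fin 6
  kφ : Fin 6
  kψ : Fin 6
  ko : Fin 6
  Q_mod : Q % 8 = 5
  δ_cases : δ = 1 ∨ δ = -1
  Q_eq : Q = δ * (Fintype.card F : ℤ)
  n_mod : n % 4 = 2
  kη_ne : kη ≠ 0 ∧ kη ≠ 1
  deg_η : (deg2 (Fintype.card F) kη : ℤ) = δ * (Q + 1)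
  deg_φ : (deg2 (Fintype.card F) kφ : ℤ) = 2 * δ * (Q + 1)
  deg_ψ : (deg2 (Fintype.card F) kψ : ℤ) = 2 * (Q - 1).natAbs
  sum_kinds : ∀ f : Fin 6 → ℂ, ∑ i, f i = f 0 + f 1 + f kη + f kφ + f kψ + f ko
  sqrt_count : (Nat.card {a : F // a * a = -1} : ℤ) = 1 + δ
  count_η : Nat.card {χ : Cfsg.IrrCharacter SL(2, F) // Kind kη (χ : SL(2, F) → ℂ)} = 2
  η_value : ∀ χ : SL(2, F) → ℂ, Cfsg.IsIrrCharacter SL(2, F) χ → Kind kη χ → ∀ g : SL(2, F),
    OnTorus g → (g ^ n = 1 → (δ : ℂ) * χ g = 1) ∧ (g ^ n ≠ 1 → (δ : ℂ) * χ g = -1)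
  ψ_value : ∀ χ : SL(2, F) → ℂ, Cfsg.IsIrrCharacter SL(2, F) χ → Kind kψ χ → ∀ g : SL(2, F),
    OnTorus g → χ g = 0
  St_value : ∀ g : SL(2, F), OnTorus g → (StS : SL(2, F) → ℂ) g = (δ : ℂ)
  pow_torus : ∀ g : SL(2, F), OnTorus g → g ^ (2 * n) = 1
  other : ∀ χ : SL(2, F) → ℂ, Cfsg.IsIrrCharacter SL(2, F) χ → Kind ko χ → χ negOne = -χ 1
  moved : ∀ χ : SL(2, F) → ℂ, Cfsg.IsIrrCharacter SL(2, F) χ → Kind kη χ →
    ∃ σ : ℂ ≃+* ℂ, σ (χ (mkS 1 1)) ≠ χ (mkS 1 1)

variable {F : Type u} [Field F] [Fintype F] [DecidableEq F]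

theorem sqrt_count_eq (hodd : Odd (Fintype.card F)) (d : ℤ)
    (h : (IsSquare (-1 : F) ∧ d = 1) ∨ (¬ IsSquare (-1 : F) ∧ d = -1)) :
    (Nat.card {a : F // a * a = -1} : ℤ) = 1 + d := by
  have hring : ringChar F ≠ 2 := fun hc => GL2.Counts.two_ne_zero_of_odd hodd (by
    rw [show (2 : F) = ((2 : ℕ) : F) by norm_num, ← hc, ringChar.Nat.cast_ringChar])
  have hs := quadraticChar_card_sqrts hring (-1 : F)
  rw [Set.toFinset_card] at hs
  rw [Nat.card_eq_fintype_card, Fintype.card_subtype]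
  rcases h with ⟨h, rfl⟩ | ⟨h, rfl⟩
  · rw [(quadraticChar_one_iff_isSquare (neg_ne_zero.2 one_ne_zero)).2 h] at hs
    simpa [sq, Finset.card_eq_zero] using hs
  · rw [quadraticChar_neg_one_iff_not_isSquare.2 h] at hs
    simpa [sq, Finset.card_eq_zero] using hs

theorem exists_side (hodd : Odd (Fintype.card F)) (h5 : 5 < Fintype.card F)
    (hmod : Fintype.card F % 8 = 3 ∨ Fintype.card F % 8 = 5) :
    ∃ S : Side F, S.Q = if Fintype.card F % 8 = 5 then (Fintype.card F : ℤ)
      else -(Fintype.card F : ℤ) := by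
  have h2 := GL2.Counts.two_ne_zero_of_odd hodd
  obtain ⟨k, hk, f0, f1, f2, f3, f4, f5⟩ := GL2.CountsSL.families (F := F)
  obtain rfl : k = 2 := hk ▸ GL2.Counts.sq_eq_one_card_odd h2
  rcases hmod with hq | hq
  · have hs : ¬ IsSquare (-1 : F) := fun h => (FiniteField.isSquare_neg_one_iff.1 h) (by omega)
    have hsgn : (-1 : ℂ) ^ ((Fintype.card F - 1) / 2) * (Fintype.card F : ℂ) =
        ((-(Fintype.card F : ℤ) : ℤ) : ℂ) := by
      rw [(Nat.odd_iff.2 (by omega) : Odd ((Fintype.card F - 1) / 2)).neg_one_pow]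
      push_cast; ring
    refine ⟨
      { Q := -(Fintype.card F : ℤ)
        δ := -1
        n := (Fintype.card F + 1) / 2
        kη := 5
        kφ := 4
        kψ := 2
        ko := 3
        Q_mod := by omega
        δ_cases := Or.inr rfl
        Q_eq := by ring
        n_mod := by omega
        kη_ne := by decide
        deg_η := by simp [deg2]; omega
        deg_φ := by simp [deg2]; omega
        deg_ψ := by rw [Int.natCast_natAbs, abs_of_nonpos (by omega)]; simp [deg2]; omega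
        sum_kinds := fun f => by rw [Fin.sum_univ_six]; ring
        sqrt_count := sqrt_count_eq hodd _ (Or.inr ⟨hs, rfl⟩)
        count_η := by omega
        η_value := fun χ hχ hK g hg => ?_
        ψ_value := fun χ hχ hK g hg => pind_elliptic hs hχ hK hg
        St_value := fun g hg => by rw [StS_elliptic hs hg]; norm_num
        pow_torus := fun g hg => ?_
        other := fun χ hχ hK => three_negOne hodd h5 hs hχ hK
        moved := fun χ hχ hK => five_moved hodd hχ hK (by omega) hsgn }, by rw [if_neg (by omega)]⟩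
    · obtain ⟨h1, h3⟩ := cusp_torus hodd hs hχ hK hg
      exact ⟨fun h => by rw [h1 h]; norm_num, fun h => by rw [h3 h]; norm_num⟩
    · rw [show 2 * ((Fintype.card F + 1) / 2) = Fintype.card F + 1 by omega]
      exact pow_torus_elliptic hs hg
  · have hs : IsSquare (-1 : F) := FiniteField.isSquare_neg_one_iff.2 (by omega)
    have hsgn : (-1 : ℂ) ^ ((Fintype.card F - 1) / 2) * (Fintype.card F : ℂ) =
        (((Fintype.card F : ℤ) : ℤ) : ℂ) := by
      rw [(Nat.even_iff.2 (by omega) : Even ((Fintype.card F - 1) / 2)).neg_one_pow]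
      push_cast; ring
    refine ⟨
      { Q := (Fintype.card F : ℤ)
        δ := 1
        n := (Fintype.card F - 1) / 2
        kη := 3
        kφ := 2
        kψ := 4
        ko := 5
        Q_mod := by omega
        δ_cases := Or.inl rfl
        Q_eq := by ring
        n_mod := by omega
        kη_ne := by decide
        deg_η := by simp [deg2]
        deg_φ := by simp [deg2]; ring
        deg_ψ := by rw [Int.natCast_natAbs, abs_of_nonneg (by omega)]; simp [deg2]; omega
        sum_kinds := fun f => by rw [Fin.sum_univ_six]; ring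
        sqrt_count := sqrt_count_eq hodd _ (Or.inl ⟨hs, rfl⟩)
        count_η := by omega
        η_value := fun χ hχ hK g hg => ?_
        ψ_value := fun χ hχ hK g hg => cusp_split h2 hs hχ hK hg
        St_value := fun g hg => by rw [StS_split h2 hs hg]; norm_num
        pow_torus := fun g hg => ?_
        other := fun χ hχ hK => five_negOne hodd h5 (Nat.odd_iff.2 (by omega)) hχ hK
        moved := fun χ hχ hK => three_moved hodd hχ hK (by omega) hsgn }, by rw [if_pos hq]⟩
    · obtain ⟨h1, h3⟩ := half_torus hodd hs hχ hK hg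
      exact ⟨fun h => by rw [h1 h]; norm_num, fun h => by rw [h3 h]; norm_num⟩
    · rw [show 2 * ((Fintype.card F - 1) / 2) = Fintype.card F - 1 by omega]
      exact pow_torus_split h2 hs hg

end Cfsg.Agent.JT.KD
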