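import Mathlib
import Cfsg.Agent.Lib.JT.KDataSide

/-!
# The involutions of `PSL₂(q)`, `q` odd: one class, `Q (Q + 1) / 2` of them
-/

set_option autoImplicit false
set_option linter.unusedSectionVars false

open Matrix
open scoped MatrixGroups

namespace Cfsg.Agent.JT.KD

open Cfsg.Agent.GL2 Cfsg.Agent.GL2.PSLProducts Cfsg.Agent.BlocksChars.SL2Degrees

universe u

variable {F : Type u} [Field F] [Fintype F] [DecidableEq F]

theorem trace_zero_iff (h2 : (2 : F) ≠ 0) (g : SL(2, F)) :
    orderOf (toPSL g) = 2 ↔ (g : Matrix (Fin 2) (Fin 2) F).trace = 0 := by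
  constructor
  · intro h
    have hw := lift_invol h2 h
    have hns : ¬ Classes.IsScalar (g : Matrix (Fin 2) (Fin 2) F) := fun hs => by
      rw [(toPSL_eq_one_iff g).2 hs, orderOf_one] at h; omega
    have hc := cayley g
    rw [← Matrix.SpecialLinearGroup.coe_mul, hw, coe_negOne] at hc
    have h0 : (g : Matrix (Fin 2) (Fin 2) F).trace • (g : Matrix (Fin 2) (Fin 2) F) = 0 := by
      have := congrArg (· + 1) hc
      simpa using this.symm
    rcases smul_eq_zero.1 h0 with h' | h'
    · exact h'
    · rw [h', trace_zero]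
  · intro h
    refine orderOf_eq_prime (sq_eq_one_of_trace_zero h) fun h1 => ?_
    obtain ⟨c, hc⟩ := (toPSL_eq_one_iff g).1 h1
    have hd := Matrix.SpecialLinearGroup.det_coe g
    rw [hc] at hd h
    simp at hd h
    rcases h with h | h
    · rcases hd with rfl | rfl <;> simp at h
    · exact h2 (by exact_mod_cast h)

theorem invol_conj (h2 : (2 : F) ≠ 0) (i j : Matrix.ProjectiveSpecialLinearGroup (Fin 2) F)
    (hi : orderOf i = 2) (hj : orderOf j = 2) : IsConj i j := by
  obtain ⟨a, rfl⟩ := QuotientGroup.mk_surjective i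
  obtain ⟨b, rfl⟩ := QuotientGroup.mk_surjective j
  have ha := (trace_zero_iff h2 a).1 hi
  have hb := (trace_zero_iff h2 b).1 hj
  have hc : IsConj a b := isConj_of_trace (ha.trans hb.symm) (by
    rw [ha]; intro h
    have : (2 : F) * 2 = 0 := by linear_combination -h
    exact mul_ne_zero h2 h2 this)
  exact MonoidHom.map_isConj (QuotientGroup.mk' (Subgroup.center SL(2, F))) hc

theorem exists_invol (h2 : (2 : F) ≠ 0) :
    ∃ w : SL(2, F), w * w = negOne ∧ orderOf (toPSL w) = 2 ∧ OnTorus w := by
  obtain ⟨w, hw, hns⟩ := exists_sq_negOne (F := F)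
  refine ⟨w, hw, orderOf_eq_prime ?_ fun h => hns ((toPSL_eq_one_iff w).1 h), of_commute h2 hw rfl hns⟩
  rw [sq]
  exact toPSL_eq_one.2 (Or.inr hw)

theorem natCard_center (h2 : (2 : F) ≠ 0) : Nat.card (Subgroup.center SL(2, F)) = 2 := by
  have : ((Subgroup.center SL(2, F) : Subgroup SL(2, F)) : Set SL(2, F)) = {1, negOne} := by
    ext g
    refine ⟨fun h => center_cases h, ?_⟩
    rintro (rfl | rfl)
    · exact one_mem _
    · exact negOne_mem_center
  rw [← SetLike.coe_sort_coe, this, Nat.card_coe_set_eq, Set.ncard_pair (negOne_ne_one h2).symm]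

/-- The solutions of `b c = d`. -/
theorem card_mul_eq (d : F) :
    ((Finset.univ : Finset (F × F)).filter fun p => p.1 * p.2 = d).card =
      (Fintype.card F - 1) + if d = 0 then Fintype.card F else 0 := by
  rw [Finset.card_filter, Fintype.sum_prod_type,
    ← Finset.add_sum_erase _ _ (Finset.mem_univ (0 : F)), add_comm]
  congr 1
  · rw [Finset.sum_congr rfl (g := fun _ => 1) fun b hb => ?_, Finset.sum_const, smul_eq_mul, mul_one,
      Finset.card_erase_of_mem (Finset.mem_univ _), Finset.card_univ]
    have hb0 := (Finset.mem_erase.1 hb).1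
    rw [Finset.sum_eq_single (d / b) (fun c _ hc => if_neg fun e => hc (by
      rw [eq_div_iff hb0, mul_comm]; exact e)) (fun h => absurd (Finset.mem_univ _) h),
      if_pos (mul_div_cancel₀ d hb0)]
  · simp only [zero_mul, eq_comm (a := (0 : F)), Finset.sum_const, Finset.card_univ, smul_eq_mul]
    split_ifs <;> simp

theorem natCard_trace_zero :
    Nat.card {g : SL(2, F) // (g : Matrix (Fin 2) (Fin 2) F).trace = 0} =
      Fintype.card F * (Fintype.card F - 1) + Fintype.card F * Nat.card {a : F // a * a = -1} := by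
  let e : {g : SL(2, F) // (g : Matrix (Fin 2) (Fin 2) F).trace = 0} ≃
      {x : F × F × F // x.2.1 * x.2.2 = -1 - x.1 * x.1} :=
    { toFun := fun g => ⟨((g.1 : Matrix (Fin 2) (Fin 2) F) 0 0, (g.1 : Matrix (Fin 2) (Fin 2) F) 0 1,
          (g.1 : Matrix (Fin 2) (Fin 2) F) 1 0), by
        have hd := Matrix.SpecialLinearGroup.det_coe g.1
        have ht := g.2
        rw [det_fin_two] at hd
        rw [trace_fin_two] at ht
        dsimp only
        linear_combination (g.1 : Matrix (Fin 2) (Fin 2) F) 0 0 * ht - hd⟩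
      invFun := fun x => ⟨⟨!![x.1.1, x.1.2.1; x.1.2.2, -x.1.1], by
          rw [det_fin_two_of]; linear_combination -x.2⟩, by simp [trace_fin_two]⟩
      left_inv := fun g => by
        have ht := g.2
        rw [trace_fin_two] at ht
        refine Subtype.ext (Subtype.ext ?_)
        ext i j
        fin_cases i <;> fin_cases j <;> simp
        linear_combination -ht
      right_inv := fun x => by simp }
  rw [Nat.card_congr e, Nat.card_eq_fintype_card, Fintype.card_subtype, Finset.card_filter,
    Fintype.sum_prod_type,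
    Finset.sum_congr rfl (g := fun a => (Fintype.card F - 1) + if a * a = -1 then Fintype.card F else 0)
      fun a _ => ?_, Finset.sum_add_distrib, Finset.sum_const, Finset.card_univ, smul_eq_mul]
  · congr 1
    rw [← Finset.sum_filter, Finset.sum_const, smul_eq_mul, mul_comm, Nat.card_eq_fintype_card,
      Fintype.card_subtype]
  · rw [← Finset.card_filter]
    refine (card_mul_eq (-1 - a * a)).trans ?_
    congr 1
    exact if_congr (by rw [sub_eq_zero, eq_comm]) rfl rfl

theorem invol_card (h2 : (2 : F) ≠ 0) (S : Side F) :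
    2 * (Nat.card {i : Matrix.ProjectiveSpecialLinearGroup (Fin 2) F // orderOf i = 2} : ℤ) =
      S.Q * (S.Q + 1) := by
  have h : Nat.card {g : SL(2, F) // (g : Matrix (Fin 2) (Fin 2) F).trace = 0} =
      2 * Nat.card {i : Matrix.ProjectiveSpecialLinearGroup (Fin 2) F // orderOf i = 2} := by
    refine Eq.trans ?_ (congrArg (· * _) (natCard_center h2))
    refine Eq.trans ?_ (Nat.card_prod _ _)
    refine Nat.card_congr ((Equiv.subtypeEquivRight fun g => (trace_zero_iff h2 g).symm).trans
      (QuotientGroup.preimageMkEquivSubgroupProdSet (Subgroup.center SL(2, F))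
        {i | orderOf i = 2}))
  have h' := natCard_trace_zero (F := F)
  rw [h] at h'
  have h1 : 1 ≤ Fintype.card F := Fintype.card_pos
  have h'' := congrArg (Int.ofNat) h'
  simp only [Int.ofNat_eq_natCast, Nat.cast_mul, Nat.cast_add, Nat.cast_sub h1, Nat.cast_ofNat,
    S.sqrt_count] at h''
  rw [h'', S.Q_eq]
  rcases S.δ_cases with e | e <;> rw [e] <;> ring

end Cfsg.Agent.JT.KD
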