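import Mathlib
import Cfsg.Agent.Lib.JT.KDataInvol
import Cfsg.Agent.Lib.GL2.CountsSL
import Cfsg.Agent.DegPSL.PSLData
import Cfsg.Agent.BlockCharsA.PConjugate
import Cfsg.Agent.Lib.CharTheory.DihedralEight

/-!
# The characters of `PSL₂(q)` sorted by kind
-/

set_option autoImplicit false
set_option linter.unusedSectionVars false
set_option linter.style.haveILetI false

open Matrix
open scoped MatrixGroups ComplexConjugate

namespace Cfsg.Agent.JT.KD

open Cfsg.Agent.GL2 Cfsg.Agent.GL2.Borel Cfsg.Agent.GL2.PrincipalSL Cfsg.Agent.GL2.CountsSL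
open Cfsg.Agent.GL2.PSLProducts Cfsg.Agent.BlocksChars.SL2Degrees
open Cfsg.Agent.Characters Cfsg.Agent.DegPSL

universe u

variable {F : Type u} [Field F] [Fintype F] [DecidableEq F]

local notation "L" => Matrix.ProjectiveSpecialLinearGroup (Fin 2) F

/-- The kind of a character of `PSL₂`. -/
noncomputable def kd (χ : Cfsg.IrrCharacter L) : Fin 6 := (exists_kind (lift χ).2).choose

theorem kd_spec (χ : Cfsg.IrrCharacter L) : Kind (kd χ) (lift χ : SL(2, F) → ℂ) :=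
  (exists_kind (lift χ).2).choose_spec

theorem kd_eq_iff (χ : Cfsg.IrrCharacter L) (i : Fin 6) :
    kd χ = i ↔ Kind i (lift χ : SL(2, F) → ℂ) :=
  ⟨fun h => h ▸ kd_spec χ, fun h => kind_unique (kd_spec χ) h⟩

theorem lift_coe (χ : Cfsg.IrrCharacter L) (g : SL(2, F)) :
    (lift χ : SL(2, F) → ℂ) g = (χ : L → ℂ) (toPSL g) := rfl

theorem lift_negOne (χ : Cfsg.IrrCharacter L) :
    (lift χ : SL(2, F) → ℂ) negOne = (lift χ : SL(2, F) → ℂ) 1 := by
  rw [lift_coe, lift_coe, show toPSL (negOne : SL(2, F)) = toPSL 1 by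
    rw [toPSL_eq_one.2 (Or.inr rfl)]; rfl]

theorem two_mul_one (χ : Cfsg.IrrCharacter L) :
    2 * (χ : L → ℂ) 1 = (deg2 (Fintype.card F) (kd χ) : ℂ) := (kd_spec χ).2

theorem kd_of_deg (hq : 4 ≤ Fintype.card F) {χ ψ : Cfsg.IrrCharacter L}
    (h : (χ : L → ℂ) 1 = (ψ : L → ℂ) 1) : kd χ = kd ψ := by
  have := (two_mul_one χ).symm.trans ((congrArg (2 * ·) h).trans (two_mul_one ψ))
  exact deg2_injective hq (Nat.cast_injective (R := ℂ) this)

/-- A character of `SL₂` with `-1` in the kernel is a lift. -/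
theorem exists_lift {χ : SL(2, F) → ℂ} (hχ : Cfsg.IsIrrCharacter SL(2, F) χ)
    (h : χ negOne = χ 1) : ∃ φ : Cfsg.IrrCharacter L, (lift φ : SL(2, F) → ℂ) = χ := by
  have htriv : ∀ n ∈ Subgroup.center SL(2, F), χ n = χ 1 := fun n hn => by
    rcases center_cases hn with rfl | rfl
    · rfl
    · exact h
  obtain ⟨φ, -, hφ, hirr⟩ :=
    exists_deflate_quotient (Subgroup.center SL(2, F)) (isCharacter_of_isIrr hχ) htriv
  exact ⟨⟨φ, hirr hχ⟩, funext fun g => hφ g⟩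

theorem kd_zero_iff (χ : Cfsg.IrrCharacter L) : kd χ = 0 ↔ χ = trivIrr L := by
  constructor
  · intro h
    refine lift_injective (Subtype.ext ?_)
    rw [(kind_cases (lift χ).2).1 ((kd_eq_iff χ 0).1 h)]
    rfl
  · rintro rfl
    exact (kd_eq_iff _ 0).2 kind_zero

theorem exists_st : ∃ st : Cfsg.IrrCharacter L, (lift st : SL(2, F) → ℂ) = StS ∧
    ∀ χ, kd χ = 1 ↔ χ = st := by
  obtain ⟨st, hst⟩ := exists_lift (F := F) isIrr_StS StS_negOne
  refine ⟨st, hst, fun χ => ⟨fun h => ?_, ?_⟩⟩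
  · refine lift_injective (Subtype.ext ?_)
    rw [(kind_cases (lift χ).2).2.1 ((kd_eq_iff χ 1).1 h), hst]
  · rintro rfl
    exact (kd_eq_iff _ 1).2 (hst ▸ kind_one)

theorem ne_ko (S : Side F) (χ : Cfsg.IrrCharacter L) : kd χ ≠ S.ko := fun h => by
  have h1 := S.other _ (lift χ).2 ((kd_eq_iff χ _).1 h)
  rw [lift_negOne] at h1
  exact irr_one_ne_zero (lift χ).2 (by linear_combination h1 / 2)

/-- The two halves. -/
theorem exists_halves (h2 : (2 : F) ≠ 0) (S : Side F) :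
    ∃ η η' : Cfsg.IrrCharacter L, η ≠ η' ∧ ∀ χ, kd χ = S.kη ↔ χ = η ∨ χ = η' := by
  classical
  obtain ⟨w, hw, -, hT⟩ := exists_invol (F := F) h2
  have hbij : Function.Bijective (fun χ : {χ : Cfsg.IrrCharacter L // kd χ = S.kη} =>
      (⟨lift χ.1, (kd_eq_iff χ.1 _).1 χ.2⟩ :
        {χ : Cfsg.IrrCharacter SL(2, F) // Kind S.kη (χ : SL(2, F) → ℂ)})) := by
    refine ⟨fun a b e => Subtype.ext (lift_injective (congrArg Subtype.val e)), fun ψ => ?_⟩
    have hz : (ψ.1 : SL(2, F) → ℂ) negOne = (ψ.1 : SL(2, F) → ℂ) 1 := by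
      have hv := S.η_value _ ψ.1.2 ψ.2
      have hn := S.n_mod
      have hzn : (negOne * w) ^ S.n = w ^ S.n := by
        rw [Commute.mul_pow (negOne_comm w) S.n, show S.n = 2 * (S.n / 2) by omega, pow_mul,
          sq, negOne_mul_self, one_pow, one_mul]
      have hne : (S.δ : ℂ) * (ψ.1 : SL(2, F) → ℂ) w ≠ 0 := by
        by_cases h : w ^ S.n = 1
        · rw [(hv w hT).1 h]; norm_num
        · rw [(hv w hT).2 h]; norm_num
      have e : (S.δ : ℂ) * (ψ.1 : SL(2, F) → ℂ) (negOne * w) = (S.δ : ℂ) * (ψ.1 : SL(2, F) → ℂ) w := by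
        by_cases h : w ^ S.n = 1
        · rw [(hv _ hT.neg).1 (hzn.trans h), (hv w hT).1 h]
        · rw [(hv _ hT.neg).2 (fun h' => h (hzn ▸ h')), (hv w hT).2 h]
      rw [value_neg ψ.1.2, mul_div_assoc'] at e
      rw [div_eq_iff (irr_one_ne_zero ψ.1.2)] at e
      exact mul_left_cancel₀ hne (by linear_combination e)
    obtain ⟨φ, hφ⟩ := exists_lift ψ.1.2 hz
    exact ⟨⟨φ, (kd_eq_iff φ _).2 (hφ ▸ ψ.2)⟩, Subtype.ext (Subtype.ext hφ)⟩
  obtain ⟨a, b, hab, huniv⟩ :=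
    Nat.card_eq_two_iff.1 ((Nat.card_congr (Equiv.ofBijective _ hbij)).trans S.count_η)
  refine ⟨a.1, b.1, fun e => hab (Subtype.ext e), fun χ => ⟨fun h => ?_, ?_⟩⟩
  · have := Set.ext_iff.1 huniv ⟨χ, h⟩
    simp only [Set.mem_univ, iff_true, Set.mem_insert_iff, Set.mem_singleton_iff] at this
    exact this.imp (congrArg Subtype.val) (congrArg Subtype.val)
  · rintro (rfl | rfl)
    · exact a.2
    · exact b.2

end Cfsg.Agent.JT.KD
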