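import Mathlib
import Cfsg.Agent.Lib.JT.Defs
import Cfsg.Agent.Lib.JT.KDataChars

/-!
# `KData` for `PSL₂(q)`, `q ≡ 3, 5 (mod 8)`, `q > 5`
-/

set_option autoImplicit false
set_option linter.unusedSectionVars false
set_option linter.style.haveILetI false

open Matrix
open scoped MatrixGroups ComplexConjugate

namespace Cfsg.Agent.JT.KD

open Cfsg.Agent.GL2 Cfsg.Agent.GL2.Borel Cfsg.Agent.GL2.PrincipalSL Cfsg.Agent.GL2.CountsSL
open Cfsg.Agent.GL2.PSLProducts Cfsg.Agent.BlocksChars.SL2Degrees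
open Cfsg.Agent.Characters Cfsg.Agent.DegPSL

universe u

variable {F : Type u} [Field F] [Fintype F] [DecidableEq F]

local notation "L" => Matrix.ProjectiveSpecialLinearGroup (Fin 2) F

/-- The inner product of `1 + c χ` and `1 + d ψ`. -/
theorem inner_one_add {G : Type u} [Group G] [Fintype G] {χ ψ : Cfsg.IrrCharacter G}
    (hχ : χ ≠ trivIrr G) (hψ : ψ ≠ trivIrr G) (c d : ℤ) [Decidable (χ = ψ)] :
    Cfsg.classInner (fun g => 1 + (c : ℂ) * (χ : G → ℂ) g) (fun g => 1 + (d : ℂ) * (ψ : G → ℂ) g) =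
      1 + if χ = ψ then (c : ℂ) * d else 0 := by
  have h0 : ∀ {φ : Cfsg.IrrCharacter G}, φ ≠ trivIrr G →
      Cfsg.classInner (φ : G → ℂ) (trivIrr G : G → ℂ) = 0 ∧
        Cfsg.classInner (trivIrr G : G → ℂ) (φ : G → ℂ) = 0 := fun {φ} h =>
    ⟨classInner_isIrr_ne φ.2 (trivIrr G).2 fun e => h (Subtype.ext e),
      classInner_isIrr_ne (trivIrr G).2 φ.2 fun e => h (Subtype.ext e.symm)⟩
  rw [show (fun g => 1 + (c : ℂ) * (χ : G → ℂ) g) = (trivIrr G : G → ℂ) + (c : ℂ) • (χ : G → ℂ) from rfl,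
    show (fun g => 1 + (d : ℂ) * (ψ : G → ℂ) g) = (trivIrr G : G → ℂ) + (d : ℂ) • (ψ : G → ℂ) from rfl,
    classInner_add_left, classInner_add_right, classInner_add_right, classInner_smul_left,
    classInner_smul_left, classInner_smul_right, classInner_smul_right,
    classInner_isIrr_self (trivIrr G).2, (h0 hχ).1, (h0 hψ).2, map_intCast]
  split_ifs with h
  · subst h
    rw [classInner_isIrr_self χ.2]; ring
  · rw [classInner_isIrr_ne χ.2 ψ.2 fun e => h (Subtype.ext e)]; ring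

theorem Side.card_ge (S : Side F) (h5 : 5 < Fintype.card F) : 5 < S.Q.natAbs ∧ (S.Q : ℂ) ≠ 0 ∧
    ((S.Q : ℂ) + 1) ≠ 0 ∧ (S.δ : ℂ) * S.δ = 1 ∧ ((Fintype.card F : ℕ) : ℂ) = S.δ * S.Q := by
  have hQ := S.Q_eq
  have hδ : S.δ * S.δ = 1 := by rcases S.δ_cases with e | e <;> rw [e] <;> norm_num
  have hq : (Fintype.card F : ℤ) = S.δ * S.Q := by rw [hQ, ← mul_assoc, hδ, one_mul]
  refine ⟨?_, ?_, ?_, by exact_mod_cast hδ, by exact_mod_cast hq⟩
  · rcases S.δ_cases with e | e <;> rw [e] at hQ <;> omega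
  · rw [Ne, Int.cast_eq_zero]
    rcases S.δ_cases with e | e <;> rw [e] at hQ <;> omega
  · rw [← Int.cast_one, ← Int.cast_add, Ne, Int.cast_eq_zero]
    rcases S.δ_cases with e | e <;> rw [e] at hQ <;> omega

theorem Q_pow (hodd : Odd (Fintype.card F)) (hmod : Fintype.card F % 8 = 3 ∨ Fintype.card F % 8 = 5)
    (S : Side F) : ∃ p n : ℕ, p.Prime ∧ Odd n ∧ S.Q.natAbs = p ^ n := by
  obtain ⟨p, hp⟩ := CharP.exists F
  obtain ⟨m, hpr, hm⟩ := FiniteField.card F p
  refine ⟨p, m, hpr, ?_, ?_⟩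
  · by_contra h
    obtain ⟨j, hj⟩ := Nat.not_odd_iff_even.1 h
    have hpodd : Odd p := (Nat.odd_pow_iff m.ne_zero).1 (hm ▸ hodd)
    rw [hj, ← two_mul, pow_mul] at hm
    rw [hm, Nat.pow_mod] at hmod
    have h8 : p ^ 2 % 8 = 1 := by
      rw [Nat.pow_mod]
      rw [Nat.odd_iff] at hpodd
      have : p % 8 = 1 ∨ p % 8 = 3 ∨ p % 8 = 5 ∨ p % 8 = 7 := by omega
      rcases this with e | e | e | e <;> rw [e]
    rw [h8, one_pow] at hmod
    norm_num at hmod
  · rw [← hm, S.Q_eq, Int.natAbs_mul, Int.natAbs_natCast]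
    rcases S.δ_cases with e | e <;> simp [e]

theorem two_card (hodd : Odd (Fintype.card F)) (S : Side F) :
    2 * (Nat.card L : ℤ) = |S.Q| * (S.Q ^ 2 - 1) := by
  have h := congrArg Int.ofNat (two_mul_card_psl (F := F) hodd)
  simp only [Int.ofNat_eq_natCast, Nat.cast_mul, Nat.cast_add, Nat.cast_ofNat,
    Nat.cast_sub (Fintype.card_pos (α := F) : 1 ≤ Fintype.card F), Nat.cast_one] at h
  rw [h, S.Q_eq, abs_mul, Nat.abs_cast]
  rcases S.δ_cases with e | e <;> rw [e] <;> norm_num <;> ring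

theorem exists_of_side (hodd : Odd (Fintype.card F)) (h5 : 5 < Fintype.card F)
    (hmod : Fintype.card F % 8 = 3 ∨ Fintype.card F % 8 = 5) (S : Side F) [Fintype L] :
    ∃ D : KData L, D.Q = S.Q := by
  classical
  haveI := Fintype.ofFinite (Cfsg.IrrCharacter L)
  have h2 := GL2.Counts.two_ne_zero_of_odd hodd
  have hq4 : 4 ≤ Fintype.card F := by omega
  obtain ⟨hgt, hQ0, hQ1, hδδ, hqQ⟩ := S.card_ge h5
  obtain ⟨st, hstl, hst⟩ := exists_st (F := F)
  obtain ⟨η, η', hne, hη⟩ := exists_halves h2 S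
  let one : Cfsg.IrrCharacter L := trivIrr L
  let x : Fin 3 → Cfsg.IrrCharacter L := ![η, η', st]
  let c : Fin 3 → ℤ := ![S.δ, S.δ, -S.δ]
  have hkd : kd η = S.kη ∧ kd η' = S.kη ∧ kd st = 1 :=
    ⟨(hη η).2 (Or.inl rfl), (hη η').2 (Or.inr rfl), (hst st).2 rfl⟩
  have hx_ne : ∀ i, x i ≠ one := fun i e => by
    have h0 := (kd_zero_iff _).2 e
    fin_cases i
    · exact S.kη_ne.1 (hkd.1.symm.trans h0)
    · exact S.kη_ne.1 (hkd.2.1.symm.trans h0)
    · exact absurd (hkd.2.2.symm.trans h0) (by decide)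
  have hne1 : η ≠ st := fun e => S.kη_ne.2 (hkd.1.symm.trans (e ▸ hkd.2.2))
  have hne2 : η' ≠ st := fun e => S.kη_ne.2 (hkd.2.1.symm.trans (e ▸ hkd.2.2))
  have hx_inj : Function.Injective x := by
    intro i j e
    fin_cases i <;> fin_cases j <;> simp [x, hne, hne1, hne2, hne.symm, hne1.symm, hne2.symm] at e ⊢
  -- degrees
  have hdegη : ∀ χ : Cfsg.IrrCharacter L, kd χ = S.kη → (χ : L → ℂ) 1 = (S.δ : ℂ) * ((S.Q : ℂ) + 1) / 2 := fun χ h => by
    have h1 := two_mul_one χ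
    have h2' : ((deg2 (Fintype.card F) S.kη : ℕ) : ℂ) = (S.δ : ℂ) * ((S.Q : ℂ) + 1) := by
      exact_mod_cast S.deg_η
    rw [h, h2'] at h1
    linear_combination h1 / 2
  have hdegst : (st : L → ℂ) 1 = (S.δ : ℂ) * S.Q := by
    rw [← hqQ, show (st : L → ℂ) 1 = (lift st : SL(2, F) → ℂ) 1 from rfl, hstl, StS_one]
  have hdegφ : ∀ χ : Cfsg.IrrCharacter L, kd χ = S.kφ → (χ : L → ℂ) 1 = (S.δ : ℂ) * ((S.Q : ℂ) + 1) := fun χ h => by
    have h1 := two_mul_one χ
    have h2' : ((deg2 (Fintype.card F) S.kφ : ℕ) : ℂ) = 2 * (S.δ : ℂ) * ((S.Q : ℂ) + 1) := by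
      exact_mod_cast S.deg_φ
    rw [h, h2'] at h1
    linear_combination h1 / 2
  have hdegψ : ∀ χ : Cfsg.IrrCharacter L, kd χ = S.kψ → (χ : L → ℂ) 1 = (((S.Q - 1).natAbs : ℕ) : ℂ) := fun χ h => by
    have h1 := two_mul_one χ
    have h2' : ((deg2 (Fintype.card F) S.kψ : ℕ) : ℂ) = 2 * (((S.Q - 1).natAbs : ℕ) : ℂ) := by
      have : deg2 (Fintype.card F) S.kψ = 2 * (S.Q - 1).natAbs := by exact_mod_cast S.deg_ψ
      rw [this]; push_cast; ring
    rw [h, h2'] at h1
    linear_combination h1 / 2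
  -- values on the torus
  let θ : Fin 3 → L → ℂ := fun i k => 1 + (c i : ℂ) * (x i : L → ℂ) k
  have hθ : ∀ g : SL(2, F), OnTorus g → ∀ i, θ i (toPSL g) =
      if i = 2 then 0 else if Odd (orderOf (toPSL g)) then 2 else 0 := by
    intro g hg i
    have hhalf : ∀ χ : Cfsg.IrrCharacter L, kd χ = S.kη → 1 + (S.δ : ℂ) * (χ : L → ℂ) (toPSL g) =
        if Odd (orderOf (toPSL g)) then 2 else 0 := fun χ h => by
      have hv := S.η_value _ (lift χ).2 ((kd_eq_iff χ _).1 h) g hg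
      rw [lift_coe] at hv
      split_ifs with ho
      · rw [hv.1 ((pow_half_iff h2 S.n_mod (S.pow_torus g hg)).2 ho)]; norm_num
      · rw [hv.2 (mt (pow_half_iff h2 S.n_mod (S.pow_torus g hg)).1 ho)]; norm_num
    fin_cases i
    · simpa [θ, x, c] using hhalf η hkd.1
    · simpa [θ, x, c] using hhalf η' hkd.2.1
    · have := S.St_value g hg
      rw [← hstl, lift_coe] at this
      simp [θ, x, c, this, hδδ]
  have θ_even : ∀ i k, Even (orderOf k) → θ i k = 0 := fun i k hk => by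
    obtain ⟨g, rfl⟩ := QuotientGroup.mk_surjective k
    rw [hθ g (of_even h2 hk) i, if_neg (Nat.not_odd_iff_even.2 hk), ite_self]
  -- the characters of degree `|Q - 1|`
  let B := {χ : Cfsg.IrrCharacter L // kd χ = S.kψ}
  let e : Fin (Fintype.card B) ≃ B := (Fintype.equivFin B).symm
  let ψ : Fin (Fintype.card B) → L → ℂ := fun l => ((e l).1 : L → ℂ)
  have hψ : ∀ l, ∀ g : SL(2, F), OnTorus g → ψ l (toPSL g) = 0 := fun l g hg => by
    show ((e l).1 : L → ℂ) (toPSL g) = 0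
    rw [← lift_coe]
    exact S.ψ_value _ (lift (e l).1).2 ((kd_eq_iff _ _).1 (e l).2) g hg
  have ψ_even : ∀ l k, Even (orderOf k) → ψ l k = 0 := fun l k hk => by
    obtain ⟨g, rfl⟩ := QuotientGroup.mk_surjective k
    exact hψ l g (of_even h2 hk)
  let Φ : L → ℂ := (S.δ : ℂ) • ∑ χ ∈ Finset.univ.filter (fun χ : Cfsg.IrrCharacter L => kd χ = S.kφ), (χ : L → ℂ)
  let P : Finset (Cfsg.IrrCharacter L) := Finset.univ.filter fun χ => kd χ = S.kφ
  let Ψ : Finset (Cfsg.IrrCharacter L) := Finset.univ.filter fun χ => kd χ = S.kψ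
  -- column orthogonality at `1`
  have hreg : ∀ k : L, (S.Q : ℂ) * ((θ 0 k + θ 1 k) - 2 * θ 2 k) + (θ 0 k + θ 1 k) +
      2 * (((S.Q : ℂ) + 1) * Φ k + ((S.Q - 1).natAbs : ℂ) * ∑ l, ψ l k) =
      if orderOf k = 1 then 2 * (Nat.card L : ℂ) else 0 := by
    intro k
    have hr := congrFun (regular_eq_sum (G := L)) k
    simp only [Finset.sum_apply, Pi.smul_apply, smul_eq_mul] at hr
    rw [← Finset.sum_fiberwise Finset.univ kd, S.sum_kinds] at hr
    have e0 : Finset.univ.filter (fun χ : Cfsg.IrrCharacter L => kd χ = 0) = {one} := by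
      ext χ; simp [kd_zero_iff, one]
    have e1 : Finset.univ.filter (fun χ : Cfsg.IrrCharacter L => kd χ = 1) = {st} := by
      ext χ; simp [hst]
    have eη : Finset.univ.filter (fun χ : Cfsg.IrrCharacter L => kd χ = S.kη) = {η, η'} := by
      ext χ; simp [hη]
    have eo : Finset.univ.filter (fun χ : Cfsg.IrrCharacter L => kd χ = S.ko) = ∅ := by
      ext χ; simp [ne_ko S χ]
    have sφ : ∑ χ ∈ Finset.univ.filter (fun χ : Cfsg.IrrCharacter L => kd χ = S.kφ),
        (χ : L → ℂ) 1 * (χ : L → ℂ) k = ((S.Q : ℂ) + 1) * Φ k := by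
      simp only [Φ, Pi.smul_apply, smul_eq_mul, Finset.sum_apply, Finset.mul_sum]
      exact Finset.sum_congr rfl fun χ hχ => by rw [hdegφ χ (Finset.mem_filter.1 hχ).2]; ring
    have sψ : ∑ χ ∈ Finset.univ.filter (fun χ : Cfsg.IrrCharacter L => kd χ = S.kψ),
        (χ : L → ℂ) 1 * (χ : L → ℂ) k = ((S.Q - 1).natAbs : ℂ) * ∑ l, ψ l k := by
      rw [Finset.sum_subtype (p := fun χ => kd χ = S.kψ) _ (fun χ => by simp)
        (fun χ : Cfsg.IrrCharacter L => (χ : L → ℂ) 1 * (χ : L → ℂ) k), Finset.mul_sum]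
      refine (Fintype.sum_equiv e _ _ fun l => ?_).symm
      rw [hdegψ _ (e l).2]
    rw [e0, e1, eη, eo, Finset.sum_singleton, Finset.sum_singleton, Finset.sum_pair hne,
      Finset.sum_empty, sφ, sψ, hdegη η hkd.1, hdegη η' hkd.2.1, hdegst] at hr
    simp only [one, trivIrr_coe] at hr
    rw [show (if orderOf k = 1 then 2 * (Nat.card L : ℂ) else 0) =
      2 * (if k = 1 then (Nat.card L : ℂ) else 0) by simp [orderOf_eq_one_iff], hr]
    simp only [θ, x, c, Matrix.cons_val_zero, Matrix.cons_val_one, Matrix.cons_val_two,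
      Matrix.head_cons, Matrix.tail_cons, Matrix.cons_val, Int.cast_neg]
    ring
  -- involutions
  obtain ⟨w, -, hw2, hwT⟩ := exists_invol (F := F) h2
  let I : Finset L := Finset.univ.filter fun a => orderOf a = 2
  have hIval : ∀ χ : Cfsg.IrrCharacter L, ∀ u ∈ I, (χ : L → ℂ) u = (χ : L → ℂ) (toPSL w) :=
    fun χ u hu => GL2.ClassifyGL.classFun_eq_of_isConj (irr_isClassFunction χ)
      (invol_conj h2 _ _ hw2 (Finset.mem_filter.1 hu).2)
  have hI : 2 * (I.card : ℂ) = (S.Q : ℂ) * ((S.Q : ℂ) + 1) := by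
    have := invol_card h2 S
    rw [Nat.card_eq_fintype_card, Fintype.card_subtype] at this
    exact_mod_cast this
  have hpairs : ∀ i, (x i : L → ℂ) 1 * ∑ a ∈ I, ∑ b ∈ I, (x i : L → ℂ) (a * b) =
      (I.card : ℂ) ^ 2 := fun i => by
    rw [CharTheory.DihedralEight.sum_mul_involutions (x i).2 I (toPSL w) (fun u hu a =>
      Finset.mem_filter.2 ⟨Finset.mem_univ _, by
        rw [BlockCharsA.RegularPart.orderOf_conj']; exact (Finset.mem_filter.1 hu).2⟩) (hIval _),
      mul_pow]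
    have h1 : ((c i : ℂ) * (x i : L → ℂ) (toPSL w)) ^ 2 = 1 := by
      have h := hθ w hwT i
      rw [if_neg (show ¬ Odd (orderOf (toPSL w)) by rw [hw2]; decide), ite_self] at h
      rw [show (c i : ℂ) * (x i : L → ℂ) (toPSL w) = -1 by linear_combination h]
      norm_num
    have hc : (c i : ℂ) ^ 2 = 1 := by
      fin_cases i <;> simp [c, sq, hδδ]
    rw [mul_pow, hc, one_mul] at h1
    rw [h1, mul_one]
  have himg : ∀ (σ : ℂ ≃+* ℂ) (χ : Cfsg.IrrCharacter L), ∃ χ' : Cfsg.IrrCharacter L,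
      (∀ k, (χ' : L → ℂ) k = σ ((χ : L → ℂ) k)) ∧ kd χ' = kd χ := fun σ χ => by
    refine ⟨⟨_, BlockCharsA.PConjugate.isIrr_aut σ χ.2⟩, fun k => rfl, kd_of_deg hq4 ?_⟩
    show σ ((χ : L → ℂ) 1) = _
    rw [← dg_cast, map_natCast]
  have hkinj : ∀ i, S.kφ ≠ kd (x i) ∧ S.kφ ≠ 0 ∧ S.kψ ≠ kd (x i) ∧ S.kψ ≠ 0 ∧ S.kφ ≠ S.kψ := fun i => by
    have hφη : ∀ k, S.kφ = k → (deg2 (Fintype.card F) k : ℤ) = 2 * S.δ * (S.Q + 1) := fun k h => h ▸ S.deg_φ
    have hψη : ∀ k, S.kψ = k → (deg2 (Fintype.card F) k : ℤ) = 2 * (S.Q - 1).natAbs := fun k h => h ▸ S.deg_ψ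
    have e0 : deg2 (Fintype.card F) 0 = 2 := rfl
    have e1 : deg2 (Fintype.card F) 1 = 2 * Fintype.card F := rfl
    have hQ' := S.Q_eq
    have hη' := S.deg_η
    have hcases : kd (x i) = S.kη ∨ kd (x i) = 1 := by
      fin_cases i
      exacts [Or.inl hkd.1, Or.inl hkd.2.1, Or.inr hkd.2.2]
    refine ⟨fun h => ?_, fun h => ?_, fun h => ?_, fun h => ?_, fun h => ?_⟩
    · have := hφη _ h
      rcases hcases with e | e <;> rw [e] at this <;>
        rcases S.δ_cases with d | d <;> rw [d] at this hQ' hη' <;> omega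
    · have := hφη _ h
      rcases S.δ_cases with d | d <;> rw [d] at this hQ' <;> omega
    · have := hψη _ h
      rcases hcases with e | e <;> rw [e] at this <;>
        rcases S.δ_cases with d | d <;> rw [d] at hQ' hη' <;> omega
    · have := hψη _ h
      rcases S.δ_cases with d | d <;> rw [d] at hQ' <;> omega
    · have h1 := hφη _ h
      have h2' := hψη _ rfl
      rcases S.δ_cases with d | d <;> rw [d] at h1 hQ' <;> omega
  have horth1 : ∀ {χ : Cfsg.IrrCharacter L} {k : Fin 6}, kd χ = k → k ≠ 0 →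
      Cfsg.classInner (χ : L → ℂ) (fun _ => 1) = 0 := fun {χ k} h hk => by
    rw [show (fun _ : L => (1 : ℂ)) = (one : L → ℂ) from (trivIrr_coe).symm]
    exact classInner_isIrr_ne χ.2 one.2 fun e => hk (h ▸ (kd_zero_iff χ).2 (Subtype.ext e))
  have horthθ : ∀ (i : Fin 3) {χ : Cfsg.IrrCharacter L} {k : Fin 6}, kd χ = k → k ≠ 0 → k ≠ kd (x i) →
      Cfsg.classInner (θ i) (χ : L → ℂ) = 0 := fun i χ k h hk hki => by
    rw [show θ i = (one : L → ℂ) + (c i : ℂ) • (x i : L → ℂ) from by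
      funext g; simp [θ, one, trivIrr_coe], classInner_add_left, classInner_smul_left,
      classInner_isIrr_ne one.2 χ.2 fun e => hk (h ▸ (kd_zero_iff χ).2 (Subtype.ext e.symm)),
      classInner_isIrr_ne (x i).2 χ.2 fun e => hki (by rw [← h]; exact congrArg kd (Subtype.ext e.symm))]
    simp
  have hΦ : Φ = (S.δ : ℂ) • ∑ χ ∈ P, (χ : L → ℂ) := rfl
  have haut : ∀ σ : ℂ ≃+* ℂ, ∃ π : Equiv.Perm (Fin 3), π 2 = 2 ∧ ∀ i k, σ (θ i k) = θ (π i) k := by
    intro σ
    obtain ⟨a, ha, hak⟩ := himg σ η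
    obtain ⟨b, hb, hbk⟩ := himg σ η'
    obtain ⟨d, hd, hdk⟩ := himg σ st
    have hab : a ≠ b := fun e =>
      hne (Subtype.ext (funext fun k => σ.injective (by rw [← ha, ← hb, e])))
    have hde : d = st := (hst d).1 (hdk.trans hkd.2.2)
    have hd' : ∀ k, σ ((st : L → ℂ) k) = (st : L → ℂ) k := fun k =>
      (hd k).symm.trans (by rw [hde])
    rcases (hη a).1 (hak.trans hkd.1) with e | e <;> rcases (hη b).1 (hbk.trans hkd.2.1) with e' | e'
    · exact absurd (e.trans e'.symm) hab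
    · refine ⟨Equiv.refl _, rfl, fun i k => ?_⟩
      show σ (1 + (c i : ℂ) * (x i : L → ℂ) k) = _
      rw [map_add, map_one, map_mul, map_intCast]
      fin_cases i <;> simp [θ, x, c, ← ha, ← hb, hd', e, e']
    · refine ⟨Equiv.swap 0 1, by decide, fun i k => ?_⟩
      show σ (1 + (c i : ℂ) * (x i : L → ℂ) k) = _
      rw [map_add, map_one, map_mul, map_intCast]
      fin_cases i <;> simp [θ, x, c, ← ha, ← hb, hd', e, e', Equiv.swap_apply_of_ne_of_ne]
    · exact absurd (e.trans e'.symm) hab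
  refine ⟨
    { Q := S.Q
      Q_mod := S.Q_mod
      Q_pow := Q_pow hodd hmod S
      Q_gt := hgt
      card := two_card hodd S
      invol_conj := invol_conj h2
      invol_card := invol_card h2 S
      θ := θ
      θ_gen := fun i => ?_
      θ_even := θ_even
      θ_one0 := ?_
      θ_one1 := ?_
      θ_one2 := ?_
      θ_inner := fun i j => ?_
      θ_triv := fun i => ?_
      θ_torus := fun i k hk hk1 hc => ?_
      θ_pairs := fun i => ?_
      θ_galois := ?_
      θ_conj := ?_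
      Φ := Φ
      Φ_gen := ?_
      Φ_even := fun k hk => ?_
      N := Fintype.card B
      ψ := ψ
      ψ_gen := fun l => isGen_of_isCharacter (irr_isCharacter (e l).1)
      ψ_even := ψ_even
      ψ_torus := fun l k hk1 hc => ?_
      ψ_one := fun l => hdegψ _ (e l).2
      ψ_inner := fun l l' => ?_
      Φ_triv := ?_
      Φ_θ := fun i => ?_
      Φ_norm := ⟨P.card, ?_, ?_⟩
      ψ_triv := fun l => horth1 (e l).2 (hkinj 0).2.2.2.1
      ψ_θ := fun i l => horthθ i (e l).2 (hkinj i).2.2.2.1 (hkinj i).2.2.1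
      ψ_pairs := fun l => ?_
      θ_aut := ?_
      θ_split := ?_
      regular := hreg }, rfl⟩
  · exact isGen_add (isGen_of_isCharacter isCharacter_one)
      (isGen_intSmul (isGen_of_isCharacter (irr_isCharacter (x i))) (c i))
  · show 2 * (1 + ((c 0 : ℤ) : ℂ) * (x 0 : L → ℂ) 1) = _
    simp only [c, x, Matrix.cons_val_zero, hdegη η hkd.1]
    linear_combination ((S.Q : ℂ) + 1) * hδδ
  · show 2 * (1 + ((c 1 : ℤ) : ℂ) * (x 1 : L → ℂ) 1) = _
    simp only [c, x, Matrix.cons_val_one, Matrix.head_cons, Matrix.cons_val_zero, hdegη η' hkd.2.1]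
    linear_combination ((S.Q : ℂ) + 1) * hδδ
  · show 1 + ((c 2 : ℤ) : ℂ) * (x 2 : L → ℂ) 1 = _
    simp [c, x, hdegst]
    linear_combination -(S.Q : ℂ) * hδδ
  · rw [inner_one_add (hx_ne i) (hx_ne j)]
    simp only [hx_inj.eq_iff]
    split_ifs with h
    · subst h
      fin_cases i <;> simp [c, hδδ] <;> norm_num
    · norm_num
  · have h := inner_one_add (hx_ne i) (hx_ne i) (c i) 0
    simp only [Int.cast_zero, zero_mul, add_zero, mul_zero, ite_self] at h
    exact h
  · obtain ⟨g, rfl⟩ := QuotientGroup.mk_surjective k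
    obtain ⟨v, hv, hcomm⟩ := hc
    rw [hθ g (of_comm_invol h2 hk1 hv hcomm) i, if_pos hk]
  · have hsub : ∑ a : {a : L // orderOf a = 2}, ∑ b : {b : L // orderOf b = 2},
        θ i ((a : L) * b) = ∑ a ∈ I, ∑ b ∈ I, θ i (a * b) := by
      rw [Finset.sum_subtype (p := fun a : L => orderOf a = 2) I (fun a => by simp [I])]
      exact Finset.sum_congr rfl fun a _ =>
        (Finset.sum_subtype (p := fun a : L => orderOf a = 2) I (fun a => by simp [I])
          (fun b => θ i ((a : L) * b))).symm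
    have hdne : (x i : L → ℂ) 1 ≠ 0 := irr_one_ne_zero (x i).2
    have key : (x i : L → ℂ) 1 * (4 * ∑ a ∈ I, ∑ b ∈ I, θ i (a * b)) =
        ((x i : L → ℂ) 1 + (c i : ℂ)) * (2 * (I.card : ℂ)) ^ 2 := by
      simp only [θ, Finset.sum_add_distrib, ← Finset.mul_sum, Finset.sum_const, nsmul_eq_mul, mul_one]
      linear_combination 4 * (c i : ℂ) * hpairs i
    rw [hI] at key
    rw [hsub]
    refine mul_left_cancel₀ hdne (key.trans ?_)
    fin_cases i
    · simp [x, c, hdegη η hkd.1]; ring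
    · simp [x, c, hdegη η' hkd.2.1]; ring
    · simp [x, c, hdegst]; ring
  · obtain ⟨σ, hσ⟩ := S.moved _ (lift η).2 ((kd_eq_iff η _).1 hkd.1)
    obtain ⟨a, ha, hak⟩ := himg σ η
    obtain ⟨b, hb, hbk⟩ := himg σ η'
    obtain ⟨d, hd, hdk⟩ := himg σ st
    have hae : a = η' := ((hη a).1 (hak.trans hkd.1)).resolve_left fun e => hσ (by
      rw [lift_coe, ← ha, e])
    have hbe : b = η := ((hη b).1 (hbk.trans hkd.2.1)).resolve_right fun e => hne (by
      refine Subtype.ext (funext fun k => σ.injective ?_)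
      rw [← ha, ← hb, hae, e])
    have hde : d = st := (hst d).1 (hdk.trans hkd.2.2)
    subst hae hbe hde
    refine ⟨σ, fun i k => ?_⟩
    show σ (1 + (c i : ℂ) * (x i : L → ℂ) k) = _
    rw [map_add, map_one, map_mul, map_intCast]
    fin_cases i
    · simp [θ, x, c, ← ha]
    · simp [θ, x, c, ← hb]
    · simp [θ, x, c, ← hd, Equiv.swap_apply_of_ne_of_ne]
  · obtain ⟨π, hπ, h⟩ := haut starRingAut
    exact ⟨π, hπ, fun i k => h i k⟩
  · exact isGen_intSmul (isGen_sum _ _ fun χ _ => isGen_of_isCharacter (irr_isCharacter χ)) S.δ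
  · have h := hreg k
    have hne : orderOf k ≠ 1 := fun e => by rw [e] at hk; exact Nat.not_even_one hk
    rw [if_neg hne, θ_even 0 k hk, θ_even 1 k hk, θ_even 2 k hk,
      Finset.sum_eq_zero (fun l _ => ψ_even l k hk)] at h
    have h' : ((S.Q : ℂ) + 1) * Φ k = 0 := by linear_combination h / 2
    exact (mul_eq_zero.1 h').resolve_left hQ1
  · obtain ⟨g, rfl⟩ := QuotientGroup.mk_surjective k
    obtain ⟨v, hv, hcomm⟩ := hc
    exact hψ l g (of_comm_invol h2 hk1 hv hcomm)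
  · split_ifs with h
    · subst h; exact classInner_isIrr_self (e l).1.2
    · exact classInner_isIrr_ne (e l).1.2 (e l').1.2 fun h' =>
        h (e.injective (Subtype.ext (Subtype.ext h')))
  · rw [hΦ, classInner_smul_left, classInner_sum_left, Finset.sum_eq_zero fun χ hχ =>
      horth1 (Finset.mem_filter.1 hχ).2 (hkinj 0).2.1]
    simp
  · rw [hΦ, classInner_smul_right, classInner_sum_right, Finset.sum_eq_zero fun χ hχ =>
      horthθ i (Finset.mem_filter.1 hχ).2 (hkinj i).2.1 (hkinj i).1]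
    simp
  · rw [hΦ, classInner_smul_left, classInner_smul_right, classInner_sum_left,
      Finset.sum_congr rfl fun χ hχ => by
        rw [classInner_sum_right, Finset.sum_eq_single χ (fun χ' _ hne => classInner_isIrr_ne χ.2 χ'.2
          fun h => hne (Subtype.ext h.symm)) (fun h => absurd hχ h), classInner_isIrr_self χ.2]]
    simp [hδδ, map_intCast, ← mul_assoc]
  · have h0 := congrFun (regular_eq_sum (G := L)) 1
    simp only [Finset.sum_apply, Pi.smul_apply, smul_eq_mul, if_true] at h0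
    have hd : ∀ χ ∈ P, ((dg χ : ℕ) : ℤ) ^ 2 = (S.Q + 1) ^ 2 := fun χ hχ => by
      have h1 := hdegφ χ (Finset.mem_filter.1 hχ).2
      rw [← dg_cast] at h1
      have h2 : ((dg χ : ℕ) : ℤ) = S.δ * (S.Q + 1) := by exact_mod_cast h1
      rw [h2, mul_pow]
      rcases S.δ_cases with d | d <;> rw [d] <;> norm_num
    have h1 : ∑ χ : Cfsg.IrrCharacter L, ((dg χ : ℕ) : ℤ) ^ 2 = (Nat.card L : ℤ) := by
      have : ((∑ χ : Cfsg.IrrCharacter L, ((dg χ : ℕ) : ℤ) ^ 2 : ℤ) : ℂ) = ((Nat.card L : ℤ) : ℂ) := by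
        push_cast
        rw [h0]
        exact Finset.sum_congr rfl fun χ _ => by rw [← dg_cast]; ring
      exact_mod_cast this
    rw [← h1]
    calc (P.card : ℤ) * (S.Q + 1) ^ 2 = ∑ χ ∈ P, ((dg χ : ℕ) : ℤ) ^ 2 := by
          rw [Finset.sum_congr rfl hd, Finset.sum_const, nsmul_eq_mul]
      _ ≤ _ := Finset.sum_le_sum_of_subset_of_nonneg (Finset.subset_univ _) fun χ _ _ => by positivity
  · have hsub : ∑ a : {a : L // orderOf a = 2}, ∑ b : {b : L // orderOf b = 2},
        ψ l ((a : L) * b) = ∑ a ∈ I, ∑ b ∈ I, ψ l (a * b) := by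
      rw [Finset.sum_subtype (p := fun a : L => orderOf a = 2) I (fun a => by simp [I])]
      exact Finset.sum_congr rfl fun a _ =>
        (Finset.sum_subtype (p := fun a : L => orderOf a = 2) I (fun a => by simp [I])
          (fun b => ψ l ((a : L) * b))).symm
    have h := CharTheory.DihedralEight.sum_mul_involutions (e l).1.2 I (toPSL w) (fun u hu a =>
      Finset.mem_filter.2 ⟨Finset.mem_univ _, by
        rw [BlockCharsA.RegularPart.orderOf_conj']; exact (Finset.mem_filter.1 hu).2⟩) (hIval _)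
    have hz : ψ l (toPSL w) = 0 := ψ_even l _ (by rw [hw2]; decide)
    rw [show ((e l).1 : L → ℂ) = ψ l from rfl, hz, mul_zero, zero_pow two_ne_zero] at h
    rw [hsub]
    exact (mul_eq_zero.1 h).resolve_left (irr_one_ne_zero (e l).1.2)
  · exact haut
  · obtain ⟨σ, hσ⟩ := S.moved _ (lift η).2 ((kd_eq_iff η _).1 hkd.1)
    obtain ⟨a, ha, hak⟩ := himg σ η
    have hae : a = η' := ((hη a).1 (hak.trans hkd.1)).resolve_left fun e => hσ (by
      rw [lift_coe, ← ha, e])
    refine ⟨toPSL (mkS 1 1), ?_, fun h => ?_⟩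
    · obtain ⟨p, hp⟩ := CharP.exists F
      obtain ⟨m, hpr, hm⟩ := FiniteField.card F p
      refine ⟨1, ?_⟩
      have hpk : orderOf (toPSL (mkS 1 1 : SL(2, F))) ∣ p := by
        refine (orderOf_map_dvd (QuotientGroup.mk' (Subgroup.center SL(2, F))) (mkS 1 1)).trans
          (orderOf_dvd_of_pow_eq_one ?_)
        have key : ∀ n : ℕ, (mkS 1 1 : SL(2, F)) ^ n = mkS 1 (n : F) := by
          intro n
          induction n with
          | zero => ext i j; fin_cases i <;> fin_cases j <;> simp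
          | succ n ih =>
            rw [pow_succ, ih]
            ext i j
            fin_cases i <;> fin_cases j <;> simp [Matrix.mul_apply, Fin.sum_univ_two, add_comm]
        rw [key, CharP.cast_eq_zero]
        ext i j
        fin_cases i <;> fin_cases j <;> simp
      refine hpk.trans ?_
      rw [pow_one, show S.Q.natAbs = Fintype.card F by
        rw [S.Q_eq, Int.natAbs_mul, Int.natAbs_natCast]
        rcases S.δ_cases with d | d <;> simp [d], hm]
      exact dvd_pow_self p m.ne_zero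
    · apply hσ
      simp only [θ, x, c, Matrix.cons_val_zero, Matrix.cons_val_one, add_right_inj] at h
      have hδ0 : (S.δ : ℂ) ≠ 0 := fun e => by simp [e] at hδδ
      rw [lift_coe, ← ha, hae]
      exact (mul_left_cancel₀ hδ0 h).symm

end Cfsg.Agent.JT.KD

namespace Cfsg.Agent.JT

open Cfsg.Agent.JT.KD

universe u

/-- The data of `PSL₂(q)` for `q ≡ 3, 5 (mod 8)`, `q > 5`. -/
theorem exists_kdata {F : Type u} [Field F] [Fintype F] [DecidableEq F]
    [Fintype (Matrix.ProjectiveSpecialLinearGroup (Fin 2) F)] (hodd : Odd (Fintype.card F))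
    (h5 : 5 < Fintype.card F) (hmod : Fintype.card F % 8 = 3 ∨ Fintype.card F % 8 = 5) :
    ∃ D : KData (Matrix.ProjectiveSpecialLinearGroup (Fin 2) F),
      D.Q = if Fintype.card F % 8 = 5 then (Fintype.card F : ℤ) else -(Fintype.card F : ℤ) := by
  obtain ⟨S, hS⟩ := exists_side (F := F) hodd h5 hmod
  obtain ⟨D, hD⟩ := exists_of_side hodd h5 hmod S
  exact ⟨D, hD.trans hS⟩

end Cfsg.Agent.JT
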