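import Mathlib
import Cfsg.Agent.Lib.JT.FinalATwo
import Cfsg.Agent.Lib.JT.FinalB
import Cfsg.Agent.Lib.JT.FiveFuns
import Cfsg.Agent.Lib.JT.Local
import Cfsg.Agent.Lib.JT.KData

/-!
The order of a simple group with abelian Sylow `2`-subgroups and an involution centralizer
`C₂ × PSL₂(q)`, `q` odd, `q > 5`.
-/

set_option autoImplicit false
set_option linter.unusedSectionVars false
set_option linter.style.haveILetI false

namespace Cfsg.Agent.JT

open Cfsg.Agent.Characters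
open Cfsg.Agent.JT.Lattice

universe u v

namespace Setup

variable {G : Type u} [Group G] [Fintype G] [Fintype (Cfsg.IrrCharacter G)]
  [DecidableEq (Cfsg.IrrCharacter G)] {K : Type v} [Group K] [Fintype K] [DecidableEq K]
  {H : Setup G K} {D : KData K} (W : H.Torus D) (hL : H.Local)
include hL

/-- Without centralizers `A₅` the parameters are those of a Ree group. -/
theorem ree_params [IsSimpleGroup G] (hN : W.NoFive) :
    ∃ m : ℕ, 1 ≤ m ∧ D.Q = -(3 ^ (2 * m + 1) : ℤ) ∧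
      H.gq D = 2 * D.x * D.Q * (D.Q ^ 2 + D.Q + 1) := by
  obtain ⟨e, ⟨f, S⟩ | ⟨f, S⟩⟩ := H.exists_shape D hL
  · obtain ⟨f', S', hA⟩ := H.alignA D hL S
    obtain ⟨m, hm, hQ, hg, -⟩ := final_A W hL hN S' hA
    exact ⟨m, hm, hQ, hg⟩
  · exact (final_B W hL hN S).elim

omit hL in
/-- The order from the parameters. -/
theorem card_ree {m : ℕ} (hQ : D.Q = -(3 ^ (2 * m + 1) : ℤ))
    (hg : H.gq D = 2 * D.x * D.Q * (D.Q ^ 2 + D.Q + 1)) :
    Nat.card G = (3 ^ (2 * m + 1)) ^ 3 * ((3 ^ (2 * m + 1)) ^ 3 + 1) * (3 ^ (2 * m + 1) - 1) := by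
  set N : ℕ := 3 ^ (2 * m + 1) with hN
  have h1 : 1 ≤ N := Nat.one_le_pow _ _ (by norm_num)
  have hQ' : D.Q = -(N : ℤ) := by rw [hQ, hN]; push_cast; rfl
  have hab : (D.Q - 1).natAbs = N + 1 := by rw [hQ']; omega
  have hx : (2 : ℚ) * (D.x : ℚ) = 1 - (N : ℚ) := by
    have := D.Q_eq
    have h : 2 * D.x = 1 - (N : ℤ) := by omega
    exact_mod_cast h
  have h := H.gq_mul D
  rw [hg, hab, hQ', hx] at h
  have h' : (Nat.card G : ℚ) = (((N ^ 3 * (N ^ 3 + 1) * (N - 1) : ℕ)) : ℚ) := by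
    rw [h]; push_cast [Nat.cast_sub h1]; ring
  exact_mod_cast h'

end Setup

theorem order_odd {G : Type u} [Group G] [Finite G] [IsSimpleGroup G]
    (hab : ∀ P : Sylow 2 G, ∀ a b : P, a * b = b * a) {F : Type v} [Field F] [Fintype F]
    (hodd : Odd (Fintype.card F)) (h5 : 5 < Fintype.card F)
    (H : Setup G (Matrix.ProjectiveSpecialLinearGroup (Fin 2) F))
    (hfive : ∀ [Fintype G] [Fintype (Cfsg.IrrCharacter G)] [DecidableEq (Cfsg.IrrCharacter G)]
      [Fintype (Matrix.ProjectiveSpecialLinearGroup (Fin 2) F)]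
      [DecidableEq (Matrix.ProjectiveSpecialLinearGroup (Fin 2) F)]
      {D : KData (Matrix.ProjectiveSpecialLinearGroup (Fin 2) F)} (W : H.Torus D),
      H.Local → ¬ W.NoFive → False) :
    ∃ m : ℕ, 1 ≤ m ∧ Fintype.card F = 3 ^ (2 * m + 1) ∧
      Nat.card G = (3 ^ (2 * m + 1)) ^ 3 * ((3 ^ (2 * m + 1)) ^ 3 + 1) * (3 ^ (2 * m + 1) - 1) := by
  classical
  haveI := Fintype.ofFinite G
  haveI := Fintype.ofFinite (Cfsg.IrrCharacter G)
  haveI := Fintype.ofFinite (Matrix.ProjectiveSpecialLinearGroup (Fin 2) F)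
  obtain ⟨hmod, hL, hT⟩ := Setup.local_facts hab hodd (by omega) H
  obtain ⟨D, hD⟩ := exists_kdata (F := F) hodd h5 hmod
  have habs : D.Q.natAbs = Fintype.card F := by rw [hD]; split_ifs <;> simp
  obtain ⟨W⟩ := hT D habs
  by_cases hN : W.NoFive
  · obtain ⟨m, hm, hQ, hg⟩ := Setup.ree_params W hL hN
    refine ⟨m, hm, ?_, Setup.card_ree hQ hg⟩
    rw [← habs, hQ, Int.natAbs_neg, Int.natAbs_pow]; rfl
  · exact (hfive W hL hN).elim

end Cfsg.Agent.JT
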