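import Mathlib
import Cfsg.Agent.Lib.JT.Defs
import Cfsg.Agent.Lib.ZStar.Main
import Cfsg.Agent.Lib.Classical.OddIndex.Criterion

/-!
# An elementary Sylow subgroup `S = ⟨t⟩ × U` with `C(t) ∩ N(S)` transitive on `U`

In a simple group `N(S)` is transitive on the involutions of `S`, and `S` has order at most eight:
the subgroups conjugate to `U` would otherwise make a tournament on a projective space of
dimension at least three over the field with two elements, which is linear in both arguments.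
-/

set_option autoImplicit false
set_option linter.unusedSectionVars false

namespace Cfsg.Agent.JT.Small

universe u

variable {G : Type u} [Group G]

theorem parity_point {A B C D E F : Prop} (h1 : A ↔ ¬ D) (h2 : B ↔ ¬ E) (h3 : C ↔ ¬ F)
    (h4 : F ↔ (D ↔ E)) : (A ↔ B) ↔ ¬ C := by
  simp [h1, h2, h3, h4, not_iff_not]

theorem parity_plane {A B C D E F X Y Z : Prop} (h1 : (A ↔ B) ↔ ¬ C) (h2 : (D ↔ E) ↔ ¬ F)
    (h3 : (X ↔ Y) ↔ ¬ Z) (h4 : X ↔ (A ↔ D)) (h5 : Y ↔ (B ↔ E)) (h6 : Z ↔ (C ↔ F)) : False := by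
  by_cases A <;> by_cases B <;> by_cases D <;> by_cases E <;> simp_all

/-- The configuration. -/
structure Frame (G : Type u) [Group G] where
  t : G
  S : Sylow 2 G
  U : Subgroup G
  ht : orderOf t = 2
  U_le : U ≤ (S : Subgroup G)
  t_mem : t ∈ (S : Subgroup G)
  t_notMem : t ∉ U
  comm : ∀ a ∈ (S : Subgroup G), ∀ b ∈ (S : Subgroup G), a * b = b * a
  sq : ∀ a ∈ (S : Subgroup G), a * a = 1
  cases : ∀ a ∈ (S : Subgroup G), a ∈ U ∨ t * a ∈ U
  card_U : Even (Nat.card U)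
  norm : ∀ c : G, Commute c t → c ∈ Subgroup.normalizer ((S : Subgroup G) : Set G) →
    ∀ u ∈ U, c * u * c⁻¹ ∈ U
  trans : ∀ u ∈ U, u ≠ 1 → ∀ v ∈ U, v ≠ 1 → ∃ c : G, Commute c t ∧
    c ∈ Subgroup.normalizer ((S : Subgroup G) : Set G) ∧ c * u * c⁻¹ = v

namespace Frame

variable (f : Frame G)

/-- The normalizer of `S`. -/
abbrev N : Subgroup G := Subgroup.normalizer ((f.S : Subgroup G) : Set G)

theorem t_ne : f.t ≠ 1 := fun h => by
  have := f.ht; rw [h, orderOf_one] at this; omega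

theorem t_sq : f.t * f.t = 1 := f.sq _ f.t_mem

theorem conj_mem {n x : G} (hn : n ∈ f.N) (hx : x ∈ (f.S : Subgroup G)) :
    n * x * n⁻¹ ∈ (f.S : Subgroup G) := (Subgroup.mem_normalizer_iff.1 hn x).1 hx

theorem not_both {a : G} (h : a ∈ f.U) : f.t * a ∉ f.U := fun h' => f.t_notMem (by
  have := mul_mem h' (inv_mem h)
  rwa [mul_inv_cancel_right] at this)

theorem conj_t {c : G} (hc : Commute c f.t) : c * f.t * c⁻¹ = f.t := by rw [hc.eq, mul_inv_cancel_right]

/-- `C(t) ∩ N(S)` is transitive on the two kinds of involutions other than `t`. -/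
theorem trans' {x y : G} (hx : x ∈ (f.S : Subgroup G)) (hx1 : x ≠ 1) (hxt : x ≠ f.t)
    (hy : y ∈ (f.S : Subgroup G)) (hy1 : y ≠ 1) (hyt : y ≠ f.t) (hxy : x ∈ f.U ↔ y ∈ f.U) :
    ∃ c : G, Commute c f.t ∧ c ∈ f.N ∧ c * x * c⁻¹ = y := by
  rcases f.cases x hx with h | h
  · exact f.trans x h hx1 y (hxy.1 h) hy1
  have hxU : x ∉ f.U := fun h' => f.not_both h' h
  have hy' : f.t * y ∈ f.U := (f.cases y hy).resolve_left fun h' => hxU (hxy.2 h')
  have ne : ∀ {z : G}, z ≠ f.t → f.t * z ≠ 1 := fun {z} hz e => hz (by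
    calc z = f.t * (f.t * z) := by rw [← mul_assoc, f.t_sq, one_mul]
      _ = f.t := by rw [e, mul_one])
  obtain ⟨c, hct, hcN, hc⟩ := f.trans _ h (ne hxt) _ hy' (ne hyt)
  refine ⟨c, hct, hcN, mul_left_cancel (a := f.t) ?_⟩
  rw [← hc]
  calc f.t * (c * x * c⁻¹) = (f.t * c) * x * c⁻¹ := by group
    _ = c * (f.t * x) * c⁻¹ := by rw [← hct.eq]; group

variable [Finite G]

/-- Conjugacy in `G` is conjugacy in `N(S)`. -/
theorem burnside {y : G} (hy : y ∈ (f.S : Subgroup G)) (h : IsConj f.t y) :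
    ∃ n ∈ f.N, n * f.t * n⁻¹ = y := by
  haveI := Fact.mk Nat.prime_two
  haveI : IsMulCommutative (f.S : Subgroup G) :=
    ⟨⟨fun a b => Subtype.ext (f.comm a a.2 b b.2)⟩⟩
  obtain ⟨g, hg⟩ := isConj_iff.1 h
  obtain ⟨n, hn, he⟩ := f.S.conj_eq_normalizer_conj_of_mem f.t g⁻¹ f.t_mem (by rwa [inv_inv, hg])
  exact ⟨n⁻¹, inv_mem hn, by rw [inv_inv, ← he, inv_inv, hg]⟩

theorem exists_moved [IsSimpleGroup G] :
    ∃ n ∈ f.N, n * f.t * n⁻¹ ≠ f.t := by
  by_contra hcon
  push Not at hcon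
  haveI := Fact.mk Nat.prime_two
  -- `t` is isolated, hence central
  have hiso : Cfsg.IsIsolatedInvolution f.t := by
    refine ⟨f.ht, fun g hg => by_contra fun hne => ?_⟩
    set x := g * f.t * g⁻¹ with hx
    have hx2 : x * x = 1 := by
      calc x * x = g * (f.t * f.t) * g⁻¹ := by rw [hx]; group
        _ = 1 := by rw [f.t_sq]; group
    have hW : IsPGroup 2 (Subgroup.closure ({f.t, x} : Set G)) := by
      have hc : IsMulCommutative (Subgroup.closure ({f.t, x} : Set G)) := by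
        refine Subgroup.isMulCommutative_closure ?_
        rintro a (rfl | rfl) b (rfl | rfl) <;> first | rfl | exact hg.eq | exact hg.eq.symm
      intro a
      refine ⟨1, Subtype.ext ?_⟩
      rw [SubgroupClass.coe_pow, OneMemClass.coe_one, pow_one, pow_two]
      obtain ⟨a, ha⟩ := a
      show a * a = 1
      induction ha using Subgroup.closure_induction with
      | mem a ha => rcases ha with rfl | rfl; exacts [f.t_sq, hx2]
      | one => exact one_mul 1
      | mul a b ha hb h1 h2 =>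
        have hab : a * b = b * a :=
          congrArg Subtype.val (hc.is_comm.comm (⟨a, ha⟩ : Subgroup.closure _) ⟨b, hb⟩)
        calc a * b * (a * b) = a * b * (b * a) := by rw [← hab]
          _ = a * (b * b) * a := by group
          _ = 1 := by rw [h2, mul_one, h1]
      | inv a _ h1 => rw [← mul_inv_rev, h1, inv_one]
    obtain ⟨P, hP⟩ := hW.exists_le_sylow
    obtain ⟨h, hh⟩ := MulAction.exists_smul_eq G P f.S
    have hmem : ∀ a ∈ Subgroup.closure ({f.t, x} : Set G), h * a * h⁻¹ ∈ (f.S : Subgroup G) :=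
      fun a ha => by rw [← hh]; exact ⟨a, hP ha, rfl⟩
    obtain ⟨n, hn, e1⟩ := f.burnside (hmem f.t (Subgroup.subset_closure (by simp)))
      (isConj_iff.2 ⟨h, rfl⟩)
    obtain ⟨n', hn', e2⟩ := f.burnside (hmem x (Subgroup.subset_closure (by simp)))
      (isConj_iff.2 ⟨h * g, by rw [hx]; group⟩)
    rw [hcon n hn] at e1
    rw [hcon n' hn'] at e2
    apply hne
    calc x = h⁻¹ * (h * x * h⁻¹) * h := by group
      _ = h⁻¹ * (h * f.t * h⁻¹) * h := by rw [← e2, ← e1]
      _ = f.t := by group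
  have h2 : 2 ∣ Nat.card G := f.ht ▸ orderOf_dvd_natCard f.t
  have hO : Cfsg.oddCore G = ⊥ := by
    rcases (ZStar.Main.oddCore_normal (G := G)).eq_bot_or_eq_top with h0 | h0
    · exact h0
    · exfalso
      have h1 := InvChar.Core.odd_card_oddCore (G := G)
      rw [h0, Subgroup.card_top, Nat.odd_iff] at h1
      omega
  have hc := ZStar.Main.mem_center_of_isolated hO hiso
  rcases (inferInstance : (Subgroup.center G).Normal).eq_bot_or_eq_top with h0 | h0
  · rw [h0, Subgroup.mem_bot] at hc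
    exact f.t_ne hc
  -- `G` is abelian, hence of order two
  obtain ⟨a, ha⟩ : ∃ a : f.U, a ≠ 1 := by
    by_contra h
    push Not at h
    have : Nat.card f.U = 1 := Nat.card_eq_one_iff_unique.2 ⟨⟨fun x y => by rw [h x, h y]⟩, ⟨1⟩⟩
    have := f.card_U
    rw [‹Nat.card f.U = 1›] at this
    exact Nat.not_even_one this
  have hn : (Subgroup.zpowers f.t).Normal := ⟨fun z hz g => by
    have : g * z = z * g := Subgroup.mem_center_iff.1 (h0 ▸ Subgroup.mem_top z) g
    rwa [this, mul_inv_cancel_right]⟩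
  rcases hn.eq_bot_or_eq_top with h | h
  · exact f.t_ne (Subgroup.zpowers_eq_bot.1 h)
  · obtain ⟨k, hk⟩ := Subgroup.mem_zpowers_iff.1 (h ▸ Subgroup.mem_top (a : G))
    rcases Int.even_or_odd k with ⟨m, rfl⟩ | ⟨m, rfl⟩
    · rw [← two_mul, zpow_mul, zpow_two, f.t_sq, one_zpow] at hk
      exact ha (Subtype.ext hk.symm)
    · rw [zpow_add_one, zpow_mul, zpow_two, f.t_sq, one_zpow, one_mul] at hk
      exact f.t_notMem (hk ▸ a.2)

/-- `N(S)` is transitive on the involutions of `S`. -/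
theorem orbit [IsSimpleGroup G] {p : G} (hp : p ∈ (f.S : Subgroup G)) (hp1 : p ≠ 1) :
    ∃ n ∈ f.N, n * f.t * n⁻¹ = p := by
  classical
  haveI := Fact.mk Nat.prime_two
  obtain ⟨n₀, hn₀, hne⟩ := f.exists_moved
  set x₀ := n₀ * f.t * n₀⁻¹ with hx₀
  have hx₀S : x₀ ∈ (f.S : Subgroup G) := f.conj_mem hn₀ f.t_mem
  have hx₀1 : x₀ ≠ 1 := fun e => f.t_ne (conj_eq_one_iff.1 e)
  let O : Set G := {y | ∃ n ∈ f.N, n * f.t * n⁻¹ = y}
  have hkind : ∀ y, y ∈ (f.S : Subgroup G) → y ≠ 1 → y ≠ f.t → ∀ z ∈ O, z ≠ f.t →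
      (z ∈ f.U ↔ y ∈ f.U) → y ∈ O := by
    rintro y hy hy1 hyt z ⟨n, hn, rfl⟩ hzt hiff
    obtain ⟨c, hc, hcN, e⟩ := f.trans' (f.conj_mem hn f.t_mem)
      (fun e => f.t_ne (conj_eq_one_iff.1 e)) hzt hy hy1 hyt hiff
    exact ⟨c * n, mul_mem hcN hn, by rw [← e]; group⟩
  by_contra hpO
  have hpt : p ≠ f.t := fun e => hpO ⟨1, one_mem _, by rw [e]; group⟩
  have hsep : ¬ (x₀ ∈ f.U ↔ p ∈ f.U) := fun h =>
    hpO (hkind p hp hp1 hpt x₀ ⟨n₀, hn₀, rfl⟩ hne h)
  -- so the orbit is `t` and the nontrivial elements of one coset of `U`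
  let φ : f.U → G := fun u => if (u : G) = 1 then f.t else if x₀ ∈ f.U then (u : G) else f.t * u
  have hφ : Function.Injective φ := by
    intro a b e
    simp only [φ] at e
    split_ifs at e with h1 h2 h3 h4 h5
    · exact Subtype.ext (h1.trans h2.symm)
    · exact absurd (e ▸ b.2) f.t_notMem
    · exact absurd (mul_eq_left.1 e.symm) h2
    · exact absurd (e ▸ a.2 : f.t ∈ f.U) f.t_notMem
    · exact Subtype.ext e
    · exact absurd (mul_eq_left.1 e) h1
    · exact Subtype.ext (mul_left_cancel e)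
  have himg : Set.range φ = O := by
    ext y
    constructor
    · rintro ⟨u, rfl⟩
      simp only [φ]
      split_ifs with h1 h2
      · exact ⟨1, one_mem _, by group⟩
      · exact hkind u (f.U_le u.2) h1 (fun e => f.t_notMem (e ▸ u.2)) x₀ ⟨n₀, hn₀, rfl⟩ hne
          (iff_of_true h2 u.2)
      · refine hkind _ (mul_mem f.t_mem (f.U_le u.2)) ?_ (fun e => h1 (mul_eq_left.1 e)) x₀
          ⟨n₀, hn₀, rfl⟩ hne (iff_of_false h2 (f.not_both u.2))
        exact fun e => f.t_notMem (by rw [eq_inv_of_mul_eq_one_left e]; exact inv_mem u.2)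
    · rintro ⟨n, hn, rfl⟩
      set y := n * f.t * n⁻¹ with hy
      by_cases hyt : y = f.t
      · exact ⟨1, by simp [φ, hyt]⟩
      have hyS : y ∈ (f.S : Subgroup G) := f.conj_mem hn f.t_mem
      have hy1 : y ≠ 1 := fun e => f.t_ne (conj_eq_one_iff.1 e)
      have hiff : x₀ ∈ f.U ↔ y ∈ f.U := by
        by_contra h
        refine hpO (hkind p hp hp1 hpt y ⟨n, hn, rfl⟩ hyt ?_)
        tauto
      by_cases hx : x₀ ∈ f.U
      · exact ⟨⟨y, hiff.1 hx⟩, by simp [φ, hy1, hx]⟩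
      · have hty : f.t * y ∈ f.U := (f.cases y hyS).resolve_left fun h => hx (hiff.2 h)
        have hty1 : f.t * y ≠ 1 := fun e => hyt (by
          calc y = f.t * (f.t * y) := by rw [← mul_assoc, f.t_sq, one_mul]
            _ = f.t := by rw [e, mul_one])
        exact ⟨⟨_, hty⟩, by simp [φ, hty1, hx, ← mul_assoc, f.t_sq]⟩
  -- but its cardinality is odd
  let φN : f.N →* ConjAct G := (ConjAct.toConjAct (G := G)).toMonoidHom.comp f.N.subtype
  letI : MulAction f.N G := MulAction.compHom G φN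
  have horb : MulAction.orbit f.N f.t = O := by
    ext y
    constructor
    · rintro ⟨⟨n, hn⟩, rfl⟩; exact ⟨n, hn, rfl⟩
    · rintro ⟨n, hn, rfl⟩; exact ⟨⟨n, hn⟩, rfl⟩
  have hU : Nat.card (MulAction.orbit f.N f.t) = Nat.card f.U := by
    rw [horb, ← himg, Nat.card_range_of_injective hφ]
  have hle : (f.S : Subgroup G).subgroupOf f.N ≤ MulAction.stabilizer f.N f.t := by
    intro n hn
    rw [MulAction.mem_stabilizer_iff]
    show (n : G) * f.t * (n : G)⁻¹ = f.t
    rw [f.comm _ (Subgroup.mem_subgroupOf.1 hn) _ f.t_mem, mul_inv_cancel_right]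
  have hodd : ¬ 2 ∣ ((f.S : Subgroup G).subgroupOf f.N).index := by
    intro h
    exact f.S.not_dvd_index
      (h.trans ⟨_, (Subgroup.relIndex_mul_index Subgroup.le_normalizer).symm⟩)
  have hdiv := Subgroup.index_dvd_of_le hle
  rw [MulAction.index_stabilizer, ← Nat.card_coe_set_eq, hU] at hdiv
  exact hodd (f.card_U.two_dvd.trans hdiv)

/-- An element of `N(S)` cannot exchange `t` with another involution of `S`. -/
theorem no_swap {h u : G} (hh : h ∈ f.N) (h1 : h * f.t * h⁻¹ = u) (h2 : h * u * h⁻¹ = f.t)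
    (hu : u ≠ f.t) : False := by
  haveI := Fact.mk Nat.prime_two
  obtain ⟨a, b, hb, hab⟩ := Nat.exists_eq_two_pow_mul_odd (orderOf_pos h).ne'
  have hodd : ∀ j : ℕ, h ^ (2 * j) * f.t * (h ^ (2 * j))⁻¹ = f.t := by
    intro j
    induction j with
    | zero => simp
    | succ j ih =>
      calc h ^ (2 * (j + 1)) * f.t * (h ^ (2 * (j + 1)))⁻¹
          = h * (h * (h ^ (2 * j) * f.t * (h ^ (2 * j))⁻¹) * h⁻¹) * h⁻¹ := by
            rw [show 2 * (j + 1) = 2 * j + 1 + 1 by ring, pow_succ', pow_succ']; group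
        _ = f.t := by rw [ih, h1, h2]
  have hS : h ^ b ∈ (f.S : Subgroup G) :=
    Classical.OddIndex.mem_of_two_element f.S (a := a)
      (by rw [← pow_mul, mul_comm, ← hab, pow_orderOf_eq_one]) (pow_mem hh _)
  obtain ⟨j, rfl⟩ := hb
  have e : h ^ (2 * j + 1) * f.t * (h ^ (2 * j + 1))⁻¹ = u := by
    rw [pow_succ', show h * h ^ (2 * j) * f.t * (h * h ^ (2 * j))⁻¹ =
      h * (h ^ (2 * j) * f.t * (h ^ (2 * j))⁻¹) * h⁻¹ by group, hodd, h1]
  rw [f.comm _ hS _ f.t_mem, mul_inv_cancel_right] at e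
  exact hu e.symm

/-- The Sylow subgroup has order at most eight. -/
theorem card_lt [IsSimpleGroup G] : Nat.card (f.S : Subgroup G) < 16 := by
  classical
  by_contra hcard
  haveI := Fintype.ofFinite G
  have horb : ∀ p : G, ∃ n ∈ f.N, p ∈ (f.S : Subgroup G) → p ≠ 1 → n * f.t * n⁻¹ = p := fun p => by
    by_cases h : p ∈ (f.S : Subgroup G) ∧ p ≠ 1
    · obtain ⟨n, hn, e⟩ := f.orbit h.1 h.2
      exact ⟨n, hn, fun _ _ => e⟩
    · exact ⟨1, one_mem _, fun h1 h2 => absurd ⟨h1, h2⟩ h⟩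
  choose a haN ha using horb
  -- `R p x`: `x` lies in the conjugate of `U` attached to `p`
  let R : G → G → Prop := fun p x => (a p)⁻¹ * x * a p ∈ f.U
  have hinv : ∀ n ∈ f.N, ∀ p ∈ (f.S : Subgroup G), p ≠ 1 → n * f.t * n⁻¹ = p → ∀ x,
      R p x → n⁻¹ * x * n ∈ f.U := by
    intro n hn p hp hp1 e x hx
    have hc : Commute (n⁻¹ * a p) f.t := by
      show n⁻¹ * a p * f.t = f.t * (n⁻¹ * a p)
      have e1 : a p * f.t = p * a p := by
        calc a p * f.t = a p * f.t * (a p)⁻¹ * a p := by group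
          _ = p * a p := by rw [ha p hp hp1]
      have e2 : n⁻¹ * p = f.t * n⁻¹ := by rw [← e]; group
      rw [mul_assoc, e1, ← mul_assoc, e2, mul_assoc]
    have := f.norm _ hc (mul_mem (inv_mem hn) (haN p)) _ hx
    rwa [show n⁻¹ * a p * ((a p)⁻¹ * x * a p) * (n⁻¹ * a p)⁻¹ = n⁻¹ * x * n by group] at this
  have htour : ∀ p ∈ (f.S : Subgroup G), p ≠ 1 → ∀ x ∈ (f.S : Subgroup G), x ≠ 1 → x ≠ p →
      (R p x ↔ ¬ R x p) := by
    intro p hp hp1 x hx hx1 hxp
    have hap := ha p hp hp1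
    have hax := ha x hx hx1
    set x' := (a p)⁻¹ * x * a p with hx'
    set u := (a x)⁻¹ * p * a x with hu
    have hx'S : x' ∈ (f.S : Subgroup G) := by
      have := f.conj_mem (inv_mem (haN p)) hx
      rwa [inv_inv] at this
    have huS : u ∈ (f.S : Subgroup G) := by
      have := f.conj_mem (inv_mem (haN x)) hp
      rwa [inv_inv] at this
    have back : ∀ g y z : G, g⁻¹ * y * g = z → y = g * z * g⁻¹ := fun g y z e => by rw [← e]; group
    have hx'1 : x' ≠ 1 := fun e => hx1 (by rw [back _ _ _ e]; group)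
    have hu1 : u ≠ 1 := fun e => hp1 (by rw [back _ _ _ e]; group)
    have hx't : x' ≠ f.t := fun e => hxp (by rw [back _ _ _ e, hap])
    have hut : u ≠ f.t := fun e => hxp (by rw [back _ _ _ e, hax])
    have key : (x' ∈ f.U ↔ u ∈ f.U) → False := fun hiff => by
      obtain ⟨c, hc, hcN, e⟩ := f.trans' hx'S hx'1 hx't huS hu1 hut hiff
      refine f.no_swap (h := c * ((a p)⁻¹ * a x))
        (mul_mem hcN (mul_mem (inv_mem (haN p)) (haN x))) (u := u) ?_ ?_ hut
      · calc c * ((a p)⁻¹ * a x) * f.t * (c * ((a p)⁻¹ * a x))⁻¹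
            = c * ((a p)⁻¹ * (a x * f.t * (a x)⁻¹) * a p) * c⁻¹ := by group
          _ = u := by rw [hax, ← hx', e]
      · calc c * ((a p)⁻¹ * a x) * u * (c * ((a p)⁻¹ * a x))⁻¹
            = c * ((a p)⁻¹ * p * a p) * c⁻¹ := by rw [hu]; group
          _ = c * ((a p)⁻¹ * (a p * f.t * (a p)⁻¹) * a p) * c⁻¹ := by rw [hap]
          _ = c * f.t * c⁻¹ := by group
          _ = f.t := f.conj_t hc
    exact ⟨fun h h' => key (iff_of_true h h'),
      fun h => by_contra fun h' => key (iff_of_false h' h)⟩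
  -- membership in a subgroup of index two
  have hsub : ∀ p x y : G, x ∈ (f.S : Subgroup G) → y ∈ (f.S : Subgroup G) →
      (R p (x * y) ↔ (R p x ↔ R p y)) := by
    intro p x y hx hy
    have hx' : (a p)⁻¹ * x * a p ∈ (f.S : Subgroup G) := by
      have := f.conj_mem (inv_mem (haN p)) hx
      rwa [inv_inv] at this
    have hy' : (a p)⁻¹ * y * a p ∈ (f.S : Subgroup G) := by
      have := f.conj_mem (inv_mem (haN p)) hy
      rwa [inv_inv] at this
    show (a p)⁻¹ * (x * y) * a p ∈ f.U ↔ _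
    rw [show (a p)⁻¹ * (x * y) * a p = ((a p)⁻¹ * x * a p) * ((a p)⁻¹ * y * a p) by group]
    show _ ↔ ((a p)⁻¹ * x * a p ∈ f.U ↔ (a p)⁻¹ * y * a p ∈ f.U)
    generalize (a p)⁻¹ * x * a p = X at hx' ⊢
    generalize (a p)⁻¹ * y * a p = Y at hy' ⊢
    by_cases h1 : X ∈ f.U <;> by_cases h2 : Y ∈ f.U
    · simp [h1, h2, mul_mem h1 h2]
    · exact iff_of_false (fun h => h2 ((f.U.mul_mem_cancel_left h1).1 h)) fun h => h2 (h.1 h1)
    · exact iff_of_false (fun h => h1 ((f.U.mul_mem_cancel_right h2).1 h)) fun h => h1 (h.2 h2)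
    · refine iff_of_true ?_ (iff_of_false h1 h2)
      have hX := (f.cases X hx').resolve_left h1
      have hY := (f.cases Y hy').resolve_left h2
      have := mul_mem hX hY
      rwa [show f.t * X * (f.t * Y) = f.t * (X * f.t) * Y by group, f.comm X hx' _ f.t_mem,
        show f.t * (f.t * X) * Y = f.t * f.t * (X * Y) by group, f.t_sq, one_mul] at this
  -- a plane
  have hsz : 16 ≤ (Finset.univ.filter fun g : G => g ∈ (f.S : Subgroup G)).card := by
    rw [← Fintype.card_subtype, ← Nat.card_eq_fintype_card]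
    exact Nat.le_of_not_lt hcard
  have havoid : ∀ X : Finset G, X.card < 16 → ∃ g ∈ (f.S : Subgroup G), g ∉ X := fun X hX => by
    obtain ⟨g, hg, hgX⟩ := Finset.exists_mem_notMem_of_card_lt_card (hX.trans_le hsz)
    exact ⟨g, (Finset.mem_filter.1 hg).2, hgX⟩
  obtain ⟨p, hp, hpX⟩ := havoid {1} (by simp)
  obtain ⟨p', hp', hp'X⟩ := havoid {1, p} (Finset.card_le_two.trans_lt (by norm_num))
  set r := p * p' with hr
  have hrS : r ∈ (f.S : Subgroup G) := mul_mem hp hp'
  obtain ⟨x, hx, hxX⟩ := havoid {1, p, p', r} (Finset.card_le_four.trans_lt (by norm_num))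
  obtain ⟨y, hy, hyX⟩ := havoid {1, p, p', r, x, x * p, x * p', x * r} (by
    refine lt_of_le_of_lt ?_ (show 8 < 16 by norm_num)
    refine (Finset.card_insert_le _ _).trans (Nat.succ_le_succ ?_)
    refine (Finset.card_insert_le _ _).trans (Nat.succ_le_succ ?_)
    refine (Finset.card_insert_le _ _).trans (Nat.succ_le_succ ?_)
    refine (Finset.card_insert_le _ _).trans (Nat.succ_le_succ ?_)
    exact Finset.card_le_four)
  simp only [Finset.mem_insert, Finset.mem_singleton, not_or] at hpX hp'X hxX hyX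
  have hp1 := hpX
  have hp'1 := hp'X.1
  have hr1 : r ≠ 1 := fun e => hp'X.2 (by
    calc p' = p * p * p' := by rw [f.sq p hp, one_mul]
      _ = p := by rw [mul_assoc, ← hr, e, mul_one])
  have hout : ∀ z ∈ (f.S : Subgroup G), z ≠ 1 → z ≠ p → z ≠ p' → z ≠ r →
      ((R p z ↔ R p' z) ↔ ¬ R r z) := by
    intro z hz hz1 hzp hzp' hzr
    have h1 := htour p hp hp1 z hz hz1 hzp
    have h2 := htour p' hp' hp'1 z hz hz1 hzp'
    have h3 := htour r hrS hr1 z hz hz1 hzr
    have h4 := hsub z p p' hp hp'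
    exact parity_point h1 h2 h3 h4
  have hxy : ∀ c : G, c ∈ (f.S : Subgroup G) → x * y = c → y = x * c := fun c _ e => by
    rw [← e, ← mul_assoc, f.sq x hx, one_mul]
  have hz1 : x * y ≠ 1 := fun e => hyX.2.2.2.2.1 (by rw [hxy 1 (one_mem _) e, mul_one])
  have hzp : x * y ≠ p := fun e => hyX.2.2.2.2.2.1 (hxy p hp e)
  have hzp' : x * y ≠ p' := fun e => hyX.2.2.2.2.2.2.1 (hxy p' hp' e)
  have hzr : x * y ≠ r := fun e => hyX.2.2.2.2.2.2.2 (hxy r hrS e)
  have h1 := hout x hx hxX.1 hxX.2.1 hxX.2.2.1 hxX.2.2.2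
  have h2 := hout y hy hyX.1 hyX.2.1 hyX.2.2.1 hyX.2.2.2.1
  have h3 := hout (x * y) (mul_mem hx hy) hz1 hzp hzp' hzr
  have h4 := hsub p x y hx hy
  have h5 := hsub p' x y hx hy
  have h6 := hsub r x y hx hy
  exact parity_plane h1 h2 h3 h4 h5 h6

end Frame

end Cfsg.Agent.JT.Small
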