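import Mathlib
import Cfsg.Agent.Lib.JT.SmallFrame

/-!
# The frame attached to an involution centralizer `C₂ × L`

`L` has trivial centre and an elementary abelian Sylow 2-subgroup `U₀` whose normalizer is
transitive on its involutions; the Sylow 2-subgroups of `G` are abelian.
-/

set_option autoImplicit false

namespace Cfsg.Agent.JT.Small

universe u v

theorem two_cases : ∀ a : Multiplicative (ZMod 2), a = 1 ∨ a = Multiplicative.ofAdd 1 := by decide

theorem two_ne : (1 : Multiplicative (ZMod 2)) ≠ Multiplicative.ofAdd 1 := by decide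

theorem two_sq : ∀ a : Multiplicative (ZMod 2), a * a = 1 := by decide

/-- The frame. -/
theorem exists_frame {G : Type u} [Group G] [Finite G] {L : Type v} [Group L] [Finite L]
    (hab : ∀ P : Sylow 2 G, ∀ a b : P, a * b = b * a) (t : G) (ht : orderOf t = 2)
    (e : Subgroup.centralizer ({t} : Set G) ≃* Multiplicative (ZMod 2) × L)
    (hL : ∀ l : L, (∀ m : L, l * m = m * l) → l = 1)
    (U₀ : Subgroup L) (hsq : ∀ a ∈ U₀, a * a = 1) (heven : Even (Nat.card U₀))
    (hidx : ¬ 2 ∣ U₀.index)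
    (htr : ∀ u ∈ U₀, u ≠ 1 → ∀ v ∈ U₀, v ≠ 1 →
      ∃ c ∈ Subgroup.normalizer (U₀ : Set L), c * u * c⁻¹ = v) :
    ∃ f : Frame G, f.t = t ∧ Nat.card (f.S : Subgroup G) = 2 * Nat.card U₀ ∧
      (U₀.Normal → Subgroup.centralizer ({t} : Set G) ≤ f.N) ∧
      ((∀ k : L, (∀ u ∈ U₀, k * u = u * k) → k ∈ U₀) →
        ∀ c : G, (∀ s ∈ (f.S : Subgroup G), c * s = s * c) → c ∈ (f.S : Subgroup G)) := by
  haveI := Fact.mk Nat.prime_two
  set C := Subgroup.centralizer ({t} : Set G)
  let emb : Multiplicative (ZMod 2) × L →* G := C.subtype.comp e.symm.toMonoidHom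
  have hinj : Function.Injective emb := C.subtype_injective.comp e.symm.injective
  have hrange : ∀ c : G, c * t = t * c → ∃ p, emb p = c := fun c hc =>
    ⟨e ⟨c, Subgroup.mem_centralizer_singleton_iff.2 hc⟩, congrArg Subtype.val (e.symm_apply_apply _)⟩
  -- the image of `t`
  have htemb : emb (Multiplicative.ofAdd 1, 1) = t := by
    obtain ⟨⟨a, l⟩, hp⟩ := hrange t rfl
    have hl : l = 1 := hL l fun m => by
      have hm : emb (1, m) ∈ C := (e.symm (1, m)).2
      have := (Subgroup.mem_centralizer_singleton_iff.1 hm).symm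
      rw [← hp, ← map_mul, ← map_mul] at this
      exact congrArg Prod.snd (hinj this)
    subst hl
    rcases two_cases a with rfl | rfl
    · rw [← Prod.one_eq_mk, map_one] at hp
      rw [← hp, orderOf_one] at ht
      omega
    · exact hp
  let A : Subgroup (Multiplicative (ZMod 2) × L) := (⊤ : Subgroup _).prod U₀
  have hA : ∀ p : Multiplicative (ZMod 2) × L, p ∈ A ↔ p.2 ∈ U₀ := fun p => by
    simp [A, Subgroup.mem_prod]
  have hAsq : ∀ p ∈ A, p * p = 1 := fun p hp =>
    Prod.ext (two_sq p.1) (hsq _ ((hA p).1 hp))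
  have hA2 : IsPGroup 2 A := fun a => ⟨1, Subtype.ext (by
    rw [SubgroupClass.coe_pow, OneMemClass.coe_one, pow_one, pow_two]; exact hAsq _ a.2)⟩
  have hAidx : ¬ 2 ∣ A.index := by
    rw [show A = (⊤ : Subgroup _).prod U₀ from rfl, Subgroup.index_prod, Subgroup.index_top, one_mul]
    exact hidx
  obtain ⟨P, hP⟩ := (hA2.map emb).exists_le_sylow
  have htA : (Multiplicative.ofAdd 1, (1 : L)) ∈ A := (hA _).2 (one_mem _)
  have htP : t ∈ (P : Subgroup G) := hP ⟨_, htA, htemb⟩
  have hPcomm : ∀ a ∈ (P : Subgroup G), ∀ b ∈ (P : Subgroup G), a * b = b * a := fun a ha b hb =>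
    congrArg Subtype.val (hab P ⟨a, ha⟩ ⟨b, hb⟩)
  have hPA : (P : Subgroup G).comap emb = A :=
    (hA2.toSylow hAidx).is_maximal' (P.2.comap_of_injective emb hinj)
      (fun p hp => hP ⟨p, hp, rfl⟩)
  have hPW : (P : Subgroup G) = A.map emb := le_antisymm (fun x hx => by
    obtain ⟨p, rfl⟩ := hrange x (hPcomm x hx t htP)
    exact ⟨p, hPA ▸ Subgroup.mem_comap.2 hx, rfl⟩) hP
  let U : Subgroup G := U₀.map (emb.comp (MonoidHom.inr _ L))
  have hnorm : ∀ k ∈ Subgroup.normalizer (U₀ : Set L), ∀ b : Multiplicative (ZMod 2),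
      emb (b, k) ∈ Subgroup.normalizer ((P : Subgroup G) : Set G) := by
    intro k hk b
    rw [hPW]
    refine Subgroup.le_normalizer_map emb ⟨(b, k), ?_, rfl⟩
    refine Subgroup.mem_normalizer_iff.2 fun p => ?_
    rw [hA, hA]
    exact Subgroup.mem_normalizer_iff.1 hk p.2
  refine ⟨
    { t := t
      S := P
      U := U
      ht := ht
      U_le := ?_
      t_mem := htP
      t_notMem := ?_
      comm := hPcomm
      sq := ?_
      cases := ?_
      card_U := ?_
      norm := ?_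
      trans := ?_ }, rfl, ?_, ?_, ?_⟩
  · rintro x ⟨u, hu, rfl⟩
    exact hP ⟨(1, u), (hA _).2 hu, rfl⟩
  · rintro ⟨u, -, h⟩
    rw [← htemb] at h
    exact absurd (congrArg Prod.fst (hinj h)) two_ne
  · intro x hx
    rw [hPW] at hx
    obtain ⟨p, hp, rfl⟩ := hx
    rw [← map_mul, hAsq p hp, map_one]
  · intro x hx
    rw [hPW] at hx
    obtain ⟨⟨a, u⟩, hp, rfl⟩ := hx
    have hu : u ∈ U₀ := (hA _).1 hp
    rcases two_cases a with rfl | rfl
    · exact Or.inl ⟨u, hu, rfl⟩
    · refine Or.inr ⟨u, hu, ?_⟩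
      rw [← htemb, ← map_mul]
      show emb (1, u) = emb (_ * _, 1 * u)
      rw [two_sq, one_mul]
  · rw [Subgroup.card_map_of_injective
      (show Function.Injective (emb.comp (MonoidHom.inr _ L)) from
        hinj.comp fun a b h => congrArg Prod.snd h)]
    exact heven
  · rintro c hc hcN x ⟨u, hu, rfl⟩
    obtain ⟨⟨b, k⟩, rfl⟩ := hrange c hc
    have h1 := (Subgroup.mem_normalizer_iff.1 hcN (emb (1, u))).1 (hP ⟨_, (hA _).2 hu, rfl⟩)
    rw [← map_inv, ← map_mul, ← map_mul, hPW] at h1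
    obtain ⟨p, hp, hp'⟩ := h1
    obtain rfl := hinj hp'
    refine ⟨k * u * k⁻¹, (hA _).1 hp, ?_⟩
    simp only [MonoidHom.coe_comp, Function.comp_apply, MonoidHom.inr_apply]
    rw [← map_inv, ← map_mul, ← map_mul]
    simp
  · rintro x ⟨u, hu, rfl⟩ hx y ⟨v, hv, rfl⟩ hy
    have hne : ∀ w : L, emb.comp (MonoidHom.inr _ L) w ≠ 1 → w ≠ 1 := fun w h e =>
      h (e ▸ map_one _)
    obtain ⟨k, hk, he⟩ := htr u hu (hne u hx) v hv (hne v hy)
    refine ⟨emb (1, k), ?_, hnorm k hk 1, ?_⟩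
    · exact Subgroup.mem_centralizer_singleton_iff.1 (e.symm (1, k)).2
    · simp only [MonoidHom.coe_comp, Function.comp_apply, MonoidHom.inr_apply]
      rw [← map_inv, ← map_mul, ← map_mul]
      simp [he]
  · show Nat.card (P : Subgroup G) = _
    rw [hPW, Subgroup.card_map_of_injective hinj, Nat.card_congr (Subgroup.prodEquiv _ _).toEquiv,
      Nat.card_prod, Subgroup.card_top]
    simp
  · intro hn c hc
    obtain ⟨⟨b, k⟩, rfl⟩ := hrange c (Subgroup.mem_centralizer_singleton_iff.1 hc)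
    exact hnorm k (by rw [Subgroup.normalizer_eq_top_iff.2 hn]; exact Subgroup.mem_top k) b
  · intro hself c hc
    obtain ⟨⟨b, k⟩, rfl⟩ := hrange c (hc t htP)
    refine hP ⟨(b, k), (hA _).2 (hself k fun u hu => ?_), rfl⟩
    have h := hc (emb (1, u)) (hP ⟨_, (hA _).2 hu, rfl⟩)
    rw [← map_mul, ← map_mul] at h
    exact congrArg Prod.snd (hinj h)

end Cfsg.Agent.JT.Small
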