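import Mathlib
import Cfsg.Agent.Lib.JT.SmallFrame
import Cfsg.Agent.S1222
import Cfsg.Agent.S1224
import Cfsg.Agent.S1225
import Cfsg.Agent.Lib.PSLOrderSpectrum.Main
import Cfsg.Agent.Lib.Classical.UnitaryBasic
import Cfsg.Agent.Lib.Classical.UnitaryFrames

/-!
# An involution centralizer `C₂ × A₄` is impossible

`N = N(S)` is strongly embedded of order `168`; an element of order seven fixes two cosets of `N`,
so there are nine of them and `S` is regular on eight: no such group is on the list of `S1222`.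
-/

set_option autoImplicit false
set_option linter.unusedSectionVars false
set_option linter.style.haveILetI false

namespace Cfsg.Agent.JT.Small

universe u

variable {G : Type u} [Group G]

theorem pow_mul_inv_self {a p : G} (k : ℕ) (h : a * p = p * a) :
    p ^ k * a * (p ^ k)⁻¹ = a := by
  rw [((show Commute a p from h).pow_right k).symm.eq, mul_inv_cancel_right]

/-- The configuration. -/
structure Three (G : Type u) [Group G] where
  f : Frame G
  card_S : Nat.card (f.S : Subgroup G) = 8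
  card_C : Nat.card (Subgroup.centralizer ({f.t} : Set G)) = 24
  C_le : Subgroup.centralizer ({f.t} : Set G) ≤ f.N
  self : ∀ c : G, (∀ s ∈ (f.S : Subgroup G), c * s = s * c) → c ∈ (f.S : Subgroup G)

namespace Three

variable (T : Three G)

/-- The coset `N`. -/
abbrev o : G ⧸ T.f.N := QuotientGroup.mk 1

theorem fix_mk (x g : G) :
    x • (QuotientGroup.mk g : G ⧸ T.f.N) = QuotientGroup.mk g ↔ g⁻¹ * x * g ∈ T.f.N := by
  rw [MulAction.Quotient.smul_mk, smul_eq_mul, QuotientGroup.eq, ← T.f.N.inv_mem_iff]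
  simp [mul_assoc]

theorem fix_o (x : G) : x • T.o = T.o ↔ x ∈ T.f.N := by
  rw [fix_mk]; simp

variable [Finite G] [IsSimpleGroup G]

theorem invol_mem {y : G} (hy : orderOf y = 2) (hN : y ∈ T.f.N) :
    y ∈ (T.f.S : Subgroup G) :=
  Classical.OddIndex.mem_of_two_element T.f.S (a := 1)
    (by rw [pow_one]; exact hy ▸ pow_orderOf_eq_one y) hN

theorem order_S {s : G} (hs : s ∈ (T.f.S : Subgroup G)) (h1 : s ≠ 1) : orderOf s = 2 :=
  orderOf_eq_prime (by rw [pow_two]; exact T.f.sq s hs) h1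

theorem one_class {y : G} (hy : orderOf y = 2) : ∃ g : G, g * T.f.t * g⁻¹ = y := by
  haveI := Fact.mk Nat.prime_two
  have hP : IsPGroup 2 (Subgroup.zpowers y) :=
    IsPGroup.of_card (n := 1) (by rw [Nat.card_zpowers, hy, pow_one])
  obtain ⟨P, hP⟩ := hP.exists_le_sylow
  obtain ⟨h, hh⟩ := MulAction.exists_smul_eq G P T.f.S
  have hmem : h * y * h⁻¹ ∈ (T.f.S : Subgroup G) := by
    rw [← hh]; exact ⟨y, hP (Subgroup.mem_zpowers y), rfl⟩
  have hne : h * y * h⁻¹ ≠ 1 := fun e => by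
    rw [conj_eq_one_iff.1 e, orderOf_one] at hy; omega
  obtain ⟨n, -, e⟩ := T.f.orbit hmem hne
  exact ⟨h⁻¹ * n, by
    rw [show h⁻¹ * n * T.f.t * (h⁻¹ * n)⁻¹ = h⁻¹ * (n * T.f.t * n⁻¹) * h by group, e]; group⟩

include T in
/-- An element of order seven centralizes no involution. -/
theorem seven_comm {x y : G} (hy : orderOf y = 2) (hx : x ^ 7 = 1) (h : x * y = y * x) : x = 1 := by
  obtain ⟨g, rfl⟩ := T.one_class hy
  have hmem : g⁻¹ * x * g ∈ Subgroup.centralizer ({T.f.t} : Set G) := by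
    refine Subgroup.mem_centralizer_singleton_iff.2 ?_
    calc g⁻¹ * x * g * T.f.t = g⁻¹ * (x * (g * T.f.t * g⁻¹)) * g := by group
      _ = g⁻¹ * (g * T.f.t * g⁻¹ * x) * g := by rw [h]
      _ = T.f.t * (g⁻¹ * x * g) := by group
  have h7 : (g⁻¹ * x * g) ^ 7 = 1 := by
    have := conj_pow (i := 7) (a := g⁻¹) (b := x)
    rw [inv_inv] at this
    rw [this, hx, mul_one, inv_mul_cancel]
  have h24 : orderOf (g⁻¹ * x * g) ∣ 24 := T.card_C ▸ Subgroup.orderOf_dvd_natCard _ hmem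
  have h1 : orderOf (g⁻¹ * x * g) ∣ 1 :=
    (show Nat.gcd 7 24 = 1 from rfl) ▸ Nat.dvd_gcd (orderOf_dvd_of_pow_eq_one h7) h24
  have h2 := orderOf_eq_one_iff.1 (Nat.dvd_one.1 h1)
  calc x = g * (g⁻¹ * x * g) * g⁻¹ := by group
    _ = 1 := by rw [h2]; group

theorem card_invol : Nat.card {y : G // orderOf y = 2 ∧ y ∈ T.f.N} = 7 := by
  classical
  haveI := Fintype.ofFinite G
  have e : {y : G // orderOf y = 2 ∧ y ∈ T.f.N} ≃ {s : (T.f.S : Subgroup G) // s ≠ 1} :=
    { toFun := fun y => ⟨⟨y.1, T.invol_mem y.2.1 y.2.2⟩, fun h => by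
        have h' := congrArg (fun z : (T.f.S : Subgroup G) => (z : G)) h
        have := y.2.1
        rw [show (y.1 : G) = 1 from h', orderOf_one] at this
        omega⟩
      invFun := fun s => ⟨s.1.1, T.order_S s.1.2 fun h => s.2 (Subtype.ext h),
        Subgroup.le_normalizer s.1.2⟩
      left_inv := fun y => rfl
      right_inv := fun s => rfl }
  rw [Nat.card_congr e, Nat.card_eq_fintype_card, Fintype.card_subtype_compl,
    Fintype.card_subtype_eq, ← Nat.card_eq_fintype_card, T.card_S]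

theorem card_N : Nat.card T.f.N = 168 := by
  classical
  let φN : T.f.N →* ConjAct G := (ConjAct.toConjAct (G := G)).toMonoidHom.comp T.f.N.subtype
  letI : MulAction T.f.N G := MulAction.compHom G φN
  have horb : MulAction.orbit T.f.N T.f.t = {y : G | orderOf y = 2 ∧ y ∈ T.f.N} := by
    ext y
    constructor
    · rintro ⟨⟨n, hn⟩, rfl⟩
      exact ⟨T.order_S (T.f.conj_mem hn T.f.t_mem) fun e => T.f.t_ne (conj_eq_one_iff.1 e),
        Subgroup.le_normalizer (T.f.conj_mem hn T.f.t_mem)⟩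
    · rintro ⟨hy, hN⟩
      obtain ⟨n, hn, e⟩ := T.f.orbit (T.invol_mem hy hN) fun e => by
        rw [e, orderOf_one] at hy; omega
      exact ⟨⟨n, hn⟩, e⟩
  have hstab : MulAction.stabilizer T.f.N T.f.t =
      (Subgroup.centralizer ({T.f.t} : Set G)).subgroupOf T.f.N := by
    ext n
    rw [MulAction.mem_stabilizer_iff, Subgroup.mem_subgroupOf, Subgroup.mem_centralizer_singleton_iff]
    exact mul_inv_eq_iff_eq_mul
  have h := (MulAction.stabilizer T.f.N T.f.t).index_mul_card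
  have h7 : (MulAction.orbit T.f.N T.f.t).ncard = 7 := by
    rw [horb, ← Nat.card_coe_set_eq]; exact T.card_invol
  rw [MulAction.index_stabilizer, h7, hstab,
    Nat.card_congr (Subgroup.subgroupOfEquivOfLe T.C_le).toEquiv, T.card_C] at h
  omega

theorem N_ne_top : T.f.N ≠ ⊤ := by
  intro h
  rcases (Subgroup.normalizer_eq_top_iff.1 h).eq_bot_or_eq_top with h0 | h0
  · have := T.card_S
    rw [h0, Subgroup.card_bot] at this
    omega
  · obtain ⟨n, hn, hne⟩ := T.f.exists_moved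
    have hS : n ∈ (T.f.S : Subgroup G) := h0 ▸ Subgroup.mem_top n
    exact hne (by rw [T.f.comm n hS _ T.f.t_mem, mul_inv_cancel_right])

theorem exists_outside : ∃ y : G, orderOf y = 2 ∧ y ∉ T.f.N := by
  by_contra h
  push Not at h
  refine T.N_ne_top (Subgroup.normalizer_eq_top_iff.2 ⟨fun s hs g => ?_⟩)
  rcases eq_or_ne s 1 with rfl | hne
  · simp
  · have ho : orderOf (g * s * g⁻¹) = 2 := by
      rw [show g * s * g⁻¹ = MulAut.conj g s from rfl, MulEquiv.orderOf_eq]; exact T.order_S hs hne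
    exact T.invol_mem ho (h _ ho)

theorem strongly_embedded : Cfsg.IsStronglyEmbedded T.f.N := by
  refine ⟨T.N_ne_top, by rw [T.card_N]; decide, fun g hg => ?_⟩
  haveI := Fact.mk Nat.prime_two
  by_contra hodd
  rw [Nat.not_odd_iff_even, even_iff_two_dvd] at hodd
  obtain ⟨⟨y, hy⟩, hy2⟩ := exists_prime_orderOf_dvd_card' 2 hodd
  rw [Subgroup.orderOf_mk] at hy2
  obtain ⟨hyN, z, hzN, hz⟩ := hy
  have hz2 : orderOf z = 2 := by
    rw [← hy2, ← hz]; exact (MulEquiv.orderOf_eq (MulAut.conj g) z).symm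
  have ne1 : ∀ {a : G}, orderOf a = 2 → a ≠ 1 := fun {a} h e => by rw [e, orderOf_one] at h; omega
  obtain ⟨n₁, hn₁, e₁⟩ := T.f.orbit (T.invol_mem hy2 hyN) (ne1 hy2)
  obtain ⟨n₂, hn₂, e₂⟩ := T.f.orbit (T.invol_mem hz2 hzN) (ne1 hz2)
  have hz' : g * z * g⁻¹ = y := hz
  have hc : n₁⁻¹ * g * n₂ ∈ T.f.N := by
    refine T.C_le (Subgroup.mem_centralizer_singleton_iff.2 (mul_inv_eq_iff_eq_mul.1 ?_))
    calc n₁⁻¹ * g * n₂ * T.f.t * (n₁⁻¹ * g * n₂)⁻¹
        = n₁⁻¹ * (g * (n₂ * T.f.t * n₂⁻¹) * g⁻¹) * n₁ := by group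
      _ = n₁⁻¹ * (n₁ * T.f.t * n₁⁻¹) * n₁ := by rw [e₂, hz', e₁]
      _ = T.f.t := by group
  apply hg
  rw [show g = n₁ * (n₁⁻¹ * g * n₂) * n₂⁻¹ by group]
  exact mul_mem (mul_mem hn₁ hc) (inv_mem hn₂)

theorem card_swap {y : G ⧸ T.f.N} (hy : y ≠ T.o) :
    Nat.card {i : G // orderOf i = 2 ∧ i • T.o = y} = 7 :=
  (S1224.result T.f.N T.strongly_embedded T.o y hy.symm).trans T.card_invol

theorem exists_swap {y : G ⧸ T.f.N} (hy : y ≠ T.o) : ∃ i : G, orderOf i = 2 ∧ i • T.o = y := by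
  obtain ⟨⟨i, hi⟩⟩ := (Nat.card_pos_iff.1 (by rw [T.card_swap hy]; norm_num :
    0 < Nat.card {i : G // orderOf i = 2 ∧ i • T.o = y})).1
  exact ⟨i, hi⟩

/-- The stabilizer of two cosets, as a subgroup. -/
def D (y : G ⧸ T.f.N) : Subgroup G := T.f.N ⊓ MulAction.stabilizer G y

theorem mem_D {y : G ⧸ T.f.N} {x : G} : x ∈ T.D y ↔ x ∈ T.f.N ∧ x • y = y := Iff.rfl

theorem odd_D {y : G ⧸ T.f.N} (hy : y ≠ T.o) : Odd (Nat.card (T.D y)) := by
  obtain ⟨g, rfl⟩ := QuotientGroup.mk_surjective y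
  have hg : g ∉ T.f.N := fun h => hy (QuotientGroup.eq.2 (by simpa using inv_mem h))
  have e : T.D (QuotientGroup.mk g) = T.f.N ⊓ T.f.N.map (MulAut.conj g).toMonoidHom := by
    ext x
    rw [mem_D, fix_mk, Subgroup.mem_inf, Subgroup.mem_map]
    refine and_congr_right fun _ => ⟨fun h => ⟨_, h, ?_⟩, ?_⟩
    · show g * (g⁻¹ * x * g) * g⁻¹ = x
      group
    · rintro ⟨z, hz, rfl⟩
      show g⁻¹ * (g * z * g⁻¹) * g ∈ T.f.N
      rw [show g⁻¹ * (g * z * g⁻¹) * g = z by group]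
      exact hz
  rw [e]
  exact T.strongly_embedded.2.2 g hg

theorem dvd_twentyone {H : Subgroup G} (hH : H ≤ T.f.N) (ho : Odd (Nat.card H)) :
    Nat.card H ∣ 21 := by
  have h : Nat.card H ∣ 2 ^ 3 * 21 := by
    have := Subgroup.card_dvd_of_le hH; rwa [T.card_N] at this
  exact (Nat.Coprime.pow_right 3 (Nat.coprime_two_right.2 ho)).dvd_of_dvd_mul_left h

theorem seven_D {y : G ⧸ T.f.N} (hy : y ≠ T.o) : ∃ p ∈ T.D y, orderOf p = 7 := by
  classical
  obtain ⟨i, hi, hiy⟩ := T.exists_swap hy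
  have hiN : i ∉ T.f.N := fun h => hy (hiy ▸ (T.fix_o i).2 h)
  have hD : ∀ x, x ∈ T.f.N ⊓ T.f.N.map (MulAut.conj i).toMonoidHom → x ∈ T.D y := by
    rintro x ⟨hxN, z, hz, rfl⟩
    refine T.mem_D.2 ⟨hxN, ?_⟩
    rw [← hiy]
    show (i * z * i⁻¹) • i • T.o = i • T.o
    rw [smul_smul, show i * z * i⁻¹ * i = i * z by group, mul_smul, (T.fix_o z).2 hz]
  have hsurj : Function.Surjective (fun d : T.D y =>
      (⟨(d : G) * T.f.t * (d : G)⁻¹,
        T.order_S (T.f.conj_mem (T.mem_D.1 d.2).1 T.f.t_mem) (fun e => T.f.t_ne (conj_eq_one_iff.1 e)),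
        Subgroup.le_normalizer (T.f.conj_mem (T.mem_D.1 d.2).1 T.f.t_mem)⟩ :
        {y : G // orderOf y = 2 ∧ y ∈ T.f.N})) := by
    rintro ⟨v, hv, hvN⟩
    obtain ⟨d, hd, e⟩ := (S1225.result T.f.N T.strongly_embedded i hi hiN T.f.t v T.f.ht
      (Subgroup.le_normalizer T.f.t_mem) hv hvN).1
    exact ⟨⟨d, hD d hd⟩, Subtype.ext e⟩
  have hge := Nat.card_le_card_of_surjective _ hsurj
  rw [T.card_invol] at hge
  have hdvd := T.dvd_twentyone (fun x hx => (T.mem_D.1 hx).1) (T.odd_D hy)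
  have h7 : 7 ∣ Nat.card (T.D y) := by
    have := Nat.le_of_dvd (by norm_num) hdvd
    interval_cases h : Nat.card (T.D y) <;> omega
  haveI := Fact.mk (show Nat.Prime 7 by norm_num)
  obtain ⟨p, hp⟩ := exists_prime_orderOf_dvd_card' 7 h7
  exact ⟨p, p.2, by rwa [Subgroup.orderOf_coe]⟩

theorem zpowers_eq {H : Subgroup G} (hH : Nat.card H < 49) {p q : G} (hp : p ∈ H) (hq : q ∈ H)
    (hp7 : orderOf p = 7) (hq7 : orderOf q = 7) :
    Subgroup.zpowers p = Subgroup.zpowers q := by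
  haveI := Fact.mk (show Nat.Prime 7 by norm_num)
  by_contra hne
  have hinf : Subgroup.zpowers p ⊓ Subgroup.zpowers q = ⊥ := by
    by_contra h
    have hcard : ∀ r : G, orderOf r = 7 → Subgroup.zpowers p ⊓ Subgroup.zpowers q ≤ Subgroup.zpowers r →
        Subgroup.zpowers p ⊓ Subgroup.zpowers q = Subgroup.zpowers r := by
      intro r hr hle
      refine Subgroup.eq_of_le_of_card_ge hle ?_
      rw [Nat.card_zpowers, hr]
      have h1 := Subgroup.card_dvd_of_le hle
      rw [Nat.card_zpowers, hr] at h1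
      rcases (Nat.dvd_prime (by norm_num)).1 h1 with e | e
      · exact absurd (Subgroup.card_eq_one.1 e) h
      · exact e.ge
    exact hne ((hcard p hp7 inf_le_left).symm.trans (hcard q hq7 inf_le_right))
  let m : Subgroup.zpowers p × Subgroup.zpowers q → H := fun x =>
    ⟨(x.1 : G) * x.2, mul_mem (Subgroup.zpowers_le.2 hp x.1.2) (Subgroup.zpowers_le.2 hq x.2.2)⟩
  have hm : Function.Injective m := by
    rintro ⟨⟨a, ha⟩, ⟨b, hb⟩⟩ ⟨⟨c, hc⟩, ⟨d, hd⟩⟩ e
    have e' : a * b = c * d := congrArg Subtype.val e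
    have hx : c⁻¹ * a = d * b⁻¹ := by
      rw [eq_mul_inv_iff_mul_eq, mul_assoc, e', inv_mul_cancel_left]
    have : c⁻¹ * a ∈ Subgroup.zpowers p ⊓ Subgroup.zpowers q :=
      Subgroup.mem_inf.2 ⟨mul_mem (inv_mem hc) ha, by rw [hx]; exact mul_mem hd (inv_mem hb)⟩
    rw [hinf] at this
    rw [Subgroup.mem_bot, inv_mul_eq_one] at this
    subst this
    obtain rfl := mul_left_cancel e'
    rfl
  have := Nat.card_le_card_of_injective m hm
  rw [Nat.card_prod, Nat.card_zpowers, Nat.card_zpowers, hp7, hq7] at this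
  omega

/-- A swap of `N` with a coset fixed by an element of order seven inverts it. -/
theorem swap_inverts {p : G} (hp7 : orderOf p = 7) (hpN : p ∈ T.f.N) {y : G ⧸ T.f.N} (hy : y ≠ T.o)
    (hpy : p • y = y) {i : G} (hi : orderOf i = 2) (hiy : i • T.o = y) : i * p * i = p⁻¹ := by
  have hii : i * i = 1 := by rw [← pow_two, ← hi]; exact pow_orderOf_eq_one i
  have hiy' : i • y = T.o := by rw [← hiy, smul_smul, hii, one_smul]
  have hpo := (T.fix_o p).2 hpN
  have hq : i * p * i ∈ T.D y := T.mem_D.2 ⟨(T.fix_o _).1 (by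
      rw [mul_smul, mul_smul, hiy, hpy, hiy']), by rw [mul_smul, mul_smul, hiy', hpo, hiy]⟩
  have hq7 : orderOf (i * p * i) = 7 := by
    rw [show i * p * i = MulAut.conj i p by
      rw [MulAut.conj_apply, inv_eq_of_mul_eq_one_right hii], MulEquiv.orderOf_eq, hp7]
  have hle := Nat.le_of_dvd (by norm_num) (T.dvd_twentyone (fun x hx => (T.mem_D.1 hx).1) (T.odd_D hy))
  have heq := zpowers_eq (by omega) (T.mem_D.2 ⟨hpN, hpy⟩) hq hp7 hq7
  set q := i * p * i with hqdef
  obtain ⟨k, hk⟩ := Subgroup.mem_zpowers_iff.1 (heq ▸ Subgroup.mem_zpowers q)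
  have hcomm : q * p = p * q := by rw [← hk]; exact (Commute.self_zpow p k).symm.eq
  have h1 : p * q = 1 := by
    refine T.seven_comm hi ?_ ?_
    · rw [(show Commute p q from hcomm.symm).mul_pow, ← hp7, pow_orderOf_eq_one, one_mul, hp7, ← hq7,
        pow_orderOf_eq_one]
    · calc p * q * i = p * i * p * (i * i) := by rw [hqdef]; group
        _ = (i * i) * p * i * p := by rw [hii]; group
        _ = i * (q * p) := by rw [hqdef]; group
        _ = i * (p * q) := by rw [hcomm]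
  exact eq_inv_of_mul_eq_one_right h1

/-- An element of order seven fixes at most one coset other than `N`. -/
theorem fix_unique {p : G} (hp7 : orderOf p = 7) (hpN : p ∈ T.f.N) {y y' : G ⧸ T.f.N}
    (hy : y ≠ T.o) (hy' : y' ≠ T.o) (hpy : p • y = y) (hpy' : p • y' = y') : y = y' := by
  classical
  by_contra hne
  haveI := Fintype.ofFinite G
  set Cp := Subgroup.centralizer ({p} : Set G) with hCp
  have hmemC : ∀ x : G, x ∈ Cp ↔ x * p = p * x := fun x => Subgroup.mem_centralizer_singleton_iff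
  have hp1 : p ≠ 1 := fun e => by rw [e, orderOf_one] at hp7; omega
  have hCodd : Odd (Nat.card Cp) := by
    haveI := Fact.mk Nat.prime_two
    by_contra h
    rw [Nat.not_odd_iff_even, even_iff_two_dvd] at h
    obtain ⟨x, hx⟩ := exists_prime_orderOf_dvd_card' 2 h
    exact hp1 (T.seven_comm (by rw [← hx, Subgroup.orderOf_coe])
      (by rw [← hp7, pow_orderOf_eq_one]) ((hmemC x).1 x.2).symm)
  -- the centralizer fixes `N`
  have hCN : ∀ a ∈ Cp, a ∈ T.f.N := by
    intro a ha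
    by_contra haN
    have hay : a • T.o ≠ T.o := fun e => haN ((T.fix_o a).1 e)
    have hfix : p • a • T.o = a • T.o := by
      rw [smul_smul, ← (hmemC a).1 ha, mul_smul, (T.fix_o p).2 hpN]
    obtain ⟨i, hi, hiy⟩ := T.exists_swap hay
    have hinv := T.swap_inverts hp7 hpN hay hfix hi hiy
    have hii : i * i = 1 := by rw [← pow_two, ← hi]; exact pow_orderOf_eq_one i
    have hnorm : ∀ b ∈ Cp, i * b * i ∈ Cp := by
      intro b hb
      refine (hmemC _).2 ?_
      have e1 : i * p = p⁻¹ * i := by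
        rw [← hinv, mul_assoc (i * p), hii, mul_one]
      have e2 : i * p⁻¹ = p * i := by
        rw [← hinv, ← mul_assoc, ← mul_assoc, hii, one_mul]
      have e3 : b * p⁻¹ = p⁻¹ * b := (show Commute b p from (hmemC b).1 hb).inv_right.eq
      calc i * b * i * p = i * b * (i * p) := mul_assoc _ _ _
        _ = i * (b * p⁻¹) * i := by rw [e1]; group
        _ = i * (p⁻¹ * b) * i := by rw [e3]
        _ = (i * p⁻¹) * b * i := by group
        _ = p * (i * b * i) := by rw [e2]; group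
    let O : Set (G ⧸ T.f.N) := MulAction.orbit Cp T.o
    have hO : ∀ z ∈ O, i • z ∈ O := by
      rintro _ ⟨⟨b, hb⟩, rfl⟩
      refine ⟨⟨i * b * i * a, mul_mem (hnorm b hb) ha⟩, ?_⟩
      show (i * b * i * a) • T.o = i • b • T.o
      rw [mul_smul, ← hiy, smul_smul, smul_smul, mul_assoc (i * b), hii, mul_one]
    have hiiz : ∀ z : G ⧸ T.f.N, i • i • z = z := fun z => by rw [smul_smul, hii, one_smul]
    let σ : Equiv.Perm O :=
      ⟨fun z => ⟨i • z.1, hO _ z.2⟩, fun z => ⟨i • z.1, hO _ z.2⟩,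
        fun z => Subtype.ext (hiiz _), fun z => Subtype.ext (hiiz _)⟩
    haveI := Fintype.ofFinite O
    haveI := Fact.mk Nat.prime_two
    have hOodd : ¬ 2 ∣ Fintype.card O := by
      rw [← Nat.card_eq_fintype_card, Nat.card_coe_set_eq, ← MulAction.index_stabilizer]
      intro h
      exact (Nat.not_even_iff_odd.2 hCodd)
        (even_iff_two_dvd.2 (h.trans (Subgroup.index_dvd_card _)))
    obtain ⟨⟨z, ⟨⟨b, hb⟩, rfl⟩⟩, hz⟩ := Equiv.Perm.exists_fixed_point_of_prime (p := 2) (n := 1)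
      hOodd (σ := σ) (by
        rw [pow_one, pow_two]
        exact Equiv.ext fun z => Subtype.ext (hiiz _))
    have hz' : i • (b • T.o) = b • T.o := congrArg Subtype.val hz
    rw [show b • T.o = QuotientGroup.mk b by
      rw [MulAction.Quotient.smul_mk, smul_eq_mul, mul_one], fix_mk] at hz'
    have hI : b⁻¹ * i * b ∈ (T.f.S : Subgroup G) := T.invol_mem (by
      rw [show b⁻¹ * i * b = MulAut.conj b⁻¹ i by simp [MulAut.conj_apply], MulEquiv.orderOf_eq, hi]) hz'
    -- `p` and the involution both lie in one conjugate of `N`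
    have hp2 : p * p ∈ (T.f.S : Subgroup G) := by
      have hbp : b⁻¹ * p * b = p := by rw [mul_assoc, ← (hmemC b).1 hb, inv_mul_cancel_left]
      have h1 := mul_mem (T.f.conj_mem hpN hI) hI
      have h2 : p * (b⁻¹ * i * b) * p⁻¹ * (b⁻¹ * i * b) = p * p := by
        calc p * (b⁻¹ * i * b) * p⁻¹ * (b⁻¹ * i * b)
            = p * ((b⁻¹ * i * b) * (b⁻¹ * p * b)⁻¹ * (b⁻¹ * i * b)) := by rw [hbp]; group
          _ = p * (b⁻¹ * (i * p⁻¹ * i) * b) := by group
          _ = p * (b⁻¹ * p * b) := by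
            rw [show i * p⁻¹ * i = p by
              rw [← hinv, show i * (i * p * i) * i = i * i * p * (i * i) by group, hii]; group]
          _ = p * p := by rw [hbp]
      rwa [h2] at h1
    have h8 := orderOf_dvd_of_pow_eq_one
      (show p ^ 4 = 1 by
        rw [show (4 : ℕ) = 2 + 2 from rfl, pow_add, pow_two]; exact T.f.sq _ hp2)
    rw [hp7] at h8
    omega
  -- hence the centralizer is of order seven
  have hC7 : Nat.card Cp ≤ 7 := by
    have hdvd := T.dvd_twentyone hCN hCodd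
    by_contra h7
    have h3 : 3 ∣ Nat.card Cp := by
      have := Nat.le_of_dvd (by norm_num) hdvd
      interval_cases h : Nat.card Cp <;> omega
    haveI := Fact.mk (show Nat.Prime 3 by norm_num)
    obtain ⟨⟨d, hd⟩, hd3⟩ := exists_prime_orderOf_dvd_card' 3 h3
    rw [Subgroup.orderOf_mk] at hd3
    have hdp : Commute d p := (hmemC d).1 hd
    let orb : Subgroup.zpowers p → {y : G // orderOf y = 2 ∧ y ∈ T.f.N} := fun q =>
      ⟨(q : G) * T.f.t * (q : G)⁻¹,
        T.order_S (T.f.conj_mem (Subgroup.zpowers_le.2 hpN q.2) T.f.t_mem)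
          (fun e => T.f.t_ne (conj_eq_one_iff.1 e)),
        Subgroup.le_normalizer (T.f.conj_mem (Subgroup.zpowers_le.2 hpN q.2) T.f.t_mem)⟩
    have hseven : ∀ q ∈ Subgroup.zpowers p, q ^ 7 = 1 := fun q hq => by
      obtain ⟨k, rfl⟩ := Subgroup.mem_zpowers_iff.1 hq
      rw [← zpow_natCast, ← zpow_mul, mul_comm, zpow_mul, zpow_natCast, ← hp7, pow_orderOf_eq_one,
        one_zpow]
    have hinj : Function.Injective orb := by
      intro q r e
      have e' : (q : G) * T.f.t * (q : G)⁻¹ = (r : G) * T.f.t * (r : G)⁻¹ := congrArg Subtype.val e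
      have h1 := T.seven_comm T.f.ht (hseven _ (mul_mem (inv_mem r.2) q.2)) (by
        calc (r : G)⁻¹ * q * T.f.t = (r : G)⁻¹ * ((q : G) * T.f.t * (q : G)⁻¹) * q := by group
          _ = _ := by rw [e']; group)
      exact (Subtype.ext (inv_mul_eq_one.1 h1)).symm
    have hbij : Function.Bijective orb := (Nat.bijective_iff_injective_and_card orb).2
      ⟨hinj, by rw [Nat.card_zpowers, hp7, T.card_invol]⟩
    have hdN := hCN d hd
    obtain ⟨⟨q, hq⟩, hq'⟩ := hbij.2 ⟨d * T.f.t * d⁻¹,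
      T.order_S (T.f.conj_mem hdN T.f.t_mem) (fun e => T.f.t_ne (conj_eq_one_iff.1 e)),
      Subgroup.le_normalizer (T.f.conj_mem hdN T.f.t_mem)⟩
    have hq' : q * T.f.t * q⁻¹ = d * T.f.t * d⁻¹ := congrArg Subtype.val hq'
    obtain ⟨k, rfl⟩ := Subgroup.mem_zpowers_iff.1 hq
    have hdq : Commute d (p ^ k) := hdp.zpow_right k
    have hd31 : d ^ 3 = 1 := by rw [← hd3, pow_orderOf_eq_one]
    have e3 : ∀ n : ℕ, d ^ n * T.f.t * (d ^ n)⁻¹ = (p ^ k) ^ n * T.f.t * ((p ^ k) ^ n)⁻¹ := by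
      intro n
      induction n with
      | zero => simp
      | succ n ih =>
        calc d ^ (n + 1) * T.f.t * (d ^ (n + 1))⁻¹
            = d * (d ^ n * T.f.t * (d ^ n)⁻¹) * d⁻¹ := by rw [pow_succ']; group
          _ = (p ^ k) ^ n * (d * T.f.t * d⁻¹) * ((p ^ k) ^ n)⁻¹ := by
            rw [ih, show d * ((p ^ k) ^ n * T.f.t * ((p ^ k) ^ n)⁻¹) * d⁻¹ =
              (d * (p ^ k) ^ n) * T.f.t * (d * (p ^ k) ^ n)⁻¹ by group, (hdq.pow_right n).eq]
            group
          _ = _ := by rw [← hq', pow_succ]; group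
    have hq3 := e3 3
    rw [hd31, one_mul, inv_one, mul_one] at hq3
    have hk3 : (p ^ k) ^ 3 = 1 := T.seven_comm T.f.ht
      (by rw [← pow_mul, mul_comm, pow_mul, hseven _ hq, one_pow])
      (mul_inv_eq_iff_eq_mul.1 hq3.symm)
    have hk1 : p ^ k = 1 := by
      have h := orderOf_dvd_of_pow_eq_one hk3
      have h' := orderOf_dvd_of_pow_eq_one (hseven _ hq)
      have := Nat.dvd_gcd h h'
      rw [show Nat.gcd 3 7 = 1 from rfl, Nat.dvd_one, orderOf_eq_one_iff] at this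
      exact this
    rw [hk1, one_mul, inv_one, mul_one] at hq'
    have hdS : d ∈ (T.f.S : Subgroup G) := T.self d fun s hs => by
      rcases eq_or_ne s 1 with rfl | hs1
      · simp
      obtain ⟨⟨r, hr⟩, er⟩ := hbij.2 ⟨s, T.order_S hs hs1, Subgroup.le_normalizer hs⟩
      obtain ⟨l, rfl⟩ := Subgroup.mem_zpowers_iff.1 hr
      have er : p ^ l * T.f.t * (p ^ l)⁻¹ = s := congrArg Subtype.val er
      have hdt : Commute d T.f.t := mul_inv_eq_iff_eq_mul.1 hq'.symm
      have hdl : Commute d (p ^ l) := hdp.zpow_right l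
      rw [← er]
      exact ((hdl.mul_right hdt).mul_right hdl.inv_right).eq
    have h2 : d ^ 2 = 1 := by rw [pow_two]; exact T.f.sq d hdS
    have := orderOf_dvd_of_pow_eq_one h2
    rw [hd3] at this
    omega
  -- fourteen inverting involutions
  obtain ⟨i₀, hi₀, hi₀y⟩ := T.exists_swap hy
  have hinv₀ := T.swap_inverts hp7 hpN hy hpy hi₀ hi₀y
  let W := {i : G // orderOf i = 2 ∧ i • T.o = y} ⊕ {i : G // orderOf i = 2 ∧ i • T.o = y'}
  let val : W → G := Sum.elim Subtype.val Subtype.val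
  have hval : ∀ w, val w * p * val w = p⁻¹ := by
    rintro (⟨i, hi, e⟩ | ⟨i, hi, e⟩)
    · exact T.swap_inverts hp7 hpN hy hpy hi e
    · exact T.swap_inverts hp7 hpN hy' hpy' hi e
  have hval2 : ∀ w, val w * val w = 1 := by
    rintro (⟨i, hi, -⟩ | ⟨i, hi, -⟩) <;> exact (pow_two i).symm.trans (hi ▸ pow_orderOf_eq_one i)
  have hval_inj : Function.Injective val := by
    rintro (⟨a, ha⟩ | ⟨a, ha⟩) (⟨b, hb⟩ | ⟨b, hb⟩) (e : a = b) <;> subst e
    · rfl
    · exact absurd (ha.2.symm.trans hb.2) hne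
    · exact absurd (hb.2.symm.trans ha.2) hne
    · rfl
  have hi₀2 : i₀ * i₀ = 1 := by rw [← pow_two, ← hi₀]; exact pow_orderOf_eq_one i₀
  let m : W → Cp := fun w => ⟨i₀ * val w, (hmemC _).2 (by
    have a1 : val w * p = p⁻¹ * val w := by
      rw [← hval w, mul_assoc (val w * p), hval2, mul_one]
    have a2 : i₀ * p⁻¹ = p * i₀ := by
      rw [← hinv₀, ← mul_assoc, ← mul_assoc, hi₀2, one_mul]
    rw [mul_assoc, a1, ← mul_assoc, a2, mul_assoc])⟩
  have := Nat.card_le_card_of_injective m fun a b e =>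
    hval_inj (mul_left_cancel (congrArg Subtype.val e))
  rw [Nat.card_sum, T.card_swap hy, T.card_swap hy'] at this
  omega

theorem regular : (∀ y : G ⧸ T.f.N, y ≠ T.o → ∀ z : G ⧸ T.f.N, z ≠ T.o →
      ∃ s ∈ (T.f.S : Subgroup G), s • y = z) ∧
    (∀ y : G ⧸ T.f.N, y ≠ T.o → ∀ s ∈ (T.f.S : Subgroup G), s • y = y → s = 1) ∧
    Nat.card G = 1512 := by
  classical
  haveI := Fact.mk (show Nat.Prime 7 by norm_num)
  have hfree : ∀ y : G ⧸ T.f.N, y ≠ T.o → ∀ s ∈ (T.f.S : Subgroup G), s • y = y → s = 1 := by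
    intro y hy s hs e
    by_contra hs1
    have h := Subgroup.orderOf_dvd_natCard (T.D y) (T.mem_D.2 ⟨Subgroup.le_normalizer hs, e⟩)
    rw [T.order_S hs hs1] at h
    exact Nat.not_even_iff_odd.2 (T.odd_D hy) (even_iff_two_dvd.2 h)
  let Y := {y : G ⧸ T.f.N // y ≠ T.o}
  -- at most eight cosets
  have hle : Nat.card Y ≤ 8 := by
    choose p hp hp7 using fun y : Y => T.seven_D y.2
    have h7 : ∀ y : Y, Nat.card (Subgroup.zpowers (⟨p y, (T.mem_D.1 (hp y)).1⟩ : T.f.N)) =
        7 ^ (Nat.card T.f.N).factorization 7 := fun y => by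
      have hf : (168 : ℕ).factorization 7 = 1 := by
        rw [Nat.factorization_def _ (by norm_num), show (168 : ℕ) = 7 ^ 1 * 24 from rfl,
          padicValNat.mul (by norm_num) (by norm_num), padicValNat.prime_pow,
          padicValNat.eq_zero_of_not_dvd (by norm_num)]
      rw [T.card_N, hf, Nat.card_zpowers, Subgroup.orderOf_mk, hp7, pow_one]
    have hinj : Function.Injective fun y : Y => Sylow.ofCard _ (h7 y) := by
      intro y y' e
      have e1 : Subgroup.zpowers (⟨p y, (T.mem_D.1 (hp y)).1⟩ : T.f.N) =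
          Subgroup.zpowers (⟨p y', (T.mem_D.1 (hp y')).1⟩ : T.f.N) := by
        simpa using congrArg (fun P : Sylow 7 T.f.N => (P : Subgroup T.f.N)) e
      obtain ⟨k, hk⟩ := Subgroup.mem_zpowers_iff.1 (e1 ▸ Subgroup.mem_zpowers _ :
        (⟨p y, (T.mem_D.1 (hp y)).1⟩ : T.f.N) ∈ Subgroup.zpowers (⟨p y', (T.mem_D.1 (hp y')).1⟩ : T.f.N))
      have hk' : p y = p y' ^ k := (congrArg Subtype.val hk).symm
      refine Subtype.ext (T.fix_unique (hp7 y) (T.mem_D.1 (hp y)).1 y.2 y'.2 (T.mem_D.1 (hp y)).2 ?_)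
      rw [hk']
      exact (MulAction.mem_stabilizer_iff).1 (zpow_mem (MulAction.mem_stabilizer_iff.2 (T.mem_D.1 (hp y')).2) k)
    refine (Nat.card_le_card_of_injective _ hinj).trans ?_
    obtain ⟨P⟩ := (inferInstance : Nonempty (Sylow 7 T.f.N))
    have hPc : Nat.card (P : Subgroup T.f.N) = 7 := by
      rw [P.card_eq_multiplicity, T.card_N, Nat.factorization_def _ (by norm_num),
        show (168 : ℕ) = 7 ^ 1 * 24 from rfl, padicValNat.mul (by norm_num) (by norm_num),
        padicValNat.prime_pow, padicValNat.eq_zero_of_not_dvd (by norm_num)]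
      rfl
    have hmod := card_sylow_modEq_one 7 T.f.N
    have hidx := (P : Subgroup T.f.N).index_mul_card
    rw [hPc, T.card_N] at hidx
    have hdvd : Nat.card (Sylow 7 T.f.N) ∣ 24 := by
      have := P.card_dvd_index
      rwa [show (P : Subgroup T.f.N).index = 24 by omega] at this
    have h24 := Nat.le_of_dvd (by norm_num) hdvd
    unfold Nat.ModEq at hmod
    by_contra hgt
    interval_cases h : Nat.card (Sylow 7 T.f.N) <;> omega
  obtain ⟨i, hi, hiN⟩ := T.exists_outside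
  let y₀ : Y := ⟨i • T.o, fun e => hiN ((T.fix_o i).1 e)⟩
  have hSo : ∀ s : (T.f.S : Subgroup G), (s : G) • T.o = T.o := fun s =>
    (T.fix_o _).2 (Subgroup.le_normalizer s.2)
  let ψ : Y → ↥(T.f.S : Subgroup G) → Y := fun y s =>
    ⟨(s : G) • y.1, fun e => y.2 (smul_left_cancel (s : G) (e.trans (hSo s).symm))⟩
  have hψ : ∀ y : Y, Function.Injective (ψ y) := by
    intro y a b e
    have e' : (a : G) • y.1 = (b : G) • y.1 := congrArg Subtype.val e
    have := hfree y.1 y.2 ((b : G)⁻¹ * a) (mul_mem (inv_mem b.2) a.2)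
      (by rw [mul_smul, e', inv_smul_smul])
    exact (Subtype.ext (inv_mul_eq_one.1 this)).symm
  have hY : Nat.card Y = 8 :=
    le_antisymm hle (T.card_S ▸ Nat.card_le_card_of_injective _ (hψ y₀))
  refine ⟨fun y hy z hz => ?_, hfree, ?_⟩
  · obtain ⟨⟨s, hs⟩, e⟩ := ((Nat.bijective_iff_injective_and_card (ψ ⟨y, hy⟩)).2
      ⟨hψ _, T.card_S.trans hY.symm⟩).2 ⟨z, hz⟩
    exact ⟨s, hs, congrArg Subtype.val e⟩
  · haveI := Fintype.ofFinite (G ⧸ T.f.N)
    have h9 : Nat.card (G ⧸ T.f.N) = 9 := by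
      have h : Nat.card Y = Nat.card (G ⧸ T.f.N) - 1 := by
        rw [Nat.card_eq_fintype_card, Nat.card_eq_fintype_card, Fintype.card_subtype_compl,
          Fintype.card_subtype_eq]
      omega
    rw [← T.f.N.index_mul_card, T.card_N, Subgroup.index, h9]

include T in
theorem false : False := by
  obtain ⟨htr, hreg, hcard⟩ := T.regular
  have hmk : ∀ g : G, g ∉ T.f.N → (QuotientGroup.mk g : G ⧸ T.f.N) ≠ T.o := fun g hg e =>
    hg (by simpa using QuotientGroup.eq.1 e)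
  rcases S1222.result T.f.N T.strongly_embedded (T.f.S : Subgroup G) Subgroup.le_normalizer
    Subgroup.normal_in_normalizer
    (fun g₁ g₂ h₁ h₂ => by
      obtain ⟨s, hs, e⟩ := htr _ (hmk g₁ h₁) _ (hmk g₂ h₂)
      refine ⟨s, hs, QuotientGroup.eq.1 ?_⟩
      rw [← e, MulAction.Quotient.smul_mk]; rfl)
    (fun g hg s hs e => hreg _ (hmk g hg) s hs (by
      rw [MulAction.Quotient.smul_mk]; exact (QuotientGroup.eq.2 e).symm))
    with ⟨F, iF, iF', hchar, h4, ⟨e⟩⟩ | ⟨-, m, hm, hsz⟩ | ⟨F, iF, iF', q, hq, heven, h4, ⟨e⟩⟩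
  · have hp := PSLOrderSpectrum.card_psl_two (F := F)
    rw [← Nat.card_congr e.toEquiv, hcard] at hp
    have hg : Nat.gcd 2 (Fintype.card F - 1) ≤ 2 := Nat.le_of_dvd two_pos (Nat.gcd_dvd_left _ _)
    set q := Fintype.card F with hq
    have hb : q ≤ 15 := by
      by_contra hb
      have : 16 * (15 * 17) ≤ q * ((q - 1) * (q + 1)) :=
        Nat.mul_le_mul (by omega) (Nat.mul_le_mul (by omega) (by omega))
      nlinarith
    interval_cases q <;> norm_num at hp
  · rw [hcard] at hsz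
    have h8 : 8 ≤ 2 ^ (2 * m + 1) := le_trans (by norm_num) (Nat.pow_le_pow_right two_pos (show 3 ≤ 2 * m + 1 by omega))
    set q := 2 ^ (2 * m + 1)
    have : 8 ^ 2 * (8 ^ 2 + 1) * 7 ≤ q ^ 2 * (q ^ 2 + 1) * (q - 1) :=
      Nat.mul_le_mul (Nat.mul_le_mul (Nat.pow_le_pow_left h8 2)
        (Nat.add_le_add_right (Nat.pow_le_pow_left h8 2) 1)) (by omega)
    omega
  · have h := Classical.Unitary.natCard_PSU_mul hq (n := 3) (by omega)
    rw [Classical.Unitary.natCard_GU hq, ← Nat.card_congr e.toEquiv, hcard] at h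
    simp only [Finset.prod_range_succ, Finset.prod_range_zero, one_mul, Nat.even_iff,
      Nat.reduceMod, Nat.reduceAdd, Nat.reduceMul, Nat.reduceSub, Nat.reduceDiv, if_true,
      one_ne_zero, if_false, pow_one] at h
    have hg : Nat.gcd 3 (q + 1) ≤ 3 := Nat.le_of_dvd (by norm_num) (Nat.gcd_dvd_left _ _)
    have h16 : 4 ^ 2 ≤ q ^ 2 := Nat.pow_le_pow_left h4 2
    have h64 : 4 ^ 3 ≤ q ^ 3 := Nat.pow_le_pow_left h4 3
    have h1 : (q + 1) * (64 * (15 * 65)) ≤ q ^ 3 * ((q + 1) * (q ^ 2 - 1) * (q ^ 3 + 1)) :=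
      calc (q + 1) * (64 * (15 * 65)) = 64 * ((q + 1) * 15 * 65) := by ring
        _ ≤ _ := Nat.mul_le_mul h64 (Nat.mul_le_mul (Nat.mul_le_mul le_rfl (by omega)) (by omega))
    nlinarith

end Three

end Cfsg.Agent.JT.Small
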