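import Mathlib
import Cfsg.Prelude.Def_Sporadic
import Cfsg.Agent.Lib.JT.SmallSetup
import Cfsg.Agent.Lib.JT.SmallThree
import Cfsg.Agent.Lib.J1Order.Main
import Cfsg.Agent.Lib.TimesPSLTwo.PSLFacts
import Cfsg.Agent.S0251
import Cfsg.Agent.S0252
import Cfsg.Agent.S0253

/-!
# The small cases of an involution centralizer `C₂ × PSL₂(q)`: `q` even, `q = 3`, `q = 5`
-/

set_option autoImplicit false
set_option linter.unusedSectionVars false
set_option linter.style.haveILetI false

namespace Cfsg.Agent.JT.Small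

universe u v

theorem a4_mul : ∀ a b : alternatingGroup (Fin 4), a * a = 1 → b * b = 1 → (a * b) * (a * b) = 1 := by
  decide +kernel

theorem a4_trans : ∀ u v : alternatingGroup (Fin 4), u * u = 1 → u ≠ 1 → v * v = 1 → v ≠ 1 →
    ∃ c : alternatingGroup (Fin 4), c * u * c⁻¹ = v := by
  decide +kernel

theorem a4_center : ∀ l : alternatingGroup (Fin 4), (∀ m, l * m = m * l) → l = 1 := by
  decide +kernel

theorem a4_self : ∀ k : alternatingGroup (Fin 4), (∀ u, u * u = 1 → k * u = u * k) → k * k = 1 := by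
  decide +kernel

theorem a4_card : Nat.card (alternatingGroup (Fin 4)) = 12 ∧
    Nat.card {a : alternatingGroup (Fin 4) // a * a = 1} = 4 := by
  rw [Nat.card_eq_fintype_card, Nat.card_eq_fintype_card]
  decide +kernel

variable {G : Type u} [Group G] [Finite G] [IsSimpleGroup G]

/-- `C₂ × A₄` does not occur. -/
theorem not_three (hab : ∀ P : Sylow 2 G, ∀ a b : P, a * b = b * a) (t : G) (ht : orderOf t = 2)
    (e : Subgroup.centralizer ({t} : Set G) ≃* Multiplicative (ZMod 2) × alternatingGroup (Fin 4)) :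
    False := by
  let V : Subgroup (alternatingGroup (Fin 4)) :=
    { carrier := {a | a * a = 1}
      mul_mem' := fun {a b} ha hb => a4_mul a b ha hb
      one_mem' := one_mul 1
      inv_mem' := fun {a} (ha : a * a = 1) => by
        show a⁻¹ * a⁻¹ = 1
        rw [← mul_inv_rev, ha, inv_one] }
  have hV : Nat.card V = 4 := a4_card.2
  have hidx : V.index = 3 := by
    have h := V.index_mul_card
    rw [hV, a4_card.1] at h
    omega
  have hn : V.Normal := ⟨fun a (ha : a * a = 1) g => by
    show g * a * g⁻¹ * (g * a * g⁻¹) = 1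
    rw [show g * a * g⁻¹ * (g * a * g⁻¹) = g * (a * a) * g⁻¹ by group, ha, mul_one, mul_inv_cancel]⟩
  obtain ⟨f, rfl, hS, hCle, hself⟩ := exists_frame hab t ht e a4_center V (fun a ha => ha)
    (by rw [hV]; decide) (by rw [hidx]; decide) (fun u hu hu1 v hv hv1 => by
      obtain ⟨c, hc⟩ := a4_trans u v hu hu1 hv hv1
      exact ⟨c, by rw [Subgroup.normalizer_eq_top_iff.2 hn]; exact Subgroup.mem_top c, hc⟩)
  refine Three.false
    { f := f
      card_S := by rw [hS, hV]
      card_C := ?_
      C_le := hCle hn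
      self := hself fun k hk => a4_self k fun u hu => hk u hu }
  rw [Nat.card_congr e.toEquiv, Nat.card_prod, a4_card.1, Nat.card_eq_fintype_card,
    Fintype.card_multiplicative, ZMod.card]

variable {F : Type v} [Field F] [Fintype F]

/-- `C₂ × PSL₂(q)` with `q = 2ⁿ ≥ 8` does not occur. -/
theorem not_even (hab : ∀ P : Sylow 2 G, ∀ a b : P, a * b = b * a) (t : G) (ht : orderOf t = 2)
    (e : Subgroup.centralizer ({t} : Set G) ≃*
      Multiplicative (ZMod 2) × Matrix.ProjectiveSpecialLinearGroup (Fin 2) F)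
    (heven : Even (Fintype.card F)) (h8 : 8 ≤ Fintype.card F) : False := by
  classical
  haveI := Fact.mk Nat.prime_two
  have h2 : (2 : F) = 0 := by
    have hc : (ringChar F) = 2 := FiniteField.even_card_iff_char_two.2 (Nat.even_iff.1 heven)
    have := ringChar.Nat.cast_ringChar (R := F)
    rw [hc] at this
    exact_mod_cast this
  obtain ⟨Q⟩ := (inferInstance :
    Nonempty (Sylow 2 (Matrix.ProjectiveSpecialLinearGroup (Fin 2) F)))
  obtain ⟨w, k, hw⟩ := TimesPSLTwo.sylow_even h2 (by omega) Q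
  let L := Matrix.ProjectiveSpecialLinearGroup (Fin 2) F
  haveI : Finite L := Finite.of_surjective _ (QuotientGroup.mk_surjective (s := Subgroup.center (Matrix.SpecialLinearGroup (Fin 2) F)))
  let U₀ : Subgroup L := (Q : Subgroup L)
  have a1 : ∀ l : L, (∀ m : L, l * m = m * l) → l = 1 := TimesPSLTwo.psl_center (show 3 < Fintype.card F by omega)
  have a2 : ∀ a ∈ U₀, a * a = 1 := hw.elem
  have a3 : Even (Nat.card U₀) := by
    have hk := hw.two_le
    rw [show Nat.card U₀ = 2 ^ k from hw.card]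
    exact (Nat.even_pow' (by omega)).2 even_two
  have a4 : ¬ 2 ∣ U₀.index := Q.not_dvd_index
  have a5 : ∀ u ∈ U₀, u ≠ 1 → ∀ v ∈ U₀, v ≠ 1 → ∃ c ∈ Subgroup.normalizer (U₀ : Set L), c * u * c⁻¹ = v :=
    fun u hu hu1 v hv hv1 => by
      obtain ⟨i, hi⟩ := hw.trans u hu v hv hu1 hv1
      exact ⟨w ^ i, pow_mem hw.wN i, hi⟩
  obtain ⟨f, -, hS, -⟩ := exists_frame (L := L) hab t ht e a1 U₀ a2 a3 a4 a5
  have hlt := f.card_lt
  rw [hS] at hlt
  have hlt : 2 * Nat.card (Q : Subgroup L) < 16 := hlt
  -- a Sylow subgroup has at least `q` elements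
  have hp := PSLOrderSpectrum.card_psl_two (F := F)
  have hg : Nat.gcd 2 (Fintype.card F - 1) = 1 := by
    obtain ⟨j, hj⟩ := heven
    rw [show Fintype.card F - 1 = 2 * (j - 1) + 1 by omega, Nat.gcd_mul_left_add_right]
    rfl
  rw [hg, one_mul] at hp
  obtain ⟨p, hp'⟩ := CharP.exists F
  obtain ⟨n, hpr, hn⟩ := FiniteField.card F p
  obtain rfl : p = 2 := by
    have : 2 ∣ p ^ (n : ℕ) := hn ▸ heven.two_dvd
    exact ((Nat.prime_dvd_prime_iff_eq Nat.prime_two hpr).1 (Nat.prime_two.dvd_of_dvd_pow this)).symm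
  have hle : Fintype.card F ≤ Nat.card (Q : Subgroup L) := by
    rw [hn]
    refine Nat.le_of_dvd Nat.card_pos (Q.pow_dvd_card_of_pow_dvd_card ?_)
    rw [hp, ← hn]
    exact dvd_mul_right _ _
  omega

end Cfsg.Agent.JT.Small

namespace Cfsg.Agent.JT

variable {G : Type*} [Group G] [Finite G] [IsSimpleGroup G]

/-- The small cases of `S0343`. -/
theorem small_cases (hab : ∀ P : Sylow 2 G, ∀ a b : P, a * b = b * a)
    {F : Type*} [Field F] [Fintype F] (hq : 3 ≤ Fintype.card F)
    (hsmall : Even (Fintype.card F) ∨ Fintype.card F ≤ 5) (t : G) (ht : orderOf t = 2)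
    (hC : Nonempty (Subgroup.centralizer ({t} : Set G) ≃*
      Multiplicative (ZMod 2) × Matrix.ProjectiveSpecialLinearGroup (Fin 2) F)) :
    (Fintype.card F = 4 ∨ Fintype.card F = 5) ∧ Cfsg.IsJ1 G := by
  classical
  obtain ⟨e⟩ := hC
  by_cases h45 : Fintype.card F = 4 ∨ Fintype.card F = 5
  · refine ⟨h45, ‹IsSimpleGroup G›, ?_⟩
    haveI := Fact.mk Nat.prime_two
    obtain ⟨eA⟩ : Nonempty (Matrix.ProjectiveSpecialLinearGroup (Fin 2) F ≃* alternatingGroup (Fin 5)) :=
      h45.elim S0252.result S0253.result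
    have hP : IsPGroup 2 (Subgroup.zpowers t) :=
      IsPGroup.of_card (n := 1) (by rw [Nat.card_zpowers, ht, pow_one])
    obtain ⟨P, hP⟩ := hP.exists_le_sylow
    exact J1Order.Setup.card_eq
      (⟨t, ⟨ht, P, hP (Subgroup.mem_zpowers t), fun x hx =>
          congrArg Subtype.val (hab P ⟨x, hx⟩ ⟨t, hP (Subgroup.mem_zpowers t)⟩)⟩,
        e.trans (MulEquiv.prodCongr (MulEquiv.refl _) eA)⟩ : J1Order.Setup G)
  · push Not at h45
    exfalso
    rcases Nat.lt_or_ge (Fintype.card F) 8 with h | h
    · have h3 : Fintype.card F = 3 := by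
        rcases hsmall with he | he
        · obtain ⟨p, hp'⟩ := CharP.exists F
          obtain ⟨n, hpr, hn⟩ := FiniteField.card F p
          obtain rfl : p = 2 := by
            have : 2 ∣ p ^ (n : ℕ) := hn ▸ he.two_dvd
            exact ((Nat.prime_dvd_prime_iff_eq Nat.prime_two hpr).1
              (Nat.prime_two.dvd_of_dvd_pow this)).symm
          have hn3 : (n : ℕ) < 3 := by
            by_contra hn3
            have := Nat.pow_le_pow_right two_pos (Nat.le_of_not_lt hn3)
            omega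
          interval_cases hm : (n : ℕ) <;> omega
        · omega
      obtain ⟨eA⟩ := S0251.result h3
      exact Small.not_three hab t ht (e.trans (MulEquiv.prodCongr (MulEquiv.refl _) eA))
    · refine Small.not_even hab t ht e ?_ h
      rcases hsmall with he | he
      · exact he
      · omega

end Cfsg.Agent.JT
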